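import Groth.Agent.Lib.Helper70.Catenary3
import Mathlib.RingTheory.RingHom.FiniteType

set_option autoImplicit false

namespace Groth.Agent.Lib.Helper70

universe u

theorem isCatenary_of_cover_localizations (S : Type u) [CommRing S]
    (h : ∀ q : PrimeSpectrum S, ∃ N : Submonoid S, Disjoint (N : Set S) q.asIdeal ∧
      CAlg.IsCatenary (Localization N)) : CAlg.IsCatenary S := by
  rw [isCatenary_iff_posetCat]
  apply PosetCat.of_cover_lower.{u, u}
  intro q
  obtain ⟨N, hdisjq, hcat⟩ := h q
  rw [isCatenary_iff_posetCat] at hcat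
  let e := IsLocalization.primeSpectrumOrderIso N (Localization N)
  let φ : PrimeSpectrum (Localization N) ↪o PrimeSpectrum S :=
    e.toOrderEmbedding.trans (OrderEmbedding.subtype _)
  refine ⟨PrimeSpectrum (Localization N), inferInstance, φ, hcat, ?_, ?_⟩
  · intro a r hra
    have hdisj : Disjoint (N : Set S) r.asIdeal := by
      have ha : Disjoint (N : Set S) (φ a).asIdeal := (e a).2
      exact Set.disjoint_of_subset_right hra ha
    refine ⟨e.symm ⟨r, hdisj⟩, ?_⟩
    show ((e (e.symm ⟨r, hdisj⟩)) : PrimeSpectrum S) = r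
    rw [OrderIso.apply_symm_apply]
  · refine ⟨e.symm ⟨q, hdisjq⟩, ?_⟩
    show ((e (e.symm ⟨q, hdisjq⟩)) : PrimeSpectrum S) = q
    rw [OrderIso.apply_symm_apply]

theorem isUniversallyCatenary_of_forall_localization_maximal (R : Type u) [CommRing R]
    [IsNoetherianRing R]
    (h : ∀ (m : Ideal R) [m.IsMaximal], CAlg.IsUniversallyCatenary (Localization.AtPrime m)) :
    CAlg.IsUniversallyCatenary R := by
  refine ⟨inferInstance, ?_⟩
  intro S _ _ hS
  apply isCatenary_of_cover_localizations
  intro q
  have hp : (q.asIdeal.comap (algebraMap R S)).IsPrime := Ideal.comap_isPrime _ _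
  obtain ⟨m, hm, hpm⟩ := Ideal.exists_le_maximal (q.asIdeal.comap (algebraMap R S)) hp.ne_top
  refine ⟨m.primeCompl.map (algebraMap R S), ?_, ?_⟩
  · rw [Set.disjoint_left]
    rintro _ ⟨r, hr, rfl⟩ hxq
    exact hr (hpm hxq)
  · have hf : (algebraMap R S).FiniteType := RingHom.finiteType_algebraMap.mpr hS
    have hg := RingHom.finiteType_localizationPreserves (algebraMap R S) m.primeCompl
      (Localization.AtPrime m) (Localization (m.primeCompl.map (algebraMap R S))) hf
    letI := (IsLocalization.map (Localization (m.primeCompl.map (algebraMap R S))) (algebraMap R S)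
      (Submonoid.le_comap_map m.primeCompl) :
        Localization.AtPrime m →+* Localization (m.primeCompl.map (algebraMap R S))).toAlgebra
    exact (h m).2 _ hg

theorem isUniversallyCatenary_localization (R : Type u) [CommRing R]
    (hR : CAlg.IsUniversallyCatenary R) (M : Submonoid R) (B : Type u) [CommRing B] [Algebra R B]
    [IsLocalization M B] : CAlg.IsUniversallyCatenary B := by
  obtain ⟨hN, hcat⟩ := hR
  refine ⟨IsLocalization.isNoetherianRing M B hN, ?_⟩
  intro C _ _ hC
  exact isCatenary_of_finiteType_of_isLocalization R M B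
    (fun n => hcat (MvPolynomial (Fin n) R) inferInstance) C hC

end Groth.Agent.Lib.Helper70
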