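import Groth.Prelude.Def_Found
import Mathlib.Order.RelSeries
import Mathlib.Order.Cover
import Mathlib.RingTheory.Spectrum.Prime.RingHom
import Mathlib.RingTheory.Localization.Ideal

set_option autoImplicit false

namespace Groth.Agent.Lib.Helper70

universe u v

def PosetCat (P : Type u) [PartialOrder P] : Prop :=
  (∀ p q : P, p ≤ q → ∃ n : ℕ, ∀ s : LTSeries P, s.head = p → s.last = q → s.length ≤ n) ∧
  ∀ s t : LTSeries P, s.head = t.head → s.last = t.last →
    (∀ i : Fin s.length, s (Fin.castSucc i) ⋖ s (Fin.succ i)) →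
    (∀ i : Fin t.length, t (Fin.castSucc i) ⋖ t (Fin.succ i)) →
    s.length = t.length

theorem isCatenary_iff_posetCat (R : Type u) [CommRing R] :
    CAlg.IsCatenary R ↔ PosetCat (PrimeSpectrum R) := Iff.rfl

theorem PosetCat.of_embedding {P : Type u} {Q : Type v} [PartialOrder P] [PartialOrder Q]
    (φ : P ↪o Q)
    (hconv : ∀ (a b : P) (r : Q), φ a ≤ r → r ≤ φ b → ∃ c, φ c = r) (hQ : PosetCat Q) :
    PosetCat P := by
  have hcov : ∀ a b : P, a ⋖ b → φ a ⋖ φ b := by
    intro a b hab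
    refine ⟨φ.strictMono hab.lt, ?_⟩
    intro r h1 h2
    obtain ⟨c, rfl⟩ := hconv a b r h1.le h2.le
    exact hab.2 (φ.lt_iff_lt.1 h1) (φ.lt_iff_lt.1 h2)
  constructor
  · intro p q hpq
    obtain ⟨n, hn⟩ := hQ.1 (φ p) (φ q) (φ.monotone hpq)
    refine ⟨n, fun s hs1 hs2 => ?_⟩
    have := hn (s.map φ φ.strictMono) (by rw [LTSeries.head_map, hs1])
      (by rw [LTSeries.last_map, hs2])
    simpa using this
  · intro s t h1 h2 hs ht
    have := hQ.2 (s.map φ φ.strictMono) (t.map φ φ.strictMono)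
      (by rw [LTSeries.head_map, LTSeries.head_map, h1])
      (by rw [LTSeries.last_map, LTSeries.last_map, h2])
      (fun i => hcov _ _ (hs i)) (fun i => hcov _ _ (ht i))
    simpa using this

noncomputable def pullSeries {P : Type u} {Q : Type v} [PartialOrder P] [PartialOrder Q]
    (φ : P ↪o Q) (s : LTSeries Q) (h : ∀ i, ∃ a, φ a = s i) : LTSeries P :=
  LTSeries.mk s.length (fun i => (h i).choose) (by
    intro i j hij
    rw [← φ.lt_iff_lt, (h i).choose_spec, (h j).choose_spec]
    exact s.strictMono hij)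

theorem pullSeries_length {P : Type u} {Q : Type v} [PartialOrder P] [PartialOrder Q]
    (φ : P ↪o Q) (s : LTSeries Q) (h : ∀ i, ∃ a, φ a = s i) :
    (pullSeries φ s h).length = s.length := rfl

theorem pullSeries_apply {P : Type u} {Q : Type v} [PartialOrder P] [PartialOrder Q]
    (φ : P ↪o Q) (s : LTSeries Q) (h : ∀ i, ∃ a, φ a = s i) (i : Fin (s.length + 1)) :
    φ ((pullSeries φ s h) i) = s i := (h i).choose_spec

theorem PosetCat.of_cover {Q : Type v} [PartialOrder Q]
    (hcover : ∀ p : Q, ∃ (P : Type u) (_ : PartialOrder P) (φ : P ↪o Q),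
      PosetCat P ∧ (∀ (a : P) (r : Q), φ a ≤ r → ∃ c, φ c = r) ∧ ∃ a, φ a = p) :
    PosetCat Q := by
  constructor
  · intro p q hpq
    obtain ⟨P, _, φ, hP, hup, a, rfl⟩ := hcover p
    obtain ⟨b, rfl⟩ := hup a q hpq
    obtain ⟨n, hn⟩ := hP.1 a b (φ.le_iff_le.1 hpq)
    refine ⟨n, fun s hs1 hs2 => ?_⟩
    have hmem : ∀ i, ∃ c, φ c = s i := fun i => hup a (s i) (hs1 ▸ s.head_le i)
    have := hn (pullSeries φ s hmem)
      (φ.injective ((pullSeries_apply φ s hmem 0).trans hs1))
      (φ.injective ((pullSeries_apply φ s hmem (Fin.last _)).trans hs2))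
    exact this
  · intro s t h1 h2 hs ht
    obtain ⟨P, _, φ, hP, hup, a, ha⟩ := hcover s.head
    have hmems : ∀ i, ∃ c, φ c = s i := fun i => hup a (s i) (ha ▸ s.head_le i)
    have hmemt : ∀ i, ∃ c, φ c = t i := fun i => hup a (t i) (ha ▸ h1 ▸ t.head_le i)
    have hcov : ∀ x y : P, φ x ⋖ φ y → x ⋖ y := by
      intro x y hxy
      refine ⟨φ.lt_iff_lt.1 hxy.lt, ?_⟩
      intro c h1 h2
      exact hxy.2 (φ.strictMono h1) (φ.strictMono h2)
    have := hP.2 (pullSeries φ s hmems) (pullSeries φ t hmemt)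
      (φ.injective ((pullSeries_apply φ s hmems 0).trans
        (h1.trans (pullSeries_apply φ t hmemt 0).symm)))
      (φ.injective ((pullSeries_apply φ s hmems (Fin.last _)).trans
        (h2.trans (pullSeries_apply φ t hmemt (Fin.last _)).symm)))
      (fun i => hcov _ _ (by
        rw [pullSeries_apply φ s hmems, pullSeries_apply φ s hmems]; exact hs i))
      (fun i => hcov _ _ (by
        rw [pullSeries_apply φ t hmemt, pullSeries_apply φ t hmemt]; exact ht i))
    exact this

end Groth.Agent.Lib.Helper70
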