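import Groth.Agent.Lib.Helper70.Catenary2
import Mathlib.RingTheory.MvPolynomial.Localization
import Mathlib.RingTheory.FiniteType
import Mathlib.RingTheory.Localization.Ideal

set_option autoImplicit false

namespace Groth.Agent.Lib.Helper70

universe u

theorem isCatenary_of_surjective {P T : Type u} [CommRing P] [CommRing T] (f : P →+* T)
    (hf : Function.Surjective f) (hP : CAlg.IsCatenary P) : CAlg.IsCatenary T := by
  rw [isCatenary_iff_posetCat] at hP ⊢
  let e := Ideal.primeSpectrumOrderIsoZeroLocusOfSurj f hf (I := RingHom.ker f) rfl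
  let φ : PrimeSpectrum T ↪o PrimeSpectrum P :=
    e.toOrderEmbedding.trans (OrderEmbedding.subtype _)
  refine PosetCat.of_embedding φ ?_ hP
  intro a b r har _
  have hmem : r ∈ PrimeSpectrum.zeroLocus ((RingHom.ker f : Ideal P) : Set P) := by
    have ha : (φ a) ∈ PrimeSpectrum.zeroLocus ((RingHom.ker f : Ideal P) : Set P) := (e a).2
    rw [PrimeSpectrum.mem_zeroLocus] at ha ⊢
    exact ha.trans har
  refine ⟨e.symm ⟨r, hmem⟩, ?_⟩
  show ((e (e.symm ⟨r, hmem⟩)) : PrimeSpectrum P) = r
  rw [OrderIso.apply_symm_apply]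

attribute [local instance] MvPolynomial.algebraMvPolynomial in
theorem isCatenary_of_finiteType_of_isLocalization (A₀ : Type u) [CommRing A₀] (M : Submonoid A₀)
    (B : Type u) [CommRing B] [Algebra A₀ B] [IsLocalization M B]
    (hA₀ : ∀ n : ℕ, CAlg.IsCatenary (MvPolynomial (Fin n) A₀))
    (C : Type u) [CommRing C] [Algebra B C] (hC : Algebra.FiniteType B C) : CAlg.IsCatenary C := by
  obtain ⟨n, f, hf⟩ := Algebra.FiniteType.iff_quotient_mvPolynomial''.1 hC
  have hloc : IsLocalization (M.map (MvPolynomial.C (σ := Fin n))) (MvPolynomial (Fin n) B) :=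
    MvPolynomial.isLocalization M B
  have h1 : CAlg.IsCatenary (MvPolynomial (Fin n) B) :=
    isCatenary_of_isLocalization (MvPolynomial (Fin n) A₀) (M.map (MvPolynomial.C (σ := Fin n)))
      (MvPolynomial (Fin n) B) (hA₀ n)
  exact isCatenary_of_surjective f.toRingHom hf h1

end Groth.Agent.Lib.Helper70
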