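import Groth.Agent.Lib.Helper70.Catenary
import Mathlib.RingTheory.Localization.AtPrime.Basic

set_option autoImplicit false

namespace Groth.Agent.Lib.Helper70

universe u v

theorem PosetCat.of_cover_lower {Q : Type v} [PartialOrder Q]
    (hcover : ∀ q : Q, ∃ (P : Type u) (_ : PartialOrder P) (φ : P ↪o Q),
      PosetCat P ∧ (∀ (a : P) (r : Q), r ≤ φ a → ∃ c, φ c = r) ∧ ∃ a, φ a = q) :
    PosetCat Q := by
  have hle : ∀ (s : LTSeries Q) (i : Fin (s.length + 1)), s i ≤ s.last :=
    fun s i => s.monotone (Fin.le_last i)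
  constructor
  · intro p q hpq
    obtain ⟨P, _, φ, hP, hlow, b, rfl⟩ := hcover q
    obtain ⟨a, rfl⟩ := hlow b p hpq
    obtain ⟨n, hn⟩ := hP.1 a b (φ.le_iff_le.1 hpq)
    refine ⟨n, fun s hs1 hs2 => ?_⟩
    have hmem : ∀ i, ∃ c, φ c = s i := fun i => hlow b (s i) (hs2 ▸ hle s i)
    have := hn (pullSeries φ s hmem)
      (φ.injective ((pullSeries_apply φ s hmem 0).trans hs1))
      (φ.injective ((pullSeries_apply φ s hmem (Fin.last _)).trans hs2))
    exact this
  · intro s t h1 h2 hs ht
    obtain ⟨P, _, φ, hP, hlow, b, hb⟩ := hcover s.last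
    have hmems : ∀ i, ∃ c, φ c = s i := fun i => hlow b (s i) (hb ▸ hle s i)
    have hmemt : ∀ i, ∃ c, φ c = t i := fun i => hlow b (t i) (hb ▸ h2 ▸ hle t i)
    have hcov : ∀ x y : P, φ x ⋖ φ y → x ⋖ y := by
      intro x y hxy
      refine ⟨φ.lt_iff_lt.1 hxy.lt, ?_⟩
      intro c h1 h2
      exact hxy.2 (φ.strictMono h1) (φ.strictMono h2)
    have := hP.2 (pullSeries φ s hmems) (pullSeries φ t hmemt)
      (φ.injective ((pullSeries_apply φ s hmems 0).trans
        (h1.trans (pullSeries_apply φ t hmemt 0).symm)))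
      (φ.injective ((pullSeries_apply φ s hmems (Fin.last _)).trans
        (h2.trans (pullSeries_apply φ t hmemt (Fin.last _)).symm)))
      (fun i => hcov _ _ (by
        rw [pullSeries_apply φ s hmems, pullSeries_apply φ s hmems]; exact hs i))
      (fun i => hcov _ _ (by
        rw [pullSeries_apply φ t hmemt, pullSeries_apply φ t hmemt]; exact ht i))
    exact this

theorem isCatenary_of_isLocalization (A : Type u) [CommRing A] (S : Submonoid A)
    (B : Type u) [CommRing B] [Algebra A B] [IsLocalization S B]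
    (hA : CAlg.IsCatenary A) : CAlg.IsCatenary B := by
  rw [isCatenary_iff_posetCat] at hA ⊢
  let e := IsLocalization.primeSpectrumOrderIso S B
  let φ : PrimeSpectrum B ↪o PrimeSpectrum A :=
    e.toOrderEmbedding.trans (OrderEmbedding.subtype _)
  refine PosetCat.of_embedding φ ?_ hA
  intro a b r _ hrb
  have hdisj : Disjoint (S : Set A) r.asIdeal := by
    have hb : Disjoint (S : Set A) (φ b).asIdeal := (e b).2
    exact Set.disjoint_of_subset_right hrb hb
  refine ⟨e.symm ⟨r, hdisj⟩, ?_⟩
  show ((e (e.symm ⟨r, hdisj⟩)) : PrimeSpectrum A) = r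
  rw [OrderIso.apply_symm_apply]

theorem isCatenary_of_forall_localization_maximal (R : Type u) [CommRing R]
    (h : ∀ (m : Ideal R) [m.IsMaximal], CAlg.IsCatenary (Localization.AtPrime m)) :
    CAlg.IsCatenary R := by
  rw [isCatenary_iff_posetCat]
  apply PosetCat.of_cover_lower.{u, u}
  intro q
  obtain ⟨m, hm, hqm⟩ := Ideal.exists_le_maximal q.asIdeal q.isPrime.ne_top
  have hcat := h m
  rw [isCatenary_iff_posetCat] at hcat
  let e := IsLocalization.primeSpectrumOrderIso m.primeCompl (Localization.AtPrime m)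
  let φ : PrimeSpectrum (Localization.AtPrime m) ↪o PrimeSpectrum R :=
    e.toOrderEmbedding.trans (OrderEmbedding.subtype _)
  refine ⟨PrimeSpectrum (Localization.AtPrime m), inferInstance, φ, hcat, ?_, ?_⟩
  · intro a r hra
    have hdisj : Disjoint (m.primeCompl : Set R) r.asIdeal := by
      have ha : Disjoint (m.primeCompl : Set R) (φ a).asIdeal := (e a).2
      exact Set.disjoint_of_subset_right hra ha
    refine ⟨e.symm ⟨r, hdisj⟩, ?_⟩
    show ((e (e.symm ⟨r, hdisj⟩)) : PrimeSpectrum R) = r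
    rw [OrderIso.apply_symm_apply]
  · have hdisj : Disjoint (m.primeCompl : Set R) q.asIdeal := by
      rw [Set.disjoint_left]
      intro x hx hxq
      exact hx (hqm hxq)
    refine ⟨e.symm ⟨q, hdisj⟩, ?_⟩
    show ((e (e.symm ⟨q, hdisj⟩)) : PrimeSpectrum R) = q
    rw [OrderIso.apply_symm_apply]

end Groth.Agent.Lib.Helper70
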