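import Groth.Agent.Lib.Helper76.PowSeries
import Groth.Agent.Lib.Helper77.RegularPowerSeries
import Groth.Agent.Lib.Helper77.RegularLocalization
import Groth.Agent.Lib.Helper61.CompleteLE

set_option autoImplicit false
set_option linter.unusedSectionVars false
universe u

namespace Groth.Agent.Lib.Helper70.CohenFact

open IsLocalRing MvPowerSeries Groth.Agent.Lib.Helper76

section PS

variable {Λ : Type u} [CommRing Λ] [IsLocalRing Λ] {σ : Type} [Finite σ]

theorem mem_maximalIdeal_iff (f : MvPowerSeries σ Λ) :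
    f ∈ maximalIdeal (MvPowerSeries σ Λ) ↔ constantCoeff f ∈ maximalIdeal Λ := by
  rw [mem_maximalIdeal, mem_maximalIdeal, mem_nonunits_iff, mem_nonunits_iff,
    isUnit_iff_constantCoeff]

theorem maximalIdeal_eq_bigIdeal :
    maximalIdeal (MvPowerSeries σ Λ) = bigIdeal (maximalIdeal Λ) := by
  apply le_antisymm
  · intro f hf
    rw [mem_maximalIdeal_iff] at hf
    have h1 : f = C (constantCoeff f) + (f - C (constantCoeff f)) := by ring
    rw [h1]
    apply Ideal.add_mem
    · exact Ideal.mem_sup_left (Ideal.mem_map_of_mem _ hf)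
    · apply Ideal.mem_sup_right
      have := mem_pow_span_X_of_coeff_eq_zero 1 (f - C (constantCoeff f)) ?_
      · rwa [pow_one] at this
      · intro α hα
        have h0 : α = 0 := by
          rw [← Finsupp.degree_eq_zero_iff]
          omega
        subst h0
        simp
  · intro f hf
    rw [mem_maximalIdeal_iff]
    have := bigIdeal_le_coeffIdeal_one _ hf 0
    simpa using this

instance isAdicComplete_maximalIdeal [IsAdicComplete (maximalIdeal Λ) Λ] :
    IsAdicComplete (maximalIdeal (MvPowerSeries σ Λ)) (MvPowerSeries σ Λ) := by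
  rw [maximalIdeal_eq_bigIdeal]
  exact isAdicComplete_bigIdeal _

theorem coeff_mem_of_mem_sq {f : MvPowerSeries σ Λ}
    (hf : f ∈ maximalIdeal (MvPowerSeries σ Λ) ^ 2) :
    constantCoeff f ∈ maximalIdeal Λ ^ 2 ∧
      ∀ i, coeff (Finsupp.single i 1) f ∈ maximalIdeal Λ := by
  rw [maximalIdeal_eq_bigIdeal] at hf
  have h := pow_bigIdeal_le _ 2 hf
  rw [mem_coeffIdeal] at h
  constructor
  · have := h 0
    simpa using this
  · intro i
    have := h (Finsupp.single i 1)
    simpa using this

theorem coeff_single_mul_X [DecidableEq σ] (a : MvPowerSeries σ Λ) (s t : σ) :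
    coeff (Finsupp.single t 1) (a * X s) = if s = t then constantCoeff a else 0 := by
  rw [X_def, coeff_mul_monomial]
  by_cases hst : s = t
  · subst hst
    simp
  · rw [if_neg hst, if_neg]
    intro hle
    have := hle s
    simp [Finsupp.single_apply, hst, Ne.symm hst] at this

theorem indep_X {n : ℕ} (ι : Fin n → σ) (hι : Function.Injective ι) (π : Λ)
    (hπ : π ∈ maximalIdeal Λ) (a0 : MvPowerSeries σ Λ) (a : Fin n → MvPowerSeries σ Λ)
    (h : a0 * C π + ∑ j, a j * X (ι j) ∈ maximalIdeal (MvPowerSeries σ Λ) ^ 2) :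
    ∀ j, a j ∈ maximalIdeal (MvPowerSeries σ Λ) := by
  classical
  intro i
  have h1 := (coeff_mem_of_mem_sq h).2 (ι i)
  rw [map_add, map_sum, coeff_mul_C] at h1
  have h2 : ∑ j, coeff (Finsupp.single (ι i) 1) (a j * X (ι j)) = constantCoeff (a i) := by
    rw [Finset.sum_eq_single i]
    · rw [coeff_single_mul_X, if_pos rfl]
    · intro j _ hji
      rw [coeff_single_mul_X, if_neg]
      exact fun h => hji (hι h)
    · intro hi
      exact absurd (Finset.mem_univ i) hi
  rw [h2] at h1
  rw [mem_maximalIdeal_iff]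
  exact (Ideal.add_mem_iff_right _ (Ideal.mul_mem_left _ _ hπ)).mp h1

theorem indep_const {n : ℕ} (ι : Fin n → σ) (π : Λ)
    (hπ2 : ∀ x : Λ, x * π ∈ maximalIdeal Λ ^ 2 → x ∈ maximalIdeal Λ)
    (a0 : MvPowerSeries σ Λ) (a : Fin n → MvPowerSeries σ Λ)
    (h : a0 * C π + ∑ j, a j * X (ι j) ∈ maximalIdeal (MvPowerSeries σ Λ) ^ 2) :
    a0 ∈ maximalIdeal (MvPowerSeries σ Λ) := by
  have h1 := (coeff_mem_of_mem_sq h).1
  rw [map_add, map_sum, map_mul, constantCoeff_C] at h1
  have h2 : ∑ j, constantCoeff (a j * X (ι j)) = (0 : Λ) := by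
    apply Finset.sum_eq_zero
    intro j _
    rw [map_mul, constantCoeff_X, mul_zero]
  rw [h2, add_zero] at h1
  rw [mem_maximalIdeal_iff]
  exact hπ2 _ h1

end PS

/-- power series over a local PID domain (field or DVR) form a regular local ring -/
theorem isRegularLocalRing_mvPowerSeries (Λ : Type u) [CommRing Λ] [IsLocalRing Λ] [IsDomain Λ]
    [IsPrincipalIdealRing Λ] (m : ℕ) : IsRegularLocalRing (MvPowerSeries (Fin m) Λ) := by
  have h1 : IsRegularRing Λ :=
    Groth.Agent.Lib.Helper77.RegularLocalization.isRegularRing_of_isRegularLocalRing Λ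
  have := Groth.Agent.Lib.Helper77.RegularPowerSeries.isRegularRing_mvPowerSeries Λ m
  exact IsRegularLocalRing.of_isRegularRing_of_isLocalRing _

end Groth.Agent.Lib.Helper70.CohenFact
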