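import Mathlib
import Groth.Agent.Lib.Helper67.RegHomLocal
import Groth.Agent.Lib.Helper67.FibreGR
import Groth.Agent.S2038

set_option autoImplicit false
set_option linter.unusedSectionVars false
set_option linter.style.haveILetI false
universe u
open TensorProduct

namespace Groth.Agent.Lib.Helper70.RegHomFS

open Groth.Agent.Lib.Helper56 Groth.Agent.Lib.Helper67

section Tensor

variable (A k' S : Type u) [CommRing A] [Field k'] [CommRing S] [Algebra A k'] [Algebra A S]

/-- regularity of `k' ⊗ S` can be checked on the localizations of `S` at the primes lying over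
the kernel of `A → k'`. -/
theorem isRegularRing_tensor_of_forall_prime [IsNoetherianRing (k' ⊗[A] S)]
    (h : ∀ (q : Ideal S) [q.IsPrime], q.comap (algebraMap A S) = RingHom.ker (algebraMap A k') →
      IsRegularRing (k' ⊗[A] Localization.AtPrime q)) :
    IsRegularRing (k' ⊗[A] S) := by
  apply isRegularRing_of_forall_exists_isLocalization
  intro r _
  let q : Ideal S := r.comap (Algebra.TensorProduct.includeRight (R := A) (A := k')).toRingHom
  have hq : q.IsPrime := Ideal.comap_isPrime _ r
  have hqA : q.comap (algebraMap A S) = RingHom.ker (algebraMap A k') := by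
    ext a
    have h1 : (1 : k') ⊗ₜ[A] (algebraMap A S a) = (algebraMap A k' a) ⊗ₜ[A] (1 : S) := by
      rw [Algebra.algebraMap_eq_smul_one, Algebra.algebraMap_eq_smul_one, TensorProduct.smul_tmul]
    constructor
    · intro ha
      have ha' : (1 : k') ⊗ₜ[A] (algebraMap A S a) ∈ r := ha
      rw [h1] at ha'
      by_contra hne
      have hu : IsUnit (algebraMap A k' a) := IsUnit.mk0 _ hne
      have hu' : IsUnit ((algebraMap A k' a) ⊗ₜ[A] (1 : S)) :=
        hu.map (Algebra.TensorProduct.includeLeft (R := A) (S := A) (A := k') (B := S))
      exact (Ideal.IsPrime.ne_top inferInstance) (Ideal.eq_top_of_isUnit_mem r ha' hu')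
    · intro ha
      show (1 : k') ⊗ₜ[A] (algebraMap A S a) ∈ r
      rw [h1, RingHom.mem_ker.mp ha, TensorProduct.zero_tmul]
      exact Ideal.zero_mem _
  let S' := Localization.AtPrime q
  let φ : k' ⊗[A] S →ₐ[k'] k' ⊗[A] S' :=
    Algebra.TensorProduct.map (AlgHom.id k' k') (IsScalarTower.toAlgHom A S S')
  let alg : Algebra (k' ⊗[A] S) (k' ⊗[A] S') := φ.toRingHom.toAlgebra
  have hst : IsScalarTower k' (k' ⊗[A] S) (k' ⊗[A] S') :=
    IsScalarTower.of_algebraMap_eq (fun t => (φ.commutes t).symm)
  have hloc : IsLocalization
      (q.primeCompl.map (Algebra.TensorProduct.includeRight (R := A) (A := k')))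
      (k' ⊗[A] S') := by
    refine IsLocalization.tensorProduct_tensorProduct_right A k' q.primeCompl S' ?_
    ext s
    change φ (1 ⊗ₜ s) = 1 ⊗ₜ (algebraMap S S' s)
    simp [φ]
  refine ⟨q.primeCompl.map (Algebra.TensorProduct.includeRight (R := A) (A := k')),
    k' ⊗[A] S', inferInstance, alg, hloc, ?_, h q hqA⟩
  rw [Set.disjoint_left]
  rintro _ ⟨s, hs, rfl⟩ hr
  exact hs hr

end Tensor

section Fibre

variable (A B : Type u) [CommRing A] [CommRing B] [Algebra A B] [IsNoetherianRing B]

/-- geometric regularity of a fibre can be checked on the localizations at the primes of that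
fibre. -/
theorem geomReg_fibre_of_forall_prime (P : Ideal A) [P.IsPrime]
    (h : ∀ (q : Ideal B) [q.IsPrime], q.comap (algebraMap A B) = P →
      CAlg.IsGeometricallyRegular P.ResidueField (P.Fiber (Localization.AtPrime q))) :
    CAlg.IsGeometricallyRegular P.ResidueField (P.Fiber B) := by
  intro k' _ _ hfin
  let _ : Algebra A k' :=
    ((algebraMap P.ResidueField k').comp (algebraMap A P.ResidueField)).toAlgebra
  have : IsScalarTower A P.ResidueField k' := IsScalarTower.of_algebraMap_eq (fun _ => rfl)
  have hker : RingHom.ker (algebraMap A k') = P := by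
    ext a
    rw [RingHom.mem_ker, IsScalarTower.algebraMap_apply A P.ResidueField k',
      map_eq_zero_iff _ (algebraMap P.ResidueField k').injective,
      Ideal.algebraMap_residueField_eq_zero]
  have hNf : IsNoetherianRing (P.Fiber B) := isNoetherianRing_fiber A B P
  have hfin' : Module.Finite P.ResidueField k' := hfin
  have hN0 : IsNoetherianRing (P.Fiber B ⊗[P.ResidueField] k') :=
    isNoetherianRing_tensor_essFiniteType P.ResidueField k' (P.Fiber B)
  have hN1 : IsNoetherianRing (k' ⊗[P.ResidueField] P.Fiber B) :=
    isNoetherianRing_of_ringEquiv _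
      (Algebra.TensorProduct.comm P.ResidueField (P.Fiber B) k').toRingEquiv
  have hN2 : IsNoetherianRing (k' ⊗[A] B) :=
    isNoetherianRing_of_ringEquiv _
      (Algebra.TensorProduct.cancelBaseChange A P.ResidueField P.ResidueField k' B).toRingEquiv
  have h2 : IsRegularRing (k' ⊗[A] B) := by
    apply isRegularRing_tensor_of_forall_prime
    intro q _ hq
    have h3 : IsRegularRing (k' ⊗[P.ResidueField] P.Fiber (Localization.AtPrime q)) :=
      h q (hq.trans hker) k' hfin
    exact IsRegularRing.of_ringEquiv
      (R := k' ⊗[P.ResidueField] P.Fiber (Localization.AtPrime q))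
      (Algebra.TensorProduct.cancelBaseChange A P.ResidueField P.ResidueField k'
        (Localization.AtPrime q)).toRingEquiv
  exact IsRegularRing.of_ringEquiv (R := k' ⊗[A] B)
    (Algebra.TensorProduct.cancelBaseChange A P.ResidueField P.ResidueField k' B).symm.toRingEquiv

end Fibre

section Main

variable (A B : Type u) [CommRing A] [CommRing B] [Algebra A B] [IsNoetherianRing A]
  [IsNoetherianRing B]

theorem adicFS_of_isRegularHom (h : CAlg.IsRegularHom A B) (q : Ideal B) [q.IsPrime] :
    letI := (Localization.localRingHom (Ideal.comap (algebraMap A B) q) q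
      (algebraMap A B) rfl).toAlgebra
    CAlgX.IsAdicFormallySmooth (Localization.AtPrime (Ideal.comap (algebraMap A B) q))
      (Localization.AtPrime q) (IsLocalRing.maximalIdeal (Localization.AtPrime q)) := by
  letI := (Localization.localRingHom (Ideal.comap (algebraMap A B) q) q
    (algebraMap A B) rfl).toAlgebra
  have h1 := RegHomLocal.isRegularHom_localRingHom A B q h
  haveI : IsLocalHom (algebraMap (Localization.AtPrime (Ideal.comap (algebraMap A B) q))
      (Localization.AtPrime q)) :=
    Localization.isLocalHom_localRingHom _ q (algebraMap A B) rfl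
  exact Groth.Agent.S2038.result.mp
    ⟨h1.1, (h1.2 (IsLocalRing.maximalIdeal
      (Localization.AtPrime (Ideal.comap (algebraMap A B) q)))).2⟩

theorem isRegularHom_of_forall_adicFS
    (H : ∀ (q : Ideal B) [q.IsPrime],
      letI := (Localization.localRingHom (Ideal.comap (algebraMap A B) q) q
        (algebraMap A B) rfl).toAlgebra
      CAlgX.IsAdicFormallySmooth (Localization.AtPrime (Ideal.comap (algebraMap A B) q))
        (Localization.AtPrime q) (IsLocalRing.maximalIdeal (Localization.AtPrime q))) :
    CAlg.IsRegularHom A B := by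
  -- local data at every prime
  have key : ∀ (q : Ideal B) [q.IsPrime],
      Module.Flat A (Localization.AtPrime q) ∧
      CAlg.IsGeometricallyRegular (Ideal.comap (algebraMap A B) q).ResidueField
        ((Ideal.comap (algebraMap A B) q).Fiber (Localization.AtPrime q)) := by
    intro q _
    letI := (Localization.localRingHom (Ideal.comap (algebraMap A B) q) q
      (algebraMap A B) rfl).toAlgebra
    haveI := RegHomLocal.isScalarTower_localRingHom A B q
    haveI := RegHomLocal.isLocalization_target A B q
    haveI : IsLocalHom (algebraMap (Localization.AtPrime (Ideal.comap (algebraMap A B) q))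
        (Localization.AtPrime q)) :=
      Localization.isLocalHom_localRingHom _ q (algebraMap A B) rfl
    obtain ⟨hfl, hgr⟩ := Groth.Agent.S2038.result.mpr (H q)
    refine ⟨?_, ?_⟩
    · haveI := hfl
      exact Module.Flat.trans A (Localization.AtPrime (Ideal.comap (algebraMap A B) q))
        (Localization.AtPrime q)
    · exact (FibreGR.geomReg_fibre_iff_of_isLocalization A (Localization.AtPrime q)
        (Ideal.comap (algebraMap A B) q).primeCompl
        (Localization.AtPrime (Ideal.comap (algebraMap A B) q)) (Localization.AtPrime q)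
        (IsLocalRing.maximalIdeal (Localization.AtPrime (Ideal.comap (algebraMap A B) q)))
        (Ideal.comap (algebraMap A B) q)
        (Localization.AtPrime.under_maximalIdeal).symm).mp hgr
  haveI : Module.Flat A B :=
    Module.flat_of_isLocalized_maximal B B (fun P _ => Localization.AtPrime P)
      (fun P _ => Algebra.linearMap B (Localization.AtPrime P)) (fun P _ => (key P).1)
  refine ⟨inferInstance, fun P _ => ⟨isNoetherianRing_fiber A B P, ?_⟩⟩
  apply geomReg_fibre_of_forall_prime
  intro q _ hq
  subst hq
  exact (key q).2

end Main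

end Groth.Agent.Lib.Helper70.RegHomFS
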