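import Groth.Agent.Lib.Helper70.QReg6
import Mathlib.RingTheory.Ideal.CotangentBaseChange
import Mathlib.RingTheory.Finiteness.Descent

set_option autoImplicit false
set_option linter.unusedSectionVars false
universe u v w
open scoped TensorProduct Pointwise

namespace Groth.Agent.Lib.Helper70.QReg7

open Groth.Agent.Lib.Helper70 Groth.Agent.Lib.Helper70.QReg1 Groth.Agent.Lib.Helper70.QReg2
  Groth.Agent.Lib.Helper70.QReg3
open PP16

section symQuot

variable (R : Type u) [CommRing R] (J : Ideal R) (ι : Type u) [Fintype ι]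
  {M : Type v} [AddCommGroup M] [Module R M] [Module (R ⧸ J) M] [IsScalarTower R (R ⧸ J) M]

attribute [local instance] DiffSmoothFF.modB DiffSmoothFF.isScalarTower_modB

theorem cG_quot_injective [Nonempty ι] :
    Function.Injective (DiffSmoothFF.cG R (R ⧸ J) ι (LinearMap.id : M →ₗ[R] M)) := by
  classical
  have htors : Module.IsTorsionBySet R (SymmetricPower R ι M) J := by
    rintro y ⟨r, hr⟩
    change r • y = 0
    have hy : y ∈ Submodule.span R (Set.range (SymmetricPower.tprod R (ι := ι) (M := M))) := by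
      rw [SymmetricPower.span_tprod_eq_top]; exact Submodule.mem_top
    induction hy using Submodule.span_induction with
    | mem y hy =>
      obtain ⟨m, rfl⟩ := hy
      obtain ⟨i0⟩ := ‹Nonempty ι›
      have h1 := (SymmetricPower.tprod R (ι := ι) (M := M)).map_update_smul m i0 r (m i0)
      rw [Function.update_eq_self] at h1
      rw [← h1]
      have h2 : r • m i0 = 0 := by
        rw [← algebraMap_smul (R ⧸ J) r (m i0)]
        have : algebraMap R (R ⧸ J) r = 0 := Ideal.Quotient.eq_zero_iff_mem.mpr hr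
        rw [this, zero_smul]
      rw [h2, MultilinearMap.map_update_zero]
    | zero => exact smul_zero _
    | add a b _ _ ha hb => rw [smul_add, ha, hb, add_zero]
    | smul s a _ ha => rw [smul_comm, ha, smul_zero]
  let _ : Module (R ⧸ J) (SymmetricPower R ι M) := htors.module
  have hsm : ∀ (r : R) (z : SymmetricPower R ι M), (Ideal.Quotient.mk J r) • z = r • z :=
    fun r z => Module.IsTorsionBySet.mk_smul htors r z
  let g : MultilinearMap (R ⧸ J) (fun _ : ι => M) (SymmetricPower R ι M) :=
    { toFun := fun y => SymmetricPower.tprod R y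
      map_update_add' := by
        intro _ y i a b
        exact MultilinearMap.map_update_add _ y i a b
      map_update_smul' := by
        intro _ y i r a
        obtain ⟨r, rfl⟩ := Ideal.Quotient.mk_surjective r
        rw [hsm]
        have : (Ideal.Quotient.mk J r) • a = r • a := algebraMap_smul (R ⧸ J) r a
        rw [this, MultilinearMap.map_update_smul] }
  have hg : ∀ (σ : Equiv.Perm ι) (f : ι → M), g (fun i => f (σ i)) = g f := by
    intro σ f
    exact SymmetricPower.tprod_equiv σ f
  have hd : ∀ y, SymPow.lift g hg (DiffSmoothFF.cG R (R ⧸ J) ι (LinearMap.id : M →ₗ[R] M) y) = y := by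
    intro y
    have hy : y ∈ Submodule.span R (Set.range (SymmetricPower.tprod R (ι := ι) (M := M))) := by
      rw [SymmetricPower.span_tprod_eq_top]; exact Submodule.mem_top
    induction hy using Submodule.span_induction with
    | mem y hy =>
      obtain ⟨x, rfl⟩ := hy
      rw [DiffSmoothFF.cG_tprod, SymPow.lift_tprod]
      rfl
    | zero => simp only [map_zero]
    | add a b _ _ ha hb => rw [map_add, map_add, ha, hb]
    | smul s a _ ha =>
      rw [DiffSmoothFF.cG_smul, map_smul, ha]
      exact hsm s a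
  intro a b hab
  rw [← hd a, ← hd b, hab]

end symQuot

variable (A B : Type u) [CommRing A] [CommRing B] [Algebra A B] (I : Ideal A)

local notation "JJ" => Ideal.map (algebraMap A B) I

section ff

theorem faithfullyFlat_quot [Module.FaithfullyFlat A B] :
    Module.FaithfullyFlat (A ⧸ I) (B ⧸ JJ) :=
  Module.FaithfullyFlat.of_linearEquiv (A ⧸ I) ((A ⧸ I) ⊗[A] B)
    (Algebra.TensorProduct.quotIdealMapEquivQuotTensor B I).toLinearEquiv

end ff

section cot

theorem le_comap : I ≤ (JJ).comap (Algebra.ofId A B) := fun _ hx => Ideal.mem_map_of_mem _ hx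

/-- `I/I² → IB/(IB)²`. -/
noncomputable def fCot : I.Cotangent →ₗ[A] (JJ).Cotangent :=
  Ideal.mapCotangent I JJ (Algebra.ofId A B) (le_comap A B I)

theorem fCot_toCotangent (x : I) :
    fCot A B I (I.toCotangent x) = (JJ).toCotangent ⟨algebraMap A B x, Ideal.mem_map_of_mem _ x.2⟩ :=
  rfl

/-- `B ⊗ I/I² → IB/(IB)²`. -/
noncomputable def Phi : B ⊗[A] I.Cotangent →ₗ[B] (JJ).Cotangent :=
  LinearMap.liftBaseChange B (fCot A B I)

theorem Phi_tmul (b : B) (m : I.Cotangent) : Phi A B I (b ⊗ₜ m) = b • fCot A B I m := by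
  rw [Phi, LinearMap.liftBaseChange_tmul]

theorem Phi_surjective : Function.Surjective (Phi A B I) := by
  intro n
  obtain ⟨⟨y, hy⟩, rfl⟩ := Ideal.toCotangent_surjective _ n
  have key : ∀ (y : B) (hy : y ∈ Submodule.span B (algebraMap A B '' (I : Set A))),
      (JJ).toCotangent ⟨y, hy⟩ ∈ LinearMap.range (Phi A B I) := by
    intro y hy
    induction hy using Submodule.span_induction with
    | mem y hy =>
      obtain ⟨x, hx, rfl⟩ := hy
      refine ⟨(1 : B) ⊗ₜ I.toCotangent ⟨x, hx⟩, ?_⟩
      rw [Phi_tmul, one_smul, fCot_toCotangent]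
    | zero => exact (LinearMap.range (Phi A B I)).zero_mem
    | add x y hx hy hx' hy' => exact (LinearMap.range (Phi A B I)).add_mem hx' hy'
    | smul b x hx hx' => exact (LinearMap.range (Phi A B I)).smul_mem b hx'
  exact key y hy

theorem Phi_injective [Module.Flat A B] : Function.Injective (Phi A B I) := by
  let q : (JJ).Cotangent →ₗ[B] B ⧸ (JJ) ^ 2 := (JJ).cotangentToQuotientSquare
  suffices h : Function.Injective (q ∘ₗ Phi A B I) from .of_comp h
  let g : B ⊗[A] I.Cotangent →ₗ[B] B ⊗[A] (A ⧸ I ^ 2) :=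
    TensorProduct.AlgebraTensorModule.lTensor B B I.cotangentToQuotientSquare
  let hₐ : B ⊗[A] (A ⧸ I ^ 2) ≃ₐ[B] B ⧸ (JJ) ^ 2 :=
    ((Algebra.TensorProduct.quotIdealMapEquivTensorQuot (A := A) B (I ^ 2)).symm :
      B ⊗[A] (A ⧸ I ^ 2) ≃ₐ[B] B ⧸ (I ^ 2).map (algebraMap A B)).trans
      (Ideal.quotientEquivAlgOfEq B (Ideal.map_pow _ _ _))
  have : q ∘ₗ Phi A B I = hₐ.toLinearMap ∘ₗ g := by
    refine LinearMap.ext fun z => ?_
    induction z using TensorProduct.induction_on with
    | zero => simp only [map_zero]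
    | add x y hx hy => simp only [map_add, hx, hy]
    | tmul b m =>
      obtain ⟨x, rfl⟩ := I.toCotangent_surjective m
      rw [LinearMap.comp_apply, LinearMap.comp_apply, Phi_tmul, map_smul, fCot_toCotangent]
      change b • (JJ).cotangentToQuotientSquare ((JJ).toCotangent _) =
        hₐ (b ⊗ₜ I.cotangentToQuotientSquare (I.toCotangent x))
      rw [Ideal.toCotangent_to_quotient_square, Ideal.toCotangent_to_quotient_square]
      change _ = Ideal.quotientEquivAlgOfEq B (Ideal.map_pow _ _ _)
        ((Algebra.TensorProduct.quotIdealMapEquivTensorQuot B (I ^ 2)).symm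
          (b ⊗ₜ (Ideal.Quotient.mk _ (x : A))))
      rw [Algebra.TensorProduct.quotIdealMapEquivTensorQuot_symm_tmul]
      rw [Algebra.smul_def (x : A) b]
      change _ = Ideal.quotientEquivAlgOfEq B (Ideal.map_pow _ _ _)
        (Ideal.Quotient.mk _ (algebraMap A B x * b))
      rw [Ideal.quotientEquivAlgOfEq_mk, mul_comm, map_mul]
      rfl
  rw [this, LinearMap.coe_comp]
  apply hₐ.injective.comp
  apply Module.Flat.lTensor_preserves_injective_linearMap (M := B)
    (I.cotangentToQuotientSquare)
  apply Ideal.cotangentToQuotientSquare_injective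

theorem isBaseChange_fCot [Module.Flat A B] : IsBaseChange B (fCot A B I) :=
  ⟨Phi_injective A B I, Phi_surjective A B I⟩

end cot

section quotBC

variable {M : Type v} [AddCommGroup M] [Module A M] [Module (A ⧸ I) M] [IsScalarTower A (A ⧸ I) M]
  {N : Type w} [AddCommGroup N] [Module B N] [Module (B ⧸ (I.map (algebraMap A B))) N] [IsScalarTower B (B ⧸ (I.map (algebraMap A B))) N]
  [Module A N] [IsScalarTower A B N] [Module (A ⧸ I) N] [IsScalarTower (A ⧸ I) (B ⧸ (I.map (algebraMap A B))) N]
  (f : M →ₗ[A] N) (fb : M →ₗ[A ⧸ I] N) (hfb : ∀ m, fb m = f m)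

/-- the comparison `B ⊗_A M → (B/IB) ⊗_{A/I} M`. -/
noncomputable def gQ : B ⊗[A] M →+ (B ⧸ (I.map (algebraMap A B))) ⊗[A ⧸ I] M :=
  TensorProduct.liftAddHom (R := A) (M := B) (N := M) (P := (B ⧸ (I.map (algebraMap A B))) ⊗[A ⧸ I] M)
    (AddMonoidHom.mk' (fun b : B => ((TensorProduct.mk (A ⧸ I) (B ⧸ (I.map (algebraMap A B))) M
        (Ideal.Quotient.mk (I.map (algebraMap A B)) b)).toAddMonoidHom))
      (by
        intro b b'
        refine AddMonoidHom.ext fun m => ?_
        change (Ideal.Quotient.mk (I.map (algebraMap A B)) (b + b')) ⊗ₜ[A ⧸ I] m =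
          (Ideal.Quotient.mk (I.map (algebraMap A B)) b) ⊗ₜ[A ⧸ I] m + (Ideal.Quotient.mk (I.map (algebraMap A B)) b') ⊗ₜ[A ⧸ I] m
        rw [map_add, TensorProduct.add_tmul]))
    (by
      intro a b m
      change (Ideal.Quotient.mk (I.map (algebraMap A B)) (a • b)) ⊗ₜ[A ⧸ I] m = (Ideal.Quotient.mk (I.map (algebraMap A B)) b) ⊗ₜ[A ⧸ I] (a • m)
      rw [← algebraMap_smul (A ⧸ I) a m, ← TensorProduct.smul_tmul]
      congr 1)

theorem gQ_tmul (b : B) (m : M) :
    gQ A B I (b ⊗ₜ[A] m) = (Ideal.Quotient.mk (I.map (algebraMap A B)) b) ⊗ₜ[A ⧸ I] m := by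
  rw [gQ, TensorProduct.liftAddHom_tmul]
  rfl

theorem gQ_surjective : Function.Surjective (gQ A B I (M := M)) := by
  intro x
  induction x using TensorProduct.induction_on with
  | zero => exact ⟨0, map_zero _⟩
  | add x y hx hy =>
    obtain ⟨a, rfl⟩ := hx
    obtain ⟨b, rfl⟩ := hy
    exact ⟨a + b, map_add _ _ _⟩
  | tmul b m =>
    obtain ⟨b, rfl⟩ := Ideal.Quotient.mk_surjective b
    exact ⟨b ⊗ₜ m, gQ_tmul A B I b m⟩

include hfb in
theorem lift_gQ (y : B ⊗[A] M) :
    LinearMap.liftBaseChange (B ⧸ (I.map (algebraMap A B))) fb (gQ A B I y) = LinearMap.liftBaseChange B f y := by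
  induction y using TensorProduct.induction_on with
  | zero => simp only [map_zero]
  | add x y hx hy => simp only [map_add, hx, hy]
  | tmul b m =>
    rw [gQ_tmul, LinearMap.liftBaseChange_tmul, LinearMap.liftBaseChange_tmul, hfb]
    exact algebraMap_smul (B ⧸ (I.map (algebraMap A B))) b (f m)

include hfb in
theorem isBaseChange_quot (hf : IsBaseChange B f) : IsBaseChange (B ⧸ (I.map (algebraMap A B))) fb := by
  constructor
  · rw [injective_iff_map_eq_zero]
    intro x hx
    obtain ⟨y, rfl⟩ := gQ_surjective A B I x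
    have h1 : LinearMap.liftBaseChange B f y = 0 := by
      rw [← lift_gQ A B I f fb hfb]; exact hx
    have h2 : y = 0 := hf.1 (h1.trans (map_zero _).symm)
    rw [h2, map_zero]
  · intro n
    obtain ⟨y, rfl⟩ := hf.2 n
    exact ⟨gQ A B I y, lift_gQ A B I f fb hfb y⟩

end quotBC

section cotQ

/-- `IB/(IB)²` as an `A/I`-module. -/
@[reducible] noncomputable def modQ : Module (A ⧸ I) (I.map (algebraMap A B)).Cotangent :=
  Module.compHom _ (algebraMap (A ⧸ I) (B ⧸ I.map (algebraMap A B)))

attribute [local instance] modQ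

theorem isScalarTower_modQ :
    IsScalarTower (A ⧸ I) (B ⧸ I.map (algebraMap A B)) (I.map (algebraMap A B)).Cotangent :=
  IsScalarTower.of_algebraMap_smul (fun _ _ => rfl)

attribute [local instance] isScalarTower_modQ

theorem mk_smul_modQ (a : A) (n : (I.map (algebraMap A B)).Cotangent) :
    (Ideal.Quotient.mk I a) • n = a • n := by
  change (algebraMap (A ⧸ I) (B ⧸ I.map (algebraMap A B)) (Ideal.Quotient.mk I a)) • n = a • n
  rw [Ideal.Quotient.algebraMap_quotient_map_quotient, ← algebraMap_smul B a n]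
  exact algebraMap_smul (B ⧸ I.map (algebraMap A B)) (algebraMap A B a) n

/-- `fCot` as an `A/I`-linear map. -/
noncomputable def fCotQ : I.Cotangent →ₗ[A ⧸ I] (I.map (algebraMap A B)).Cotangent where
  toFun := fCot A B I
  map_add' := map_add _
  map_smul' := by
    intro a m
    obtain ⟨a, rfl⟩ := Ideal.Quotient.mk_surjective a
    rw [RingHom.id_apply, mk_smul_modQ, ← map_smul]
    congr 1

theorem fCotQ_apply (m : I.Cotangent) : fCotQ A B I m = fCot A B I m := rfl

theorem isBaseChange_fCotQ [Module.Flat A B] : IsBaseChange (B ⧸ I.map (algebraMap A B)) (fCotQ A B I) :=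
  isBaseChange_quot A B I (fCot A B I) (fCotQ A B I) (fCotQ_apply A B I) (isBaseChange_fCot A B I)

theorem projective_cotangent [Module.FaithfullyFlat A B]
    (hfg : (I.map (algebraMap A B)).FG)
    (hproj : Module.Projective (B ⧸ I.map (algebraMap A B)) (I.map (algebraMap A B)).Cotangent) :
    Module.Projective (A ⧸ I) I.Cotangent := by
  have hff := faithfullyFlat_quot A B I
  have hfinR : Module.Finite B ↥(I.map (algebraMap A B)) := Module.Finite.iff_fg.mpr hfg
  have hfinRM : Module.Finite B (I.map (algebraMap A B)).Cotangent :=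
    Module.Finite.of_surjective (I.map (algebraMap A B)).toCotangent
      (I.map (algebraMap A B)).toCotangent_surjective
  have hfin : Module.Finite (B ⧸ I.map (algebraMap A B)) (I.map (algebraMap A B)).Cotangent :=
    Module.Finite.of_restrictScalars_finite B _ _
  have e := (isBaseChange_fCotQ A B I).equiv
  have : Module.Finite (B ⧸ I.map (algebraMap A B))
      ((B ⧸ I.map (algebraMap A B)) ⊗[A ⧸ I] I.Cotangent) := Module.Finite.equiv e.symm
  have : Module.Projective (B ⧸ I.map (algebraMap A B))
      ((B ⧸ I.map (algebraMap A B)) ⊗[A ⧸ I] I.Cotangent) := Module.Projective.of_equiv e.symm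
  exact (DiffSmoothFF.projective_of_faithfullyFlat (A ⧸ I) (B ⧸ I.map (algebraMap A B)) I.Cotangent).1

end cotQ

section main

attribute [local instance] DiffSmoothFF.modB DiffSmoothFF.isScalarTower_modB
attribute [local instance] modQ isScalarTower_modQ

variable (ι : Type u) [Fintype ι]

theorem square (y : SymmetricPower A ι I.Cotangent) :
    DiffSmoothFF.cG (A ⧸ I) (B ⧸ I.map (algebraMap A B)) ι (fCotQ A B I)
      (DiffSmoothFF.cG A (A ⧸ I) ι (LinearMap.id : I.Cotangent →ₗ[A] I.Cotangent) y) =
    DiffSmoothFF.cG B (B ⧸ I.map (algebraMap A B)) ι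
      (LinearMap.id : (I.map (algebraMap A B)).Cotangent →ₗ[B] (I.map (algebraMap A B)).Cotangent)
      (DiffSmoothFF.cG A B ι (fCot A B I) y) := by
  have hy : y ∈ Submodule.span A (Set.range (SymmetricPower.tprod A (ι := ι) (M := I.Cotangent))) := by
    rw [SymmetricPower.span_tprod_eq_top]; exact Submodule.mem_top
  induction hy using Submodule.span_induction with
  | mem y hy =>
    obtain ⟨m, rfl⟩ := hy
    rw [DiffSmoothFF.cG_tprod, DiffSmoothFF.cG_tprod, DiffSmoothFF.cG_tprod, DiffSmoothFF.cG_tprod]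
    rfl
  | zero => simp only [map_zero]
  | add a b _ _ ha hb => simp only [map_add, ha, hb]
  | smul s a _ ha =>
    rw [DiffSmoothFF.cG_smul, DiffSmoothFF.cG_smul, DiffSmoothFF.cG_smul, DiffSmoothFF.cG_smul, ha]
    rfl

theorem c_injective [Nonempty ι] [Module.FaithfullyFlat A B]
    [Module.Projective (A ⧸ I) I.Cotangent] :
    Function.Injective (DiffSmoothFF.cG A B ι (fCot A B I)) := by
  have hff := faithfullyFlat_quot A B I
  have hinj : Function.Injective (algebraMap (A ⧸ I) (B ⧸ I.map (algebraMap A B))) :=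
    FaithfulSMul.algebraMap_injective _ _
  have h1 := DiffSmoothFF.cG_injective_of_projective (A ⧸ I) (B ⧸ I.map (algebraMap A B)) ι
    (fCotQ A B I) (isBaseChange_fCotQ A B I) hinj
  have h2 := cG_quot_injective A I ι (M := I.Cotangent)
  intro y y' hyy
  apply h2
  apply h1
  rw [square, square, hyy]

/-- `A/I^(n+1) → B/(IB)^(n+1)`. -/
noncomputable def rho (n : ℕ) : A ⧸ I ^ (n + 1) →+* B ⧸ (I.map (algebraMap A B)) ^ (n + 1) :=
  Ideal.quotientMap _ (algebraMap A B)
    ((Ideal.pow_right_mono Ideal.le_comap_map (n + 1)).trans (Ideal.le_comap_pow _ _))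

theorem rho_mk (n : ℕ) (a : A) :
    rho A B I n (Ideal.Quotient.mk _ a) = Ideal.Quotient.mk _ (algebraMap A B a) := by
  rw [rho, Ideal.quotientMap_mk]

theorem rel (y : SymmetricPower A ι I.Cotangent) :
    jJ B (I.map (algebraMap A B)) (Fintype.card ι)
      (psi B (I.map (algebraMap A B)) ι (DiffSmoothFF.cG A B ι (fCot A B I) y)) =
    rho A B I (Fintype.card ι) (jJ A I (Fintype.card ι) (psi A I ι y)) := by
  have hS : Submodule.span A (Set.range I.toCotangent) = ⊤ :=
    Submodule.eq_top_iff'.2 (fun m => Submodule.subset_span (I.toCotangent_surjective m))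
  have hy : y ∈ Submodule.span A {y | ∃ m : ι → I.Cotangent,
      (∀ i, m i ∈ Set.range I.toCotangent) ∧ SymmetricPower.tprod A m = y} := by
    rw [DiffSmoothFF.span_tprod_of_span _ hS]
    exact Submodule.mem_top
  induction hy using Submodule.span_induction with
  | mem y hy =>
    obtain ⟨m, hm, rfl⟩ := hy
    choose x hx using hm
    obtain rfl : m = fun i => I.toCotangent (x i) := funext fun i => (hx i).symm
    rw [DiffSmoothFF.cG_tprod, psi_tprod, jJ_zetaJ]
    simp only [fCot_toCotangent]
    rw [psi_tprod, jJ_zetaJ]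
    change _ = rho A B I _ (Ideal.Quotient.mk _ _)
    rw [rho_mk, map_prod]
    rfl
  | zero => simp only [map_zero]
  | add a b _ _ ha hb => simp only [map_add, ha, hb]
  | smul s a _ ha =>
    rw [DiffSmoothFF.cG_smul, map_smul, map_smul, ha, map_smul, map_smul, Algebra.smul_def,
      Algebra.smul_def, map_mul]
    congr 1

theorem main [Module.FaithfullyFlat A B]
    (h : IsLocallyQuasiRegular B (I.map (algebraMap A B))) : IsLocallyQuasiRegular A I := by
  have hfgJ := QReg2.fg_of_isLocallyQuasiRegular h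
  have hprojJ := QReg4.projective_cotangent_of_isLocallyQuasiRegular _ h
  have hfg : I.FG := Ideal.FG.of_FG_map_of_faithfullyFlat hfgJ
  have hproj := projective_cotangent A B I hfgJ hprojJ
  apply QReg5.isLocallyQuasiRegular_of I hfg hproj
  intro ι _ _
  refine ⟨psi A I ι, psi_tprod A I ι, ?_, psi_surjective A I ι⟩
  rw [injective_iff_map_eq_zero]
  intro y hy
  have hr := rel A B I ι y
  rw [hy, map_zero, map_zero] at hr
  have h0 : psi B (I.map (algebraMap A B)) ι (DiffSmoothFF.cG A B ι (fCot A B I) y) = 0 :=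
    jJ_injective B _ _ (hr.trans (map_zero _).symm)
  have h1 : DiffSmoothFF.cG A B ι (fCot A B I) y = 0 :=
    psi_injective_of_isLocallyQuasiRegular _ h ι (h0.trans (map_zero _).symm)
  exact c_injective A B I ι (h1.trans (map_zero _).symm)

end main

end Groth.Agent.Lib.Helper70.QReg7
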