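import Mathlib

set_option autoImplicit false
set_option linter.style.haveILetI false

open TensorProduct

namespace Groth.Agent.Lib.Helper70.FinFlatAlg

attribute [local instance] Algebra.TensorProduct.rightAlgebra in
/-- If `p` lies in the free locus of the `A`-module `B`, then every localisation `A_p → B_q`
compatible with `A → B` is flat. -/
theorem flat_of_mem_freeLocus {A B Ap Bq : Type*} [CommRing A] [CommRing B] [Algebra A B]
    [CommRing Ap] [CommRing Bq] [Algebra A Ap] [Algebra B Bq]
    (p : PrimeSpectrum A) (q : Ideal B) [q.IsPrime]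
    [IsLocalization.AtPrime Ap p.asIdeal] [IsLocalization.AtPrime Bq q]
    (ψ : Ap →+* Bq) (hψ : ψ.comp (algebraMap A Ap) = (algebraMap B Bq).comp (algebraMap A B))
    (hp : p ∈ Module.freeLocus A B) : ψ.Flat := by
  algebraize [ψ]
  letI : Algebra A Bq := ((algebraMap B Bq).comp (algebraMap A B)).toAlgebra
  haveI : IsScalarTower A B Bq := .of_algebraMap_eq' rfl
  haveI : IsScalarTower A Ap Bq := .of_algebraMap_eq' hψ.symm
  haveI : Module.Free Ap (Ap ⊗[A] B) := (Module.mem_freeLocus_iff_tensor p Ap).mp hp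
  let g : (Ap ⊗[A] B) →ₐ[A] Bq :=
    Algebra.TensorProduct.productMap (IsScalarTower.toAlgHom A Ap Bq) (IsScalarTower.toAlgHom A B Bq)
  letI : Algebra (Ap ⊗[A] B) Bq := g.toRingHom.toAlgebra
  haveI : IsScalarTower Ap (Ap ⊗[A] B) Bq := .of_algebraMap_eq' (by
    ext x
    simp [RingHom.algebraMap_toAlgebra, g])
  haveI : IsScalarTower B (Ap ⊗[A] B) Bq := .of_algebraMap_eq' (by
    ext x
    simp [RingHom.algebraMap_toAlgebra, g])
  have hle : Algebra.algebraMapSubmonoid B p.asIdeal.primeCompl ≤ q.primeCompl := by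
    rintro _ ⟨a, ha, rfl⟩
    have h1 : IsUnit (algebraMap A Ap a) := IsLocalization.map_units Ap ⟨a, ha⟩
    have h2 : IsUnit (algebraMap B Bq (algebraMap A B a)) := by
      have := h1.map ψ
      rwa [← RingHom.comp_apply, hψ] at this
    exact (IsLocalization.AtPrime.isUnit_to_map_iff Bq q _).mp h2
  haveI : IsLocalization ((q.primeCompl).map (algebraMap B (Ap ⊗[A] B))) Bq :=
    IsLocalization.isLocalization_of_submonoid_le (Ap ⊗[A] B) Bq
      (Algebra.algebraMapSubmonoid B p.asIdeal.primeCompl) q.primeCompl hle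
  haveI : Module.Flat (Ap ⊗[A] B) Bq :=
    IsLocalization.flat Bq ((q.primeCompl).map (algebraMap B (Ap ⊗[A] B)))
  exact Module.Flat.trans Ap (Ap ⊗[A] B) Bq

/-- A finite torsion-free algebra over a noetherian domain is free at every prime whose local ring
is an integrally closed domain of dimension at most one. -/
theorem mem_freeLocus_of_dim_le_one {A B Ap : Type*} [CommRing A] [CommRing B] [Algebra A B]
    [IsDomain A] [IsDomain B] [IsNoetherianRing A] [Module.Finite A B]
    (hinj : Function.Injective (algebraMap A B))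
    [CommRing Ap] [Algebra A Ap] (p : PrimeSpectrum A) [IsLocalization.AtPrime Ap p.asIdeal]
    [IsDomain Ap] [IsIntegrallyClosed Ap] (hdim : ringKrullDim Ap ≤ 1) :
    p ∈ Module.freeLocus A B := by
  rw [Module.mem_freeLocus_iff_tensor p Ap]
  haveI : IsNoetherianRing Ap := IsLocalization.isNoetherianRing p.asIdeal.primeCompl Ap inferInstance
  haveI : IsLocalRing Ap := IsLocalization.AtPrime.isLocalRing Ap p.asIdeal
  haveI : Ring.KrullDimLE 1 Ap := (Ring.krullDimLE_iff).mpr hdim
  haveI : Ring.DimensionLEOne Ap :=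
    ⟨fun {q} hq hqp => Ring.krullDimLE_one_iff_of_noZeroDivisors.mp inferInstance q hq hqp⟩
  haveI : IsDedekindDomain Ap := { }
  haveI : Module.IsTorsionFree A B := Module.isTorsionFree_iff_algebraMap_injective.mpr hinj
  haveI : Module.IsTorsionFree Ap (Ap ⊗[A] B) :=
    IsLocalizedModule.isTorsionFree (TensorProduct.mk A Ap B 1) p.asIdeal.primeCompl
  haveI : Module.Flat Ap (Ap ⊗[A] B) := inferInstance
  haveI : Module.FinitePresentation Ap (Ap ⊗[A] B) := Module.finitePresentation_of_finite Ap _
  exact Module.free_of_flat_of_isLocalRing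

end Groth.Agent.Lib.Helper70.FinFlatAlg
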