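import Mathlib
import Groth.Agent.Lib.Helper70.FinFlatAlg

set_option autoImplicit false
set_option linter.style.haveILetI false

universe u
open AlgebraicGeometry CategoryTheory TopologicalSpace

namespace Groth.Agent.Lib.Helper70.FinFlatSch

variable {X Y : Scheme.{u}} (f : X ⟶ Y)

theorem exists_open_flat_of_dim_le_one [IsFinite f] [IsIntegral X] [IsIntegral Y]
    [IsLocallyNoetherian Y] [IsDominant f]
    (y : Y) [IsIntegrallyClosed (Y.presheaf.stalk y)]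
    (hdim : ringKrullDim (Y.presheaf.stalk y) ≤ 1) :
    ∃ U : Y.Opens, y ∈ U ∧ ∀ x, f.base x ∈ U → (f.stalkMap x).hom.Flat := by
  obtain ⟨_, ⟨U0, hU0, rfl⟩, hy, -⟩ :=
    Y.isBasis_affineOpens.exists_subset_of_mem_open (Set.mem_univ y) isOpen_univ
  have hfU0 : IsAffineOpen (f ⁻¹ᵁ U0) := hU0.preimage f
  letI : Algebra Γ(Y, U0) Γ(X, f ⁻¹ᵁ U0) := (f.app U0).hom.toAlgebra
  haveI : Nonempty U0 := ⟨⟨y, hy⟩⟩
  haveI : Nonempty (f ⁻¹ᵁ U0) := by
    obtain ⟨x, hx⟩ := f.denseRange.exists_mem_open U0.isOpen ⟨y, hy⟩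
    exact ⟨⟨x, hx⟩⟩
  haveI : IsNoetherianRing Γ(Y, U0) := IsLocallyNoetherian.component_noetherian ⟨U0, hU0⟩
  haveI : Module.Finite Γ(Y, U0) Γ(X, f ⁻¹ᵁ U0) := f.finite_app U0 hU0
  haveI : IsSchemeTheoreticallyDominant f := .of_isDominant f
  have hinj : Function.Injective (algebraMap Γ(Y, U0) Γ(X, f ⁻¹ᵁ U0)) := f.app_injective U0
  letI := Y.presheaf.algebra_section_stalk ⟨y, hy⟩
  haveI := hU0.isLocalization_stalk ⟨y, hy⟩
  haveI : Module.FinitePresentation Γ(Y, U0) Γ(X, f ⁻¹ᵁ U0) :=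
    Module.finitePresentation_of_finite _ _
  have hp : hU0.primeIdealOf ⟨y, hy⟩ ∈ Module.freeLocus Γ(Y, U0) Γ(X, f ⁻¹ᵁ U0) :=
    FinFlatAlg.mem_freeLocus_of_dim_le_one hinj (Ap := Y.presheaf.stalk y) _ hdim
  let W : (Spec Γ(Y, U0)).Opens := ⟨Module.freeLocus Γ(Y, U0) Γ(X, f ⁻¹ᵁ U0), Module.isOpen_freeLocus⟩
  refine ⟨hU0.fromSpec ''ᵁ W, ⟨_, hp, hU0.fromSpec_primeIdealOf ⟨y, hy⟩⟩, ?_⟩
  rintro x ⟨p', hp', hp'x⟩
  have hfx : f.base x ∈ U0 := by
    rw [← hp'x]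
    have h1 : hU0.fromSpec p' ∈ Set.range hU0.fromSpec := Set.mem_range_self p'
    rw [hU0.range_fromSpec] at h1
    exact h1
  have hp'eq : p' = hU0.primeIdealOf ⟨f.base x, hfx⟩ := by
    apply hU0.fromSpec.isOpenEmbedding.injective
    rw [hU0.fromSpec_primeIdealOf ⟨_, hfx⟩]
    exact hp'x
  letI := Y.presheaf.algebra_section_stalk ⟨f.base x, hfx⟩
  haveI := hU0.isLocalization_stalk ⟨f.base x, hfx⟩
  letI := X.presheaf.algebra_section_stalk (U := f ⁻¹ᵁ U0) ⟨x, hfx⟩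
  haveI := hfU0.isLocalization_stalk ⟨x, hfx⟩
  refine FinFlatAlg.flat_of_mem_freeLocus (hU0.primeIdealOf ⟨f.base x, hfx⟩)
    (hfU0.primeIdealOf ⟨x, hfx⟩).asIdeal (f.stalkMap x).hom ?_ (hp'eq ▸ hp')
  exact congr_arg CommRingCat.Hom.hom (Scheme.Hom.germ_stalkMap f U0 x hfx)

/-- The largest open subset of `Y` over which all stalk maps of `f` are flat. -/
def flatOpen : Y.Opens :=
  ⟨{y | ∃ U : Y.Opens, y ∈ U ∧ ∀ x, f.base x ∈ U → (f.stalkMap x).hom.Flat},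
    isOpen_iff_forall_mem_open.mpr (by
      rintro y ⟨U, hyU, hU⟩
      exact ⟨U, fun z hz => ⟨U, hz, hU⟩, U.isOpen, hyU⟩)⟩

theorem flat_restrict_flatOpen : Flat (f ∣_ flatOpen f) := by
  apply Flat.of_stalkMap
  intro x
  obtain ⟨U, hxU, hU⟩ := x.2
  exact (RingHom.Flat.respectsIso.arrow_mk_iso_iff
    (AlgebraicGeometry.morphismRestrictStalkMap f (flatOpen f) x)).mpr (hU x.1 hxU)

theorem mem_flatOpen_of_dim_le_one [IsFinite f] [IsIntegral X] [IsIntegral Y]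
    [IsLocallyNoetherian Y] [IsDominant f]
    (y : Y) [IsIntegrallyClosed (Y.presheaf.stalk y)]
    (hdim : ringKrullDim (Y.presheaf.stalk y) ≤ 1) : y ∈ flatOpen f := by
  obtain ⟨U, hyU, hU⟩ := exists_open_flat_of_dim_le_one f y hdim
  exact ⟨U, hyU, hU⟩

theorem coheight_le_dim (Y : Scheme.{u}) (y : Y) :
    (Order.coheight y : WithBot ℕ∞) ≤ topologicalKrullDim Y := by
  rw [topologicalKrullDim, Order.krullDim_eq_of_orderIso (irreducibleSetEquivPoints (α := Y))]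
  exact Order.coheight_le_krullDim y

theorem finite_of_isClosed_of_coheight_eq {Y : Scheme.{u}} [NoetherianSpace Y] (Z : Set Y)
    (hZ : IsClosed Z) (n : ℕ) (h : ∀ z ∈ Z, Order.coheight z = (n : ℕ∞)) : Z.Finite := by
  obtain ⟨S, hSf, hSc, hSi, rfl⟩ := NoetherianSpace.exists_finite_set_isClosed_irreducible hZ
  refine Set.Finite.sUnion hSf fun t ht => ?_
  have hg := (hSi t ht).isGenericPoint_genericPoint (hSc t ht)
  set g := (hSi t ht).genericPoint
  have hgt : g ∈ t := hg.mem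
  have key : ∀ a ∈ t, a = g := by
    intro a ha
    have h1 : g ⤳ a := hg.specializes ha
    by_contra hne
    have hlt : a < g := by
      refine lt_of_le_not_ge h1 fun h2 => hne ?_
      exact (Specializes.antisymm h2 h1).eq
    have := Order.coheight_add_one_le hlt
    rw [h g ⟨t, ht, hgt⟩, h a ⟨t, ht, ha⟩] at this
    have h3 : (n : ℕ∞) + 1 = ((n + 1 : ℕ) : ℕ∞) := by norm_cast
    rw [h3] at this
    have := ENat.natCast_le_natCast.mp this
    omega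
  exact (Set.subsingleton_of_forall_eq g key).finite

/-- Sections of a normal integral scheme over an affine open are integrally closed. -/
theorem isIntegrallyClosed_of_isAffineOpen [IsIntegral Y]
    (hnY : ∀ y : Y, IsIntegrallyClosed (Y.presheaf.stalk y)) {U : Y.Opens} (hU : IsAffineOpen U)
    [Nonempty U] : IsIntegrallyClosed Γ(Y, U) := by
  apply IsIntegrallyClosed.of_localization_maximal
  intro P _ hP
  have hmem : hU.fromSpec ⟨P, hP.isPrime⟩ ∈ U := by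
    have h1 : hU.fromSpec ⟨P, hP.isPrime⟩ ∈ Set.range hU.fromSpec := Set.mem_range_self _
    rw [hU.range_fromSpec] at h1
    exact h1
  letI := Y.presheaf.algebra_section_stalk ⟨hU.fromSpec ⟨P, hP.isPrime⟩, hmem⟩
  haveI : IsLocalization.AtPrime (Y.presheaf.stalk (hU.fromSpec ⟨P, hP.isPrime⟩)) P :=
    hU.isLocalization_stalk' ⟨P, hP.isPrime⟩ hmem
  haveI := hnY (hU.fromSpec ⟨P, hP.isPrime⟩)
  exact IsIntegrallyClosed.of_equiv (IsLocalization.algEquiv P.primeCompl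
    (Y.presheaf.stalk (hU.fromSpec ⟨P, hP.isPrime⟩)) (Localization.AtPrime P)).toRingEquiv

/-- Going down: for a finite dominant morphism of integral schemes with normal target, local
dimension does not drop. -/
theorem ringKrullDim_stalk_le_of_finite [IsFinite f] [IsIntegral X] [IsIntegral Y]
    [IsLocallyNoetherian X] [IsLocallyNoetherian Y] [IsDominant f]
    (hnY : ∀ y : Y, IsIntegrallyClosed (Y.presheaf.stalk y)) (x : X) :
    ringKrullDim (Y.presheaf.stalk (f.base x)) ≤ ringKrullDim (X.presheaf.stalk x) := by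
  obtain ⟨_, ⟨U0, hU0, rfl⟩, hy, -⟩ :=
    Y.isBasis_affineOpens.exists_subset_of_mem_open (Set.mem_univ (f.base x)) isOpen_univ
  have hfU0 : IsAffineOpen (f ⁻¹ᵁ U0) := hU0.preimage f
  letI : Algebra Γ(Y, U0) Γ(X, f ⁻¹ᵁ U0) := (f.app U0).hom.toAlgebra
  haveI : Nonempty U0 := ⟨⟨f.base x, hy⟩⟩
  haveI : Nonempty (f ⁻¹ᵁ U0) := ⟨⟨x, hy⟩⟩
  haveI : IsNoetherianRing Γ(X, f ⁻¹ᵁ U0) :=
    IsLocallyNoetherian.component_noetherian ⟨f ⁻¹ᵁ U0, hfU0⟩
  haveI : IsNoetherianRing Γ(Y, U0) := IsLocallyNoetherian.component_noetherian ⟨U0, hU0⟩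
  haveI : Module.Finite Γ(Y, U0) Γ(X, f ⁻¹ᵁ U0) := f.finite_app U0 hU0
  haveI : IsSchemeTheoreticallyDominant f := .of_isDominant f
  have hinj : Function.Injective (algebraMap Γ(Y, U0) Γ(X, f ⁻¹ᵁ U0)) := f.app_injective U0
  haveI : FaithfulSMul Γ(Y, U0) Γ(X, f ⁻¹ᵁ U0) := (faithfulSMul_iff_algebraMap_injective _ _).mpr hinj
  haveI : IsIntegrallyClosed Γ(Y, U0) := isIntegrallyClosed_of_isAffineOpen hnY hU0
  letI := Y.presheaf.algebra_section_stalk ⟨f.base x, hy⟩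
  haveI := hU0.isLocalization_stalk ⟨f.base x, hy⟩
  letI := X.presheaf.algebra_section_stalk (U := f ⁻¹ᵁ U0) ⟨x, hy⟩
  haveI := hfU0.isLocalization_stalk ⟨x, hy⟩
  rw [IsLocalization.AtPrime.ringKrullDim_eq_height (hU0.primeIdealOf ⟨f.base x, hy⟩).asIdeal,
    IsLocalization.AtPrime.ringKrullDim_eq_height (hfU0.primeIdealOf ⟨x, hy⟩).asIdeal]
  haveI : (hfU0.primeIdealOf ⟨x, hy⟩).asIdeal.LiesOver (hU0.primeIdealOf ⟨f.base x, hy⟩).asIdeal := by
    constructor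
    have := IsAffineOpen.comap_primeIdealOf_appLE (f := f) (x := x) U0 hU0 (f ⁻¹ᵁ U0) hfU0 le_rfl hy
    have h2 : f.appLE U0 (f ⁻¹ᵁ U0) le_rfl = f.app U0 := Scheme.Hom.appLE_eq_app f
    rw [h2] at this
    rw [← this]
    rfl
  rw [Ideal.height_eq_height_add_of_liesOver_of_hasGoingDown
    (hU0.primeIdealOf ⟨f.base x, hy⟩).asIdeal (hfU0.primeIdealOf ⟨x, hy⟩).asIdeal]
  exact_mod_cast le_self_add

end Groth.Agent.Lib.Helper70.FinFlatSch
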