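import Mathlib
import Groth.Prelude.Def_CAlgX
import Groth.Agent.Lib.Helper85.GorLCI
import Groth.Agent.Lib.Helper4.GorCM
import Groth.Agent.Lib.Helper11.CMUnmixed

/-!
# `H¹` of the naive cotangent complex of a generically smooth lci algebra over a field vanishes

* `coeff_mem_of_isH1Regular`: `H₁`-regular sequences are quasi-regular in degree one.
* `exists_socle_elt`: for a Koszul-regular ideal `I` of `P`, an element of `I/I²` whose annihilator
  is a prime `q` yields a nonzero element of `P_q/I_q` killed by `q`.
* `mem_associatedPrimes_of_socle`.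
* `main`: S16713.
-/

set_option autoImplicit false
set_option linter.style.haveILetI false
universe u

namespace Groth.Agent.Lib.Helper70.LCIH1

open IsLocalRing Algebra

/-- coordinates of elements in the span of the trivial relations lie in the ideal -/
theorem coord_mem_of_mem_span_trivial {R : Type u} [CommRing R] {c : ℕ} (g : Fin c → R)
    (v : Fin c → R)
    (hv : v ∈ Submodule.span R {v : Fin c → R | ∃ i j : Fin c,
      v = Pi.single i (g j) - Pi.single j (g i)}) (i : Fin c) :
    v i ∈ Ideal.span (Set.range g) := by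
  induction hv using Submodule.span_induction with
  | mem x hx =>
    obtain ⟨a, b, rfl⟩ := hx
    simp only [Pi.sub_apply, Pi.single_apply]
    refine Ideal.sub_mem _ ?_ ?_
    · split_ifs
      · exact Ideal.subset_span ⟨b, rfl⟩
      · exact Ideal.zero_mem _
    · split_ifs
      · exact Ideal.subset_span ⟨a, rfl⟩
      · exact Ideal.zero_mem _
  | zero => exact Ideal.zero_mem _
  | add x y _ _ hx hy => exact Ideal.add_mem _ hx hy
  | smul a x _ hx => exact Ideal.mul_mem_left _ a hx

/-- `H₁`-regular sequences are quasi-regular in degree one -/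
theorem coeff_mem_of_isH1Regular {R : Type u} [CommRing R] {c : ℕ} (g : Fin c → R)
    (h : CAlgX.IsH1Regular g) (a : Fin c → R)
    (ha : ∑ i, a i * g i ∈ Ideal.span (Set.range g) ^ 2) (i : Fin c) :
    a i ∈ Ideal.span (Set.range g) := by
  set J := Ideal.span (Set.range g) with hJ
  have h1 : ∑ i, a i * g i ∈ J • Submodule.span R (Set.range g) := by
    rw [pow_two] at ha
    exact ha
  rw [Submodule.mem_ideal_smul_span_iff_exists_sum] at h1
  obtain ⟨b, hb, hsum⟩ := h1
  have hsum' : ∑ i, b i * g i = ∑ i, a i * g i := by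
    rw [← hsum, Finsupp.sum_fintype _ _ (fun i => by simp)]
    rfl
  have h0 : ∑ i, (a i - b i) * g i = 0 := by
    simp only [sub_mul, Finset.sum_sub_distrib, hsum', sub_self]
  have h2 := h (fun i => a i - b i) h0
  have h3 := coord_mem_of_mem_span_trivial g _ h2 i
  have : a i = (a i - b i) + b i := by ring
  rw [this]
  exact Ideal.add_mem _ h3 (hb i)

theorem exists_socle_elt {P : Type u} [CommRing P] (I : Ideal P)
    (hI : LCI.IsKoszulRegularIdeal I)
    (q : Ideal P) [q.IsPrime] (y : P) (hy : y ∈ I) (hq : ∀ a : P, a * y ∈ I ^ 2 ↔ a ∈ q) :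
    ∃ w : Localization.AtPrime q, w ∉ I.map (algebraMap P (Localization.AtPrime q)) ∧
      ∀ a ∈ q, algebraMap P _ a * w ∈ I.map (algebraMap P (Localization.AtPrime q)) := by
  have hIq : I ≤ q := fun a ha => (hq a).1 (by rw [pow_two]; exact Ideal.mul_mem_mul ha hy)
  obtain ⟨rs, hrs, hmap⟩ := Groth.Agent.Lib.Helper85.GorLCI.exists_koszulRegular_local I hI q hIq
  have h1 := Groth.Agent.Lib.Helper43.KoszulH1.isH1Regular_of_isKoszulRegularSeq rs hrs
  set J := I.map (algebraMap P (Localization.AtPrime q)) with hJdef
  have hJ : J = Ideal.span (Set.range rs.get) := by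
    rw [hmap, Set.range_list_get]
  have hJ2 : J ^ 2 = (I ^ 2).map (algebraMap P (Localization.AtPrime q)) := (Ideal.map_pow _ _ _).symm
  have hy1 : algebraMap P (Localization.AtPrime q) y ∈ J := Ideal.mem_map_of_mem _ hy
  rw [hJ] at hy1
  obtain ⟨a, ha⟩ := (Ideal.mem_span_range_iff_exists_fun).1 hy1
  have hnot : algebraMap P (Localization.AtPrime q) y ∉ J ^ 2 := by
    rw [hJ2]
    intro hmem
    obtain ⟨⟨m, s⟩, hms⟩ := (IsLocalization.mem_map_algebraMap_iff q.primeCompl (Localization.AtPrime q)).1 hmem
    rw [← map_mul] at hms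
    obtain ⟨t, ht⟩ := (IsLocalization.eq_iff_exists q.primeCompl (Localization.AtPrime q)).1 hms
    have h2 : ((t : P) * (s : P)) * y ∈ I ^ 2 := by
      have : ((t : P) * (s : P)) * y = (t : P) * (m : P) := by
        rw [← ht]; ring
      rw [this]
      exact Ideal.mul_mem_left _ _ m.2
    have h3 := (hq _).1 h2
    rcases (Ideal.IsPrime.mem_or_mem inferInstance h3) with h | h
    · exact t.2 h
    · exact s.2 h
  have hex : ∃ i, a i ∉ J := by
    by_contra hcon
    push Not at hcon
    apply hnot
    rw [← ha, pow_two]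
    refine Ideal.sum_mem _ fun i _ => ?_
    refine Ideal.mul_mem_mul (hcon i) ?_
    rw [hJ]
    exact Ideal.subset_span ⟨i, rfl⟩
  obtain ⟨i, hi⟩ := hex
  refine ⟨a i, hi, fun b hb => ?_⟩
  have hb2 : b * y ∈ I ^ 2 := (hq b).2 hb
  have hb3 : algebraMap P (Localization.AtPrime q) b * algebraMap P (Localization.AtPrime q) y ∈ J ^ 2 := by
    rw [hJ2, ← map_mul]
    exact Ideal.mem_map_of_mem _ hb2
  rw [← ha, Finset.mul_sum] at hb3
  have hb4 : ∑ j, (algebraMap P (Localization.AtPrime q) b * a j) * rs.get j ∈ Ideal.span (Set.range rs.get) ^ 2 := by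
    rw [← hJ]
    convert hb3 using 2 with j
    rw [mul_assoc]
  have := coeff_mem_of_isH1Regular rs.get h1 _ hb4 i
  rw [hJ]
  exact this


/-- a prime `p` of a Noetherian ring `A` such that `A_p` has a nonzero element killed by `p`
is an associated prime of `A` -/
theorem mem_associatedPrimes_of_socle {A : Type u} [CommRing A] [IsNoetherianRing A]
    (p : Ideal A) [p.IsPrime] (z : Localization.AtPrime p) (hz : z ≠ 0)
    (hpz : ∀ a ∈ p, algebraMap A (Localization.AtPrime p) a * z = 0) :
    p ∈ associatedPrimes A A := by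
  have hann : maximalIdeal (Localization.AtPrime p) =
      (⊥ : Submodule (Localization.AtPrime p) (Localization.AtPrime p)).colon {z} := by
    apply le_antisymm
    · rw [← Localization.AtPrime.map_eq_maximalIdeal, Ideal.map_le_iff_le_comap]
      intro a ha
      rw [Ideal.mem_comap, Submodule.mem_colon_singleton, Submodule.mem_bot, smul_eq_mul]
      exact hpz a ha
    · apply IsLocalRing.le_maximalIdeal
      intro htop
      apply hz
      have : (1 : Localization.AtPrime p) ∈
          (⊥ : Submodule (Localization.AtPrime p) (Localization.AtPrime p)).colon {z} := by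
        rw [htop]; trivial
      rw [Submodule.mem_colon_singleton, Submodule.mem_bot, one_smul] at this
      exact this
  have hass : maximalIdeal (Localization.AtPrime p) ∈
      associatedPrimes (Localization.AtPrime p) (Localization.AtPrime p) := by
    refine (isAssociatedPrime_iff).2 ⟨inferInstance, z, hann⟩
  have := Module.associatedPrimes.comap_mem_associatedPrimes_of_mem_associatedPrimes_of_isLocalizedModule_of_fg
    p.primeCompl (Algebra.linearMap A (Localization.AtPrime p))
    (maximalIdeal (Localization.AtPrime p)) hass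
    ((isNoetherianRing_iff_ideal_fg A).mp inferInstance _)
  have h2 : Ideal.comap (algebraMap A (Localization.AtPrime p)) (maximalIdeal (Localization.AtPrime p)) = p :=
    Localization.AtPrime.under_maximalIdeal (I := p)
  rwa [h2] at this


theorem main (k : Type u) [Field k] (A : Type u) [CommRing A] [Algebra k A]
    (hlci : LCI.IsLCI k A)
    (hgs : ∀ (p : Ideal A) [p.IsPrime], p ∈ minimalPrimes A →
      Algebra.FormallySmooth k (Localization.AtPrime p)) :
    Subsingleton (Algebra.H1Cotangent k A) := by
  have hkl : LocCoh.IsGorensteinLocalRing k :=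
    Groth.Agent.Lib.Helper85.GorRing.gor_of_isField k (Field.toIsField k)
  have hk : LocCoh.IsGorensteinRing k := Groth.Agent.Lib.Helper85.GorRing.gorRing_of_gorLocal k
  have hG : LocCoh.IsGorensteinRing A :=
    Groth.Agent.Lib.Helper85.GorLCI.gorRing_of_isLCI k A hk hlci
  haveI : IsNoetherianRing A := by haveI := hG; infer_instance
  haveI hCM : LocCoh.IsCohenMacaulayRing A :=
    { isCohenMacaulayLocalRing_localization := fun p _ => by
        haveI := hG.isGorensteinLocalRing_localization p
        exact Groth.Agent.Lib.Helper4.GorCM.isCohenMacaulayLocalRing_of_gorenstein _ }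
  obtain ⟨-, n, f, hf, hI⟩ := hlci
  have hfa : (MvPolynomial.aeval (R := k) fun i => f (MvPolynomial.X i)) = f := by
    apply MvPolynomial.algHom_ext
    intro i
    simp
  let G : Algebra.Generators k A (Fin n) :=
    Algebra.Generators.ofSurjective (fun i => f (MvPolynomial.X i)) (by rw [hfa]; exact hf)
  have hGf : ∀ b : MvPolynomial (Fin n) k, algebraMap G.toExtension.Ring A b = f b := by
    intro b
    have : algebraMap G.Ring A b =
        MvPolynomial.aeval (R := k) (fun i => f (MvPolynomial.X i)) b := G.algebraMap_apply b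
    rw [hfa] at this
    exact this
  by_contra hns
  rw [not_subsingleton_iff_nontrivial] at hns
  obtain ⟨p, hp⟩ := associatedPrimes.nonempty A (Algebra.H1Cotangent k A)
  obtain ⟨hpp, x', hx'⟩ := (isAssociatedPrime_iff).1 hp
  haveI := hpp
  have hx'mem : ∀ a : A, a ∈ p ↔ a • x' = 0 := by
    intro a
    rw [hx', Submodule.mem_colon_singleton, Submodule.mem_bot]
  -- transfer to the presentation
  let e := G.equivH1Cotangent
  set x := e.symm x' with hxdef
  have hxmem : ∀ a : A, a ∈ p ↔ a • x.1 = 0 := by
    intro a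
    rw [hx'mem]
    constructor
    · intro h
      have : a • x = 0 := by rw [hxdef, ← map_smul, h, map_zero]
      rw [← Algebra.Extension.H1Cotangent.val_smul, this]
      rfl
    · intro h
      have h1 : a • x = 0 := by
        apply Subtype.ext
        rw [Algebra.Extension.H1Cotangent.val_smul, h]
        rfl
      have : e (a • x) = 0 := by rw [h1, map_zero]
      rwa [map_smul, hxdef, LinearEquiv.apply_symm_apply] at this
  obtain ⟨y, hy⟩ := Algebra.Extension.Cotangent.mk_surjective x.1
  have hker : ∀ b : MvPolynomial (Fin n) k, b ∈ G.toExtension.ker ↔ b ∈ RingHom.ker f.toRingHom := by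
    intro b
    change algebraMap G.toExtension.Ring A b = 0 ↔ f b = 0
    rw [hGf]
  have hker2 : ∀ b : MvPolynomial (Fin n) k,
      b ∈ G.toExtension.ker ^ 2 ↔ b ∈ RingHom.ker f.toRingHom ^ 2 := by
    intro b
    have : G.toExtension.ker = RingHom.ker f.toRingHom := Ideal.ext hker
    rw [this]
    exact Iff.rfl
  let q : Ideal (MvPolynomial (Fin n) k) := p.comap f.toRingHom
  let y1 : MvPolynomial (Fin n) k := y.1
  have hq : ∀ b : MvPolynomial (Fin n) k,
      b * y1 ∈ RingHom.ker f.toRingHom ^ 2 ↔ b ∈ q := by
    intro b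
    change _ ↔ f b ∈ p
    rw [hxmem, ← hGf, algebraMap_smul, ← hy, ← map_smul,
      Algebra.Extension.Cotangent.mk_eq_zero_iff, ← hker2]
    rfl
  have hyI : y1 ∈ RingHom.ker f.toRingHom := (hker _).1 y.2
  obtain ⟨w, hw, hqw⟩ := exists_socle_elt (RingHom.ker f.toRingHom) hI q y1 hyI hq
  obtain ⟨φ, hφ, hkerφ, hφalg⟩ :=
    Groth.Agent.Lib.Helper85.GorRing.exists_loc_surjective f.toRingHom hf q p rfl
  have hz : φ w ≠ 0 := by
    intro h0
    apply hw
    rw [← hkerφ]
    exact h0
  have hpz : ∀ a ∈ p, algebraMap A (Localization.AtPrime p) a * φ w = 0 := by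
    intro a ha
    obtain ⟨b, rfl⟩ := hf a
    have hb : b ∈ q := ha
    have := hqw b hb
    rw [← hkerφ, RingHom.mem_ker, map_mul, hφalg] at this
    exact this
  have hass := mem_associatedPrimes_of_socle p (φ w) hz hpz
  have hmin := Groth.Agent.Lib.Helper11.CMUnmixed.mem_minimalPrimes_of_mem_associatedPrimes A hass
  haveI := hgs p hmin
  haveI : IsLocalizedModule p.primeCompl
      (Algebra.H1Cotangent.map k k A (Localization.AtPrime p)) :=
    inferInstance
  have h0 : Algebra.H1Cotangent.map k k A (Localization.AtPrime p) x' = 0 :=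
    Subsingleton.elim _ _
  obtain ⟨c, hc⟩ := (IsLocalizedModule.eq_zero_iff p.primeCompl _).1 h0
  exact c.2 ((hx'mem c.1).2 hc)

end Groth.Agent.Lib.Helper70.LCIH1
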