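import Mathlib
import Groth.Agent.S16713
import Groth.Agent.Lib.Helper70.LCIH1
import Groth.Agent.Lib.Helper76.CIPres
import Groth.Agent.Lib.Helper43.KRPoly

set_option autoImplicit false
set_option linter.style.haveILetI false

universe u

open CategoryTheory Algebra MvPolynomial

namespace Groth.Agent.Lib.Helper70.FittRes

section Abstract

variable {k B : Type u} [CommRing k] [CommRing B] [Algebra k B] (E : Algebra.Extension.{u} k B)

/-- abstract: the conormal module is free on the classes of an `H_1`-regular generating family -/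
theorem conormal_free {c : ℕ} (a : Fin c → E.Ring) (hk : Ideal.span (Set.range a) = E.ker)
    (hH : CAlgX.IsH1Regular a) :
    ∃ ψ : (Fin c → B) →ₗ[B] E.Cotangent, Function.Bijective ψ := by
  have hmem : ∀ j, a j ∈ E.ker := fun j => hk ▸ Ideal.subset_span ⟨j, rfl⟩
  refine ⟨Fintype.linearCombination B fun j => Extension.Cotangent.mk ⟨a j, hmem j⟩, ?_, ?_⟩
  · rw [← LinearMap.ker_eq_bot, LinearMap.ker_eq_bot']
    intro v hv
    choose p hp using fun j => E.algebraMap_surjective (v j)
    have h1 : Fintype.linearCombination B (fun j => Extension.Cotangent.mk ⟨a j, hmem j⟩) v =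
        Extension.Cotangent.mk
        ⟨∑ j, p j * a j, Ideal.sum_mem _ fun j _ => Ideal.mul_mem_left _ _ (hmem j)⟩ := by
      have : (⟨∑ j, p j * a j, Ideal.sum_mem _ fun j _ => Ideal.mul_mem_left _ _ (hmem j)⟩ :
          E.ker) = ∑ j, p j • (⟨a j, hmem j⟩ : E.ker) := by
        ext
        simp
      rw [this, map_sum]
      simp only [Fintype.linearCombination_apply, map_smul]
      refine Finset.sum_congr rfl fun j _ => ?_
      rw [← hp j, algebraMap_smul]
    rw [h1, Extension.Cotangent.mk_eq_zero_iff] at hv
    funext j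
    have h2 := Groth.Agent.Lib.Helper70.LCIH1.coeff_mem_of_isH1Regular a hH p
      (by rw [hk]; exact hv) j
    rw [hk] at h2
    rw [Pi.zero_apply, ← hp j]
    exact h2
  · rw [← LinearMap.range_eq_top, Fintype.range_linearCombination]
    exact Extension.Cotangent.span_eq_top_of_span_eq_ker a hk

end Abstract

section Abstract2

variable {k B : Type u} [CommRing k] [CommRing B] [Algebra k B] (E : Algebra.Extension.{u} k B)

theorem exists_resolution_of_extension {c r : ℕ} (b : Module.Basis (Fin r) B E.CotangentSpace)
    (ψ : (Fin c → B) →ₗ[B] E.Cotangent) (hψ : Function.Bijective ψ)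
    (hinj : Function.Injective E.cotangentComplex) :
    ∃ (π : (Fin r → B) →ₗ[B] Ω[B⁄k]) (σ : (Fin c → B) →ₗ[B] (Fin r → B)),
      Function.Surjective π ∧ Function.Injective σ ∧ LinearMap.range σ = LinearMap.ker π := by
  refine ⟨E.toKaehler ∘ₗ b.equivFun.symm.toLinearMap,
    b.equivFun.toLinearMap ∘ₗ E.cotangentComplex ∘ₗ ψ, ?_, ?_, ?_⟩
  · exact E.toKaehler_surjective.comp b.equivFun.symm.surjective
  · exact b.equivFun.injective.comp (hinj.comp hψ.1)
  · ext x
    simp only [LinearMap.mem_range, LinearMap.mem_ker, LinearMap.comp_apply, LinearEquiv.coe_coe]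
    constructor
    · rintro ⟨v, rfl⟩
      rw [LinearEquiv.symm_apply_apply]
      exact E.exact_cotangentComplex_toKaehler.apply_apply_eq_zero _
    · intro hx
      obtain ⟨y, hy⟩ := (E.exact_cotangentComplex_toKaehler _).mp hx
      obtain ⟨v, rfl⟩ := hψ.2 y
      exact ⟨v, by rw [hy, LinearEquiv.apply_symm_apply]⟩

end Abstract2

/-- the two-term free resolution of `Ω_{B/k}` for a reduced global complete intersection over an
algebraically closed field -/
theorem exists_resolution (k : Type u) [Field k] [IsAlgClosed k] (r c : ℕ)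
    (B : Type u) [CommRing B] [Algebra k B] [IsReduced B]
    (φ : MvPolynomial (Fin r) k →ₐ[k] B) (hφ : Function.Surjective φ)
    (a : Fin c → MvPolynomial (Fin r) k)
    (ha : RingTheory.Sequence.IsRegular (MvPolynomial (Fin r) k) (List.ofFn a))
    (hker : RingHom.ker φ.toRingHom = Ideal.span (Set.range a)) :
    ∃ (π : (Fin r → B) →ₗ[B] Ω[B⁄k]) (σ : (Fin c → B) →ₗ[B] (Fin r → B)),
      Function.Surjective π ∧ Function.Injective σ ∧ LinearMap.range σ = LinearMap.ker π := by
  classical
  let G : Algebra.Generators k B (Fin r) := Algebra.Generators.ofAlgHom φ hφ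
  have haev : (aeval (φ ∘ X) : MvPolynomial (Fin r) k →ₐ[k] B) = φ := by
    ext i
    simp
  have halg : ∀ p : MvPolynomial (Fin r) k, algebraMap G.Ring B p = φ p := by
    intro p
    rw [Algebra.Generators.algebraMap_apply]
    exact DFunLike.congr_fun haev p
  have hkerE : Ideal.span (Set.range a) = RingHom.ker (algebraMap G.Ring B) := by
    rw [← hker]
    ext p
    exact (RingHom.mem_ker).trans ((by rw [halg p]) : φ p = 0 ↔ algebraMap G.Ring B p = 0)
      |>.trans (RingHom.mem_ker).symm
  -- lci
  have hlci : LCI.IsLCI k B := by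
    refine ⟨Algebra.FiniteType.of_surjective φ hφ, r, φ, hφ, ?_⟩
    rw [hker]
    have h1 := Groth.Agent.Lib.Helper43.KRPoly.isKoszulRegularIdeal_of_seq (List.ofFn a)
      (Helper98.KoszulLES.koszul_of_weaklyRegular (List.ofFn a) ha.1).1
    convert h1 using 1
    simp [Ideal.ofList, Set.range, List.mem_ofFn]
  -- generic smoothness
  have hgs : ∀ (p : Ideal B) [p.IsPrime], p ∈ minimalPrimes B →
      Algebra.FormallySmooth k (Localization.AtPrime p) := by
    intro p _ hp
    haveI : Ring.KrullDimLE 0 (Localization.AtPrime p) :=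
      Ring.KrullDimLE.of_isLocalization p hp _
    have hF : IsField (Localization.AtPrime p) := Ring.KrullDimLE.isField_of_isReduced
    letI : Field (Localization.AtPrime p) := hF.toField
    haveI : Algebra.FiniteType k B := Algebra.FiniteType.of_surjective φ hφ
    haveI : Algebra.EssFiniteType B (Localization.AtPrime p) :=
      Algebra.EssFiniteType.of_isLocalization _ p.primeCompl
    haveI : Algebra.EssFiniteType k (Localization.AtPrime p) :=
      Algebra.EssFiniteType.comp k B _
    exact Algebra.FormallySmooth.of_perfectField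
  have hH1 : Subsingleton (Algebra.H1Cotangent k B) := Groth.Agent.S16713.result k B hlci hgs
  have hH1' : Subsingleton G.toExtension.H1Cotangent := G.equivH1Cotangent.subsingleton
  have hinj : Function.Injective G.toExtension.cotangentComplex :=
    (Extension.subsingleton_h1Cotangent G.toExtension).mp hH1'
  have hH : CAlgX.IsH1Regular a :=
    Groth.Agent.Lib.Helper76.KosLen.isH1_of_isWeaklyRegular c _ a ha.1
  obtain ⟨ψ, hψ⟩ := conormal_free G.toExtension a hkerE hH
  exact exists_resolution_of_extension G.toExtension G.cotangentSpaceBasis ψ hψ hinj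

end Groth.Agent.Lib.Helper70.FittRes
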