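import Mathlib.Algebra.Homology.ShortComplex.Ab
import Mathlib.Algebra.Homology.QuasiIso
import Mathlib.Algebra.Category.Grp.Abelian

set_option autoImplicit false
universe u
open CategoryTheory CategoryTheory.Limits

namespace Groth.Agent.Lib.Helper70.AbQis

variable (S : ShortComplex Ab.{u})

theorem exists_iCycles_eq (x : S.X₂) (hx : S.g x = 0) : ∃ z : S.cycles, S.iCycles z = x :=
  ⟨S.abCyclesIso.inv ⟨x, hx⟩, S.abCyclesIso_inv_apply_iCycles ⟨x, hx⟩⟩

theorem g_iCycles (z : S.cycles) : S.g (S.iCycles z) = 0 := by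
  rw [← ConcreteCategory.comp_apply, S.iCycles_g]; rfl

theorem iCycles_toCycles (w : S.X₁) : S.iCycles (S.toCycles w) = S.f w := by
  rw [← ConcreteCategory.comp_apply, S.toCycles_i]

theorem iCycles_injective : Function.Injective S.iCycles :=
  (AddCommGrpCat.mono_iff_injective _).1 inferInstance

theorem homologyπ_surjective : Function.Surjective S.homologyπ :=
  (AddCommGrpCat.epi_iff_surjective _).1 inferInstance

theorem homologyπ_toCycles (w : S.X₁) : S.homologyπ (S.toCycles w) = 0 := by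
  rw [← ConcreteCategory.comp_apply, S.toCycles_comp_homologyπ]; rfl

theorem exists_toCycles_eq (z : S.cycles) (hz : S.homologyπ z = 0) : ∃ w : S.X₁, S.toCycles w = z := by
  have hex : (ShortComplex.mk S.toCycles S.homologyπ S.toCycles_comp_homologyπ).Exact :=
    ShortComplex.exact_of_g_is_cokernel _ S.homologyIsCokernel
  exact (ShortComplex.ab_exact_iff _).1 hex z hz

variable {S₁ S₂ : ShortComplex Ab.{u}} (φ : S₁ ⟶ S₂)

theorem iCycles_cyclesMap (z : S₁.cycles) :
    S₂.iCycles (ShortComplex.cyclesMap φ z) = φ.τ₂ (S₁.iCycles z) := by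
  rw [← ConcreteCategory.comp_apply, ShortComplex.cyclesMap_i, ConcreteCategory.comp_apply]

theorem homologyMap_homologyπ (z : S₁.cycles) :
    ShortComplex.homologyMap φ (S₁.homologyπ z) = S₂.homologyπ (ShortComplex.cyclesMap φ z) := by
  rw [← ConcreteCategory.comp_apply, ← ConcreteCategory.comp_apply,
    ShortComplex.homologyπ_naturality]

/-- Elementwise criterion for a morphism of short complexes of abelian groups to be a
quasi-isomorphism. -/
theorem quasiIso_iff :
    ShortComplex.QuasiIso φ ↔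
      (∀ y : S₂.X₂, S₂.g y = 0 → ∃ x : S₁.X₂, S₁.g x = 0 ∧ ∃ w : S₂.X₁, φ.τ₂ x - y = S₂.f w) ∧
      (∀ x : S₁.X₂, S₁.g x = 0 → (∃ w : S₂.X₁, φ.τ₂ x = S₂.f w) → ∃ v : S₁.X₁, S₁.f v = x) := by
  rw [ShortComplex.quasiIso_iff, ConcreteCategory.isIso_iff_bijective]
  constructor
  · rintro ⟨hinj, hsurj⟩
    refine ⟨fun y hy => ?_, fun x hx ⟨w, hw⟩ => ?_⟩
    · obtain ⟨z₂, hz₂⟩ := exists_iCycles_eq S₂ y hy
      obtain ⟨ξ, hξ⟩ := hsurj (S₂.homologyπ z₂)
      obtain ⟨z₁, rfl⟩ := homologyπ_surjective S₁ ξ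
      rw [homologyMap_homologyπ] at hξ
      have h0 : S₂.homologyπ (ShortComplex.cyclesMap φ z₁ - z₂) = 0 := by
        rw [map_sub, hξ, sub_self]
      obtain ⟨w, hw⟩ := exists_toCycles_eq S₂ _ h0
      refine ⟨S₁.iCycles z₁, g_iCycles S₁ z₁, w, ?_⟩
      have := congrArg S₂.iCycles hw
      rw [iCycles_toCycles, map_sub, iCycles_cyclesMap, hz₂] at this
      exact this.symm
    · obtain ⟨z₁, hz₁⟩ := exists_iCycles_eq S₁ x hx
      have h1 : ShortComplex.cyclesMap φ z₁ = S₂.toCycles w := by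
        apply iCycles_injective S₂
        rw [iCycles_cyclesMap, iCycles_toCycles, hz₁, hw]
      have h2 : ShortComplex.homologyMap φ (S₁.homologyπ z₁) = 0 := by
        rw [homologyMap_homologyπ, h1, homologyπ_toCycles]
      have h3 : S₁.homologyπ z₁ = 0 := hinj (by rw [h2, map_zero])
      obtain ⟨v, hv⟩ := exists_toCycles_eq S₁ _ h3
      refine ⟨v, ?_⟩
      rw [← iCycles_toCycles, hv, hz₁]
  · rintro ⟨hs, hi⟩
    constructor
    · rw [injective_iff_map_eq_zero]
      intro ξ hξ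
      obtain ⟨z₁, rfl⟩ := homologyπ_surjective S₁ ξ
      rw [homologyMap_homologyπ] at hξ
      obtain ⟨w, hw⟩ := exists_toCycles_eq S₂ _ hξ
      obtain ⟨v, hv⟩ := hi (S₁.iCycles z₁) (g_iCycles S₁ z₁)
        ⟨w, by rw [← iCycles_cyclesMap, ← hw, iCycles_toCycles]⟩
      have : S₁.toCycles v = z₁ := by
        apply iCycles_injective S₁
        rw [iCycles_toCycles, hv]
      rw [← this, homologyπ_toCycles]
    · intro η
      obtain ⟨z₂, rfl⟩ := homologyπ_surjective S₂ η
      obtain ⟨x, hx, w, hw⟩ := hs (S₂.iCycles z₂) (g_iCycles S₂ z₂)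
      obtain ⟨z₁, hz₁⟩ := exists_iCycles_eq S₁ x hx
      refine ⟨S₁.homologyπ z₁, ?_⟩
      rw [homologyMap_homologyπ]
      have : ShortComplex.cyclesMap φ z₁ = z₂ + S₂.toCycles w := by
        apply iCycles_injective S₂
        rw [iCycles_cyclesMap, hz₁, map_add, iCycles_toCycles, ← hw]; abel
      rw [this, map_add, homologyπ_toCycles, add_zero]

end Groth.Agent.Lib.Helper70.AbQis
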