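import Groth.Agent.Lib.Helper70.DiffSmoothChar0
import Mathlib.RingTheory.MvPolynomial.Ideal

/-!
# More on symmetric powers (helper70)

* `hom_ext` (linear maps out of `Sym` agreeing on `tprod`s), `map f` (functoriality), `map_tprod`,
  `map_injective_of_leftInverse`.
* For a basis `e : Basis J R M`: `monoS e ι' q` (symmetric monomials indexed by multiplicity vectors),
  `span_monoS`, `toPoly_monoS`, `mk_toPoly_injective`
  (`Sym^N M → R[X_J]/(X)^(N+1)`, `⨂ₛ m_k ↦ ∏ ∑_j e_j^*(m_k) X_j`, is injective).
-/

set_option autoImplicit false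
set_option linter.unusedSectionVars false
universe u v w
open scoped TensorProduct

namespace Groth.Agent.Lib.Helper70.SymPow2

open Groth.Agent.Lib.Helper70 Groth.Agent.Lib.Helper70.CanonSym
open Groth.Agent.Lib.Helper70.DiffSmoothChar0 (cntS Q rep cnt_rep)
open Groth.Agent.Lib.Helper70.DiffSmoothOfOps (injective_of_span_of_li)

section map

variable {R ι : Type u} [CommRing R] {M : Type v} [AddCommGroup M] [Module R M]
  {M' : Type w} [AddCommGroup M'] [Module R M'] {N : Type*} [AddCommGroup N] [Module R N]

theorem hom_ext {f g : SymmetricPower R ι M →ₗ[R] N}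
    (h : ∀ m : ι → M, f (SymmetricPower.tprod R m) = g (SymmetricPower.tprod R m)) : f = g := by
  apply LinearMap.ext_on (SymmetricPower.span_tprod_eq_top R ι M)
  rintro _ ⟨m, rfl⟩
  exact h m

/-- functoriality of the symmetric power. -/
noncomputable def map (f : M →ₗ[R] M') : SymmetricPower R ι M →ₗ[R] SymmetricPower R ι M' :=
  SymPow.lift ((SymmetricPower.tprod R (ι := ι) (M := M')).compLinearMap (fun _ => f))
    (by
      intro e m
      simp only [MultilinearMap.compLinearMap_apply]
      exact SymmetricPower.tprod_equiv e (fun i => f (m i)))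

theorem map_tprod (f : M →ₗ[R] M') (m : ι → M) :
    map f (SymmetricPower.tprod R m) = SymmetricPower.tprod R (fun i => f (m i)) := by
  rw [map, SymPow.lift_tprod]
  simp only [MultilinearMap.compLinearMap_apply]

theorem map_injective_of_leftInverse (f : M →ₗ[R] M') (p : M' →ₗ[R] M)
    (h : ∀ m, p (f m) = m) : Function.Injective (map (ι := ι) f) := by
  have hid : (map (ι := ι) p) ∘ₗ (map (ι := ι) f) = LinearMap.id := by
    apply hom_ext
    intro m
    rw [LinearMap.comp_apply, map_tprod, map_tprod, LinearMap.id_apply]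
    simp only [h]
  intro x y hxy
  have := congrArg (map (ι := ι) p) hxy
  rwa [← LinearMap.comp_apply, ← LinearMap.comp_apply, hid] at this

end map

section free

variable {R : Type u} [CommRing R] {M : Type v} [AddCommGroup M] [Module R M]
  {J : Type u} [DecidableEq J] (e : Module.Basis J R M)
  (ι' : Type u) [Fintype ι'] [DecidableEq ι']

/-- the symmetric monomials in a basis, indexed by multiplicity vectors. -/
noncomputable def monoS (q : Q J ι') : SymmetricPower R ι' M :=
  SymmetricPower.tprod R (fun k => e (rep ι' q k))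

theorem span_monoS : Submodule.span R (Set.range (monoS e ι')) = ⊤ := by
  rw [eq_top_iff, ← SymmetricPower.span_tprod_eq_top, Submodule.span_le]
  rintro _ ⟨ω, rfl⟩
  refine Submodule.span_le.mpr ?_ (tprod_mem_span_basis ι' e ω)
  rintro _ ⟨g, rfl⟩
  apply Submodule.subset_span
  refine ⟨⟨cntS g Finset.univ, g, rfl⟩, ?_⟩
  rw [monoS]
  apply tprod_eq_of_card_eq ι' (fun j => e j)
  intro j
  exact congrFun (cnt_rep ι' ⟨cntS g Finset.univ, g, rfl⟩) j

/-- exponent vector of `g`. -/
noncomputable def expo (g : ι' → J) : J →₀ ℕ := ∑ k, Finsupp.single (g k) 1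

theorem expo_apply (g : ι' → J) (j : J) : expo ι' g j = cntS g Finset.univ j := by
  rw [expo, Finsupp.finset_sum_apply, cntS, Finset.card_filter]
  refine Finset.sum_congr rfl fun k _ => ?_
  rw [Finsupp.single_apply]

theorem expo_degree (g : ι' → J) : (expo ι' g).degree = Fintype.card ι' := by
  rw [expo, map_sum]
  simp [Finsupp.degree_single]

theorem toPoly_monoS (q : Q J ι') :
    SymPow.toPoly e (monoS e ι' q) = MvPolynomial.monomial (expo ι' (rep ι' q)) 1 := by
  rw [monoS, SymPow.toPoly_tprod_basis, expo, MvPolynomial.monomial_sum_one]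
  rfl

theorem expo_rep_injective : Function.Injective (fun q : Q J ι' => expo ι' (rep ι' q)) := by
  intro q q' h
  apply Subtype.ext
  funext j
  have := DFunLike.congr_fun h j
  simp only [expo_apply, cnt_rep] at this
  exact this

/-- `Sym^N` of a free module embeds into the truncated polynomial ring. -/
theorem mk_toPoly_injective :
    Function.Injective ((Ideal.Quotient.mkₐ R
      (MvPolynomial.idealOfVars J R ^ (Fintype.card ι' + 1))).toLinearMap ∘ₗ SymPow.toPoly e :
        SymmetricPower R ι' M →ₗ[R] _) := by
  apply injective_of_span_of_li _ (monoS e ι') (span_monoS e ι')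
  rw [linearIndependent_iff']
  intro F a ha q₀ hq₀
  simp only [Function.comp_apply, LinearMap.comp_apply, toPoly_monoS,
    AlgHom.toLinearMap_apply] at ha
  have hmem : ∑ q ∈ F, a q • MvPolynomial.monomial (expo ι' (rep ι' q)) (1 : R) ∈
      MvPolynomial.idealOfVars J R ^ (Fintype.card ι' + 1) := by
    rw [← Ideal.Quotient.eq_zero_iff_mem]
    change Ideal.Quotient.mkₐ R (MvPolynomial.idealOfVars J R ^ (Fintype.card ι' + 1)) _ = 0
    rw [map_sum]
    simp only [map_smul]
    exact ha
  rw [MvPolynomial.mem_pow_idealOfVars_iff'] at hmem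
  have h0 := hmem (expo ι' (rep ι' q₀)) (by rw [expo_degree]; omega)
  rw [MvPolynomial.coeff_sum] at h0
  simp only [MvPolynomial.coeff_smul, MvPolynomial.coeff_monomial, smul_eq_mul, mul_ite, mul_one,
    mul_zero] at h0
  rw [Finset.sum_eq_single q₀] at h0
  · simpa using h0
  · intro q _ hq
    rw [if_neg]
    intro h
    exact hq (expo_rep_injective ι' h)
  · intro h
    exact absurd hq₀ h

end free

end Groth.Agent.Lib.Helper70.SymPow2
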