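import Groth.Prelude.Def_PP16
import Groth.Agent.Lib.Helper70.SymPow2
import Mathlib.RingTheory.Smooth.Basic

/-!
# Formally smooth ⇒ differentially smooth (helper70)

`T J B n = B[X_J]/(X)^(n+1)`. For `Λ : Ω →ₗ[B] B[X_J]` with values in `(X)`:
`tau b = b + Λ(db)` is multiplicative mod `(X)²` (`theta1 : B →ₐ[A] T J B 1`); formal smoothness lifts it to
`theta : B →ₐ[A] T J B N` (`theta_spec`); `Theta : B ⊗ B →ₐ[B] T J B N`, `b ⊗ c ↦ b θ(c)`, satisfies
`Theta x ≡ Λ(κ x) mod (X)²` on `I` (`Theta_spec`), kills `I^(N+1)`, and induces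
`ThetaBar : I^N/I^(N+1) → T J B N` with `ThetaBar ∘ phi = mk ∘ toPoly ∘ Sym(s)` (`compare`), which is
injective when `Λ = toLin e ∘ s` for a split injection `s` of `Ω` into a free module. Hence
`phi_injective` and `main` (= S3820).
-/

set_option autoImplicit false
set_option linter.unusedSectionVars false
universe u v w
open scoped TensorProduct

namespace Groth.Agent.Lib.Helper70.DiffSmoothFS

open Groth.Agent.Lib.Helper70 Groth.Agent.Lib.Helper70.CanonSym
open Groth.Agent.Lib.Helper70.DiffSmoothOfOps (prod_sub_prod_mem)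
open Groth.Agent.Lib.Helper23 (gen gen_mem)
open MvPolynomial

section setup

variable (A B : Type u) [CommRing A] [CommRing B] [Algebra A B] {J : Type u}
  (Λ : KaehlerDifferential A B →ₗ[B] MvPolynomial J B)
  (hΛ : ∀ ω, Λ ω ∈ idealOfVars J B)

/-- the truncated polynomial ring. -/
abbrev T (J : Type u) (B : Type u) [CommRing B] (n : ℕ) : Type u :=
  MvPolynomial J B ⧸ (idealOfVars J B ^ (n + 1))

/-- `b ↦ b + Λ(db)`. -/
noncomputable def tau : B →ₗ[A] MvPolynomial J B :=
  (Algebra.linearMap B (MvPolynomial J B)).restrictScalars A +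
    (Λ.restrictScalars A) ∘ₗ (KaehlerDifferential.D A B).toLinearMap

theorem tau_apply (b : B) : tau A B Λ b = C b + Λ (KaehlerDifferential.D A B b) := rfl

include hΛ in
theorem tau_mul_sub (b c : B) :
    tau A B Λ (b * c) - tau A B Λ b * tau A B Λ c ∈ idealOfVars J B ^ 2 := by
  have e : tau A B Λ (b * c) - tau A B Λ b * tau A B Λ c =
      -(Λ (KaehlerDifferential.D A B b) * Λ (KaehlerDifferential.D A B c)) := by
    simp only [tau_apply, Derivation.leibniz, map_add, map_smul, map_mul, smul_eq_C_mul]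
    ring
  rw [e, pow_two]
  exact Ideal.neg_mem_iff _ |>.mpr (Ideal.mul_mem_mul (hΛ _) (hΛ _))

theorem tau_one : tau A B Λ 1 = 1 := by
  rw [tau_apply, Derivation.map_one_eq_zero, map_zero, add_zero, map_one]

/-- `θ₁ : B → B[X]/(X)²`. -/
noncomputable def theta1 : B →ₐ[A] T J B 1 :=
  AlgHom.ofLinearMap ((Ideal.Quotient.mkₐ A (idealOfVars J B ^ (1 + 1))).toLinearMap ∘ₗ tau A B Λ)
    (by
      rw [LinearMap.comp_apply, tau_one, AlgHom.toLinearMap_apply, map_one])
    (by
      intro b c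
      simp only [LinearMap.comp_apply, AlgHom.toLinearMap_apply]
      rw [← map_mul, ← sub_eq_zero, ← map_sub]
      exact Ideal.Quotient.eq_zero_iff_mem.mpr (tau_mul_sub A B Λ hΛ b c))

theorem theta1_apply (b : B) :
    theta1 A B Λ hΛ b = Ideal.Quotient.mk (idealOfVars J B ^ (1 + 1)) (tau A B Λ b) := rfl

variable [Algebra.FormallySmooth A B] (N : ℕ)

/-- the transition map `B[X]/(X)^(N+2) → B[X]/(X)²`. -/
noncomputable def gmap : T J B (N + 1) →ₐ[A] T J B 1 :=
  Ideal.Quotient.factorₐ A (Ideal.pow_le_pow_right (by omega))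

theorem gmap_mk (p : MvPolynomial J B) :
    gmap A B N (Ideal.Quotient.mk (idealOfVars J B ^ (N + 1 + 1)) p) =
      Ideal.Quotient.mk (idealOfVars J B ^ (1 + 1)) p := rfl

theorem gmap_surjective : Function.Surjective (gmap (J := J) A B N) := by
  intro y
  obtain ⟨p, rfl⟩ := Ideal.Quotient.mk_surjective y
  exact ⟨Ideal.Quotient.mk _ p, rfl⟩

theorem gmap_ker_nilpotent : IsNilpotent (RingHom.ker (gmap (J := J) A B N : T J B (N + 1) →+* T J B 1)) := by
  refine ⟨N + 1 + 1, ?_⟩
  rw [Ideal.zero_eq_bot, eq_bot_iff]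
  have hle : RingHom.ker (gmap (J := J) A B N : T J B (N + 1) →+* T J B 1) ≤
      (idealOfVars J B).map (Ideal.Quotient.mk (idealOfVars J B ^ (N + 1 + 1))) := by
    intro x hx
    obtain ⟨p, rfl⟩ := Ideal.Quotient.mk_surjective x
    rw [RingHom.mem_ker] at hx
    have hx' : Ideal.Quotient.mk (idealOfVars J B ^ (1 + 1)) p = 0 := hx
    rw [Ideal.Quotient.eq_zero_iff_mem] at hx'
    exact Ideal.mem_map_of_mem _ (Ideal.pow_le_self (by omega) hx')
  refine (Ideal.pow_right_mono hle _).trans ?_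
  rw [← Ideal.map_pow, Ideal.map_quotient_self]

/-- a lift `B → B[X]/(X)^(N+2)` of `θ₁`. -/
noncomputable def theta' : B →ₐ[A] T J B (N + 1) :=
  Algebra.FormallySmooth.liftOfSurjective (theta1 A B Λ hΛ) (gmap A B N) (gmap_surjective A B N)
    (gmap_ker_nilpotent A B N)

theorem gmap_theta' (b : B) : gmap A B N (theta' A B Λ hΛ N b) = theta1 A B Λ hΛ b :=
  Algebra.FormallySmooth.liftOfSurjective_apply _ _ _ _ b

/-- `θ : B → B[X]/(X)^(N+1)`. -/
noncomputable def theta : B →ₐ[A] T J B N :=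
  (Ideal.Quotient.factorₐ A (Ideal.pow_le_pow_right (by omega)) :
    T J B (N + 1) →ₐ[A] T J B N).comp (theta' A B Λ hΛ N)

theorem theta_spec (c : B) : ∃ p : MvPolynomial J B,
    theta A B Λ hΛ N c = Ideal.Quotient.mk (idealOfVars J B ^ (N + 1)) p ∧
      p - tau A B Λ c ∈ idealOfVars J B ^ 2 := by
  obtain ⟨p, hp⟩ := Ideal.Quotient.mk_surjective (theta' A B Λ hΛ N c)
  refine ⟨p, ?_, ?_⟩
  · rw [theta, AlgHom.comp_apply, ← hp]
    rfl
  · have h := gmap_theta' A B Λ hΛ N c
    rw [← hp, gmap_mk, theta1_apply, ← sub_eq_zero, ← map_sub,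
      Ideal.Quotient.eq_zero_iff_mem] at h
    exact h

/-- `Θ : B ⊗ B → B[X]/(X)^(N+1)`, `b ⊗ c ↦ b · θ(c)`. -/
noncomputable def Theta : B ⊗[A] B →ₐ[B] T J B N :=
  Algebra.TensorProduct.lift (Algebra.ofId B (T J B N)) (theta A B Λ hΛ N)
    (fun _ _ => Commute.all _ _)

theorem Theta_tmul (b c : B) :
    Theta A B Λ hΛ N (b ⊗ₜ[A] c) = algebraMap B (T J B N) b * theta A B Λ hΛ N c := by
  rw [Theta, Algebra.TensorProduct.lift_tmul]
  rfl

theorem algebraMap_T (b : B) :
    algebraMap B (T J B N) b = Ideal.Quotient.mk (idealOfVars J B ^ (N + 1)) (C b) := rfl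

/-- key: on `I`, `Θ` is `Λ ∘ κ` modulo `(X)²`. -/
theorem Theta_spec (x : B ⊗[A] B) (hx : x ∈ KaehlerDifferential.ideal A B) :
    ∃ p : MvPolynomial J B,
      Theta A B Λ hΛ N x = Ideal.Quotient.mk (idealOfVars J B ^ (N + 1)) p ∧
        p - Λ (KaehlerDifferential.fromIdeal A B ⟨x, hx⟩) ∈ idealOfVars J B ^ 2 := by
  have hx' : x ∈ Submodule.span B
      (Set.range fun s : B => (1 : B) ⊗ₜ[A] s - s ⊗ₜ[A] (1 : B)) := by
    rw [KaehlerDifferential.submodule_span_range_eq_ideal]
    exact hx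
  have hmem : ∀ y ∈ Submodule.span B
      (Set.range fun s : B => (1 : B) ⊗ₜ[A] s - s ⊗ₜ[A] (1 : B)),
      y ∈ KaehlerDifferential.ideal A B := by
    intro y hy
    rw [KaehlerDifferential.submodule_span_range_eq_ideal] at hy
    exact hy
  have key : ∃ (p : MvPolynomial J B) (ω : KaehlerDifferential A B),
      Theta A B Λ hΛ N x = Ideal.Quotient.mk (idealOfVars J B ^ (N + 1)) p ∧
        p - Λ ω ∈ idealOfVars J B ^ 2 ∧
        ∀ h : x ∈ KaehlerDifferential.ideal A B,
          KaehlerDifferential.fromIdeal A B ⟨x, h⟩ = ω := by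
    clear hx
    induction hx' using Submodule.span_induction with
    | mem y hy =>
      obtain ⟨c, rfl⟩ := hy
      obtain ⟨p, hp1, hp2⟩ := theta_spec A B Λ hΛ N c
      refine ⟨p - C c, KaehlerDifferential.D A B c, ?_, ?_, fun _ => rfl⟩
      · simp only [map_sub, Theta_tmul, map_one, one_mul, mul_one, hp1, algebraMap_T]
      · have : p - C c - Λ (KaehlerDifferential.D A B c) = p - tau A B Λ c := by
          rw [tau_apply]
          ring
        rw [this]
        exact hp2
    | zero =>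
      refine ⟨0, 0, by simp, by simp, fun _ => ?_⟩
      exact map_zero _
    | add y y' hy hy' ihy ihy' =>
      obtain ⟨p, ω, h1, h2, h3⟩ := ihy
      obtain ⟨p', ω', h1', h2', h3'⟩ := ihy'
      refine ⟨p + p', ω + ω', ?_, ?_, fun h => ?_⟩
      · rw [map_add, map_add, h1, h1']
      · have : p + p' - Λ (ω + ω') = (p - Λ ω) + (p' - Λ ω') := by
          rw [map_add]
          ring
        rw [this]
        exact Ideal.add_mem _ h2 h2'
      · rw [← h3 (hmem y hy), ← h3' (hmem y' hy'), ← map_add]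
        rfl
    | smul b y hy ihy =>
      obtain ⟨p, ω, h1, h2, h3⟩ := ihy
      refine ⟨C b * p, b • ω, ?_, ?_, fun h => ?_⟩
      · rw [map_smul, h1]
        change Ideal.Quotient.mk (idealOfVars J B ^ (N + 1)) (b • p) = _
        rw [smul_eq_C_mul]
      · have : C b * p - Λ (b • ω) = C b * (p - Λ ω) := by
          rw [map_smul, smul_eq_C_mul]
          ring
        rw [this]
        exact Ideal.mul_mem_left _ _ h2
      · rw [← h3 (hmem y hy), ← LinearMap.map_smul_of_tower]
        rfl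
  obtain ⟨p, ω, h1, h2, h3⟩ := key
  exact ⟨p, h1, by rw [h3 hx]; exact h2⟩

theorem Theta_mem (x : B ⊗[A] B) (hx : x ∈ KaehlerDifferential.ideal A B) :
    Theta A B Λ hΛ N x ∈
      (idealOfVars J B).map (Ideal.Quotient.mk (idealOfVars J B ^ (N + 1))) := by
  obtain ⟨p, hp1, hp2⟩ := Theta_spec A B Λ hΛ N x hx
  rw [hp1]
  apply Ideal.mem_map_of_mem
  have : p = (p - Λ (KaehlerDifferential.fromIdeal A B ⟨x, hx⟩)) +
      Λ (KaehlerDifferential.fromIdeal A B ⟨x, hx⟩) := by ring
  rw [this]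
  exact Ideal.add_mem _ (Ideal.pow_le_self (by omega) hp2) (hΛ _)

theorem Theta_pow_eq_zero (y : B ⊗[A] B) (hy : y ∈ KaehlerDifferential.ideal A B ^ (N + 1)) :
    Theta A B Λ hΛ N y = 0 := by
  have h1 : Theta A B Λ hΛ N y ∈
      Ideal.map (Theta A B Λ hΛ N).toRingHom (KaehlerDifferential.ideal A B ^ (N + 1)) :=
    Ideal.mem_map_of_mem _ hy
  rw [Ideal.map_pow] at h1
  have hle : Ideal.map (Theta A B Λ hΛ N).toRingHom (KaehlerDifferential.ideal A B) ≤
      (idealOfVars J B).map (Ideal.Quotient.mk (idealOfVars J B ^ (N + 1))) := by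
    rw [Ideal.map_le_iff_le_comap]
    intro x hx
    exact Theta_mem A B Λ hΛ N x hx
  have h2 := Ideal.pow_right_mono hle (N + 1) h1
  rw [← Ideal.map_pow, Ideal.map_quotient_self] at h2
  exact h2

/-- `Θ̄ : I^N/I^(N+1) → B[X]/(X)^(N+1)`. -/
noncomputable def ThetaBar : PP16.grI A B N →ₗ[B] T J B N :=
  Submodule.liftQ _ ((Theta A B Λ hΛ N).toLinearMap ∘ₗ
    Submodule.subtype ((KaehlerDifferential.ideal A B ^ N).restrictScalars B)) (by
    intro x hx
    rw [Submodule.mem_comap, Submodule.restrictScalars_mem] at hx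
    rw [LinearMap.mem_ker, LinearMap.comp_apply]
    exact Theta_pow_eq_zero A B Λ hΛ N _ hx)

theorem ThetaBar_mk (y : B ⊗[A] B)
    (hy : y ∈ (KaehlerDifferential.ideal A B ^ N).restrictScalars B) :
    ThetaBar A B Λ hΛ N (Submodule.Quotient.mk ⟨y, hy⟩) = Theta A B Λ hΛ N y := rfl

end setup

section compare

variable (A B : Type u) [CommRing A] [CommRing B] [Algebra A B] [Algebra.FormallySmooth A B]
  {J : Type u} [DecidableEq J] {F : Type u} [AddCommGroup F] [Module B F]
  (e : Module.Basis J B F) (s : KaehlerDifferential A B →ₗ[B] F)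
  (L : KaehlerDifferential A B →ₗ[B] KaehlerDifferential.ideal A B)
  (hL : ∀ ω, KaehlerDifferential.fromIdeal A B (L ω) = ω)
  (ι' : Type u) [Fintype ι'] [DecidableEq ι']

theorem toLin_mem (v : F) : SymPow.toLin e v ∈ idealOfVars J B := by
  rw [SymPow.toLin, Module.Basis.constr_apply, Finsupp.sum]
  apply Ideal.sum_mem
  intro j _
  rw [smul_eq_C_mul]
  exact Ideal.mul_mem_left _ _ (Ideal.subset_span ⟨j, rfl⟩)

/-- `Λ = (v ↦ ∑ v_j X_j) ∘ s`. -/
noncomputable def Lam : KaehlerDifferential A B →ₗ[B] MvPolynomial J B := SymPow.toLin e ∘ₗ s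

theorem Lam_mem (ω : KaehlerDifferential A B) : Lam A B e s ω ∈ idealOfVars J B :=
  toLin_mem B e (s ω)

include hL in
theorem compare :
    ThetaBar A B (Lam A B e s) (Lam_mem A B e s) (Fintype.card ι') ∘ₗ phi A B L ι' =
      ((Ideal.Quotient.mkₐ B (idealOfVars J B ^ (Fintype.card ι' + 1))).toLinearMap ∘ₗ
        SymPow.toPoly e) ∘ₗ SymPow2.map s := by
  apply SymPow2.hom_ext
  intro ω
  rw [LinearMap.comp_apply, LinearMap.comp_apply, LinearMap.comp_apply, phi_tprod, ThetaBar_mk,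
    mu0_apply, map_prod, SymPow2.map_tprod, SymPow.toPoly_tprod, AlgHom.toLinearMap_apply]
  have hsp : ∀ k, ∃ p : MvPolynomial J B,
      Theta A B (Lam A B e s) (Lam_mem A B e s) (Fintype.card ι') (Lin A B L (ω k)) =
        Ideal.Quotient.mk (idealOfVars J B ^ (Fintype.card ι' + 1)) p ∧
        p - Lam A B e s (ω k) ∈ idealOfVars J B ^ 2 := by
    intro k
    obtain ⟨p, hp1, hp2⟩ := Theta_spec A B (Lam A B e s) (Lam_mem A B e s) (Fintype.card ι')
      (Lin A B L (ω k)) (Lin_mem A B L (ω k))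
    refine ⟨p, hp1, ?_⟩
    have : KaehlerDifferential.fromIdeal A B ⟨Lin A B L (ω k), Lin_mem A B L (ω k)⟩ = ω k :=
      hL (ω k)
    rwa [this] at hp2
  choose p hp1 hp2 using hsp
  simp only [hp1]
  rw [← map_prod]
  change _ = Ideal.Quotient.mk (idealOfVars J B ^ (Fintype.card ι' + 1))
    (∏ k, SymPow.toLin e (s (ω k)))
  rw [← sub_eq_zero, ← map_sub, Ideal.Quotient.eq_zero_iff_mem, ← Finset.card_univ]
  apply prod_sub_prod_mem
  · intro k _
    exact toLin_mem B e (s (ω k))
  · intro k _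
    have : p k = (p k - Lam A B e s (ω k)) + Lam A B e s (ω k) := by ring
    rw [this]
    exact Ideal.add_mem _ (Ideal.pow_le_self (by omega) (hp2 k)) (Lam_mem A B e s _)
  · intro k _
    exact hp2 k

include e hL in
theorem phi_injective (pr : F →ₗ[B] KaehlerDifferential A B) (hpr : ∀ ω, pr (s ω) = ω) :
    Function.Injective (phi A B L ι') := by
  have hinj : Function.Injective
      (((Ideal.Quotient.mkₐ B (idealOfVars J B ^ (Fintype.card ι' + 1))).toLinearMap ∘ₗ
        SymPow.toPoly e) ∘ₗ SymPow2.map (ι := ι') s) := by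
    rw [LinearMap.coe_comp]
    exact (SymPow2.mk_toPoly_injective e ι').comp
      (SymPow2.map_injective_of_leftInverse s pr hpr)
  rw [← compare A B e s L hL ι', LinearMap.coe_comp] at hinj
  exact Function.Injective.of_comp hinj

end compare

theorem main (A B : Type u) [CommRing A] [CommRing B] [Algebra A B]
    [Algebra.FormallySmooth A B] : PP16.IsDiffSmooth A B := by
  classical
  have hproj : Module.Projective B (KaehlerDifferential A B) := inferInstance
  obtain ⟨L, hL⟩ := exists_section A B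
  obtain ⟨s, hs⟩ := (Module.projective_def (R := B) (P := KaehlerDifferential A B)).mp hproj
  refine ⟨hproj, ?_⟩
  intro ι' _
  exact ⟨phi A B L ι', phi_D A B L hL ι',
    phi_injective A B (Finsupp.basisSingleOne (R := B) (ι := KaehlerDifferential A B)) s L hL ι'
      (Finsupp.linearCombination B id) hs,
    phi_surjective A B L hL ι'⟩

end Groth.Agent.Lib.Helper70.DiffSmoothFS
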