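import Groth.Agent.Lib.Helper70.QReg7
import Groth.Agent.Lib.Helper70.DiffSmoothFS
import Mathlib.RingTheory.Smooth.Basic

set_option autoImplicit false
set_option linter.unusedSectionVars false
universe u v w
open scoped TensorProduct Pointwise

namespace Groth.Agent.Lib.Helper70.AdicFS1

open Groth.Agent.Lib.Helper70 Groth.Agent.Lib.Helper70.QReg1 Groth.Agent.Lib.Helper70.QReg3
open PP16 MvPolynomial

variable {A B : Type u} [CommRing A] [CommRing B] [Algebra A B] (J : Ideal B)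

section lift

theorem lift_of_surjective (h : CAlgX.IsAdicFormallySmooth A B J) {E E' : Type u} [CommRing E]
    [CommRing E'] [Algebra A E] [Algebra A E'] (g : E →ₐ[A] E') (hg : Function.Surjective g)
    (hk : RingHom.ker g ^ 2 = ⊥) (ψ : B →ₐ[A] E') (hψ : ∃ k : ℕ, ∀ x ∈ J ^ k, ψ x = 0) :
    ∃ χ : B →ₐ[A] E, g.comp χ = ψ := by
  obtain ⟨χ, hχ⟩ := h E (RingHom.ker g) hk
    ((Ideal.quotientKerAlgEquivOfSurjective hg).symm.toAlgHom.comp ψ) (by
      obtain ⟨k, hk⟩ := hψ
      refine ⟨k, fun x hx => ?_⟩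
      rw [AlgHom.comp_apply, hk x hx, map_zero])
  refine ⟨χ, AlgHom.ext fun b => ?_⟩
  have h1 := AlgHom.congr_fun hχ b
  rw [AlgHom.comp_apply, AlgHom.comp_apply] at h1
  have h2 := congrArg (Ideal.quotientKerAlgEquivOfSurjective hg) h1
  rw [AlgHom.comp_apply]
  change g (χ b) = ψ b
  simpa using h2

end lift

section deriv

variable [Algebra.FormallySmooth A (B ⧸ J)]

/-- `B/J² → B/J`. -/
noncomputable def pSq : (B ⧸ J ^ 2) →ₐ[A] (B ⧸ J) :=
  Ideal.Quotient.factorₐ A (Ideal.pow_le_self (by omega))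

theorem pSq_mk (b : B) : pSq (A := A) J (Ideal.Quotient.mk _ b) = Ideal.Quotient.mk _ b := rfl

theorem pSq_surjective : Function.Surjective (pSq (A := A) J) := by
  intro y
  obtain ⟨b, rfl⟩ := Ideal.Quotient.mk_surjective y
  exact ⟨Ideal.Quotient.mk _ b, rfl⟩

theorem ker_pSq_le : RingHom.ker (pSq (A := A) J) ≤ J.map (Ideal.Quotient.mk (J ^ 2)) := by
  intro x hx
  obtain ⟨b, rfl⟩ := Ideal.Quotient.mk_surjective x
  rw [RingHom.mem_ker, pSq_mk, Ideal.Quotient.eq_zero_iff_mem] at hx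
  exact Ideal.mem_map_of_mem _ hx

theorem pSq_ker_nilpotent : IsNilpotent (RingHom.ker (pSq (A := A) J : (B ⧸ J ^ 2) →+* (B ⧸ J))) := by
  refine ⟨2, ?_⟩
  rw [Ideal.zero_eq_bot, eq_bot_iff]
  refine (Ideal.pow_right_mono (ker_pSq_le (A := A) J) _).trans ?_
  rw [← Ideal.map_pow, Ideal.map_quotient_self]

/-- a section of `B/J² → B/J`. -/
noncomputable def sigSq : (B ⧸ J) →ₐ[A] (B ⧸ J ^ 2) :=
  Algebra.FormallySmooth.liftOfSurjective (AlgHom.id A (B ⧸ J)) (pSq J) (pSq_surjective J)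
    (pSq_ker_nilpotent J)

theorem pSq_sigSq (c : B ⧸ J) : pSq (A := A) J (sigSq (A := A) J c) = c :=
  Algebra.FormallySmooth.liftOfSurjective_apply _ _ _ _ c

/-- `δ b = [b] - σ(b̄)`. -/
noncomputable def del (b : B) : B ⧸ J ^ 2 :=
  Ideal.Quotient.mk _ b - sigSq (A := A) J (Ideal.Quotient.mk _ b)

theorem exists_cot (y : B ⧸ J ^ 2) (hy : pSq (A := A) J y = 0) :
    ∃ v : J.Cotangent, J.cotangentToQuotientSquare v = y := by
  obtain ⟨b, rfl⟩ := Ideal.Quotient.mk_surjective y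
  rw [pSq_mk, Ideal.Quotient.eq_zero_iff_mem] at hy
  exact ⟨J.toCotangent ⟨b, hy⟩, rfl⟩

theorem pSq_del (b : B) : pSq (A := A) J (del (A := A) J b) = 0 := by
  rw [del, map_sub, pSq_sigSq, pSq_mk, sub_self]

/-- the derivation `B → J/J²`. -/
noncomputable def Dfun (b : B) : J.Cotangent := Classical.choose (exists_cot (A := A) J _ (pSq_del J b))

theorem c2q_Dfun (b : B) : J.cotangentToQuotientSquare (Dfun (A := A) J b) = del (A := A) J b :=
  Classical.choose_spec (exists_cot (A := A) J _ (pSq_del J b))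

theorem c2q_mul_c2q (v w : J.Cotangent) :
    J.cotangentToQuotientSquare v * J.cotangentToQuotientSquare w = 0 := by
  obtain ⟨x, rfl⟩ := J.toCotangent_surjective v
  obtain ⟨y, rfl⟩ := J.toCotangent_surjective w
  rw [Ideal.toCotangent_to_quotient_square, Ideal.toCotangent_to_quotient_square]
  change Ideal.Quotient.mk _ (x : B) * Ideal.Quotient.mk _ (y : B) = 0
  rw [← map_mul, Ideal.Quotient.eq_zero_iff_mem, pow_two]
  exact Ideal.mul_mem_mul x.2 y.2

theorem Dfun_add (b c : B) : Dfun (A := A) J (b + c) = Dfun (A := A) J b + Dfun (A := A) J c := by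
  apply J.cotangentToQuotientSquare_injective
  rw [map_add, c2q_Dfun, c2q_Dfun, c2q_Dfun, del, del, del]
  simp only [map_add]
  ring

theorem Dfun_smul (a : A) (b : B) : Dfun (A := A) J (a • b) = a • Dfun (A := A) J b := by
  apply J.cotangentToQuotientSquare_injective
  rw [← algebraMap_smul B a (Dfun (A := A) J b), map_smul, c2q_Dfun, c2q_Dfun, del, del,
    Algebra.smul_def, map_mul, map_mul, map_mul, Algebra.smul_def]
  have h1 : sigSq (A := A) J (Ideal.Quotient.mk J (algebraMap A B a)) =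
      Ideal.Quotient.mk (J ^ 2) (algebraMap A B a) := by
    have : Ideal.Quotient.mk J (algebraMap A B a) = algebraMap A (B ⧸ J) a := rfl
    rw [this, AlgHom.commutes]
    rfl
  rw [h1]
  change _ = Ideal.Quotient.mk (J ^ 2) (algebraMap A B a) * _
  ring

theorem Dfun_mul (b c : B) :
    Dfun (A := A) J (b * c) = b • Dfun (A := A) J c + c • Dfun (A := A) J b := by
  apply J.cotangentToQuotientSquare_injective
  have h0 := c2q_mul_c2q J (Dfun (A := A) J b) (Dfun (A := A) J c)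
  rw [map_add, map_smul, map_smul, c2q_Dfun, c2q_Dfun, c2q_Dfun] at *
  rw [del, del] at h0
  rw [del, del, del, Algebra.smul_def, Algebra.smul_def]
  simp only [map_mul]
  change _ = Ideal.Quotient.mk (J ^ 2) b * _ + Ideal.Quotient.mk (J ^ 2) c * _
  linear_combination (-1 : B ⧸ J ^ 2) * h0

theorem Dfun_mem (x : J) : Dfun (A := A) J x = J.toCotangent x := by
  apply J.cotangentToQuotientSquare_injective
  rw [c2q_Dfun, del, Ideal.toCotangent_to_quotient_square]
  have : Ideal.Quotient.mk J (x : B) = 0 := Ideal.Quotient.eq_zero_iff_mem.mpr x.2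
  rw [this, map_zero, sub_zero]
  rfl

/-- `D` as an `A`-linear map. -/
noncomputable def Dlin : B →ₗ[A] J.Cotangent where
  toFun := Dfun (A := A) J
  map_add' := Dfun_add J
  map_smul' := Dfun_smul J

theorem Dlin_apply (b : B) : Dlin (A := A) J b = Dfun (A := A) J b := rfl

theorem smul_cot (a : A) (v : J.Cotangent) : a • v = (algebraMap A (B ⧸ J) a) • v := by
  rw [← algebraMap_smul B a v, ← algebraMap_smul (B ⧸ J) (algebraMap A B a) v]
  rfl

theorem smul_cot' (b : B) (v : J.Cotangent) : b • v = (Ideal.Quotient.mk J b) • v :=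
  (algebraMap_smul (B ⧸ J) b v).symm

end deriv

section theta

variable [Algebra.FormallySmooth A (B ⧸ J)] {K : Type u}
  (Λ : J.Cotangent →ₗ[B ⧸ J] MvPolynomial K (B ⧸ J))
  (hΛ : ∀ v, Λ v ∈ idealOfVars K (B ⧸ J))

/-- the truncated polynomial ring. -/
abbrev Tn (K : Type u) (C : Type u) [CommRing C] (n : ℕ) : Type u :=
  MvPolynomial K C ⧸ (idealOfVars K C ^ (n + 1))

/-- `b ↦ b̄ + Λ(D b)`. -/
noncomputable def tau : B →ₗ[A] MvPolynomial K (B ⧸ J) where
  toFun b := C (Ideal.Quotient.mk J b) + Λ (Dfun (A := A) J b)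
  map_add' b c := by
    rw [map_add, map_add, Dfun_add, map_add]
    ring
  map_smul' a b := by
    simp only [RingHom.id_apply]
    have h1 : Λ (Dfun (A := A) J (a • b)) = C (algebraMap A (B ⧸ J) a) * Λ (Dfun (A := A) J b) := by
      rw [Dfun_smul, smul_cot, LinearMap.map_smul, smul_eq_C_mul]
    have h2 : (Ideal.Quotient.mk J (a • b)) = algebraMap A (B ⧸ J) a * Ideal.Quotient.mk J b := by
      rw [Algebra.smul_def, map_mul]
      rfl
    rw [h1, h2, map_mul, smul_add, Algebra.smul_def a (C _), Algebra.smul_def a (Λ _),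
      MvPolynomial.algebraMap_apply]

theorem tau_apply (b : B) :
    tau (A := A) J Λ b = C (Ideal.Quotient.mk J b) + Λ (Dfun (A := A) J b) := rfl

include hΛ in
theorem tau_mul_sub (b c : B) :
    tau (A := A) J Λ (b * c) - tau (A := A) J Λ b * tau (A := A) J Λ c ∈
      idealOfVars K (B ⧸ J) ^ 2 := by
  have e : tau (A := A) J Λ (b * c) - tau (A := A) J Λ b * tau (A := A) J Λ c =
      -(Λ (Dfun (A := A) J b) * Λ (Dfun (A := A) J c)) := by
    simp only [tau_apply, Dfun_mul, map_add, map_mul, smul_cot', map_smul, smul_eq_C_mul]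
    ring
  rw [e, pow_two]
  exact Ideal.neg_mem_iff _ |>.mpr (Ideal.mul_mem_mul (hΛ _) (hΛ _))

theorem Dfun_one : Dfun (A := A) J 1 = 0 := by
  have h := Dfun_mul (A := A) J 1 1
  rw [mul_one, one_smul] at h
  have : Dfun (A := A) J 1 + Dfun (A := A) J 1 = Dfun (A := A) J 1 + 0 := by rw [add_zero]; exact h.symm
  exact add_left_cancel this

theorem tau_one : tau (A := A) J Λ 1 = 1 := by
  rw [tau_apply, Dfun_one, map_zero, add_zero, map_one, map_one]

include hΛ in
theorem tau_mem (x : B) (hx : x ∈ J) : tau (A := A) J Λ x ∈ idealOfVars K (B ⧸ J) := by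
  rw [tau_apply, Ideal.Quotient.eq_zero_iff_mem.mpr hx, map_zero, zero_add]
  exact hΛ _

/-- `θ₁ : B → C[X]/(X)²`. -/
noncomputable def theta1 : B →ₐ[A] Tn K (B ⧸ J) 1 :=
  AlgHom.ofLinearMap ((Ideal.Quotient.mkₐ A (idealOfVars K (B ⧸ J) ^ (1 + 1))).toLinearMap ∘ₗ
      tau (A := A) J Λ)
    (by
      rw [LinearMap.comp_apply, tau_one, AlgHom.toLinearMap_apply, map_one])
    (by
      intro b c
      simp only [LinearMap.comp_apply, AlgHom.toLinearMap_apply]
      rw [← map_mul, ← sub_eq_zero, ← map_sub]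
      exact Ideal.Quotient.eq_zero_iff_mem.mpr (tau_mul_sub J Λ hΛ b c))

theorem theta1_apply (b : B) :
    theta1 (A := A) J Λ hΛ b =
      Ideal.Quotient.mk (idealOfVars K (B ⧸ J) ^ (1 + 1)) (tau (A := A) J Λ b) := rfl

/-- the transition map `C[X]/(X)^(n+3) → C[X]/(X)^(n+2)`. -/
noncomputable def gstep (n : ℕ) : Tn K (B ⧸ J) (n + 2) →ₐ[A] Tn K (B ⧸ J) (n + 1) :=
  Ideal.Quotient.factorₐ A (Ideal.pow_le_pow_right (by omega))

theorem gstep_mk (n : ℕ) (p : MvPolynomial K (B ⧸ J)) :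
    gstep (A := A) (K := K) J n (Ideal.Quotient.mk _ p) = Ideal.Quotient.mk _ p := rfl

theorem gstep_surjective (n : ℕ) : Function.Surjective (gstep (A := A) (K := K) J n) := by
  intro y
  obtain ⟨p, rfl⟩ := Ideal.Quotient.mk_surjective y
  exact ⟨Ideal.Quotient.mk _ p, rfl⟩

theorem gstep_ker_sq (n : ℕ) : RingHom.ker (gstep (A := A) (K := K) J n) ^ 2 = ⊥ := by
  rw [eq_bot_iff]
  have hle : RingHom.ker (gstep (A := A) (K := K) J n) ≤
      (idealOfVars K (B ⧸ J) ^ (n + 2)).map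
        (Ideal.Quotient.mk (idealOfVars K (B ⧸ J) ^ (n + 2 + 1))) := by
    intro x hx
    obtain ⟨p, rfl⟩ := Ideal.Quotient.mk_surjective x
    rw [RingHom.mem_ker, gstep_mk, Ideal.Quotient.eq_zero_iff_mem] at hx
    exact Ideal.mem_map_of_mem _ hx
  refine (Ideal.pow_right_mono hle _).trans ?_
  have h2 := Ideal.map_pow (Ideal.Quotient.mk (idealOfVars K (B ⧸ J) ^ (n + 2 + 1)))
    (idealOfVars K (B ⧸ J) ^ (n + 2)) 2
  have h3 : (idealOfVars K (B ⧸ J) ^ (n + 2)) ^ 2 ≤ idealOfVars K (B ⧸ J) ^ (n + 2 + 1) := by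
    rw [← pow_mul]
    exact Ideal.pow_le_pow_right (by omega)
  have h4 := Ideal.map_mono (f := Ideal.Quotient.mk (idealOfVars K (B ⧸ J) ^ (n + 2 + 1))) h3
  rw [Ideal.map_quotient_self, h2] at h4
  exact h4

include hΛ in
theorem theta_kill (N : ℕ) (θ : B →ₐ[A] Tn K (B ⧸ J) N)
    (hθ : ∀ b, ∃ p : MvPolynomial K (B ⧸ J),
      θ b = Ideal.Quotient.mk _ p ∧ p - tau (A := A) J Λ b ∈ idealOfVars K (B ⧸ J) ^ 2) :
    ∀ x ∈ J ^ (N + 1), θ x = 0 := by
  have hJ : J ≤ Ideal.comap θ ((idealOfVars K (B ⧸ J)).map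
      (Ideal.Quotient.mk (idealOfVars K (B ⧸ J) ^ (N + 1)))) := by
    intro x hx
    obtain ⟨p, hp1, hp2⟩ := hθ x
    rw [Ideal.mem_comap, hp1]
    apply Ideal.mem_map_of_mem
    have : p = (p - tau (A := A) J Λ x) + tau (A := A) J Λ x := by ring
    rw [this]
    exact Ideal.add_mem _ (Ideal.pow_le_self (by omega) hp2) (tau_mem J Λ hΛ x hx)
  intro x hx
  have h0 : J.map θ ≤ (idealOfVars K (B ⧸ J)).map
      (Ideal.Quotient.mk (idealOfVars K (B ⧸ J) ^ (N + 1))) := Ideal.map_le_iff_le_comap.mpr hJ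
  have h1 : θ x ∈ (J ^ (N + 1)).map θ := Ideal.mem_map_of_mem θ hx
  rw [Ideal.map_pow] at h1
  have h2 := Ideal.pow_right_mono h0 (N + 1) h1
  have h3 := Ideal.map_pow (Ideal.Quotient.mk (idealOfVars K (B ⧸ J) ^ (N + 1)))
    (idealOfVars K (B ⧸ J)) (N + 1)
  rw [Ideal.map_quotient_self] at h3
  have h4 : θ x ∈ (⊥ : Ideal (Tn K (B ⧸ J) N)) := by
    rw [h3]
    exact h2
  exact h4

include hΛ in
theorem exists_theta (h : CAlgX.IsAdicFormallySmooth A B J) : ∀ n : ℕ,
    ∃ θ : B →ₐ[A] Tn K (B ⧸ J) (n + 1), ∀ b, ∃ p : MvPolynomial K (B ⧸ J),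
      θ b = Ideal.Quotient.mk _ p ∧ p - tau (A := A) J Λ b ∈ idealOfVars K (B ⧸ J) ^ 2 := by
  intro n
  induction n with
  | zero =>
    refine ⟨theta1 J Λ hΛ, fun b => ⟨tau (A := A) J Λ b, rfl, ?_⟩⟩
    rw [sub_self]
    exact Ideal.zero_mem _
  | succ n ih =>
    obtain ⟨θ, hθ⟩ := ih
    have hkill := theta_kill J Λ hΛ (n + 1) θ hθ
    obtain ⟨θ', hθ'⟩ := lift_of_surjective J h (gstep (A := A) (K := K) J n)
      (gstep_surjective J n) (gstep_ker_sq J n) θ ⟨n + 1 + 1, hkill⟩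
    refine ⟨θ', fun b => ?_⟩
    obtain ⟨p, hp1, hp2⟩ := hθ b
    obtain ⟨p', hp'⟩ := Ideal.Quotient.mk_surjective (θ' b)
    refine ⟨p', hp'.symm, ?_⟩
    have h2 := AlgHom.congr_fun hθ' b
    rw [AlgHom.comp_apply, ← hp', gstep_mk, hp1, ← sub_eq_zero, ← map_sub,
      Ideal.Quotient.eq_zero_iff_mem] at h2
    have : p' - tau (A := A) J Λ b = (p' - p) + (p - tau (A := A) J Λ b) := by ring
    rw [this]
    exact Ideal.add_mem _ (Ideal.pow_le_pow_right (by omega) h2) hp2

include hΛ in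
theorem exists_theta' (h : CAlgX.IsAdicFormallySmooth A B J) (N : ℕ) (hN : 1 ≤ N) :
    ∃ θ : B →ₐ[A] Tn K (B ⧸ J) N, ∀ b, ∃ p : MvPolynomial K (B ⧸ J),
      θ b = Ideal.Quotient.mk _ p ∧ p - tau (A := A) J Λ b ∈ idealOfVars K (B ⧸ J) ^ 2 := by
  obtain ⟨n, rfl⟩ : ∃ n, N = n + 1 := ⟨N - 1, by omega⟩
  exact exists_theta J Λ hΛ h n

end theta

section symInd

variable {R : Type u} [CommRing R] {ι : Type u} [Fintype ι] {M : Type v} [AddCommGroup M] [Module R M]

theorem sym_add_induction [Nonempty ι] {P : SymmetricPower R ι M → Prop} (h0 : P 0)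
    (hadd : ∀ x y, P x → P y → P (x + y)) (htp : ∀ m : ι → M, P (SymmetricPower.tprod R m))
    (w : SymmetricPower R ι M) : P w := by
  classical
  have hw : w ∈ Submodule.span R (Set.range (SymmetricPower.tprod R (ι := ι) (M := M))) := by
    rw [SymmetricPower.span_tprod_eq_top]; exact Submodule.mem_top
  induction hw using Submodule.closure_induction with
  | zero => exact h0
  | add x y _ _ hx hy => exact hadd x y hx hy
  | smul_mem r x hx =>
    obtain ⟨m, rfl⟩ := hx
    obtain ⟨i0⟩ := ‹Nonempty ι›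
    have h1 := (SymmetricPower.tprod R (ι := ι) (M := M)).map_update_smul m i0 r (m i0)
    rw [Function.update_eq_self] at h1
    rw [← h1]
    exact htp _

end symInd

section compare

variable [Algebra.FormallySmooth A (B ⧸ J)] {K : Type u} [DecidableEq K]
  {F : Type u} [AddCommGroup F] [Module (B ⧸ J) F]
  (e : Module.Basis K (B ⧸ J) F) (s : J.Cotangent →ₗ[B ⧸ J] F)
  (ι : Type u) [Fintype ι] [DecidableEq ι]

attribute [local instance] DiffSmoothFF.modB DiffSmoothFF.isScalarTower_modB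

open Groth.Agent.Lib.Helper70.DiffSmoothOfOps (prod_sub_prod_mem)
open Groth.Agent.Lib.Helper70.DiffSmoothFS (toLin_mem)

/-- `Λ = toLin e ∘ s`. -/
noncomputable def Lam : J.Cotangent →ₗ[B ⧸ J] MvPolynomial K (B ⧸ J) := SymPow.toLin e ∘ₗ s

theorem Lam_mem (v : J.Cotangent) : Lam J e s v ∈ idealOfVars K (B ⧸ J) :=
  toLin_mem (B ⧸ J) e (s v)

theorem rel [Nonempty ι] (θ : B →ₐ[A] Tn K (B ⧸ J) (Fintype.card ι))
    (hθ : ∀ b, ∃ p : MvPolynomial K (B ⧸ J),
      θ b = Ideal.Quotient.mk _ p ∧ p - tau (A := A) J (Lam J e s) b ∈ idealOfVars K (B ⧸ J) ^ 2)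
    (w : SymmetricPower B ι J.Cotangent) :
    Ideal.Quotient.liftₐ (J ^ (Fintype.card ι + 1)) θ
        (theta_kill J (Lam J e s) (Lam_mem J e s) _ θ hθ)
      (jJ B J (Fintype.card ι) (psi B J ι w)) =
    Ideal.Quotient.mk (idealOfVars K (B ⧸ J) ^ (Fintype.card ι + 1))
      (SymPow.toPoly e (SymPow2.map s (DiffSmoothFF.cG B (B ⧸ J) ι
        (LinearMap.id : J.Cotangent →ₗ[B] J.Cotangent) w))) := by
  induction w using sym_add_induction with
  | h0 => simp only [map_zero]
  | hadd x y hx hy => simp only [map_add, hx, hy]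
  | htp m =>
    choose x hx using fun i => J.toCotangent_surjective (m i)
    obtain rfl : m = fun i => J.toCotangent (x i) := funext fun i => (hx i).symm
    rw [psi_tprod, jJ_zetaJ, DiffSmoothFF.cG_tprod, SymPow2.map_tprod, SymPow.toPoly_tprod]
    change θ (∏ i, (x i : B)) = _
    rw [map_prod]
    choose p hp1 hp2 using fun i => hθ (x i : B)
    simp only [hp1]
    rw [← map_prod, ← sub_eq_zero, ← map_sub, Ideal.Quotient.eq_zero_iff_mem, ← Finset.card_univ]
    have htau : ∀ i, tau (A := A) J (Lam J e s) (x i : B) = Lam J e s (J.toCotangent (x i)) := by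
      intro i
      rw [tau_apply, Ideal.Quotient.eq_zero_iff_mem.mpr (x i).2, map_zero, zero_add, Dfun_mem]
    apply prod_sub_prod_mem
    · intro k _
      exact toLin_mem (B ⧸ J) e _
    · intro k _
      have : p k = (p k - tau (A := A) J (Lam J e s) (x k : B)) + Lam J e s (J.toCotangent (x k)) := by
        rw [htau]; ring
      rw [this]
      exact Ideal.add_mem _ (Ideal.pow_le_self (by omega) (hp2 k)) (Lam_mem J e s _)
    · intro k _
      have := hp2 k
      rw [htau] at this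
      exact this

include e in
theorem psi_injective (h : CAlgX.IsAdicFormallySmooth A B J) [Nonempty ι]
    (pr : F →ₗ[B ⧸ J] J.Cotangent) (hpr : ∀ v, pr (s v) = v) :
    Function.Injective (psi B J ι) := by
  obtain ⟨θ, hθ⟩ := exists_theta' (A := A) J (Lam J e s) (Lam_mem J e s) h (Fintype.card ι)
    Fintype.card_pos
  rw [injective_iff_map_eq_zero]
  intro w hw
  have hr := rel J e s ι θ hθ w
  rw [hw, map_zero, map_zero] at hr
  have h1 : SymPow2.map s (DiffSmoothFF.cG B (B ⧸ J) ι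
      (LinearMap.id : J.Cotangent →ₗ[B] J.Cotangent) w) = 0 := by
    apply SymPow2.mk_toPoly_injective e ι
    rw [map_zero]
    exact hr.symm
  have h2 : DiffSmoothFF.cG B (B ⧸ J) ι (LinearMap.id : J.Cotangent →ₗ[B] J.Cotangent) w = 0 :=
    SymPow2.map_injective_of_leftInverse s pr hpr (h1.trans (map_zero _).symm)
  exact QReg7.cG_quot_injective B J ι (h2.trans (map_zero _).symm)

end compare

section proj

variable [Algebra.FormallySmooth A (B ⧸ J)]

/-- the opposite action on `J/J²`. -/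
@[reducible] noncomputable def opModCot : Module (B ⧸ J)ᵐᵒᵖ J.Cotangent :=
  Module.compHom _ ((RingHom.id (B ⧸ J)).fromOpposite (fun _ _ => Commute.all _ _))

attribute [local instance] opModCot

theorem isCentralScalar_cot : IsCentralScalar (B ⧸ J) J.Cotangent := ⟨fun _ _ => rfl⟩

attribute [local instance] isCentralScalar_cot

open TrivSqZeroExt

/-- `A`-algebra structure on `C ⊕ M`. -/
@[reducible] noncomputable def algT (M : Type u) [AddCommGroup M] [Module (B ⧸ J) M]
    [Module (B ⧸ J)ᵐᵒᵖ M] [IsCentralScalar (B ⧸ J) M] : Algebra A (TrivSqZeroExt (B ⧸ J) M) :=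
  ((TrivSqZeroExt.inlHom (B ⧸ J) M).comp (algebraMap A (B ⧸ J))).toAlgebra

attribute [local instance] algT

theorem algT_apply (M : Type u) [AddCommGroup M] [Module (B ⧸ J) M]
    [Module (B ⧸ J)ᵐᵒᵖ M] [IsCentralScalar (B ⧸ J) M] (a : A) :
    algebraMap A (TrivSqZeroExt (B ⧸ J) M) a = TrivSqZeroExt.inl (algebraMap A (B ⧸ J) a) := rfl

/-- `b ↦ (b̄, D b)`. -/
noncomputable def psiT : B →ₐ[A] TrivSqZeroExt (B ⧸ J) J.Cotangent where
  toFun b := TrivSqZeroExt.inl (Ideal.Quotient.mk J b) + TrivSqZeroExt.inr (Dfun (A := A) J b)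
  map_one' := by
    rw [Dfun_one, TrivSqZeroExt.inr_zero, add_zero, map_one, TrivSqZeroExt.inl_one]
  map_mul' b c := by
    apply TrivSqZeroExt.ext
    · simp
    · simp only [TrivSqZeroExt.snd_add, TrivSqZeroExt.snd_inl, TrivSqZeroExt.snd_inr, zero_add,
        TrivSqZeroExt.snd_mul, TrivSqZeroExt.fst_add, TrivSqZeroExt.fst_inl, TrivSqZeroExt.fst_inr,
        add_zero, op_smul_eq_smul]
      rw [Dfun_mul, smul_cot', smul_cot']
  map_zero' := by
    have : Dfun (A := A) J 0 = 0 := by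
      have h := Dfun_add (A := A) J 0 0
      rw [add_zero] at h
      have : Dfun (A := A) J 0 + Dfun (A := A) J 0 = Dfun (A := A) J 0 + 0 := by rw [add_zero]; exact h.symm
      exact add_left_cancel this
    rw [this, map_zero, TrivSqZeroExt.inl_zero, TrivSqZeroExt.inr_zero, add_zero]
  map_add' b c := by
    rw [map_add, Dfun_add, TrivSqZeroExt.inl_add, TrivSqZeroExt.inr_add]
    abel
  commutes' a := by
    rw [algT_apply]
    have : Dfun (A := A) J (algebraMap A B a) = 0 := by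
      rw [Algebra.algebraMap_eq_smul_one, Dfun_smul, Dfun_one, smul_zero]
    rw [this, TrivSqZeroExt.inr_zero, add_zero]
    rfl

theorem psiT_fst (b : B) : (psiT (A := A) J b).fst = Ideal.Quotient.mk J b := by
  change (TrivSqZeroExt.inl (Ideal.Quotient.mk J b) + TrivSqZeroExt.inr (Dfun (A := A) J b)).fst = _
  simp

theorem psiT_snd (b : B) : (psiT (A := A) J b).snd = Dfun (A := A) J b := by
  change (TrivSqZeroExt.inl (Ideal.Quotient.mk J b) + TrivSqZeroExt.inr (Dfun (A := A) J b)).snd = _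
  simp

theorem psiT_kill : ∀ x ∈ J ^ 2, psiT (A := A) J x = 0 := by
  intro x hx
  rw [pow_two] at hx
  refine Submodule.mul_induction_on hx ?_ ?_
  · intro y hy z hz
    rw [map_mul]
    apply TrivSqZeroExt.ext
    · rw [TrivSqZeroExt.fst_mul, psiT_fst, psiT_fst, Ideal.Quotient.eq_zero_iff_mem.mpr hy, zero_mul]
      rfl
    · rw [TrivSqZeroExt.snd_mul, psiT_fst, psiT_fst, Ideal.Quotient.eq_zero_iff_mem.mpr hy,
        Ideal.Quotient.eq_zero_iff_mem.mpr hz, zero_smul, MulOpposite.op_zero, zero_smul, add_zero]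
      rfl
  · intro y z hy hz
    rw [map_add, hy, hz, add_zero]

/-- `C ⊕ F → C ⊕ V`. -/
noncomputable def gT {F : Type u} [AddCommGroup F] [Module (B ⧸ J) F] [Module (B ⧸ J)ᵐᵒᵖ F]
    [IsCentralScalar (B ⧸ J) F] (π : F →ₗ[B ⧸ J] J.Cotangent) :
    TrivSqZeroExt (B ⧸ J) F →ₐ[A] TrivSqZeroExt (B ⧸ J) J.Cotangent where
  toRingHom := (TrivSqZeroExt.map π).toRingHom
  commutes' a := by
    rw [algT_apply, algT_apply]
    exact TrivSqZeroExt.map_inl π _

theorem gT_apply {F : Type u} [AddCommGroup F] [Module (B ⧸ J) F] [Module (B ⧸ J)ᵐᵒᵖ F]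
    [IsCentralScalar (B ⧸ J) F] (π : F →ₗ[B ⧸ J] J.Cotangent) (x : TrivSqZeroExt (B ⧸ J) F) :
    gT (A := A) J π x = TrivSqZeroExt.map π x := rfl

theorem gT_surjective {F : Type u} [AddCommGroup F] [Module (B ⧸ J) F] [Module (B ⧸ J)ᵐᵒᵖ F]
    [IsCentralScalar (B ⧸ J) F] (π : F →ₗ[B ⧸ J] J.Cotangent) (hπ : Function.Surjective π) :
    Function.Surjective (gT (A := A) J π) := by
  intro y
  obtain ⟨f, hf⟩ := hπ y.snd
  refine ⟨TrivSqZeroExt.inl y.fst + TrivSqZeroExt.inr f, ?_⟩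
  rw [gT_apply]
  apply TrivSqZeroExt.ext
  · rw [TrivSqZeroExt.fst_map]; simp
  · rw [TrivSqZeroExt.snd_map]; simp [hf]

theorem gT_ker_sq {F : Type u} [AddCommGroup F] [Module (B ⧸ J) F] [Module (B ⧸ J)ᵐᵒᵖ F]
    [IsCentralScalar (B ⧸ J) F] (π : F →ₗ[B ⧸ J] J.Cotangent) :
    RingHom.ker (gT (A := A) J π) ^ 2 = ⊥ := by
  rw [eq_bot_iff, pow_two, Ideal.mul_le]
  intro x hx y hy
  rw [RingHom.mem_ker, gT_apply] at hx hy
  have hx1 : x.fst = 0 := by
    have := congrArg TrivSqZeroExt.fst hx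
    rwa [TrivSqZeroExt.fst_map] at this
  have hy1 : y.fst = 0 := by
    have := congrArg TrivSqZeroExt.fst hy
    rwa [TrivSqZeroExt.fst_map] at this
  rw [Ideal.mem_bot]
  apply TrivSqZeroExt.ext
  · rw [TrivSqZeroExt.fst_mul, hx1, zero_mul]; rfl
  · rw [TrivSqZeroExt.snd_mul, hx1, hy1, zero_smul, MulOpposite.op_zero, zero_smul, add_zero]; rfl

theorem projective_cot (h : CAlgX.IsAdicFormallySmooth A B J) :
    Module.Projective (B ⧸ J) J.Cotangent := by
  classical
  rw [Module.projective_def']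
  set π : (J.Cotangent →₀ (B ⧸ J)) →ₗ[B ⧸ J] J.Cotangent := Finsupp.linearCombination (B ⧸ J) id
    with hπdef
  have hπ : Function.Surjective π := Finsupp.linearCombination_id_surjective _ _
  obtain ⟨χ, hχ⟩ := lift_of_surjective J h (gT (A := A) J π) (gT_surjective J π hπ)
    (gT_ker_sq J π) (psiT J) ⟨2, psiT_kill J⟩
  have hfst : ∀ b, (χ b).fst = Ideal.Quotient.mk J b := by
    intro b
    have := congrArg TrivSqZeroExt.fst (AlgHom.congr_fun hχ b)
    rwa [AlgHom.comp_apply, gT_apply, TrivSqZeroExt.fst_map, psiT_fst] at this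
  have hsnd : ∀ b, π (χ b).snd = Dfun (A := A) J b := by
    intro b
    have := congrArg TrivSqZeroExt.snd (AlgHom.congr_fun hχ b)
    rwa [AlgHom.comp_apply, gT_apply, TrivSqZeroExt.snd_map, psiT_snd] at this
  have hmul : ∀ b c : B, (χ (b * c)).snd =
      (Ideal.Quotient.mk J b) • (χ c).snd + (Ideal.Quotient.mk J c) • (χ b).snd := by
    intro b c
    rw [map_mul, TrivSqZeroExt.snd_mul, hfst, hfst, op_smul_eq_smul]
  let hl : ↥J →ₗ[B] (J.Cotangent →₀ (B ⧸ J)) :=
    { toFun := fun x => (χ (x : B)).snd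
      map_add' := by
        intro x y
        rw [Submodule.coe_add, map_add, TrivSqZeroExt.snd_add]
      map_smul' := by
        intro b x
        rw [Submodule.coe_smul, smul_eq_mul, hmul, Ideal.Quotient.eq_zero_iff_mem.mpr x.2, zero_smul,
          add_zero, RingHom.id_apply]
        exact algebraMap_smul (B ⧸ J) b _ }
  have hlf : ∀ x y : ↥J, hl (x * y) = 0 := by
    intro x y
    change (χ ((x * y : ↥J) : B)).snd = 0
    rw [MulMemClass.coe_mul, hmul, Ideal.Quotient.eq_zero_iff_mem.mpr x.2,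
      Ideal.Quotient.eq_zero_iff_mem.mpr y.2, zero_smul, zero_smul, add_zero]
  let sB := Ideal.Cotangent.lift hl hlf
  refine ⟨{ toFun := sB, map_add' := map_add sB, map_smul' := ?_ }, ?_⟩
  · intro c v
    obtain ⟨b, rfl⟩ := Ideal.Quotient.mk_surjective c
    rw [RingHom.id_apply, ← smul_cot', map_smul]
    exact (algebraMap_smul (B ⧸ J) b _).symm
  · refine LinearMap.ext fun v => ?_
    obtain ⟨x, rfl⟩ := J.toCotangent_surjective v
    change π (sB (J.toCotangent x)) = J.toCotangent x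
    rw [Ideal.Cotangent.lift_toCotangent]
    change π (χ (x : B)).snd = _
    rw [hsnd, Dfun_mem]

end proj

section fwd

variable [Algebra.FormallySmooth A (B ⧸ J)]

theorem forward (h : CAlgX.IsAdicFormallySmooth A B J) :
    Module.Projective (B ⧸ J) J.Cotangent ∧ PP16.SymGrBijective B J := by
  classical
  have hproj := projective_cot J h
  refine ⟨hproj, ?_⟩
  obtain ⟨s, hs⟩ := (Module.projective_def' (R := B ⧸ J) (P := J.Cotangent)).mp hproj
  intro ι _ _
  refine ⟨psi B J ι, psi_tprod B J ι, ?_, psi_surjective B J ι⟩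
  exact psi_injective J (Finsupp.basisSingleOne (R := B ⧸ J) (ι := J.Cotangent)) s ι h
    (Finsupp.linearCombination (B ⧸ J) id) (fun v => LinearMap.congr_fun hs v)

end fwd

end Groth.Agent.Lib.Helper70.AdicFS1
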