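import Groth.Agent.Lib.Helper70.AdicFS1

set_option autoImplicit false
set_option linter.unusedSectionVars false
universe u v w
open scoped TensorProduct Pointwise

namespace Groth.Agent.Lib.Helper70.AdicFS2

open Groth.Agent.Lib.Helper70 Groth.Agent.Lib.Helper70.QReg1 Groth.Agent.Lib.Helper70.QReg3
  Groth.Agent.Lib.Helper70.AdicFS1
open Groth.Agent.Lib.Helper70.DiffSmoothOfOps (prod_sub_prod_mem)
open Groth.Agent.Lib.Helper70.DiffSmoothFS (toLin_mem)
open PP16 MvPolynomial

variable {A B : Type u} [CommRing A] [CommRing B] [Algebra A B] (J : Ideal B)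
  [Algebra.FormallySmooth A (B ⧸ J)]

section sigma

variable (M : ℕ) (hM : 2 ≤ M)

/-- `B/J^M → B/J`. -/
noncomputable def pM : (B ⧸ J ^ M) →ₐ[A] (B ⧸ J) :=
  Ideal.Quotient.factorₐ A (Ideal.pow_le_self (by omega))

theorem pM_mk (b : B) : pM (A := A) J M hM (Ideal.Quotient.mk _ b) = Ideal.Quotient.mk _ b := rfl

theorem pM_surjective : Function.Surjective (pM (A := A) J M hM) := by
  intro y
  obtain ⟨b, rfl⟩ := Ideal.Quotient.mk_surjective y
  exact ⟨Ideal.Quotient.mk _ b, rfl⟩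

theorem ker_pM_le : RingHom.ker (pM (A := A) J M hM) ≤ J.map (Ideal.Quotient.mk (J ^ M)) := by
  intro x hx
  obtain ⟨b, rfl⟩ := Ideal.Quotient.mk_surjective x
  rw [RingHom.mem_ker, pM_mk, Ideal.Quotient.eq_zero_iff_mem] at hx
  exact Ideal.mem_map_of_mem _ hx

theorem pM_ker_nilpotent :
    IsNilpotent (RingHom.ker (pM (A := A) J M hM : (B ⧸ J ^ M) →+* (B ⧸ J))) := by
  refine ⟨M, ?_⟩
  rw [Ideal.zero_eq_bot, eq_bot_iff]
  refine (Ideal.pow_right_mono (ker_pM_le (A := A) J M hM) _).trans ?_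
  rw [← Ideal.map_pow, Ideal.map_quotient_self]

/-- a section of `B/J^M → B/J`. -/
noncomputable def sigM : (B ⧸ J) →ₐ[A] (B ⧸ J ^ M) :=
  Algebra.FormallySmooth.liftOfSurjective (AlgHom.id A (B ⧸ J)) (pM J M hM) (pM_surjective J M hM)
    (pM_ker_nilpotent J M hM)

theorem pM_sigM (c : B ⧸ J) : pM (A := A) J M hM (sigM (A := A) J M hM c) = c :=
  Algebra.FormallySmooth.liftOfSurjective_apply _ _ _ _ c

/-- `B/J^M → B/J²`. -/
noncomputable def q2 : (B ⧸ J ^ M) →ₐ[A] (B ⧸ J ^ 2) :=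
  Ideal.Quotient.factorₐ A (Ideal.pow_le_pow_right hM)

theorem q2_mk (b : B) : q2 (A := A) J M hM (Ideal.Quotient.mk _ b) = Ideal.Quotient.mk _ b := rfl

theorem pSq_q2 (z : B ⧸ J ^ M) : pSq (A := A) J (q2 (A := A) J M hM z) = pM (A := A) J M hM z := by
  obtain ⟨b, rfl⟩ := Ideal.Quotient.mk_surjective z
  rfl

theorem q2_sigM_mul (c : B ⧸ J) (v : J.Cotangent) :
    q2 (A := A) J M hM (sigM (A := A) J M hM c) * J.cotangentToQuotientSquare v =
      J.cotangentToQuotientSquare (c • v) := by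
  obtain ⟨b, rfl⟩ := Ideal.Quotient.mk_surjective c
  have h1 : pSq (A := A) J (q2 (A := A) J M hM (sigM (A := A) J M hM (Ideal.Quotient.mk J b)) -
      Ideal.Quotient.mk (J ^ 2) b) = 0 := by
    rw [map_sub, pSq_q2, pM_sigM, pSq_mk, sub_self]
  obtain ⟨v', hv'⟩ := exists_cot (A := A) J _ h1
  have h2 : q2 (A := A) J M hM (sigM (A := A) J M hM (Ideal.Quotient.mk J b)) =
      J.cotangentToQuotientSquare v' + Ideal.Quotient.mk (J ^ 2) b := by
    rw [hv']; ring
  rw [h2, add_mul, c2q_mul_c2q, zero_add, ← smul_cot', map_smul, Algebra.smul_def]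
  rfl

end sigma

section maps

variable (M : ℕ) (hM : 2 ≤ M) {K : Type u} [DecidableEq K] {F : Type u} [AddCommGroup F]
  [Module (B ⧸ J) F] (e : Module.Basis K (B ⧸ J) F) (s : J.Cotangent →ₗ[B ⧸ J] F)
  (pr : F →ₗ[B ⧸ J] J.Cotangent) (hpr : ∀ v, pr (s v) = v)
  (y : K → B) (hy : ∀ k, y k ∈ J) (hy' : ∀ k, J.toCotangent ⟨y k, hy k⟩ = pr (e k))

/-- `ν₀ : C[X_K] → B/J^M`, `X_k ↦ y_k`, `c ↦ σ(c)`. -/
noncomputable def nu0 : MvPolynomial K (B ⧸ J) →ₐ[A] (B ⧸ J ^ M) where
  toRingHom := MvPolynomial.eval₂Hom (sigM (A := A) J M hM : (B ⧸ J) →+* (B ⧸ J ^ M))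
    (fun k => Ideal.Quotient.mk _ (y k))
  commutes' a := by
    rw [MvPolynomial.algebraMap_apply]
    change MvPolynomial.eval₂Hom _ _ (C _) = _
    rw [MvPolynomial.eval₂Hom_C]
    exact (sigM (A := A) J M hM).commutes a

theorem nu0_C (c : B ⧸ J) : nu0 (A := A) J M hM y (C c) = sigM (A := A) J M hM c := by
  change MvPolynomial.eval₂Hom _ _ (C _) = _
  rw [MvPolynomial.eval₂Hom_C]
  rfl

theorem nu0_X (k : K) : nu0 (A := A) J M hM y (X k) = Ideal.Quotient.mk _ (y k) := by
  change MvPolynomial.eval₂Hom _ _ (X k) = _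
  rw [MvPolynomial.eval₂Hom_X']

/-- `ε : C[X_K] → C[X_K]`, `X_k ↦ linear form of s(pr(e_k))`. -/
noncomputable def eps : MvPolynomial K (B ⧸ J) →ₐ[B ⧸ J] MvPolynomial K (B ⧸ J) :=
  MvPolynomial.aeval (fun k => SymPow.toLin e (s (pr (e k))))

theorem eps_X (k : K) : eps J e s pr (X k) = SymPow.toLin e (s (pr (e k))) := by
  rw [eps, MvPolynomial.aeval_X]

theorem eps_C (c : B ⧸ J) : eps J e s pr (C c) = C c := by
  rw [eps, MvPolynomial.aeval_C]
  rfl

theorem eps_toLin (f : F) : eps J e s pr (SymPow.toLin e f) = SymPow.toLin e (s (pr f)) := by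
  have h : (eps J e s pr).toLinearMap ∘ₗ SymPow.toLin e = SymPow.toLin e ∘ₗ s ∘ₗ pr := by
    apply e.ext
    intro k
    rw [LinearMap.comp_apply, SymPow.toLin_basis, AlgHom.toLinearMap_apply, eps_X]
    rfl
  exact LinearMap.congr_fun h f

include hpr in
theorem eps_eps (p : MvPolynomial K (B ⧸ J)) : eps J e s pr (eps J e s pr p) = eps J e s pr p := by
  have h : (eps J e s pr).comp (eps J e s pr) = eps J e s pr := by
    apply MvPolynomial.algHom_ext
    intro k
    rw [AlgHom.comp_apply, eps_X, eps_toLin, hpr]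
  exact AlgHom.congr_fun h p

theorem eps_mem (d : ℕ) (p : MvPolynomial K (B ⧸ J)) (hp : p ∈ idealOfVars K (B ⧸ J) ^ d) :
    eps J e s pr p ∈ idealOfVars K (B ⧸ J) ^ d := by
  have h1 : idealOfVars K (B ⧸ J) ≤ Ideal.comap (eps J e s pr) (idealOfVars K (B ⧸ J)) := by
    rw [idealOfVars, Ideal.span_le]
    rintro _ ⟨k, rfl⟩
    show X k ∈ Ideal.comap (eps J e s pr) (idealOfVars K (B ⧸ J))
    rw [Ideal.mem_comap, eps_X]
    exact toLin_mem (B ⧸ J) e _
  exact (Ideal.pow_right_mono h1 d).trans (Ideal.le_comap_pow _ _) hp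

include hy in
theorem nu0_mem (d : ℕ) (p : MvPolynomial K (B ⧸ J)) (hp : p ∈ idealOfVars K (B ⧸ J) ^ d) :
    nu0 (A := A) J M hM y p ∈ (J ^ d).map (Ideal.Quotient.mk (J ^ M)) := by
  have h1 : idealOfVars K (B ⧸ J) ≤ Ideal.comap (nu0 (A := A) J M hM y)
      (J.map (Ideal.Quotient.mk (J ^ M))) := by
    rw [idealOfVars, Ideal.span_le]
    rintro _ ⟨k, rfl⟩
    show X k ∈ Ideal.comap (nu0 (A := A) J M hM y) (J.map (Ideal.Quotient.mk (J ^ M)))
    rw [Ideal.mem_comap, nu0_X]
    exact Ideal.mem_map_of_mem _ (hy k)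
  have h2 := (Ideal.pow_right_mono h1 d).trans (Ideal.le_comap_pow _ _) hp
  rw [Ideal.mem_comap, ← Ideal.map_pow] at h2
  exact h2

include hy' in
theorem q2_nu0_toLin (f : F) :
    q2 (A := A) J M hM (nu0 (A := A) J M hM y (SymPow.toLin e f)) =
      J.cotangentToQuotientSquare (pr f) := by
  have hf : f ∈ Submodule.span (B ⧸ J) (Set.range e) := by rw [e.span_eq]; exact Submodule.mem_top
  induction hf using Submodule.span_induction with
  | mem f hf =>
    obtain ⟨k, rfl⟩ := hf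
    rw [SymPow.toLin_basis, nu0_X, q2_mk, ← hy']
    rfl
  | zero => simp only [map_zero]
  | add a b _ _ ha hb => simp only [map_add, ha, hb]
  | smul c f _ hf =>
    have h1 : SymPow.toLin e (c • f) = C c * SymPow.toLin e f := by
      rw [LinearMap.map_smul, smul_eq_C_mul]
    have h2 : pr (c • f) = c • pr f := LinearMap.map_smul pr c f
    rw [h1, h2, map_mul, map_mul, nu0_C, hf, q2_sigM_mul]

/-- the linear form attached to `x ∈ J`. -/
noncomputable def lin (x : J) : MvPolynomial K (B ⧸ J) := SymPow.toLin e (s (J.toCotangent x))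

include hpr in
theorem eps_lin (x : J) : eps J e s pr (lin J e s x) = lin J e s x := by
  rw [lin, eps_toLin, hpr]

include hpr hy' in
theorem exists_rep (x : J) : ∃ t : B, nu0 (A := A) J M hM y (lin J e s x) = Ideal.Quotient.mk _ t ∧
    t - x ∈ J ^ 2 ∧ t ∈ J := by
  obtain ⟨t, ht⟩ := Ideal.Quotient.mk_surjective (nu0 (A := A) J M hM y (lin J e s x))
  have h1 := q2_nu0_toLin (A := A) J M hM e pr y hy hy' (s (J.toCotangent x))
  rw [hpr] at h1
  change q2 (A := A) J M hM (nu0 (A := A) J M hM y (lin J e s x)) = _ at h1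
  rw [← ht, q2_mk, Ideal.toCotangent_to_quotient_square] at h1
  have h2 : t - x ∈ J ^ 2 := by
    rw [← Ideal.Quotient.eq_zero_iff_mem, map_sub, sub_eq_zero]
    exact h1
  refine ⟨t, ht.symm, h2, ?_⟩
  have : t = (t - x) + x := by ring
  rw [this]
  exact Ideal.add_mem _ (Ideal.pow_le_self (by omega) h2) x.2

end maps

section rel

variable (M : ℕ) (hM : 2 ≤ M) {K : Type u} [DecidableEq K] {F : Type u} [AddCommGroup F]
  [Module (B ⧸ J) F] (e : Module.Basis K (B ⧸ J) F) (s : J.Cotangent →ₗ[B ⧸ J] F)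
  (pr : F →ₗ[B ⧸ J] J.Cotangent) (hpr : ∀ v, pr (s v) = v)
  (y : K → B) (hy : ∀ k, y k ∈ J) (hy' : ∀ k, J.toCotangent ⟨y k, hy k⟩ = pr (e k))
  (ι : Type u) [Fintype ι] [DecidableEq ι]

attribute [local instance] DiffSmoothFF.modB DiffSmoothFF.isScalarTower_modB

/-- `B/J^M → B/J^(n+1)` for `n + 1 ≤ M`. -/
noncomputable def red (n : ℕ) (hn : n + 1 ≤ M) : (B ⧸ J ^ M) →ₐ[A] (B ⧸ J ^ (n + 1)) :=
  Ideal.Quotient.factorₐ A (Ideal.pow_le_pow_right hn)

theorem red_mk (n : ℕ) (hn : n + 1 ≤ M) (b : B) :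
    red (A := A) J M n hn (Ideal.Quotient.mk _ b) = Ideal.Quotient.mk _ b := rfl

include hpr hy' in
theorem relR [Nonempty ι] (hn : Fintype.card ι + 1 ≤ M) (w : SymmetricPower B ι J.Cotangent) :
    red (A := A) J M (Fintype.card ι) hn (nu0 (A := A) J M hM y
      (SymPow.toPoly e (SymPow2.map s (DiffSmoothFF.cG B (B ⧸ J) ι
        (LinearMap.id : J.Cotangent →ₗ[B] J.Cotangent) w)))) =
    jJ B J (Fintype.card ι) (psi B J ι w) := by
  induction w using sym_add_induction with
  | h0 => simp only [map_zero]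
  | hadd a b ha hb => simp only [map_add, ha, hb]
  | htp m =>
    choose x hx using fun i => J.toCotangent_surjective (m i)
    obtain rfl : m = fun i => J.toCotangent (x i) := funext fun i => (hx i).symm
    rw [psi_tprod, jJ_zetaJ, DiffSmoothFF.cG_tprod, SymPow2.map_tprod, SymPow.toPoly_tprod, map_prod]
    choose t ht1 ht2 ht3 using fun i => exists_rep (A := A) J M hM e s pr hpr y hy hy' (x i)
    simp only [LinearMap.id_coe, id_eq]
    have h1 : ∀ i, nu0 (A := A) J M hM y (SymPow.toLin e (s (J.toCotangent (x i)))) =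
        Ideal.Quotient.mk _ (t i) := fun i => ht1 i
    simp only [h1]
    rw [← map_prod, red_mk]
    change _ = Ideal.Quotient.mk _ (∏ i, (x i : B))
    rw [← sub_eq_zero, ← map_sub, Ideal.Quotient.eq_zero_iff_mem, ← Finset.card_univ]
    exact prod_sub_prod_mem J Finset.univ t (fun i => (x i : B)) (fun i _ => (x i).2)
      (fun i _ => ht3 i) (fun i _ => ht2 i)

end rel

section gr

variable {R₀ : Type u} [CommRing R₀] {K : Type u} [DecidableEq K] {F : Type u} [AddCommGroup F]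
  [Module R₀ F] (e : Module.Basis K R₀ F) (ι : Type u) [Fintype ι] [DecidableEq ι]

theorem sub_C_mem (p : MvPolynomial K R₀) : p - C (coeff 0 p) ∈ idealOfVars K R₀ := by
  have h := (mem_pow_idealOfVars_iff' (σ := K) (R := R₀) 1 (p - C (coeff 0 p))).2 (by
    intro x hx
    have hx0 : x = 0 := by
      rw [← Finsupp.degree_eq_zero_iff]
      omega
    rw [hx0, coeff_sub, coeff_C, if_pos rfl, sub_self])
  rwa [pow_one] at h

theorem exists_lin (z : MvPolynomial K R₀) (hz : z ∈ idealOfVars K R₀) :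
    ∃ f : F, z - SymPow.toLin e f ∈ idealOfVars K R₀ ^ 2 := by
  rw [idealOfVars] at hz
  induction hz using Submodule.span_induction with
  | mem z hz =>
    obtain ⟨k, rfl⟩ := hz
    refine ⟨e k, ?_⟩
    rw [SymPow.toLin_basis, sub_self]
    exact Ideal.zero_mem _
  | zero =>
    refine ⟨0, ?_⟩
    rw [map_zero, sub_self]
    exact Ideal.zero_mem _
  | add a b _ _ ha hb =>
    obtain ⟨f, hf⟩ := ha
    obtain ⟨g, hg⟩ := hb
    refine ⟨f + g, ?_⟩
    have : a + b - SymPow.toLin e (f + g) = (a - SymPow.toLin e f) + (b - SymPow.toLin e g) := by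
      rw [map_add]; ring
    rw [this]
    exact Ideal.add_mem _ hf hg
  | smul r z hz ih =>
    obtain ⟨f, hf⟩ := ih
    refine ⟨coeff 0 r • f, ?_⟩
    have : r • z - SymPow.toLin e (coeff 0 r • f) =
        (r - C (coeff 0 r)) * z + C (coeff 0 r) * (z - SymPow.toLin e f) := by
      rw [LinearMap.map_smul, smul_eq_C_mul, smul_eq_mul]; ring
    rw [this, pow_two]
    refine Ideal.add_mem _ (Ideal.mul_mem_mul (sub_C_mem r) hz) ?_
    rw [← pow_two]
    exact Ideal.mul_mem_left _ _ hf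

theorem exists_sym (q : MvPolynomial K R₀) (hq : q ∈ idealOfVars K R₀ ^ Fintype.card ι) :
    ∃ W : SymmetricPower R₀ ι F, q - SymPow.toPoly e W ∈ idealOfVars K R₀ ^ (Fintype.card ι + 1) := by
  rw [show (idealOfVars K R₀ ^ Fintype.card ι : Ideal (MvPolynomial K R₀)) =
    Submodule.span (MvPolynomial K R₀) ((idealOfVars K R₀ : Set (MvPolynomial K R₀)) ^ Fintype.card ι)
    from Submodule.pow_eq_span_pow_set (idealOfVars K R₀) _] at hq
  induction hq using Submodule.closure_induction with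
  | zero =>
    refine ⟨0, ?_⟩
    rw [map_zero, sub_self]
    exact Ideal.zero_mem _
  | add a b _ _ ha hb =>
    obtain ⟨f, hf⟩ := ha
    obtain ⟨g, hg⟩ := hb
    refine ⟨f + g, ?_⟩
    have : a + b - SymPow.toPoly e (f + g) = (a - SymPow.toPoly e f) + (b - SymPow.toPoly e g) := by
      rw [map_add]; ring
    rw [this]
    exact Ideal.add_mem _ hf hg
  | smul_mem r x hx =>
    rw [Set.mem_pow] at hx
    obtain ⟨f, rfl⟩ := hx
    rw [List.prod_ofFn]
    set z : ι → MvPolynomial K R₀ := fun i => (f (Fintype.equivFin ι i) : MvPolynomial K R₀) with hz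
    have hzmem : ∀ i, z i ∈ idealOfVars K R₀ := fun i => (f (Fintype.equivFin ι i)).2
    have hprod : ∏ i, (f i : MvPolynomial K R₀) = ∏ i, z i :=
      (Equiv.prod_comp (Fintype.equivFin ι) (fun i => (f i : MvPolynomial K R₀))).symm
    rw [hprod]
    choose g hg using fun i => exists_lin e (z i) (hzmem i)
    refine ⟨coeff 0 r • SymmetricPower.tprod R₀ g, ?_⟩
    have h1 : ∏ i, z i - ∏ i, SymPow.toLin e (g i) ∈ idealOfVars K R₀ ^ (Fintype.card ι + 1) := by
      rw [← Finset.card_univ]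
      exact prod_sub_prod_mem (idealOfVars K R₀) Finset.univ z (fun i => SymPow.toLin e (g i))
        (fun i _ => toLin_mem R₀ e (g i)) (fun i _ => hzmem i) (fun i _ => hg i)
    have h2 : ∏ i, z i ∈ idealOfVars K R₀ ^ Fintype.card ι := by
      have := PP16.prod_mem_pow (idealOfVars K R₀) Finset.univ z (fun i _ => hzmem i)
      rwa [Finset.card_univ] at this
    have : r • ∏ i, z i - SymPow.toPoly e (coeff 0 r • SymmetricPower.tprod R₀ g) =
        (r - C (coeff 0 r)) * ∏ i, z i +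
          C (coeff 0 r) * (∏ i, z i - ∏ i, SymPow.toLin e (g i)) := by
      rw [LinearMap.map_smul, SymPow.toPoly_tprod, smul_eq_C_mul, smul_eq_mul]; ring
    rw [this]
    refine Ideal.add_mem _ ?_ (Ideal.mul_mem_left _ _ h1)
    rw [pow_succ']
    exact Ideal.mul_mem_mul (sub_C_mem _) h2

end gr

section step

variable (M : ℕ) (hM : 2 ≤ M) {K : Type u} [DecidableEq K] {F : Type u} [AddCommGroup F]
  [Module (B ⧸ J) F] (e : Module.Basis K (B ⧸ J) F) (s : J.Cotangent →ₗ[B ⧸ J] F)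
  (pr : F →ₗ[B ⧸ J] J.Cotangent) (hpr : ∀ v, pr (s v) = v)
  (y : K → B) (hy : ∀ k, y k ∈ J) (hy' : ∀ k, J.toCotangent ⟨y k, hy k⟩ = pr (e k))
  (hsym : PP16.SymGrBijective B J)

attribute [local instance] DiffSmoothFF.modB DiffSmoothFF.isScalarTower_modB

theorem eps_toPoly (ι : Type u) [Fintype ι] [DecidableEq ι] (W : SymmetricPower (B ⧸ J) ι F) :
    eps J e s pr (SymPow.toPoly e W) = SymPow.toPoly e (SymPow2.map s (SymPow2.map pr W)) := by
  have h : (eps J e s pr).toLinearMap ∘ₗ SymPow.toPoly e =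
      SymPow.toPoly e ∘ₗ SymPow2.map s ∘ₗ SymPow2.map (ι := ι) pr := by
    apply SymPow2.hom_ext
    intro f
    simp only [LinearMap.comp_apply, AlgHom.toLinearMap_apply]
    rw [SymPow.toPoly_tprod, map_prod, SymPow2.map_tprod, SymPow2.map_tprod, SymPow.toPoly_tprod]
    simp only [eps_toLin]
  exact LinearMap.congr_fun h W

include hpr hy' hsym in
theorem step (ι : Type u) [Fintype ι] [DecidableEq ι] [Nonempty ι] (hn : Fintype.card ι + 1 ≤ M)
    (q : MvPolynomial K (B ⧸ J)) (hq : q ∈ idealOfVars K (B ⧸ J) ^ Fintype.card ι)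
    (hε : eps J e s pr q = q)
    (hν : nu0 (A := A) J M hM y q ∈ (J ^ (Fintype.card ι + 1)).map (Ideal.Quotient.mk (J ^ M))) :
    q ∈ idealOfVars K (B ⧸ J) ^ (Fintype.card ι + 1) := by
  obtain ⟨W', hW'⟩ := exists_sym e ι q hq
  have h1 := eps_mem J e s pr _ _ hW'
  rw [map_sub, hε, eps_toPoly] at h1
  obtain ⟨wB, hwB⟩ := QReg6.cG_surjective B (B ⧸ J) ι
    (LinearMap.id : J.Cotangent →ₗ[B] J.Cotangent) Function.surjective_id
    (fun r x => by
      obtain ⟨b, rfl⟩ := Ideal.Quotient.mk_surjective r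
      exact ⟨b, (smul_cot' J b x).symm⟩) (SymPow2.map pr W')
  rw [← hwB] at h1
  have h2 : nu0 (A := A) J M hM y (SymPow.toPoly e (SymPow2.map s
      (DiffSmoothFF.cG B (B ⧸ J) ι (LinearMap.id : J.Cotangent →ₗ[B] J.Cotangent) wB))) ∈
      (J ^ (Fintype.card ι + 1)).map (Ideal.Quotient.mk (J ^ M)) := by
    have h3 := nu0_mem (A := A) J M hM y hy _ _ h1
    rw [map_sub] at h3
    have := Ideal.sub_mem _ hν h3
    rwa [sub_sub_cancel] at this
  have h4 : red (A := A) J M (Fintype.card ι) hn (nu0 (A := A) J M hM y (SymPow.toPoly e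
      (SymPow2.map s (DiffSmoothFF.cG B (B ⧸ J) ι
        (LinearMap.id : J.Cotangent →ₗ[B] J.Cotangent) wB)))) = 0 := by
    obtain ⟨z, hz, hz'⟩ := (Ideal.mem_map_iff_of_surjective _ Ideal.Quotient.mk_surjective).1 h2
    rw [← hz', red_mk, Ideal.Quotient.eq_zero_iff_mem]
    exact hz
  rw [relR (A := A) J M hM e s pr hpr y hy hy' ι hn] at h4
  have h5 : psi B J ι wB = 0 := jJ_injective B J _ (h4.trans (map_zero _).symm)
  have h6 : wB = 0 :=
    QReg5.psi_injective_of_symGrBijective J hsym ι (h5.trans (map_zero _).symm)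
  rw [h6, map_zero, map_zero, map_zero, sub_zero] at h1
  exact h1

include hpr hy' hsym in
theorem ker_lemma (q : MvPolynomial K (B ⧸ J)) (hε : eps J e s pr q = q)
    (hν : nu0 (A := A) J M hM y q = 0) : q ∈ idealOfVars K (B ⧸ J) ^ M := by
  have key : ∀ d, d ≤ M → q ∈ idealOfVars K (B ⧸ J) ^ d := by
    intro d
    induction d with
    | zero =>
      intro _
      rw [pow_zero, Ideal.one_eq_top]
      exact Submodule.mem_top
    | succ d ih =>
      intro hd
      have hq := ih (by omega)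
      rcases Nat.eq_zero_or_pos d with rfl | hdpos
      · rw [zero_add, pow_one]
        have h1 := sub_C_mem q
        have h2 := nu0_mem (A := A) J M hM y hy 1 _ (by rwa [pow_one])
        rw [map_sub, hν, zero_sub, nu0_C, pow_one] at h2
        have h3 : coeff 0 q = 0 := by
          have h4 := (Ideal.neg_mem_iff _).1 h2
          obtain ⟨z, hz, hz'⟩ :=
            (Ideal.mem_map_iff_of_surjective _ Ideal.Quotient.mk_surjective).1 h4
          have := congrArg (pM (A := A) J M hM) hz'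
          rw [pM_mk, pM_sigM] at this
          rw [← this]
          exact Ideal.Quotient.eq_zero_iff_mem.mpr hz
        rw [h3, map_zero, sub_zero] at h1
        exact h1
      · have : Nonempty (ULift.{u} (Fin d)) := ⟨⟨⟨0, hdpos⟩⟩⟩
        have hcard : Fintype.card (ULift.{u} (Fin d)) = d := by simp
        classical
        have := step (A := A) J M hM e s pr hpr y hy hy' hsym (ULift.{u} (Fin d)) (by omega) q
          (by rwa [hcard]) hε (by rw [hν]; exact Ideal.zero_mem _)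
        rwa [hcard] at this
  exact key M le_rfl

end step

section powInd

theorem pow_add_induction {R : Type u} [CommRing R] (I : Ideal R) (d : ℕ) (hd : 1 ≤ d)
    {P : R → Prop} (h0 : P 0) (hadd : ∀ a b, P a → P b → P (a + b))
    (hprod : ∀ x : Fin d → I, P (∏ i, (x i : R))) (z : R) (hz : z ∈ I ^ d) : P z := by
  classical
  rw [show (I ^ d : Ideal R) = Submodule.span R ((I : Set R) ^ d) from
    Submodule.pow_eq_span_pow_set I _] at hz
  induction hz using Submodule.closure_induction with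
  | zero => exact h0
  | add a b _ _ ha hb => exact hadd a b ha hb
  | smul_mem r x hx =>
    rw [Set.mem_pow] at hx
    obtain ⟨f, rfl⟩ := hx
    rw [List.prod_ofFn]
    let i0 : Fin d := ⟨0, hd⟩
    let g : Fin d → I := fun i => if i = i0 then ⟨r * (f i0 : R), I.mul_mem_left r (f i0).2⟩
      else ⟨(f i : R), (f i).2⟩
    have hg : r • ∏ i, (f i : R) = ∏ i, (g i : R) := by
      rw [← Finset.mul_prod_erase Finset.univ (fun i => (f i : R)) (Finset.mem_univ i0),
        ← Finset.mul_prod_erase Finset.univ (fun i => (g i : R)) (Finset.mem_univ i0), smul_eq_mul,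
        ← mul_assoc]
      have h1 : (g i0 : R) = r * (f i0 : R) := by simp [g]
      rw [h1]
      congr 1
      apply Finset.prod_congr rfl
      intro i hi
      have : i ≠ i0 := Finset.ne_of_mem_erase hi
      simp [g, this]
    rw [hg]
    exact hprod g

end powInd

section surj

variable (M : ℕ) (hM : 2 ≤ M) {K : Type u} [DecidableEq K] {F : Type u} [AddCommGroup F]
  [Module (B ⧸ J) F] (e : Module.Basis K (B ⧸ J) F) (s : J.Cotangent →ₗ[B ⧸ J] F)
  (pr : F →ₗ[B ⧸ J] J.Cotangent) (hpr : ∀ v, pr (s v) = v)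
  (y : K → B) (hy : ∀ k, y k ∈ J) (hy' : ∀ k, J.toCotangent ⟨y k, hy k⟩ = pr (e k))

/-- the image of the `ε`-fixed polynomials under `ν₀`. -/
def S0 : Set (B ⧸ J ^ M) :=
  {z | ∃ p : MvPolynomial K (B ⧸ J), eps J e s pr p = p ∧ nu0 (A := A) J M hM y p = z}

theorem S0_zero : (0 : B ⧸ J ^ M) ∈ S0 (A := A) J M hM e s pr y := ⟨0, map_zero _, map_zero _⟩

theorem S0_add {a b : B ⧸ J ^ M} (ha : a ∈ S0 (A := A) J M hM e s pr y)
    (hb : b ∈ S0 (A := A) J M hM e s pr y) : a + b ∈ S0 (A := A) J M hM e s pr y := by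
  obtain ⟨p, hp1, hp2⟩ := ha
  obtain ⟨q, hq1, hq2⟩ := hb
  exact ⟨p + q, by rw [map_add, hp1, hq1], by rw [map_add, hp2, hq2]⟩

theorem S0_sub {a b : B ⧸ J ^ M} (ha : a ∈ S0 (A := A) J M hM e s pr y)
    (hb : b ∈ S0 (A := A) J M hM e s pr y) : a - b ∈ S0 (A := A) J M hM e s pr y := by
  obtain ⟨p, hp1, hp2⟩ := ha
  obtain ⟨q, hq1, hq2⟩ := hb
  exact ⟨p - q, by rw [map_sub, hp1, hq1], by rw [map_sub, hp2, hq2]⟩

include hpr hy' in
theorem S0_pow : ∀ j d : ℕ, d + j = M → 1 ≤ d → ∀ z ∈ J ^ d,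
    Ideal.Quotient.mk (J ^ M) z ∈ S0 (A := A) J M hM e s pr y := by
  intro j
  induction j with
  | zero =>
    intro d hd _ z hz
    rw [add_zero] at hd
    subst hd
    rw [Ideal.Quotient.eq_zero_iff_mem.mpr hz]
    exact S0_zero J d hM e s pr y
  | succ j ih =>
    intro d hd hd1 z hz
    refine pow_add_induction J d hd1 (P := fun z => Ideal.Quotient.mk (J ^ M) z ∈
      S0 (A := A) J M hM e s pr y) ?_ ?_ ?_ z hz
    · rw [map_zero]; exact S0_zero J M hM e s pr y
    · intro a b ha hb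
      rw [map_add]; exact S0_add J M hM e s pr y ha hb
    · intro x
      choose t ht1 ht2 ht3 using fun i => exists_rep (A := A) J M hM e s pr hpr y hy hy' (x i)
      have h1 : Ideal.Quotient.mk (J ^ M) (∏ i, t i) ∈ S0 (A := A) J M hM e s pr y := by
        refine ⟨∏ i, lin J e s (x i), ?_, ?_⟩
        · rw [map_prod]
          exact Finset.prod_congr rfl (fun i _ => eps_lin J e s pr hpr (x i))
        · rw [map_prod, map_prod]
          exact Finset.prod_congr rfl (fun i _ => ht1 i)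
      have h2 : ∏ i, t i - ∏ i, (x i : B) ∈ J ^ (d + 1) := by
        have := prod_sub_prod_mem J Finset.univ t (fun i => (x i : B)) (fun i _ => (x i).2)
          (fun i _ => ht3 i) (fun i _ => ht2 i)
        rwa [Finset.card_univ, Fintype.card_fin] at this
      have h3 := ih (d + 1) (by omega) (by omega) _ h2
      have h4 := S0_sub J M hM e s pr y h1 h3
      rwa [← map_sub, sub_sub_cancel] at h4

include hpr hy' in
theorem S0_all (z : B ⧸ J ^ M) : z ∈ S0 (A := A) J M hM e s pr y := by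
  obtain ⟨b, rfl⟩ := Ideal.Quotient.mk_surjective z
  have h1 : Ideal.Quotient.mk (J ^ M) b - sigM (A := A) J M hM (Ideal.Quotient.mk J b) ∈
      RingHom.ker (pM (A := A) J M hM) := by
    rw [RingHom.mem_ker, map_sub, pM_sigM, pM_mk, sub_self]
  obtain ⟨z', hz', hz''⟩ := (Ideal.mem_map_iff_of_surjective _ Ideal.Quotient.mk_surjective).1
    (ker_pM_le (A := A) J M hM h1)
  have h2 := S0_pow (A := A) J M hM e s pr hpr y hy hy' (M - 1) 1 (by omega) le_rfl z'
    (by rwa [pow_one])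
  have h3 : sigM (A := A) J M hM (Ideal.Quotient.mk J b) ∈ S0 (A := A) J M hM e s pr y :=
    ⟨C (Ideal.Quotient.mk J b), eps_C J e s pr _, nu0_C J M hM y _⟩
  have h4 := S0_add J M hM e s pr y h2 h3
  rwa [hz'', sub_add_cancel] at h4

end surj

section final

theorem backward (hproj : Module.Projective (B ⧸ J) J.Cotangent) (hsym : PP16.SymGrBijective B J) :
    CAlgX.IsAdicFormallySmooth A B J := by
  classical
  intro E _ _ N hN ψ hψ
  obtain ⟨k0, hk0⟩ := hψ
  set k := k0 + 1 with hk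
  have hkill : ∀ x ∈ J ^ k, ψ x = 0 := fun x hx => hk0 x (Ideal.pow_le_pow_right (by omega) hx)
  set M := 2 * k with hMdef
  have hM : 2 ≤ M := by omega
  obtain ⟨s, hs⟩ := (Module.projective_def' (R := B ⧸ J) (P := J.Cotangent)).mp hproj
  set e := Finsupp.basisSingleOne (R := B ⧸ J) (ι := J.Cotangent) with he
  set pr := Finsupp.linearCombination (B ⧸ J) (id : J.Cotangent → J.Cotangent) with hprdef
  have hpr : ∀ v, pr (s v) = v := fun v => LinearMap.congr_fun hs v
  choose y0 hy0 using fun v : J.Cotangent => J.toCotangent_surjective v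
  set y : J.Cotangent → B := fun v => (y0 v : B) with hydef
  have hy : ∀ v, y v ∈ J := fun v => (y0 v).2
  have hy' : ∀ v, J.toCotangent ⟨y v, hy v⟩ = pr (e v) := by
    intro v
    have : pr (e v) = v := by simp [pr, e]
    rw [this]
    exact hy0 v
  have hkillM : ∀ x ∈ J ^ M, ψ x = 0 :=
    fun x hx => hkill x (Ideal.pow_le_pow_right (by omega) hx)
  set ψb : (B ⧸ J ^ M) →ₐ[A] E ⧸ N := Ideal.Quotient.liftₐ (J ^ M) ψ hkillM with hψb
  have hψb_mk : ∀ b, ψb (Ideal.Quotient.mk _ b) = ψ b := fun b => rfl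
  have : Algebra.FormallySmooth A (MvPolynomial J.Cotangent (B ⧸ J)) :=
    Algebra.FormallySmooth.comp A (B ⧸ J) _
  set ν0 := nu0 (A := A) J M hM y with hν0
  set ε := eps J e s pr with hε
  set εA : MvPolynomial J.Cotangent (B ⧸ J) →ₐ[A] MvPolynomial J.Cotangent (B ⧸ J) :=
    ε.restrictScalars A with hεA
  have hεA_apply : ∀ p, εA p = ε p := fun p => rfl
  have hεε : ∀ p, ε (ε p) = ε p := fun p => eps_eps J e s pr hpr p
  set χP := Algebra.FormallySmooth.lift N ⟨2, by rw [Ideal.zero_eq_bot]; exact hN⟩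
    (ψb.comp (ν0.comp εA)) with hχPdef
  have hχP : ∀ p, Ideal.Quotient.mk N (χP p) = ψb (ν0 (ε p)) := fun p =>
    Algebra.FormallySmooth.mk_lift N ⟨2, by rw [Ideal.zero_eq_bot]; exact hN⟩
      (ψb.comp (ν0.comp εA)) p
  have hχ' : ∀ p, Ideal.Quotient.mk N (χP (ε p)) = ψb (ν0 (ε p)) := by
    intro p
    rw [hχP, hεε]
  have h1 : ∀ p ∈ idealOfVars J.Cotangent (B ⧸ J) ^ k, χP (ε p) ∈ N := by
    intro p hp
    rw [← Ideal.Quotient.eq_zero_iff_mem, hχ']
    have := nu0_mem (A := A) J M hM y hy k _ (eps_mem J e s pr k p hp)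
    obtain ⟨z, hz, hz'⟩ := (Ideal.mem_map_iff_of_surjective _ Ideal.Quotient.mk_surjective).1 this
    rw [← hz', hψb_mk]
    exact hkill z hz
  have h2 : ∀ p ∈ idealOfVars J.Cotangent (B ⧸ J) ^ M, χP (ε p) = 0 := by
    intro p hp
    have hp2 : p ∈ (idealOfVars J.Cotangent (B ⧸ J) ^ k) ^ 2 := by
      rw [← pow_mul, mul_comm]
      exact hp
    have h3 : (χP.comp εA) p ∈ ((idealOfVars J.Cotangent (B ⧸ J) ^ k) ^ 2).map (χP.comp εA) :=
      Ideal.mem_map_of_mem _ hp2
    rw [Ideal.map_pow] at h3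
    have h4 : (idealOfVars J.Cotangent (B ⧸ J) ^ k).map (χP.comp εA) ≤ N :=
      Ideal.map_le_iff_le_comap.2 (fun p hp => h1 p hp)
    have h5 := Ideal.pow_right_mono h4 2 h3
    rw [hN] at h5
    exact h5
  have h3 : ∀ p, ν0 (ε p) = 0 → χP (ε p) = 0 := by
    intro p hp
    have hq := ker_lemma (A := A) J M hM e s pr hpr y hy hy' hsym (ε p) (hεε p) hp
    have := h2 _ hq
    rwa [hεε] at this
  have hwd : ∀ p q, ν0 (ε p) = ν0 (ε q) → χP (ε p) = χP (ε q) := by
    intro p q h
    have := h3 (p - q) (by rw [map_sub, map_sub, h, sub_self])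
    rwa [map_sub, map_sub, sub_eq_zero] at this
  choose pb hpb1 hpb2 using fun b : B =>
    S0_all (A := A) J M hM e s pr hpr y hy hy' (Ideal.Quotient.mk _ b)
  have hpb : ∀ b, ν0 (ε (pb b)) = Ideal.Quotient.mk _ b := by
    intro b
    rw [hpb1, hpb2]
  have hone : χP (ε (pb 1)) = 1 := by
    have := hwd (pb 1) 1 (by rw [hpb, map_one, map_one, map_one])
    rw [this, map_one, map_one]
  have hmul : ∀ b c, χP (ε (pb (b * c))) = χP (ε (pb b)) * χP (ε (pb c)) := by
    intro b c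
    have := hwd (pb (b * c)) (pb b * pb c) (by rw [hpb, map_mul, map_mul, map_mul, hpb, hpb])
    rw [this, map_mul, map_mul]
  have hzero : χP (ε (pb 0)) = 0 := by
    have := hwd (pb 0) 0 (by rw [hpb, map_zero, map_zero, map_zero])
    rw [this, map_zero, map_zero]
  have hadd : ∀ b c, χP (ε (pb (b + c))) = χP (ε (pb b)) + χP (ε (pb c)) := by
    intro b c
    have := hwd (pb (b + c)) (pb b + pb c) (by rw [hpb, map_add, map_add, map_add, hpb, hpb])
    rw [this, map_add, map_add]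
  have hcomm : ∀ a : A, χP (ε (pb (algebraMap A B a))) = algebraMap A E a := by
    intro a
    have h4 : ε (algebraMap A (MvPolynomial J.Cotangent (B ⧸ J)) a) =
        algebraMap A (MvPolynomial J.Cotangent (B ⧸ J)) a := εA.commutes a
    have := hwd (pb (algebraMap A B a)) (algebraMap A _ a) (by
      rw [hpb, h4, AlgHom.commutes]
      rfl)
    rw [this, h4, AlgHom.commutes]
  let χ : B →ₐ[A] E :=
    { toFun := fun b => χP (ε (pb b))
      map_one' := hone
      map_mul' := hmul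
      map_zero' := hzero
      map_add' := hadd
      commutes' := hcomm }
  refine ⟨χ, AlgHom.ext fun b => ?_⟩
  change Ideal.Quotient.mk N (χP (ε (pb b))) = ψ b
  rw [hχ', hpb, hψb_mk]

end final

end Groth.Agent.Lib.Helper70.AdicFS2
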