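import Groth.Agent.Lib.Helper70.AdicFS2
import Mathlib.RingTheory.Kaehler.Basic
import Mathlib.LinearAlgebra.TensorProduct.RightExactness

set_option autoImplicit false
set_option linter.unusedSectionVars false
universe u v w
open scoped TensorProduct Pointwise

namespace Groth.Agent.Lib.Helper70.AdicFS3

open Groth.Agent.Lib.Helper70 Groth.Agent.Lib.Helper70.AdicFS1
open PP16 KaehlerDifferential

section ext

variable {Λ A B : Type u} [CommRing Λ] [CommRing A] [CommRing B] [Algebra Λ A] [Algebra A B]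
  [Algebra Λ B] [IsScalarTower Λ A B] (J : Ideal B)
  {N : Type u} [AddCommGroup N] [Module B N] [Module A N] [Module Λ N] [IsScalarTower A B N]
  [IsScalarTower Λ A N] [IsScalarTower Λ B N] [Module (B ⧸ J) N] [IsScalarTower B (B ⧸ J) N]

/-- extension of derivations from `A` to `B` with values in a `B/J`-module. -/
theorem exists_derivation_ext
    (hγ : Function.Injective ((KaehlerDifferential.mapBaseChange Λ A B).lTensor (B ⧸ J)))
    (hδ : Module.Projective (B ⧸ J) ((B ⧸ J) ⊗[B] Ω[B⁄A]))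
    (δ₀ : Derivation Λ A N) :
    ∃ D : Derivation Λ B N, ∀ a : A, D (algebraMap A B a) = δ₀ a := by
  set uC : (B ⧸ J) ⊗[B] (B ⊗[A] Ω[A⁄Λ]) →ₗ[B ⧸ J] (B ⧸ J) ⊗[B] Ω[B⁄Λ] :=
    TensorProduct.AlgebraTensorModule.lTensor (B ⧸ J) (B ⧸ J) (KaehlerDifferential.mapBaseChange Λ A B)
    with huC
  set vC : (B ⧸ J) ⊗[B] Ω[B⁄Λ] →ₗ[B ⧸ J] (B ⧸ J) ⊗[B] Ω[B⁄A] :=
    TensorProduct.AlgebraTensorModule.lTensor (B ⧸ J) (B ⧸ J) (KaehlerDifferential.map Λ A B B)
    with hvC
  have hex : Function.Exact uC vC := by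
    have := lTensor_exact (B ⧸ J) (KaehlerDifferential.exact_mapBaseChange_map Λ A B)
      (KaehlerDifferential.map_surjective Λ A B)
    exact this
  have hvs : Function.Surjective vC :=
    LinearMap.lTensor_surjective (B ⧸ J) (KaehlerDifferential.map_surjective Λ A B)
  have hui : Function.Injective uC := hγ
  obtain ⟨t, ht⟩ := Module.projective_lifting_property vC LinearMap.id hvs
  obtain ⟨-, l, hl⟩ := ((Function.Exact.split_tfae' hex).out 0 1 rfl rfl).mp ⟨hui, t, ht⟩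
  set φ₀ : (B ⧸ J) ⊗[B] (B ⊗[A] Ω[A⁄Λ]) →ₗ[B ⧸ J] N :=
    LinearMap.liftBaseChange (B ⧸ J) (LinearMap.liftBaseChange B δ₀.liftKaehlerDifferential)
    with hφ₀
  set Φ : (B ⧸ J) ⊗[B] Ω[B⁄Λ] →ₗ[B ⧸ J] N := φ₀ ∘ₗ l with hΦ
  set f : Ω[B⁄Λ] →ₗ[B] N :=
    (Φ.restrictScalars B) ∘ₗ (TensorProduct.mk B (B ⧸ J) Ω[B⁄Λ] 1) with hf
  refine ⟨f.compDer (KaehlerDifferential.D Λ B), fun a => ?_⟩
  change Φ ((1 : B ⧸ J) ⊗ₜ[B] KaehlerDifferential.D Λ B (algebraMap A B a)) = δ₀ a
  have h1 : (1 : B ⧸ J) ⊗ₜ[B] KaehlerDifferential.D Λ B (algebraMap A B a) =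
      uC ((1 : B ⧸ J) ⊗ₜ[B] ((1 : B) ⊗ₜ[A] KaehlerDifferential.D Λ A a)) := by
    rw [huC, TensorProduct.AlgebraTensorModule.lTensor_tmul, KaehlerDifferential.mapBaseChange_tmul,
      one_smul, KaehlerDifferential.map_D]
  rw [h1, hΦ, LinearMap.comp_apply]
  have h2 : l (uC ((1 : B ⧸ J) ⊗ₜ[B] ((1 : B) ⊗ₜ[A] KaehlerDifferential.D Λ A a))) =
      (1 : B ⧸ J) ⊗ₜ[B] ((1 : B) ⊗ₜ[A] KaehlerDifferential.D Λ A a) := LinearMap.congr_fun hl _
  rw [h2, hφ₀, LinearMap.liftBaseChange_tmul, LinearMap.liftBaseChange_tmul, one_smul, one_smul,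
    Derivation.liftKaehlerDifferential_comp_D]

end ext

section core

variable {Λ A B : Type u} [CommRing Λ] [CommRing A] [CommRing B] [Algebra Λ A] [Algebra A B]
  [Algebra Λ B] [IsScalarTower Λ A B] (J : Ideal B)
  {E E' : Type u} [CommRing E] [CommRing E'] [Algebra A E] [Algebra A E']

/-- the kernel of `g`, as a `B`-module through `χ₀`. -/
def KerT (g : E →ₐ[A] E') (_χ₀ : B →+* E) : Type u := ↥(RingHom.ker g)

variable (g : E →ₐ[A] E') (χ₀ : B →+* E)

instance : AddCommGroup (KerT g χ₀) := inferInstanceAs (AddCommGroup ↥(RingHom.ker g))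

instance modE : Module E (KerT g χ₀) := inferInstanceAs (Module E ↥(RingHom.ker g))

instance modB : Module B (KerT g χ₀) := Module.compHom _ χ₀

instance modA : Module A (KerT g χ₀) := Module.compHom _ (algebraMap A B)

instance modΛ : Module Λ (KerT g χ₀) := Module.compHom _ (algebraMap Λ B)

instance : IsScalarTower A B (KerT g χ₀) :=
  ⟨fun a b n => by
    change (a • b) • n = (algebraMap A B a) • (b • n)
    rw [Algebra.smul_def, mul_smul]⟩

instance : IsScalarTower Λ B (KerT g χ₀) :=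
  ⟨fun a b n => by
    change (a • b) • n = (algebraMap Λ B a) • (b • n)
    rw [Algebra.smul_def, mul_smul]⟩

instance : IsScalarTower Λ A (KerT g χ₀) :=
  ⟨fun l a n => by
    change (algebraMap A B (l • a)) • n = (algebraMap Λ B l) • ((algebraMap A B a) • n)
    rw [Algebra.smul_def, map_mul, ← IsScalarTower.algebraMap_apply, mul_smul]⟩

/-- the underlying element of `E`. -/
def KerT.val (n : KerT g χ₀) : E := (n : ↥(RingHom.ker g)).1

theorem KerT.val_mem (n : KerT g χ₀) : g (KerT.val g χ₀ n) = 0 := (n : ↥(RingHom.ker g)).2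

theorem KerT.val_add (n n' : KerT g χ₀) :
    KerT.val g χ₀ (n + n') = KerT.val g χ₀ n + KerT.val g χ₀ n' := rfl

theorem KerT.val_zero : KerT.val g χ₀ 0 = 0 := rfl

theorem KerT.val_smul (b : B) (n : KerT g χ₀) :
    KerT.val g χ₀ (b • n) = χ₀ b * KerT.val g χ₀ n := rfl

theorem KerT.val_smulA (a : A) (n : KerT g χ₀) :
    KerT.val g χ₀ (a • n) = χ₀ (algebraMap A B a) * KerT.val g χ₀ n := rfl

theorem KerT.val_smulΛ (l : Λ) (n : KerT g χ₀) :
    KerT.val g χ₀ (l • n) = χ₀ (algebraMap Λ B l) * KerT.val g χ₀ n := rfl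

theorem KerT.ext {n n' : KerT g χ₀} (h : KerT.val g χ₀ n = KerT.val g χ₀ n') : n = n' :=
  Subtype.ext h

/-- constructor. -/
def KerT.mk (x : E) (hx : g x = 0) : KerT g χ₀ := (⟨x, hx⟩ : ↥(RingHom.ker g))

theorem KerT.val_mk (x : E) (hx : g x = 0) : KerT.val g χ₀ (KerT.mk g χ₀ x hx) = x := rfl

theorem KerT.val_mul_val (hk : RingHom.ker g ^ 2 = ⊥) (n n' : KerT g χ₀) :
    KerT.val g χ₀ n * KerT.val g χ₀ n' = 0 := by
  rw [← Ideal.mem_bot, ← hk, pow_two]
  exact Ideal.mul_mem_mul (n : ↥(RingHom.ker g)).2 (n' : ↥(RingHom.ker g)).2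

theorem core (hΛ : CAlgX.IsAdicFormallySmooth Λ B J)
    (hγ : Function.Injective ((KaehlerDifferential.mapBaseChange Λ A B).lTensor (B ⧸ J)))
    (hδ : Module.Projective (B ⧸ J) ((B ⧸ J) ⊗[B] Ω[B⁄A]))
    (hg : Function.Surjective g) (hk : RingHom.ker g ^ 2 = ⊥) (ψ : B →ₐ[A] E')
    (hψ : ∃ m : ℕ, ∀ x ∈ J ^ m, ψ x = 0)
    (hJ : (Ideal.comap g (Ideal.map ψ J)) * RingHom.ker g = ⊥) :
    ∃ χ : B →ₐ[A] E, g.comp χ = ψ := by
  letI algΛE : Algebra Λ E := Algebra.compHom E (algebraMap Λ A)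
  letI algΛE' : Algebra Λ E' := Algebra.compHom E' (algebraMap Λ A)
  haveI : IsScalarTower Λ A E := IsScalarTower.of_algebraMap_eq (fun _ => rfl)
  haveI : IsScalarTower Λ A E' := IsScalarTower.of_algebraMap_eq (fun _ => rfl)
  obtain ⟨χ₀, hχ₀⟩ := lift_of_surjective (A := Λ) J hΛ (g.restrictScalars Λ) hg hk
    (ψ.restrictScalars Λ) hψ
  have hgχ : ∀ b, g (χ₀ b) = ψ b := fun b => AlgHom.congr_fun hχ₀ b
  have htors : Module.IsTorsionBySet B (KerT g (χ₀ : B →+* E)) J := by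
    rintro n ⟨x, hx⟩
    apply KerT.ext
    change KerT.val g _ (x • n) = 0
    rw [KerT.val_smul]
    have h1 : (χ₀ : B →+* E) x ∈ Ideal.comap g (Ideal.map ψ J) := by
      rw [Ideal.mem_comap]
      change g (χ₀ x) ∈ _
      rw [hgχ]
      exact Ideal.mem_map_of_mem _ hx
    have := Ideal.mul_mem_mul h1 (n : ↥(RingHom.ker g)).2
    rwa [hJ, Ideal.mem_bot] at this
  letI : Module (B ⧸ J) (KerT g (χ₀ : B →+* E)) := htors.module
  haveI : IsScalarTower B (B ⧸ J) (KerT g (χ₀ : B →+* E)) := htors.isScalarTower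
  have hΛE : ∀ l : Λ, χ₀ (algebraMap Λ B l) = algebraMap A E (algebraMap Λ A l) := fun l =>
    χ₀.commutes l
  let δ₀ : Derivation Λ A (KerT g (χ₀ : B →+* E)) := Derivation.mk'
    { toFun := fun a => KerT.mk g _ (χ₀ (algebraMap A B a) - algebraMap A E a) (by
        rw [map_sub, hgχ, AlgHom.commutes, AlgHom.commutes, sub_self])
      map_add' := by
        intro a a'
        apply KerT.ext
        rw [KerT.val_add, KerT.val_mk, KerT.val_mk, KerT.val_mk, map_add, map_add, map_add]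
        ring
      map_smul' := by
        intro l a
        apply KerT.ext
        rw [RingHom.id_apply, KerT.val_smulΛ, KerT.val_mk, KerT.val_mk]
        change χ₀ (algebraMap A B (l • a)) - algebraMap A E (l • a) =
          χ₀ (algebraMap Λ B l) * _
        rw [Algebra.smul_def, map_mul, map_mul, map_mul, ← IsScalarTower.algebraMap_apply, hΛE]
        ring }
    (by
      intro a a'
      apply KerT.ext
      change KerT.val g _ (KerT.mk g _ _ _) = _
      rw [KerT.val_add, KerT.val_smulA, KerT.val_smulA, KerT.val_mk]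
      change _ = χ₀ (algebraMap A B a) * KerT.val g _ (KerT.mk g _ _ _) +
        χ₀ (algebraMap A B a') * KerT.val g _ (KerT.mk g _ _ _)
      rw [KerT.val_mk, KerT.val_mk]
      have h0 := KerT.val_mul_val g (χ₀ : B →+* E) hk
        (KerT.mk g _ (χ₀ (algebraMap A B a) - algebraMap A E a) (by
          rw [map_sub, hgχ, AlgHom.commutes, AlgHom.commutes, sub_self]))
        (KerT.mk g _ (χ₀ (algebraMap A B a') - algebraMap A E a') (by
          rw [map_sub, hgχ, AlgHom.commutes, AlgHom.commutes, sub_self]))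
      rw [KerT.val_mk, KerT.val_mk] at h0
      rw [map_mul, map_mul, map_mul]
      linear_combination (-1 : E) * h0)
  have hδ₀ : ∀ a, KerT.val g _ (δ₀ a) = χ₀ (algebraMap A B a) - algebraMap A E a := fun a => rfl
  obtain ⟨D, hD⟩ := exists_derivation_ext J hγ hδ δ₀
  have hDmul : ∀ b c, KerT.val g _ (D (b * c)) =
      χ₀ b * KerT.val g _ (D c) + χ₀ c * KerT.val g _ (D b) := by
    intro b c
    rw [Derivation.leibniz, KerT.val_add, KerT.val_smul, KerT.val_smul]
    rfl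
  let χ : B →ₐ[A] E :=
    { toFun := fun b => χ₀ b - KerT.val g _ (D b)
      map_one' := by
        rw [Derivation.map_one_eq_zero, KerT.val_zero, sub_zero, map_one]
      map_mul' := by
        intro b c
        have h0 := KerT.val_mul_val g (χ₀ : B →+* E) hk (D b) (D c)
        rw [hDmul, map_mul]
        linear_combination (-1 : E) * h0
      map_zero' := by
        rw [map_zero, map_zero, KerT.val_zero, sub_zero]
      map_add' := by
        intro b c
        rw [map_add, map_add, KerT.val_add]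
        ring
      commutes' := by
        intro a
        rw [hD, hδ₀]
        ring }
  refine ⟨χ, AlgHom.ext fun b => ?_⟩
  change g (χ₀ b - KerT.val g _ (D b)) = ψ b
  rw [map_sub, KerT.val_mem, sub_zero, hgχ]

end core

section induction

variable {Λ A B : Type u} [CommRing Λ] [CommRing A] [CommRing B] [Algebra Λ A] [Algebra A B]
  [Algebra Λ B] [IsScalarTower Λ A B] (J : Ideal B)

theorem lift_k (hΛ : CAlgX.IsAdicFormallySmooth Λ B J)
    (hγ : Function.Injective ((KaehlerDifferential.mapBaseChange Λ A B).lTensor (B ⧸ J)))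
    (hδ : Module.Projective (B ⧸ J) ((B ⧸ J) ⊗[B] Ω[B⁄A])) :
    ∀ (k : ℕ) (E E' : Type u) [CommRing E] [CommRing E'] [Algebra A E] [Algebra A E']
      (g : E →ₐ[A] E'), Function.Surjective g → RingHom.ker g ^ 2 = ⊥ → ∀ ψ : B →ₐ[A] E',
      (∃ m : ℕ, ∀ x ∈ J ^ m, ψ x = 0) →
      (Ideal.comap g (Ideal.map ψ (J ^ k))) * RingHom.ker g = ⊥ →
      ∃ χ : B →ₐ[A] E, g.comp χ = ψ := by
  intro k
  induction k with
  | zero =>
    intro E E' _ _ _ _ g hg hk ψ hψ hJ
    rw [pow_zero, Ideal.one_eq_top, Ideal.map_top, Ideal.comap_top, Ideal.top_mul] at hJ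
    have hinj : Function.Injective g := (RingHom.injective_iff_ker_eq_bot _).mpr hJ
    refine ⟨(AlgEquiv.ofBijective g ⟨hinj, hg⟩).symm.toAlgHom.comp ψ, AlgHom.ext fun b => ?_⟩
    rw [AlgHom.comp_apply, AlgHom.comp_apply]
    exact (AlgEquiv.ofBijective g ⟨hinj, hg⟩).apply_symm_apply (ψ b)
  | succ k ih =>
    intro E E' _ _ _ _ g hg hk ψ hψ hJ
    set 𝔧 : Ideal E := Ideal.comap g (Ideal.map ψ J) with h𝔧
    set N : Ideal E := RingHom.ker g with hNdef
    set N' : Ideal E := 𝔧 * N with hN'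
    have hN'le : N' ≤ N := Ideal.mul_le_left (I := N) (J := 𝔧) |> fun h => by rw [hN', mul_comm]; exact h
    let g₁ : (E ⧸ N') →ₐ[A] E' := Ideal.Quotient.liftₐ N' g (fun x hx => hN'le hx)
    have hg₁mk : ∀ e, g₁ (Ideal.Quotient.mk N' e) = g e := fun e => rfl
    have hg₁s : Function.Surjective g₁ := by
      intro y
      obtain ⟨e, rfl⟩ := hg y
      exact ⟨Ideal.Quotient.mk N' e, rfl⟩
    have hker₁ : ∀ z, g₁ z = 0 → ∃ e ∈ N, Ideal.Quotient.mk N' e = z := by
      intro z hz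
      obtain ⟨e, rfl⟩ := Ideal.Quotient.mk_surjective z
      exact ⟨e, hz, rfl⟩
    have hk₁ : RingHom.ker g₁ ^ 2 = ⊥ := by
      rw [eq_bot_iff, pow_two, Ideal.mul_le]
      intro z₁ hz₁ z₂ hz₂
      obtain ⟨e₁, he₁, rfl⟩ := hker₁ z₁ hz₁
      obtain ⟨e₂, he₂, rfl⟩ := hker₁ z₂ hz₂
      rw [← map_mul, Ideal.mem_bot]
      have : e₁ * e₂ ∈ N ^ 2 := by rw [pow_two]; exact Ideal.mul_mem_mul he₁ he₂
      rw [hk, Ideal.mem_bot] at this
      rw [this, map_zero]
    have hJ₁ : (Ideal.comap g₁ (Ideal.map ψ J)) * RingHom.ker g₁ = ⊥ := by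
      rw [eq_bot_iff, Ideal.mul_le]
      intro z₁ hz₁ z₂ hz₂
      obtain ⟨e₁, rfl⟩ := Ideal.Quotient.mk_surjective z₁
      obtain ⟨e₂, he₂, rfl⟩ := hker₁ z₂ hz₂
      rw [Ideal.mem_comap, hg₁mk] at hz₁
      rw [← map_mul, Ideal.mem_bot, Ideal.Quotient.eq_zero_iff_mem]
      exact Ideal.mul_mem_mul hz₁ he₂
    obtain ⟨ψ₁, hψ₁⟩ := core J g₁ hΛ hγ hδ hg₁s hk₁ ψ hψ hJ₁
    have hgψ₁ : ∀ b, g₁ (ψ₁ b) = ψ b := fun b => AlgHom.congr_fun hψ₁ b
    have hkerg' : RingHom.ker (Ideal.Quotient.mkₐ A N') = N' := Ideal.Quotient.mkₐ_ker A N'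
    have hk' : RingHom.ker (Ideal.Quotient.mkₐ A N') ^ 2 = ⊥ := by
      rw [hkerg', eq_bot_iff, ← hk]
      exact Ideal.pow_right_mono hN'le 2
    have hψ₁kill : ∃ m : ℕ, ∀ x ∈ J ^ m, ψ₁ x = 0 := by
      obtain ⟨m, hm⟩ := hψ
      refine ⟨m + 1, fun x hx => ?_⟩
      rw [pow_succ'] at hx
      refine Submodule.mul_induction_on hx ?_ ?_
      · intro a ha z hz
        rw [map_mul]
        have h1 : ψ₁ a ∈ Ideal.comap g₁ (Ideal.map ψ J) := by
          rw [Ideal.mem_comap, hgψ₁]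
          exact Ideal.mem_map_of_mem _ ha
        have h2 : ψ₁ z ∈ RingHom.ker g₁ := by
          rw [RingHom.mem_ker, hgψ₁]
          exact hm z hz
        have := Ideal.mul_mem_mul h1 h2
        rwa [hJ₁, Ideal.mem_bot] at this
      · intro a b ha hb
        rw [map_add, ha, hb, add_zero]
    have hJ' : (Ideal.comap (Ideal.Quotient.mkₐ A N') (Ideal.map ψ₁ (J ^ k))) *
        RingHom.ker (Ideal.Quotient.mkₐ A N') = ⊥ := by
      rw [hkerg', eq_bot_iff, Ideal.mul_le]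
      intro e he n' hn'
      rw [Ideal.mem_bot]
      rw [Ideal.mem_comap] at he
      have hge : g e ∈ Ideal.map ψ (J ^ k) := by
        have h1 : g₁ (Ideal.Quotient.mkₐ A N' e) ∈ Ideal.map g₁ (Ideal.map ψ₁ (J ^ k)) :=
          Ideal.mem_map_of_mem g₁ he
        have h2 : Ideal.map g₁ (Ideal.map ψ₁ (J ^ k)) ≤ Ideal.map ψ (J ^ k) := by
          rw [Ideal.map_le_iff_le_comap, Ideal.map_le_iff_le_comap]
          intro x hx
          rw [Ideal.mem_comap, Ideal.mem_comap, hgψ₁]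
          exact Ideal.mem_map_of_mem _ hx
        exact h2 h1
      refine Submodule.mul_induction_on hn' ?_ ?_
      · intro ej hej nj hnj
        have h3 : e * ej ∈ Ideal.comap g (Ideal.map ψ (J ^ (k + 1))) := by
          rw [Ideal.mem_comap, map_mul, pow_succ, Ideal.map_mul]
          exact Ideal.mul_mem_mul hge hej
        have := Ideal.mul_mem_mul h3 hnj
        rw [hJ, Ideal.mem_bot] at this
        rw [← mul_assoc]
        exact this
      · intro a b ha hb
        rw [mul_add, ha, hb, add_zero]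
    obtain ⟨χ, hχ⟩ := ih E (E ⧸ N') (Ideal.Quotient.mkₐ A N')
      (Ideal.Quotient.mkₐ_surjective A N') hk' ψ₁ hψ₁kill hJ'
    refine ⟨χ, AlgHom.ext fun b => ?_⟩
    have h1 := AlgHom.congr_fun hχ b
    rw [AlgHom.comp_apply] at h1 ⊢
    rw [← hgψ₁, ← h1]
    rfl

theorem adic_of_conditions (hΛ : CAlgX.IsAdicFormallySmooth Λ B J)
    (hγ : Function.Injective ((KaehlerDifferential.mapBaseChange Λ A B).lTensor (B ⧸ J)))
    (hδ : Module.Projective (B ⧸ J) ((B ⧸ J) ⊗[B] Ω[B⁄A])) :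
    CAlgX.IsAdicFormallySmooth A B J := by
  intro E _ _ N hN ψ hψ
  obtain ⟨m, hm⟩ := hψ
  have hker : RingHom.ker (Ideal.Quotient.mkₐ A N) = N := Ideal.Quotient.mkₐ_ker A N
  refine lift_k J hΛ hγ hδ m E (E ⧸ N) (Ideal.Quotient.mkₐ A N)
    (Ideal.Quotient.mkₐ_surjective A N) (by rw [hker]; exact hN) ψ ⟨m, hm⟩ ?_
  have h1 : Ideal.map ψ (J ^ m) = ⊥ := by
    rw [eq_bot_iff, Ideal.map_le_iff_le_comap]
    intro x hx
    rw [Ideal.mem_comap, Ideal.mem_bot]
    exact hm x hx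
  rw [h1, hker]
  have : Ideal.comap (Ideal.Quotient.mkₐ A N) ⊥ = N := by
    ext x
    rw [Ideal.mem_comap, Ideal.mem_bot]
    exact Ideal.Quotient.eq_zero_iff_mem
  rw [this, ← pow_two]
  exact hN

end induction

end Groth.Agent.Lib.Helper70.AdicFS3
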