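import Groth.Agent.Lib.Helper70.AdicFS3

set_option autoImplicit false
set_option linter.unusedSectionVars false
set_option linter.style.haveILetI false
universe u v w
open scoped TensorProduct Pointwise

namespace Groth.Agent.Lib.Helper70.AdicFS4

open Groth.Agent.Lib.Helper70 Groth.Agent.Lib.Helper70.AdicFS1
open PP16 KaehlerDifferential

section comp

variable {Λ A B : Type u} [CommRing Λ] [CommRing A] [CommRing B] [Algebra Λ A] [Algebra A B]
  [Algebra Λ B] [IsScalarTower Λ A B] (J : Ideal B)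

theorem adic_comp [Algebra.FormallySmooth Λ A] (hAB : CAlgX.IsAdicFormallySmooth A B J) :
    CAlgX.IsAdicFormallySmooth Λ B J := by
  intro E _ _ N hN ψ hψ
  let ψA : A →ₐ[Λ] E ⧸ N := ψ.comp (IsScalarTower.toAlgHom Λ A B)
  let f : A →ₐ[Λ] E := Algebra.FormallySmooth.lift N ⟨2, hN⟩ ψA
  have hf : ∀ a, Ideal.Quotient.mk N (f a) = ψ (algebraMap A B a) := fun a =>
    Algebra.FormallySmooth.mk_lift N ⟨2, hN⟩ ψA a
  letI : Algebra A E := f.toRingHom.toAlgebra
  haveI : IsScalarTower Λ A E := IsScalarTower.of_algebraMap_eq fun l => (f.commutes l).symm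
  let ψ' : B →ₐ[A] E ⧸ N :=
    { toRingHom := ψ.toRingHom
      commutes' := fun a => by
        change ψ (algebraMap A B a) = algebraMap A (E ⧸ N) a
        rw [← hf a]
        rfl }
  obtain ⟨χ, hχ⟩ := hAB E N hN ψ' hψ
  refine ⟨χ.restrictScalars Λ, AlgHom.ext fun b => ?_⟩
  exact AlgHom.congr_fun hχ b

end comp

section triv

variable {R C : Type u} [CommRing R] [CommRing C] (M : Type u) [AddCommGroup M] [Module C M]

/-- the opposite action. -/
@[reducible] noncomputable def opMod : Module Cᵐᵒᵖ M :=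
  Module.compHom _ ((RingHom.id C).fromOpposite (fun _ _ => Commute.all _ _))

theorem isCentral : @IsCentralScalar C M _ (opMod M).toSMul :=
  @IsCentralScalar.mk C M _ (opMod M).toSMul (fun _ _ => rfl)

open TrivSqZeroExt

variable {M} [Module Cᵐᵒᵖ M] [IsCentralScalar C M]

/-- the ring hom `r ↦ (φ r, d r)` for a `φ`-derivation `d`. -/
noncomputable def derHom (φ : R →+* C) (d : R → M) (hadd : ∀ a b, d (a + b) = d a + d b)
    (hmul : ∀ a b, d (a * b) = φ a • d b + φ b • d a) : R →+* TrivSqZeroExt C M where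
  toFun r := inl (φ r) + inr (d r)
  map_one' := by
    have h1 : d 1 = 0 := by
      have h := hmul 1 1
      rw [mul_one, map_one, one_smul] at h
      have : d 1 + d 1 = d 1 + 0 := by rw [add_zero]; exact h.symm
      exact add_left_cancel this
    rw [h1, inr_zero, add_zero, map_one, inl_one]
  map_mul' a b := by
    apply TrivSqZeroExt.ext
    · simp
    · simp only [snd_add, snd_inl, snd_inr, zero_add, snd_mul, fst_add, fst_inl, fst_inr,
        add_zero, op_smul_eq_smul]
      rw [hmul]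
  map_zero' := by
    have h0 : d 0 = 0 := by
      have h := hadd 0 0
      rw [add_zero] at h
      have : d 0 + d 0 = d 0 + 0 := by rw [add_zero]; exact h.symm
      exact add_left_cancel this
    rw [h0, map_zero, inl_zero, inr_zero, add_zero]
  map_add' a b := by
    rw [map_add, hadd, inl_add, inr_add]
    abel

theorem derHom_fst (φ : R →+* C) (d : R → M) (hadd : ∀ a b, d (a + b) = d a + d b)
    (hmul : ∀ a b, d (a * b) = φ a • d b + φ b • d a) (r : R) :
    (derHom φ d hadd hmul r).fst = φ r := by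
  change (inl (φ r) + inr (d r) : TrivSqZeroExt C M).fst = _
  simp

theorem derHom_snd (φ : R →+* C) (d : R → M) (hadd : ∀ a b, d (a + b) = d a + d b)
    (hmul : ∀ a b, d (a * b) = φ a • d b + φ b • d a) (r : R) :
    (derHom φ d hadd hmul r).snd = d r := by
  change (inl (φ r) + inr (d r) : TrivSqZeroExt C M).snd = _
  simp

end triv

section der

variable {A B : Type u} [CommRing A] [CommRing B] [Algebra A B] (J : Ideal B)

open TrivSqZeroExt

/-- Lifting/extending derivations with values in `B/J`-modules. -/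
theorem exists_der_aux (hAB : CAlgX.IsAdicFormallySmooth A B J) {F Z : Type u} [AddCommGroup F]
    [Module (B ⧸ J) F] [AddCommGroup Z] [Module (B ⧸ J) Z]
    [Module (B ⧸ J)ᵐᵒᵖ F] [IsCentralScalar (B ⧸ J) F]
    [Module (B ⧸ J)ᵐᵒᵖ Z] [IsCentralScalar (B ⧸ J) Z] (π : F →ₗ[B ⧸ J] Z)
    (hπ : Function.Surjective π)
    (D : B → Z) (hDadd : ∀ b c, D (b + c) = D b + D c)
    (hDmul : ∀ b c, D (b * c) = Ideal.Quotient.mk J b • D c + Ideal.Quotient.mk J c • D b)
    (d : A → F) (hdadd : ∀ a a', d (a + a') = d a + d a')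
    (hdmul : ∀ a a', d (a * a') =
      algebraMap A (B ⧸ J) a • d a' + algebraMap A (B ⧸ J) a' • d a)
    (hπd : ∀ a, π (d a) = D (algebraMap A B a)) :
    ∃ D' : B → F, (∀ b c, D' (b + c) = D' b + D' c) ∧
      (∀ b c, D' (b * c) = Ideal.Quotient.mk J b • D' c + Ideal.Quotient.mk J c • D' b) ∧
      (∀ a, D' (algebraMap A B a) = d a) ∧ ∀ b, π (D' b) = D b := by
  let τF : A →+* TrivSqZeroExt (B ⧸ J) F := derHom (algebraMap A (B ⧸ J)) d hdadd hdmul
  let τZ : A →+* TrivSqZeroExt (B ⧸ J) Z := derHom (algebraMap A (B ⧸ J)) (fun a => π (d a))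
    (by intro a a'; simp only [hdadd, map_add])
    (by intro a a'; simp only [hdmul, map_add, map_smul])
  letI algF : Algebra A (TrivSqZeroExt (B ⧸ J) F) := τF.toAlgebra
  letI algZ : Algebra A (TrivSqZeroExt (B ⧸ J) Z) := τZ.toAlgebra
  let g : TrivSqZeroExt (B ⧸ J) F →ₐ[A] TrivSqZeroExt (B ⧸ J) Z :=
    { toRingHom := (TrivSqZeroExt.map π).toRingHom
      commutes' := fun a => by
        change TrivSqZeroExt.map π (τF a) = τZ a
        apply TrivSqZeroExt.ext
        · rw [fst_map, derHom_fst, derHom_fst]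
        · rw [snd_map, derHom_snd, derHom_snd] }
  have hgapp : ∀ x, g x = TrivSqZeroExt.map π x := fun _ => rfl
  have hg : Function.Surjective g := by
    intro y
    obtain ⟨f, hf⟩ := hπ y.snd
    refine ⟨inl y.fst + inr f, ?_⟩
    rw [hgapp]
    apply TrivSqZeroExt.ext
    · rw [fst_map]; simp
    · rw [snd_map]; simp [hf]
  have hk : RingHom.ker g ^ 2 = ⊥ := by
    rw [eq_bot_iff, pow_two, Ideal.mul_le]
    intro x hx y hy
    rw [RingHom.mem_ker, hgapp] at hx hy
    have hx1 : x.fst = 0 := by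
      have := congrArg TrivSqZeroExt.fst hx
      rwa [fst_map] at this
    have hy1 : y.fst = 0 := by
      have := congrArg TrivSqZeroExt.fst hy
      rwa [fst_map] at this
    rw [Ideal.mem_bot]
    apply TrivSqZeroExt.ext
    · rw [fst_mul, hx1, zero_mul]; rfl
    · rw [snd_mul, hx1, hy1, zero_smul, MulOpposite.op_zero, zero_smul, add_zero]; rfl
  let ψ0 : B →+* TrivSqZeroExt (B ⧸ J) Z := derHom (Ideal.Quotient.mk J) D hDadd hDmul
  let ψ : B →ₐ[A] TrivSqZeroExt (B ⧸ J) Z :=
    { toRingHom := ψ0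
      commutes' := fun a => by
        change ψ0 (algebraMap A B a) = τZ a
        apply TrivSqZeroExt.ext
        · rw [derHom_fst, derHom_fst]; rfl
        · rw [derHom_snd, derHom_snd, hπd] }
  have hψapp : ∀ b, ψ b = ψ0 b := fun _ => rfl
  have hkill : ∀ x ∈ J ^ 2, ψ x = 0 := by
    intro x hx
    rw [pow_two] at hx
    refine Submodule.mul_induction_on hx ?_ ?_
    · intro y hy z hz
      rw [map_mul]
      apply TrivSqZeroExt.ext
      · rw [fst_mul, hψapp, hψapp, derHom_fst, derHom_fst,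
          Ideal.Quotient.eq_zero_iff_mem.mpr hy, zero_mul]
        rfl
      · rw [snd_mul, hψapp, hψapp, derHom_fst, derHom_fst,
          Ideal.Quotient.eq_zero_iff_mem.mpr hy,
          Ideal.Quotient.eq_zero_iff_mem.mpr hz, zero_smul, MulOpposite.op_zero, zero_smul,
          add_zero]
        rfl
    · intro y z hy hz
      rw [map_add, hy, hz, add_zero]
  obtain ⟨χ, hχ⟩ := lift_of_surjective J hAB g hg hk ψ ⟨2, hkill⟩
  have hfst : ∀ b, (χ b).fst = Ideal.Quotient.mk J b := by
    intro b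
    have := congrArg TrivSqZeroExt.fst (AlgHom.congr_fun hχ b)
    rwa [AlgHom.comp_apply, hgapp, fst_map, hψapp, derHom_fst] at this
  have hsnd : ∀ b, π (χ b).snd = D b := by
    intro b
    have := congrArg TrivSqZeroExt.snd (AlgHom.congr_fun hχ b)
    rwa [AlgHom.comp_apply, hgapp, snd_map, hψapp, derHom_snd] at this
  refine ⟨fun b => (χ b).snd, ?_, ?_, ?_, hsnd⟩
  · intro b c
    change (χ (b + c)).snd = (χ b).snd + (χ c).snd
    rw [map_add, snd_add]
  · intro b c
    change (χ (b * c)).snd = _ • (χ c).snd + _ • (χ b).snd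
    rw [map_mul, snd_mul, hfst, hfst, op_smul_eq_smul]
  · intro a
    have h1 : χ (algebraMap A B a) = τF a := χ.commutes a
    change (χ (algebraMap A B a)).snd = d a
    rw [h1, derHom_snd]

/-- Lifting/extending derivations with values in `B/J`-modules. -/
theorem exists_der (hAB : CAlgX.IsAdicFormallySmooth A B J) {F Z : Type u} [AddCommGroup F]
    [Module (B ⧸ J) F] [AddCommGroup Z] [Module (B ⧸ J) Z] (π : F →ₗ[B ⧸ J] Z)
    (hπ : Function.Surjective π)
    (D : B → Z) (hDadd : ∀ b c, D (b + c) = D b + D c)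
    (hDmul : ∀ b c, D (b * c) = Ideal.Quotient.mk J b • D c + Ideal.Quotient.mk J c • D b)
    (d : A → F) (hdadd : ∀ a a', d (a + a') = d a + d a')
    (hdmul : ∀ a a', d (a * a') =
      algebraMap A (B ⧸ J) a • d a' + algebraMap A (B ⧸ J) a' • d a)
    (hπd : ∀ a, π (d a) = D (algebraMap A B a)) :
    ∃ D' : B → F, (∀ b c, D' (b + c) = D' b + D' c) ∧
      (∀ b c, D' (b * c) = Ideal.Quotient.mk J b • D' c + Ideal.Quotient.mk J c • D' b) ∧
      (∀ a, D' (algebraMap A B a) = d a) ∧ ∀ b, π (D' b) = D b := by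
  letI := opMod (C := B ⧸ J) F
  letI := opMod (C := B ⧸ J) Z
  haveI := isCentral (C := B ⧸ J) F
  haveI := isCentral (C := B ⧸ J) Z
  exact exists_der_aux J hAB π hπ D hDadd hDmul d hdadd hdmul hπd

end der

section delta

variable {A B : Type u} [CommRing A] [CommRing B] [Algebra A B] (J : Ideal B)

theorem projective_omega (hAB : CAlgX.IsAdicFormallySmooth A B J) :
    Module.Projective (B ⧸ J) ((B ⧸ J) ⊗[B] Ω[B⁄A]) := by
  classical
  rw [Module.projective_def']
  set π : (((B ⧸ J) ⊗[B] Ω[B⁄A]) →₀ (B ⧸ J)) →ₗ[B ⧸ J] ((B ⧸ J) ⊗[B] Ω[B⁄A]) :=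
    Finsupp.linearCombination (B ⧸ J) id with hπdef
  have hπ : Function.Surjective π := Finsupp.linearCombination_id_surjective _ _
  obtain ⟨D', hadd, hmul, hA, hπD⟩ := exists_der J hAB π hπ
    (fun b => (1 : B ⧸ J) ⊗ₜ[B] (D A B b))
    (by intro b c; rw [map_add, TensorProduct.tmul_add])
    (by
      intro b c
      rw [Derivation.leibniz, TensorProduct.tmul_add, TensorProduct.tmul_smul,
        TensorProduct.tmul_smul, ← algebraMap_smul (B ⧸ J) b, ← algebraMap_smul (B ⧸ J) c]
      rfl)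
    (fun _ => 0) (by intro _ _; rw [add_zero])
    (by intro _ _; rw [smul_zero, smul_zero, add_zero])
    (by
      intro a
      rw [map_zero, Derivation.map_algebraMap, TensorProduct.tmul_zero])
  have hsm : ∀ (b : B) (x : ((B ⧸ J) ⊗[B] Ω[B⁄A]) →₀ (B ⧸ J)),
      b • x = Ideal.Quotient.mk J b • x := fun b x => (algebraMap_smul (B ⧸ J) b x).symm
  let Dl : B →ₗ[A] (((B ⧸ J) ⊗[B] Ω[B⁄A]) →₀ (B ⧸ J)) :=
    { toFun := D'
      map_add' := hadd
      map_smul' := by
        intro a b
        rw [Algebra.smul_def, hmul, hA, smul_zero, add_zero, RingHom.id_apply,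
          ← algebraMap_smul (B ⧸ J) a (D' b)]
        rfl }
  let Dd : Derivation A B (((B ⧸ J) ⊗[B] Ω[B⁄A]) →₀ (B ⧸ J)) :=
    Derivation.mk' Dl (by
      intro b c
      change D' (b * c) = b • D' c + c • D' b
      rw [hmul, hsm, hsm])
  have hDd : ∀ b, Dd b = D' b := fun _ => rfl
  have key : ∀ ω : Ω[B⁄A], π (Dd.liftKaehlerDifferential ω) = (1 : B ⧸ J) ⊗ₜ[B] ω := by
    intro ω
    have hω : ω ∈ Submodule.span B (Set.range (D A B)) := by
      rw [KaehlerDifferential.span_range_derivation]; trivial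
    induction hω using Submodule.span_induction with
    | mem x hx =>
      obtain ⟨b, rfl⟩ := hx
      rw [Derivation.liftKaehlerDifferential_comp_D, hDd]
      exact hπD b
    | zero => rw [map_zero, map_zero, TensorProduct.tmul_zero]
    | add x y _ _ hx hy => rw [map_add, map_add, hx, hy, TensorProduct.tmul_add]
    | smul b x _ hx =>
      rw [map_smul, hsm, map_smul, hx, TensorProduct.tmul_smul,
        ← algebraMap_smul (B ⧸ J) b ((1 : B ⧸ J) ⊗ₜ[B] x)]
      rfl
  refine ⟨LinearMap.liftBaseChange (B ⧸ J) Dd.liftKaehlerDifferential, ?_⟩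
  refine LinearMap.ext fun z => ?_
  rw [LinearMap.comp_apply, LinearMap.id_apply]
  induction z using TensorProduct.induction_on with
  | zero => rw [map_zero, map_zero]
  | tmul c ω =>
    rw [LinearMap.liftBaseChange_tmul, map_smul, key, TensorProduct.smul_tmul', smul_eq_mul,
      mul_one]
  | add x y hx hy => rw [map_add, map_add, hx, hy]

end delta

section gamma

variable {Λ A B : Type u} [CommRing Λ] [CommRing A] [CommRing B] [Algebra Λ A] [Algebra A B]
  [Algebra Λ B] [IsScalarTower Λ A B] (J : Ideal B)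

theorem tmul_tmul_smul (a : A) (ω : Ω[A⁄Λ]) :
    ((1 : B ⧸ J) ⊗ₜ[B] ((1 : B) ⊗ₜ[A] (a • ω)) : (B ⧸ J) ⊗[B] (B ⊗[A] Ω[A⁄Λ])) =
      algebraMap A (B ⧸ J) a • ((1 : B ⧸ J) ⊗ₜ[B] ((1 : B) ⊗ₜ[A] ω)) := by
  have h1 : ((1 : B) ⊗ₜ[A] (a • ω) : B ⊗[A] Ω[A⁄Λ]) = algebraMap A B a • ((1 : B) ⊗ₜ[A] ω) := by
    rw [TensorProduct.smul_tmul', smul_eq_mul, mul_one, ← TensorProduct.smul_tmul,
      Algebra.algebraMap_eq_smul_one]
  rw [h1, ← TensorProduct.smul_tmul, TensorProduct.smul_tmul', smul_eq_mul, mul_one,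
    Algebra.smul_def, mul_one]
  rfl

theorem injective_gamma (hAB : CAlgX.IsAdicFormallySmooth A B J) :
    Function.Injective ((KaehlerDifferential.mapBaseChange Λ A B).lTensor (B ⧸ J)) := by
  classical
  obtain ⟨D', hadd, hmul, hA, -⟩ := exists_der J hAB
    (0 : ((B ⧸ J) ⊗[B] (B ⊗[A] Ω[A⁄Λ])) →ₗ[B ⧸ J] PUnit.{u + 1})
    (fun _ => ⟨0, rfl⟩)
    (fun _ => PUnit.unit) (fun _ _ => rfl) (fun _ _ => rfl)
    (fun a => (1 : B ⧸ J) ⊗ₜ[B] ((1 : B) ⊗ₜ[A] (D Λ A a)))
    (by intro a a'; rw [map_add, TensorProduct.tmul_add, TensorProduct.tmul_add])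
    (by
      intro a a'
      rw [Derivation.leibniz, TensorProduct.tmul_add, TensorProduct.tmul_add,
        tmul_tmul_smul, tmul_tmul_smul])
    (fun _ => rfl)
  have hsm : ∀ (b : B) (x : (B ⧸ J) ⊗[B] (B ⊗[A] Ω[A⁄Λ])),
      b • x = Ideal.Quotient.mk J b • x := fun b x => (algebraMap_smul (B ⧸ J) b x).symm
  let Dl : B →ₗ[Λ] ((B ⧸ J) ⊗[B] (B ⊗[A] Ω[A⁄Λ])) :=
    { toFun := D'
      map_add' := hadd
      map_smul' := by
        intro l b
        have h0 : D' (algebraMap Λ B l) = 0 := by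
          rw [IsScalarTower.algebraMap_apply Λ A B, hA, Derivation.map_algebraMap,
            TensorProduct.tmul_zero, TensorProduct.tmul_zero]
        rw [Algebra.smul_def, hmul, h0, smul_zero, add_zero, RingHom.id_apply,
          ← algebraMap_smul (B ⧸ J) l (D' b)]
        rfl }
  let Dd : Derivation Λ B ((B ⧸ J) ⊗[B] (B ⊗[A] Ω[A⁄Λ])) :=
    Derivation.mk' Dl (by
      intro b c
      change D' (b * c) = b • D' c + c • D' b
      rw [hmul, hsm, hsm])
  have hDd : ∀ b, Dd b = D' b := fun _ => rfl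
  let ρ : (B ⧸ J) ⊗[B] Ω[B⁄Λ] →ₗ[B ⧸ J] (B ⧸ J) ⊗[B] (B ⊗[A] Ω[A⁄Λ]) :=
    LinearMap.liftBaseChange (B ⧸ J) Dd.liftKaehlerDifferential
  have key : ∀ (ω : Ω[A⁄Λ]) (b : B) (c : B ⧸ J),
      ρ (c ⊗ₜ[B] (KaehlerDifferential.mapBaseChange Λ A B (b ⊗ₜ[A] ω))) =
        c ⊗ₜ[B] (b ⊗ₜ[A] ω) := by
    intro ω
    have hω : ω ∈ Submodule.span A (Set.range (D Λ A)) := by
      rw [KaehlerDifferential.span_range_derivation]; trivial
    induction hω using Submodule.span_induction with
    | mem x hx =>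
      obtain ⟨a, rfl⟩ := hx
      intro b c
      rw [KaehlerDifferential.mapBaseChange_tmul, KaehlerDifferential.map_D,
        LinearMap.liftBaseChange_tmul, map_smul, Derivation.liftKaehlerDifferential_comp_D, hDd,
        hA, TensorProduct.smul_tmul' b, TensorProduct.smul_tmul, TensorProduct.smul_tmul',
        smul_eq_mul, mul_one, TensorProduct.smul_tmul', smul_eq_mul, mul_one]
    | zero =>
      intro b c
      rw [TensorProduct.tmul_zero, map_zero, TensorProduct.tmul_zero, map_zero,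
        TensorProduct.tmul_zero]
    | add x y _ _ hx hy =>
      intro b c
      rw [TensorProduct.tmul_add, map_add, TensorProduct.tmul_add, map_add, hx, hy,
        TensorProduct.tmul_add]
    | smul a x _ hx =>
      intro b c
      rw [← TensorProduct.smul_tmul]
      exact hx (a • b) c
  refine Function.LeftInverse.injective (g := ρ) ?_
  intro x
  induction x using TensorProduct.induction_on with
  | zero => rw [map_zero, map_zero]
  | tmul c y =>
    rw [LinearMap.lTensor_tmul]
    induction y using TensorProduct.induction_on with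
    | zero => rw [map_zero, TensorProduct.tmul_zero, map_zero, TensorProduct.tmul_zero]
    | tmul b ω => exact key ω b c
    | add y y' hy hy' => rw [map_add, TensorProduct.tmul_add, map_add, hy, hy', TensorProduct.tmul_add]
  | add x y hx hy => rw [map_add, map_add, hx, hy]

end gamma

section main

variable {Λ A B : Type u} [CommRing Λ] [CommRing A] [CommRing B] [Algebra Λ A] [Algebra A B]
  [Algebra Λ B] [IsScalarTower Λ A B] (J : Ideal B)

/-- EGA 0_IV 22.x: the Jacobian-type conditions are necessary. -/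
theorem conditions_of_adic [Algebra.FormallySmooth Λ (B ⧸ J)] [Algebra.FormallySmooth Λ A]
    (hAB : CAlgX.IsAdicFormallySmooth A B J) :
    Module.Projective (B ⧸ J) J.Cotangent ∧ PP16.SymGrBijective B J ∧
      Function.Injective ((KaehlerDifferential.mapBaseChange Λ A B).lTensor (B ⧸ J)) ∧
      Module.Projective (B ⧸ J) ((B ⧸ J) ⊗[B] Ω[B⁄A]) := by
  have h1 := AdicFS1.forward (A := Λ) J (adic_comp J hAB)
  exact ⟨h1.1, h1.2, injective_gamma J hAB, projective_omega J hAB⟩

/-- the Jacobian-type conditions are sufficient. -/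
theorem adic_of_conditions' [Algebra.FormallySmooth Λ (B ⧸ J)]
    (hα : Module.Projective (B ⧸ J) J.Cotangent) (hβ : PP16.SymGrBijective B J)
    (hγ : Function.Injective ((KaehlerDifferential.mapBaseChange Λ A B).lTensor (B ⧸ J)))
    (hδ : Module.Projective (B ⧸ J) ((B ⧸ J) ⊗[B] Ω[B⁄A])) :
    CAlgX.IsAdicFormallySmooth A B J :=
  AdicFS3.adic_of_conditions J (AdicFS2.backward (A := Λ) J hα hβ) hγ hδ

end main

end Groth.Agent.Lib.Helper70.AdicFS4
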