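import Groth.Agent.Lib.Helper70.AdicFS4
import Groth.Agent.Lib.Helper49.MacLane
import Mathlib.Algebra.Field.Subfield.Basic

set_option autoImplicit false
set_option linter.unusedSectionVars false
set_option linter.style.haveILetI false
universe u v w
open scoped TensorProduct Pointwise

namespace Groth.Agent.Lib.Helper70.AdicFS5

open Groth.Agent.Lib.Helper70 Groth.Agent.Lib.Helper70.AdicFS1
open PP16 KaehlerDifferential

section transfer

variable (R : Type v) (P S : Type u) [CommRing R] [CommRing P] [CommRing S] [Algebra R P]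
  [Algebra P S]
  [Algebra R S] [IsScalarTower R P S]

theorem map_bijective_of_subsingleton [Subsingleton Ω[P⁄R]] :
    Function.Bijective (KaehlerDifferential.map R P S S) := by
  refine ⟨?_, KaehlerDifferential.map_surjective R P S⟩
  rw [← LinearMap.ker_eq_bot, eq_bot_iff]
  intro x hx
  rw [LinearMap.mem_ker] at hx
  obtain ⟨y, rfl⟩ := (KaehlerDifferential.exact_mapBaseChange_map R P S x).mp hx
  rw [Subsingleton.elim y 0, map_zero]
  exact Submodule.zero_mem _

variable (k A : Type u) [CommRing k] [CommRing A] [Algebra R k] [Algebra P k] [IsScalarTower R P k]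
  [Algebra k A] [Algebra R A] [Algebra P A] [IsScalarTower P k A] [IsScalarTower R k A]
  [IsScalarTower R P A]

theorem square (x : A ⊗[k] Ω[k⁄R]) :
    KaehlerDifferential.map R P A A (KaehlerDifferential.mapBaseChange R k A x) =
      KaehlerDifferential.mapBaseChange P k A
        ((KaehlerDifferential.map R P k k).baseChange A x) := by
  have key : ∀ (ω : Ω[k⁄R]) (b : A),
      KaehlerDifferential.map R P A A (KaehlerDifferential.mapBaseChange R k A (b ⊗ₜ[k] ω)) =
      KaehlerDifferential.mapBaseChange P k A
        ((KaehlerDifferential.map R P k k).baseChange A (b ⊗ₜ[k] ω)) := by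
    intro ω
    have hω : ω ∈ Submodule.span k (Set.range (D R k)) := by
      rw [KaehlerDifferential.span_range_derivation]; trivial
    induction hω using Submodule.span_induction with
    | mem x hx =>
      obtain ⟨a, rfl⟩ := hx
      intro b
      rw [KaehlerDifferential.mapBaseChange_tmul, KaehlerDifferential.map_D, map_smul,
        KaehlerDifferential.map_D, LinearMap.baseChange_tmul, KaehlerDifferential.map_D,
        KaehlerDifferential.mapBaseChange_tmul, KaehlerDifferential.map_D]
      rfl
    | zero =>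
      intro b
      rw [TensorProduct.tmul_zero, map_zero, map_zero, map_zero, map_zero]
    | add x y _ _ hx hy =>
      intro b
      rw [TensorProduct.tmul_add, map_add, map_add, map_add, map_add, hx, hy]
    | smul a x _ hx =>
      intro b
      rw [← TensorProduct.smul_tmul]
      exact hx (a • b)
  induction x using TensorProduct.induction_on with
  | zero => rw [map_zero, map_zero, map_zero, map_zero]
  | tmul b ω => exact key ω b
  | add x y hx hy => rw [map_add, map_add, map_add, map_add, hx, hy]

theorem injective_lTensor_iff [Subsingleton Ω[P⁄R]] (M : Type u) [AddCommGroup M] [Module A M] :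
    Function.Injective ((KaehlerDifferential.mapBaseChange R k A).lTensor M) ↔
      Function.Injective ((KaehlerDifferential.mapBaseChange P k A).lTensor M) := by
  let eA : Ω[A⁄R] ≃ₗ[A] Ω[A⁄P] :=
    LinearEquiv.ofBijective (KaehlerDifferential.map R P A A) (map_bijective_of_subsingleton R P A)
  let ek : Ω[k⁄R] ≃ₗ[k] Ω[k⁄P] :=
    LinearEquiv.ofBijective (KaehlerDifferential.map R P k k) (map_bijective_of_subsingleton R P k)
  let u : (A ⊗[k] Ω[k⁄R]) ≃ₗ[A] (A ⊗[k] Ω[k⁄P]) := LinearEquiv.baseChange k A _ _ ek
  have hsq : ∀ y : M ⊗[A] (A ⊗[k] Ω[k⁄R]),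
      (eA.lTensor M) ((KaehlerDifferential.mapBaseChange R k A).lTensor M y) =
        (KaehlerDifferential.mapBaseChange P k A).lTensor M ((u.lTensor M) y) := by
    intro y
    induction y using TensorProduct.induction_on with
    | zero => rw [map_zero, map_zero, map_zero, map_zero]
    | tmul m x =>
      rw [LinearMap.lTensor_tmul, LinearEquiv.lTensor_tmul, LinearEquiv.lTensor_tmul,
        LinearMap.lTensor_tmul]
      congr 1
      exact square R P k A x
    | add x y hx hy => rw [map_add, map_add, map_add, map_add, hx, hy]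
  constructor
  · intro h y y' hyy'
    obtain ⟨z, rfl⟩ := (u.lTensor M).surjective y
    obtain ⟨z', rfl⟩ := (u.lTensor M).surjective y'
    rw [← hsq, ← hsq] at hyy'
    rw [h ((eA.lTensor M).injective hyy')]
  · intro h y y' hyy'
    have h1 := congrArg (eA.lTensor M) hyy'
    rw [hsq, hsq] at h1
    exact (u.lTensor M).injective (h h1)

end transfer

section prime

variable (k : Type u) [Field k]

/-- derivations vanish on the prime field. -/
theorem der_bot_eq_zero {M : Type*} [AddCommGroup M] [Module ↥(⊥ : Subfield k) M]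
    (d : Derivation ℤ ↥(⊥ : Subfield k) M) (x : ↥(⊥ : Subfield k)) : d x = 0 := by
  obtain ⟨y, hy⟩ := x
  have hy' : y ∈ Subfield.closure (∅ : Set k) := by rwa [Subfield.closure_empty]
  have hmem : ∀ z, z ∈ Subfield.closure (∅ : Set k) → z ∈ (⊥ : Subfield k) := by
    intro z hz; rwa [Subfield.closure_empty] at hz
  suffices h : ∀ z (hz : z ∈ Subfield.closure (∅ : Set k)), d ⟨z, hmem z hz⟩ = 0 from h y hy'
  intro z hz
  induction hz using Subfield.closure_induction with
  | mem x hx => exact absurd hx (Set.notMem_empty x)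
  | one => exact Derivation.map_one_eq_zero d
  | add x y hx hy h1 h2 =>
    have : (⟨x + y, hmem _ (add_mem hx hy)⟩ : ↥(⊥ : Subfield k)) =
      ⟨x, hmem _ hx⟩ + ⟨y, hmem _ hy⟩ := rfl
    rw [this, map_add, h1, h2, add_zero]
  | neg x hx h1 =>
    have : (⟨-x, hmem _ (neg_mem hx)⟩ : ↥(⊥ : Subfield k)) = -⟨x, hmem _ hx⟩ := rfl
    rw [this, map_neg, h1, neg_zero]
  | inv x hx h1 =>
    have : (⟨x⁻¹, hmem _ (inv_mem hx)⟩ : ↥(⊥ : Subfield k)) = (⟨x, hmem _ hx⟩)⁻¹ := rfl
    rw [this, Derivation.leibniz_inv, h1, smul_zero]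
  | mul x y hx hy h1 h2 =>
    have : (⟨x * y, hmem _ (mul_mem hx hy)⟩ : ↥(⊥ : Subfield k)) =
      ⟨x, hmem _ hx⟩ * ⟨y, hmem _ hy⟩ := rfl
    rw [this, Derivation.leibniz, h1, h2, smul_zero, smul_zero, add_zero]

instance subsingleton_kaehler_bot : Subsingleton Ω[↥(⊥ : Subfield k)⁄ℤ] := by
  refine ⟨fun a b => ?_⟩
  have h0 : ∀ ω : Ω[↥(⊥ : Subfield k)⁄ℤ], ω = 0 := by
    intro ω
    have hω : ω ∈ Submodule.span ↥(⊥ : Subfield k) (Set.range (D ℤ ↥(⊥ : Subfield k))) := by
      rw [KaehlerDifferential.span_range_derivation]; trivial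
    have hspan : Submodule.span ↥(⊥ : Subfield k) (Set.range (D ℤ ↥(⊥ : Subfield k))) = ⊥ := by
      rw [Submodule.span_eq_bot]
      rintro _ ⟨x, rfl⟩
      exact der_bot_eq_zero k _ x
    rw [hspan] at hω
    exact (Submodule.mem_bot _).mp hω
  rw [h0 a, h0 b]

theorem frobenius_bot (p : ℕ) [Fact p.Prime] [CharP k p] (x : ↥(⊥ : Subfield k)) :
    frobenius k p x = x := by
  have key : ∀ z : k, z ∈ Subfield.closure (∅ : Set k) → frobenius k p z = z := by
    intro z hz
    induction hz using Subfield.closure_induction with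
    | mem x hx => exact absurd hx (Set.notMem_empty x)
    | one => exact map_one _
    | add x y _ _ h1 h2 => rw [map_add, h1, h2]
    | neg x _ h1 => rw [map_neg, h1]
    | inv x _ h1 => rw [map_inv₀, h1]
    | mul x y _ _ h1 h2 => rw [map_mul, h1, h2]
  apply key
  rw [Subfield.closure_empty]
  exact x.2

theorem formallySmooth_bot (K : Type u) [Field K] [Algebra ↥(⊥ : Subfield k) K] :
    Algebra.FormallySmooth ↥(⊥ : Subfield k) K := by
  obtain ⟨p, hp⟩ := CharP.exists k
  rcases CharP.char_is_prime_or_zero k p with hpp | rfl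
  · haveI : Fact p.Prime := ⟨hpp⟩
    haveI : CharP ↥(⊥ : Subfield k) p :=
      RingHom.charP (algebraMap ↥(⊥ : Subfield k) k) (algebraMap ↥(⊥ : Subfield k) k).injective p
    haveI : CharP K p :=
      charP_of_injective_algebraMap (algebraMap ↥(⊥ : Subfield k) K).injective p
    haveI : PerfectRing ↥(⊥ : Subfield k) p := by
      apply PerfectRing.ofSurjective
      intro x
      refine ⟨x, Subtype.ext ?_⟩
      have := frobenius_bot k p x
      exact this
    exact Groth.Agent.Lib.Helper49.MacLane.formallySmooth_of_perfect p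
  · haveI : CharZero k := CharP.charP_to_charZero k
    haveI : CharZero ↥(⊥ : Subfield k) :=
      RingHom.charZero (algebraMap ↥(⊥ : Subfield k) k)
    exact Groth.Agent.S4524.formallySmooth_of_charZero

end prime

section field

open IsLocalRing

variable {k A : Type u} [Field k] [CommRing A] [IsLocalRing A] [Algebra k A]

/-- EGA 0_IV 22.2.2-type criterion over a field, with absolute differentials. -/
theorem field_case :
    CAlgX.IsAdicFormallySmooth k A (maximalIdeal A) ↔
      (PP16.SymGrBijective A (maximalIdeal A) ∧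
        Function.Injective ((KaehlerDifferential.mapBaseChange ℤ k A).lTensor (ResidueField A))) := by
  haveI : Algebra.FormallySmooth ↥(⊥ : Subfield k) k := formallySmooth_bot k k
  letI : Field (A ⧸ maximalIdeal A) := Ideal.Quotient.field _
  haveI : Algebra.FormallySmooth ↥(⊥ : Subfield k) (A ⧸ maximalIdeal A) :=
    formallySmooth_bot k (A ⧸ maximalIdeal A)
  have htr : Function.Injective
      ((KaehlerDifferential.mapBaseChange ℤ k A).lTensor (A ⧸ maximalIdeal A)) ↔
      Function.Injective
        ((KaehlerDifferential.mapBaseChange ↥(⊥ : Subfield k) k A).lTensor (A ⧸ maximalIdeal A)) :=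
    injective_lTensor_iff ℤ ↥(⊥ : Subfield k) k A (A ⧸ maximalIdeal A)
  constructor
  · intro h
    obtain ⟨-, hβ, hγ, -⟩ :=
      AdicFS4.conditions_of_adic (Λ := ↥(⊥ : Subfield k)) (maximalIdeal A) h
    exact ⟨hβ, htr.mpr hγ⟩
  · rintro ⟨hβ, hγ⟩
    exact AdicFS4.adic_of_conditions' (Λ := ↥(⊥ : Subfield k)) (maximalIdeal A)
      Module.Projective.of_free hβ (htr.mp hγ) Module.Projective.of_free

end field

end Groth.Agent.Lib.Helper70.AdicFS5
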