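import Groth.Agent.Lib.Helper70.AdicFS5
import Groth.Agent.Lib.Helper49.AdmissibleFam

set_option autoImplicit false
set_option linter.unusedSectionVars false
set_option linter.style.haveILetI false
universe u v w
open scoped TensorProduct Pointwise

namespace Groth.Agent.Lib.Helper70.AdicFS6

open Groth.Agent.Lib.Helper70 Groth.Agent.Lib.Helper70.AdicFS1
open PP16 KaehlerDifferential

section joint

variable {k : Type u} [Field k] {L V V' : Type u} [AddCommGroup L] [Module k L] [AddCommGroup V]
  [Module k V] [AddCommGroup V'] [Module k V']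

theorem coord_natural (c : L →ₗ[k] k) (q : V →ₗ[k] V') (z : L ⊗[k] V) :
    q (TensorProduct.lid k V (c.rTensor V z)) =
      TensorProduct.lid k V' (c.rTensor V' (q.lTensor L z)) := by
  induction z using TensorProduct.induction_on with
  | zero => simp
  | tmul l v => simp
  | add x y hx hy => simp only [map_add, hx, hy]

theorem joint_injective {I : Type*} {W : I → Type u} [∀ i, AddCommGroup (W i)]
    [∀ i, Module k (W i)] (q : ∀ i, V →ₗ[k] W i)
    (hq : ∀ ω : V, (∀ i, q i ω = 0) → ω = 0) (z : L ⊗[k] V)
    (hz : ∀ i, (q i).lTensor L z = 0) : z = 0 := by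
  classical
  let b := Module.Basis.ofVectorSpace k L
  apply (TensorProduct.equivFinsuppOfBasisLeft b).injective
  rw [map_zero]
  ext j
  rw [TensorProduct.equivFinsuppOfBasisLeft_apply, Finsupp.zero_apply]
  apply hq
  intro i
  rw [coord_natural, hz i, map_zero, map_zero]

end joint

section jointA

variable {k A : Type u} [Field k] [CommRing A] [Algebra k A] {M V V' : Type u} [AddCommGroup M]
  [Module A M] [Module k M] [IsScalarTower k A M] [AddCommGroup V]
  [Module k V] [AddCommGroup V'] [Module k V']

theorem cancel_natural (q : V →ₗ[k] V') (z : M ⊗[A] (A ⊗[k] V)) :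
    q.lTensor M (TensorProduct.AlgebraTensorModule.cancelBaseChange k A A M V z) =
      TensorProduct.AlgebraTensorModule.cancelBaseChange k A A M V'
        ((q.baseChange A).lTensor M z) := by
  induction z using TensorProduct.induction_on with
  | zero => simp
  | tmul m y =>
    induction y using TensorProduct.induction_on with
    | zero => simp
    | tmul a v => simp
    | add x y hx hy =>
      simp only [TensorProduct.tmul_add, map_add] at hx hy ⊢
      rw [hx, hy]
  | add x y hx hy => simp only [map_add, hx, hy]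

theorem jointA_injective {I : Type*} {W : I → Type u} [∀ i, AddCommGroup (W i)]
    [∀ i, Module k (W i)] (q : ∀ i, V →ₗ[k] W i)
    (hq : ∀ ω : V, (∀ i, q i ω = 0) → ω = 0) (z : M ⊗[A] (A ⊗[k] V))
    (hz : ∀ i, ((q i).baseChange A).lTensor M z = 0) : z = 0 := by
  apply (TensorProduct.AlgebraTensorModule.cancelBaseChange k A A M V).injective
  rw [map_zero]
  apply joint_injective q hq
  intro i
  rw [cancel_natural, hz i, map_zero]

end jointA

section kermap

variable (R : Type v) (P S : Type u) [CommRing R] [CommRing P] [CommRing S] [Algebra R P]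
  [Algebra P S] [Algebra R S] [IsScalarTower R P S]

theorem mapBaseChange_mem_span (y : S ⊗[P] Ω[P⁄R]) :
    KaehlerDifferential.mapBaseChange R P S y ∈
      Submodule.span S (Set.range fun r : P => D R S (algebraMap P S r)) := by
  have key : ∀ (ω : Ω[P⁄R]) (s : S), KaehlerDifferential.mapBaseChange R P S (s ⊗ₜ[P] ω) ∈
      Submodule.span S (Set.range fun r : P => D R S (algebraMap P S r)) := by
    intro ω
    have hω : ω ∈ Submodule.span P (Set.range (D R P)) := by
      rw [KaehlerDifferential.span_range_derivation]; trivial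
    induction hω using Submodule.span_induction with
    | mem x hx =>
      obtain ⟨r, rfl⟩ := hx
      intro s
      rw [KaehlerDifferential.mapBaseChange_tmul, KaehlerDifferential.map_D]
      exact Submodule.smul_mem _ _ (Submodule.subset_span ⟨r, rfl⟩)
    | zero =>
      intro s
      rw [TensorProduct.tmul_zero, map_zero]
      exact Submodule.zero_mem _
    | add x y _ _ hx hy =>
      intro s
      rw [TensorProduct.tmul_add, map_add]
      exact Submodule.add_mem _ (hx s) (hy s)
    | smul a x _ hx =>
      intro s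
      rw [← TensorProduct.smul_tmul]
      exact hx (a • s)
  induction y using TensorProduct.induction_on with
  | zero => rw [map_zero]; exact Submodule.zero_mem _
  | tmul s ω => exact key ω s
  | add x y hx hy => rw [map_add]; exact Submodule.add_mem _ hx hy

theorem mem_span_of_map_eq_zero (x : Ω[S⁄R]) (hx : KaehlerDifferential.map R P S S x = 0) :
    x ∈ Submodule.span S (Set.range fun r : P => D R S (algebraMap P S r)) := by
  obtain ⟨y, rfl⟩ := (KaehlerDifferential.exact_mapBaseChange_map R P S x).mp hx
  exact mapBaseChange_mem_span R P S y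

theorem map_map_eq_zero (P' Q : Type u) [CommRing P'] [CommRing Q] [Algebra R Q] [Algebra Q S]
    [IsScalarTower R Q S] [Algebra Q P'] [Algebra P' S] [IsScalarTower Q P' S]
    (hrange : ∀ r : P, ∃ r' : P', algebraMap P' S r' = algebraMap P S r) (ω : Ω[S⁄R])
    (h : KaehlerDifferential.map R P S S ω = 0) :
    KaehlerDifferential.map Q P' S S (KaehlerDifferential.map R Q S S ω) = 0 := by
  have hω := mem_span_of_map_eq_zero R P S ω h
  clear h
  induction hω using Submodule.span_induction with
  | mem x hx =>
    obtain ⟨r, rfl⟩ := hx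
    obtain ⟨r', hr'⟩ := hrange r
    rw [KaehlerDifferential.map_D, KaehlerDifferential.map_D, Algebra.algebraMap_self_apply,
      Algebra.algebraMap_self_apply, ← hr', Derivation.map_algebraMap]
  | zero => rw [map_zero, map_zero]
  | add x y _ _ hx hy => rw [map_add, map_add, hx, hy, add_zero]
  | smul a x _ hx => rw [map_smul, map_smul, hx, smul_zero]

end kermap

section sq

variable (R : Type v) (P : Type u) [CommRing R] [CommRing P] [Algebra R P]
  (k A : Type u) [CommRing k] [CommRing A] [Algebra R k] [Algebra P k] [IsScalarTower R P k]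
  [Algebra k A] [Algebra R A] [Algebra P A] [IsScalarTower P k A] [IsScalarTower R k A]
  [IsScalarTower R P A]

theorem square_lTensor (M : Type u) [AddCommGroup M] [Module A M]
    (y : M ⊗[A] (A ⊗[k] Ω[k⁄R])) :
    (KaehlerDifferential.map R P A A).lTensor M
        ((KaehlerDifferential.mapBaseChange R k A).lTensor M y) =
      (KaehlerDifferential.mapBaseChange P k A).lTensor M
        (((KaehlerDifferential.map R P k k).baseChange A).lTensor M y) := by
  induction y using TensorProduct.induction_on with
  | zero => rw [map_zero, map_zero, map_zero, map_zero]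
  | tmul m x =>
    rw [LinearMap.lTensor_tmul, LinearMap.lTensor_tmul, LinearMap.lTensor_tmul,
      LinearMap.lTensor_tmul]
    congr 1
    exact AdicFS5.square R P k A x
  | add x y hx hy => rw [map_add, map_add, map_add, map_add, hx, hy]

end sq

section fam

variable {k : Type u} [Field k] (p : ℕ) [Fact p.Prime] [CharP k p]

/-- a subfield as an intermediate field over the prime field. -/
def toIF (F : Subfield k) : IntermediateField ↥(⊥ : Subfield k) k :=
  Subfield.toIntermediateField F (fun x => (bot_le : (⊥ : Subfield k) ≤ F) x.2)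

theorem mem_toIF (F : Subfield k) (x : k) : x ∈ toIF F ↔ x ∈ F := Iff.rfl

theorem toIF_mono {F G : Subfield k} (h : F ≤ G) : toIF F ≤ toIF G := fun _ hx => h hx

theorem sup_toIF (F G : Subfield k) : toIF F ⊔ toIF G = toIF (F ⊔ G) := by
  apply le_antisymm
  · exact sup_le (toIF_mono le_sup_left) (toIF_mono le_sup_right)
  · intro x hx
    have h1 : F ⊔ G ≤ (toIF F ⊔ toIF G).toSubfield :=
      sup_le (fun y hy => (le_sup_left : toIF F ≤ toIF F ⊔ toIF G) hy)
        (fun y hy => (le_sup_right : toIF G ≤ toIF F ⊔ toIF G) hy)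
    exact h1 hx

theorem adjoin_pow_eq :
    IntermediateField.adjoin ↥(⊥ : Subfield k) (Set.range fun y : k => y ^ p) =
      toIF (frobenius k p).fieldRange := by
  apply le_antisymm
  · rw [IntermediateField.adjoin_le_iff]
    rintro _ ⟨y, rfl⟩
    exact ⟨y, rfl⟩
  · rintro _ ⟨y, rfl⟩
    exact IntermediateField.subset_adjoin _ _ ⟨y, rfl⟩

variable {ι : Type u} [Preorder ι] [IsDirected ι (fun a b => a ≤ b)] [Nonempty ι]
  (kα : ι → Subfield k) (hanti : Antitone kα)
  (hint : ⨅ α, (kα α ⊔ (frobenius k p).fieldRange) = (frobenius k p).fieldRange)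

include hanti hint in
theorem joint_abs (α₀ : ι) (ω : Ω[k⁄ℤ])
    (hω : ∀ α, α₀ ≤ α → KaehlerDifferential.map ℤ ↥(kα α) k k ω = 0) : ω = 0 := by
  haveI : IsDirected {α // α₀ ≤ α} (· ≤ ·) :=
    ⟨fun a b => by
      obtain ⟨c, hac, hbc⟩ := exists_ge_ge a.1 b.1
      exact ⟨⟨c, a.2.trans hac⟩, hac, hbc⟩⟩
  haveI : Nonempty {α // α₀ ≤ α} := ⟨⟨α₀, le_rfl⟩⟩
  let k' : {α // α₀ ≤ α} → IntermediateField ↥(⊥ : Subfield k) k := fun i => toIF (kα i.1)
  have hk' : Antitone k' := fun i j hij => toIF_mono (hanti hij)
  have hinf' : (⨅ i, k' i ⊔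
      IntermediateField.adjoin ↥(⊥ : Subfield k) (Set.range fun y : k => y ^ p)) =
      IntermediateField.adjoin ↥(⊥ : Subfield k) (Set.range fun y : k => y ^ p) := by
    apply le_antisymm
    · intro x hx
      rw [adjoin_pow_eq, mem_toIF, ← hint, Subfield.mem_iInf]
      intro α
      obtain ⟨β, hαβ, hα₀β⟩ := exists_ge_ge α α₀
      have hxβ : x ∈ k' ⟨β, hα₀β⟩ ⊔
          IntermediateField.adjoin ↥(⊥ : Subfield k) (Set.range fun y : k => y ^ p) :=
        (iInf_le (fun i => k' i ⊔
          IntermediateField.adjoin ↥(⊥ : Subfield k) (Set.range fun y : k => y ^ p))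
          ⟨β, hα₀β⟩) hx
      rw [adjoin_pow_eq, sup_toIF, mem_toIF] at hxβ
      exact (sup_le_sup_right (hanti hαβ) _) hxβ
    · exact le_iInf fun i => le_sup_right
  have hjoint := (Groth.Agent.Lib.Helper49.AdmissibleFam.iInf_eq_iff_kaehler p k' hk').mp hinf'
  have h0 : KaehlerDifferential.map ℤ ↥(⊥ : Subfield k) k k ω = 0 := by
    apply hjoint
    intro i
    have hrange : ∀ r : ↥(kα i.1), ∃ r' : ↥(k' i),
        algebraMap ↥(k' i) k r' = algebraMap ↥(kα i.1) k r := by
      intro r
      refine ⟨⟨r.1, r.2⟩, ?_⟩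
      rw [IntermediateField.algebraMap_apply]
      rfl
    exact map_map_eq_zero ℤ ↥(kα i.1) k ↥(k' i) ↥(⊥ : Subfield k) hrange ω (hω i.1 i.2)
  apply (AdicFS5.map_bijective_of_subsingleton ℤ ↥(⊥ : Subfield k) k).1
  rw [h0, map_zero]

end fam

section main

open IsLocalRing

variable {k A : Type u} [Field k] (p : ℕ) [Fact p.Prime] [CharP k p] [CommRing A] [IsLocalRing A]
  [Algebra k A]
  {ι : Type u} [Preorder ι] [IsDirected ι (fun a b => a ≤ b)] [Nonempty ι]
  (kα : ι → Subfield k) (hanti : Antitone kα)
  (hint : ⨅ α, (kα α ⊔ (frobenius k p).fieldRange) = (frobenius k p).fieldRange)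

include hanti hint in
theorem family_case :
    CAlgX.IsAdicFormallySmooth k A (maximalIdeal A) ↔
      (PP16.SymGrBijective A (maximalIdeal A) ∧ ∃ α₀ : ι, ∀ α : ι, α₀ ≤ α →
        Function.Injective
          ((KaehlerDifferential.mapBaseChange (kα α) k A).lTensor (ResidueField A))) := by
  constructor
  · intro h
    refine ⟨(AdicFS5.field_case.mp h).1, Classical.arbitrary ι, fun α _ => ?_⟩
    exact AdicFS4.injective_gamma (Λ := ↥(kα α)) (maximalIdeal A) h
  · rintro ⟨hβ, α₀, hα⟩
    refine AdicFS5.field_case.mpr ⟨hβ, ?_⟩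
    rw [injective_iff_map_eq_zero]
    intro z hz
    refine jointA_injective (k := k) (A := A) (M := ResidueField A)
      (I := {α // α₀ ≤ α}) (W := fun i => Ω[k⁄↥(kα i.1)])
      (fun i => KaehlerDifferential.map ℤ ↥(kα i.1) k k) ?_ z ?_
    · intro ω hω
      exact joint_abs p kα hanti hint α₀ ω (fun α hα' => hω ⟨α, hα'⟩)
    · intro i
      apply hα i.1 i.2
      rw [map_zero, ← square_lTensor, hz, map_zero]

end main

end Groth.Agent.Lib.Helper70.AdicFS6
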