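import Groth.Agent.Lib.Helper70.AdicFS4

set_option autoImplicit false
set_option linter.unusedSectionVars false
set_option linter.style.haveILetI false
universe u v w
open scoped TensorProduct Pointwise

namespace Groth.Agent.Lib.Helper70.AdicFS7

open Groth.Agent.Lib.Helper70 Groth.Agent.Lib.Helper70.AdicFS1 Groth.Agent.Lib.Helper70.AdicFS4
open PP16 KaehlerDifferential

section der

variable {A B : Type u} [CommRing A] [CommRing B] [Algebra A B] (J : Ideal B)

open TrivSqZeroExt

/-- Lifting/extending `q`-derivations for a ring map `q : B → C` killing a power of `J`. -/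
theorem exists_der_gen_aux (hAB : CAlgX.IsAdicFormallySmooth A B J) {C : Type u} [CommRing C]
    (q : B →+* C) (hq : ∃ k : ℕ, ∀ x ∈ J ^ k, q x = 0)
    {F Z : Type u} [AddCommGroup F]
    [Module C F] [AddCommGroup Z] [Module C Z]
    [Module Cᵐᵒᵖ F] [IsCentralScalar C F]
    [Module Cᵐᵒᵖ Z] [IsCentralScalar C Z] (π : F →ₗ[C] Z)
    (hπ : Function.Surjective π)
    (D : B → Z) (hDadd : ∀ b c, D (b + c) = D b + D c)
    (hDmul : ∀ b c, D (b * c) = q b • D c + q c • D b)
    (d : A → F) (hdadd : ∀ a a', d (a + a') = d a + d a')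
    (hdmul : ∀ a a', d (a * a') =
      q (algebraMap A B a) • d a' + q (algebraMap A B a') • d a)
    (hπd : ∀ a, π (d a) = D (algebraMap A B a)) :
    ∃ D' : B → F, (∀ b c, D' (b + c) = D' b + D' c) ∧
      (∀ b c, D' (b * c) = q b • D' c + q c • D' b) ∧
      (∀ a, D' (algebraMap A B a) = d a) ∧ ∀ b, π (D' b) = D b := by
  let τF : A →+* TrivSqZeroExt C F := derHom (q.comp (algebraMap A B)) d hdadd hdmul
  let τZ : A →+* TrivSqZeroExt C Z := derHom (q.comp (algebraMap A B)) (fun a => π (d a))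
    (by intro a a'; simp only [hdadd, map_add])
    (by intro a a'; simp only [hdmul, map_add, map_smul]; rfl)
  letI algF : Algebra A (TrivSqZeroExt C F) := τF.toAlgebra
  letI algZ : Algebra A (TrivSqZeroExt C Z) := τZ.toAlgebra
  let g : TrivSqZeroExt C F →ₐ[A] TrivSqZeroExt C Z :=
    { toRingHom := (TrivSqZeroExt.map π).toRingHom
      commutes' := fun a => by
        change TrivSqZeroExt.map π (τF a) = τZ a
        apply TrivSqZeroExt.ext
        · rw [fst_map, derHom_fst, derHom_fst]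
        · rw [snd_map, derHom_snd, derHom_snd] }
  have hgapp : ∀ x, g x = TrivSqZeroExt.map π x := fun _ => rfl
  have hg : Function.Surjective g := by
    intro y
    obtain ⟨f, hf⟩ := hπ y.snd
    refine ⟨inl y.fst + inr f, ?_⟩
    rw [hgapp]
    apply TrivSqZeroExt.ext
    · rw [fst_map]; simp
    · rw [snd_map]; simp [hf]
  have hk : RingHom.ker g ^ 2 = ⊥ := by
    rw [eq_bot_iff, pow_two, Ideal.mul_le]
    intro x hx y hy
    rw [RingHom.mem_ker, hgapp] at hx hy
    have hx1 : x.fst = 0 := by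
      have := congrArg TrivSqZeroExt.fst hx
      rwa [fst_map] at this
    have hy1 : y.fst = 0 := by
      have := congrArg TrivSqZeroExt.fst hy
      rwa [fst_map] at this
    rw [Ideal.mem_bot]
    apply TrivSqZeroExt.ext
    · rw [fst_mul, hx1, zero_mul]; rfl
    · rw [snd_mul, hx1, hy1, zero_smul, MulOpposite.op_zero, zero_smul, add_zero]; rfl
  let ψ0 : B →+* TrivSqZeroExt C Z := derHom q D hDadd hDmul
  let ψ : B →ₐ[A] TrivSqZeroExt C Z :=
    { toRingHom := ψ0
      commutes' := fun a => by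
        change ψ0 (algebraMap A B a) = τZ a
        apply TrivSqZeroExt.ext
        · rw [derHom_fst, derHom_fst]; rfl
        · rw [derHom_snd, derHom_snd, hπd] }
  have hψapp : ∀ b, ψ b = ψ0 b := fun _ => rfl
  obtain ⟨k, hk0⟩ := hq
  have hkill : ∀ x ∈ J ^ (k + k), ψ x = 0 := by
    intro x hx
    rw [pow_add] at hx
    refine Submodule.mul_induction_on hx ?_ ?_
    · intro y hy z hz
      rw [map_mul]
      apply TrivSqZeroExt.ext
      · rw [fst_mul, hψapp, hψapp, derHom_fst, derHom_fst, hk0 y hy, zero_mul]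
        rfl
      · rw [snd_mul, hψapp, hψapp, derHom_fst, derHom_fst, hk0 y hy, hk0 z hz, zero_smul,
          MulOpposite.op_zero, zero_smul, add_zero]
        rfl
    · intro y z hy hz
      rw [map_add, hy, hz, add_zero]
  obtain ⟨χ, hχ⟩ := lift_of_surjective J hAB g hg hk ψ ⟨k + k, hkill⟩
  have hfst : ∀ b, (χ b).fst = q b := by
    intro b
    have := congrArg TrivSqZeroExt.fst (AlgHom.congr_fun hχ b)
    rwa [AlgHom.comp_apply, hgapp, fst_map, hψapp, derHom_fst] at this
  have hsnd : ∀ b, π (χ b).snd = D b := by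
    intro b
    have := congrArg TrivSqZeroExt.snd (AlgHom.congr_fun hχ b)
    rwa [AlgHom.comp_apply, hgapp, snd_map, hψapp, derHom_snd] at this
  refine ⟨fun b => (χ b).snd, ?_, ?_, ?_, hsnd⟩
  · intro b c
    change (χ (b + c)).snd = (χ b).snd + (χ c).snd
    rw [map_add, snd_add]
  · intro b c
    change (χ (b * c)).snd = _ • (χ c).snd + _ • (χ b).snd
    rw [map_mul, snd_mul, hfst, hfst, op_smul_eq_smul]
  · intro a
    have h1 : χ (algebraMap A B a) = τF a := χ.commutes a
    change (χ (algebraMap A B a)).snd = d a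
    rw [h1, derHom_snd]

/-- Lifting/extending `q`-derivations for a ring map `q : B → C` killing a power of `J`. -/
theorem exists_der_gen (hAB : CAlgX.IsAdicFormallySmooth A B J) {C : Type u} [CommRing C]
    (q : B →+* C) (hq : ∃ k : ℕ, ∀ x ∈ J ^ k, q x = 0)
    {F Z : Type u} [AddCommGroup F]
    [Module C F] [AddCommGroup Z] [Module C Z] (π : F →ₗ[C] Z)
    (hπ : Function.Surjective π)
    (D : B → Z) (hDadd : ∀ b c, D (b + c) = D b + D c)
    (hDmul : ∀ b c, D (b * c) = q b • D c + q c • D b)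
    (d : A → F) (hdadd : ∀ a a', d (a + a') = d a + d a')
    (hdmul : ∀ a a', d (a * a') =
      q (algebraMap A B a) • d a' + q (algebraMap A B a') • d a)
    (hπd : ∀ a, π (d a) = D (algebraMap A B a)) :
    ∃ D' : B → F, (∀ b c, D' (b + c) = D' b + D' c) ∧
      (∀ b c, D' (b * c) = q b • D' c + q c • D' b) ∧
      (∀ a, D' (algebraMap A B a) = d a) ∧ ∀ b, π (D' b) = D b := by
  letI := opMod (C := C) F
  letI := opMod (C := C) Z
  haveI := isCentral (C := C) F
  haveI := isCentral (C := C) Z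
  exact exists_der_gen_aux J hAB q hq π hπ D hDadd hDmul d hdadd hdmul hπd

end der

section extend

variable {A B : Type u} [CommRing A] [CommRing B] [Algebra A B] (J : Ideal B)
  (D₀ : Derivation ℤ A A)

/-- `δ` is a derivation extending `D₀` modulo `J^n`. -/
def IsDerMod (n : ℕ) (δ : B → B) : Prop :=
  (∀ b c, δ (b + c) - (δ b + δ c) ∈ J ^ n) ∧
  (∀ b c, δ (b * c) - (b * δ c + c * δ b) ∈ J ^ n) ∧
  (∀ a, δ (algebraMap A B a) - algebraMap A B (D₀ a) ∈ J ^ n)

theorem step (hAB : CAlgX.IsAdicFormallySmooth A B J) (n : ℕ) (δ : B → B)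
    (hδ : IsDerMod J D₀ n δ) :
    ∃ δ' : B → B, IsDerMod J D₀ (n + 1) δ' ∧ ∀ b, δ' b - δ b ∈ J ^ n := by
  obtain ⟨h1, h2, h3⟩ := hδ
  let q : B →+* B ⧸ J ^ (n + 1) := Ideal.Quotient.mk (J ^ (n + 1))
  have hqs : Function.Surjective q := Ideal.Quotient.mk_surjective
  let I' : Ideal (B ⧸ J ^ (n + 1)) := (J ^ n).map q
  let π : (B ⧸ J ^ (n + 1)) →ₗ[B ⧸ J ^ (n + 1)] ((B ⧸ J ^ (n + 1)) ⧸ I') :=
    (Ideal.Quotient.mkₐ (B ⧸ J ^ (n + 1)) I').toLinearMap
  have hπapp : ∀ x, π x = Ideal.Quotient.mk I' x := fun _ => rfl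
  have hπ : Function.Surjective π := Ideal.Quotient.mk_surjective
  have hmem : ∀ x : B, x ∈ J ^ n → Ideal.Quotient.mk I' (q x) = 0 := fun x hx =>
    Ideal.Quotient.eq_zero_iff_mem.mpr (Ideal.mem_map_of_mem q hx)
  have hsm : ∀ (c x : B ⧸ J ^ (n + 1)), c • Ideal.Quotient.mk I' x = Ideal.Quotient.mk I' (c * x) :=
    fun c x => rfl
  obtain ⟨D', hadd, hmul, hA, hπD⟩ := exists_der_gen J hAB q ⟨n + 1, fun x hx =>
      Ideal.Quotient.eq_zero_iff_mem.mpr hx⟩ π hπ
    (fun b => Ideal.Quotient.mk I' (q (δ b)))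
    (by
      intro b c
      have := hmem _ (h1 b c)
      rw [map_sub, map_sub, sub_eq_zero, map_add, map_add] at this
      exact this)
    (by
      intro b c
      have := hmem _ (h2 b c)
      rw [map_sub, map_sub, sub_eq_zero, map_add, map_add, map_mul, map_mul, map_mul,
        map_mul] at this
      rw [hsm, hsm, map_mul, map_mul]
      exact this)
    (fun a => q (algebraMap A B (D₀ a)))
    (by intro a a'; rw [map_add, map_add, map_add])
    (by
      intro a a'
      rw [Derivation.leibniz, map_add, map_add, smul_eq_mul, smul_eq_mul, map_mul, map_mul,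
        map_mul, map_mul, smul_eq_mul, smul_eq_mul])
    (by
      intro a
      have := hmem _ (h3 a)
      rw [map_sub, map_sub, sub_eq_zero] at this
      rw [hπapp]
      exact this.symm)
  have hout : ∀ x : B ⧸ J ^ (n + 1), q (Function.surjInv hqs x) = x := Function.surjInv_eq hqs
  refine ⟨fun b => Function.surjInv hqs (D' b), ⟨?_, ?_, ?_⟩, ?_⟩
  · intro b c
    rw [← Ideal.Quotient.eq_zero_iff_mem]
    change q _ = 0
    rw [map_sub, map_add, hout, hout, hout, hadd, sub_self]
  · intro b c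
    rw [← Ideal.Quotient.eq_zero_iff_mem]
    change q _ = 0
    rw [map_sub, map_add, map_mul, map_mul, hout, hout, hout, hmul, smul_eq_mul, smul_eq_mul,
      sub_self]
  · intro a
    rw [← Ideal.Quotient.eq_zero_iff_mem]
    change q _ = 0
    rw [map_sub, hout, hA, sub_self]
  · intro b
    have h5 := hπD b
    rw [hπapp] at h5
    have h6 : q (Function.surjInv hqs (D' b) - δ b) ∈ I' := by
      rw [map_sub, hout, ← Ideal.Quotient.eq_zero_iff_mem, map_sub, h5, sub_self]
    obtain ⟨y, hy, hy2⟩ := (Ideal.mem_map_iff_of_surjective q hqs).mp h6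
    have h7 : (Function.surjInv hqs (D' b) - δ b) - y ∈ J ^ (n + 1) := by
      rw [← Ideal.Quotient.eq_zero_iff_mem]
      change q _ = 0
      rw [map_sub, hy2, sub_self]
    have h8 := Ideal.add_mem _ (Ideal.pow_le_pow_right (Nat.le_succ n) h7) hy
    rwa [sub_add_cancel] at h8

end extend

section limit

variable {A B : Type u} [CommRing A] [CommRing B] [Algebra A B] (J : Ideal B)
  (D₀ : Derivation ℤ A A)

theorem isDerMod_zero : IsDerMod J D₀ 0 (fun _ => 0) := by
  refine ⟨?_, ?_, ?_⟩ <;> intros <;> rw [pow_zero, Ideal.one_eq_top] <;> trivial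

/-- a compatible sequence of approximate derivations. -/
noncomputable def seq (hAB : CAlgX.IsAdicFormallySmooth A B J) :
    ∀ n : ℕ, {δ : B → B // IsDerMod J D₀ n δ}
  | 0 => ⟨fun _ => 0, isDerMod_zero J D₀⟩
  | n + 1 => ⟨Classical.choose (step J D₀ hAB n (seq hAB n).1 (seq hAB n).2),
      (Classical.choose_spec (step J D₀ hAB n (seq hAB n).1 (seq hAB n).2)).1⟩

theorem seq_succ_sub (hAB : CAlgX.IsAdicFormallySmooth A B J) (n : ℕ) (b : B) :
    (seq J D₀ hAB (n + 1)).1 b - (seq J D₀ hAB n).1 b ∈ J ^ n :=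
  (Classical.choose_spec (step J D₀ hAB n (seq J D₀ hAB n).1 (seq J D₀ hAB n).2)).2 b

theorem seq_sub (hAB : CAlgX.IsAdicFormallySmooth A B J) (m n : ℕ) (hmn : m ≤ n) (b : B) :
    (seq J D₀ hAB n).1 b - (seq J D₀ hAB m).1 b ∈ J ^ m := by
  induction n, hmn using Nat.le_induction with
  | base => rw [sub_self]; exact Ideal.zero_mem _
  | succ n hmn ih =>
    have h1 := Ideal.pow_le_pow_right hmn (seq_succ_sub J D₀ hAB n b)
    have h2 := Ideal.add_mem _ h1 ih
    rwa [sub_add_sub_cancel] at h2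

theorem exists_extension [IsAdicComplete J B] (hAB : CAlgX.IsAdicFormallySmooth A B J) :
    ∃ D' : Derivation ℤ B B, ∀ a : A, D' (algebraMap A B a) = algebraMap A B (D₀ a) := by
  have hst : ∀ n : ℕ, (J ^ n • (⊤ : Submodule B B)) = J ^ n := fun n => by
    rw [smul_eq_mul, Ideal.mul_top]
  have hlim : ∀ b : B, ∃ L : B, ∀ n, (seq J D₀ hAB n).1 b - L ∈ J ^ n := by
    intro b
    obtain ⟨L, hL⟩ := IsPrecomplete.prec (I := J) (M := B) inferInstance
      (f := fun n => (seq J D₀ hAB n).1 b) (by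
        intro m n hmn
        rw [SModEq.sub_mem, hst]
        have := seq_sub J D₀ hAB m n hmn b
        have h2 := Ideal.neg_mem_iff _ |>.mpr this
        rwa [neg_sub] at h2)
    refine ⟨L, fun n => ?_⟩
    have := hL n
    rwa [SModEq.sub_mem, hst] at this
  choose L hL using hlim
  have hzero : ∀ x : B, (∀ n, x ∈ J ^ n) → x = 0 := by
    intro x hx
    apply IsHausdorff.haus (I := J) (M := B) inferInstance
    intro n
    rw [SModEq.sub_mem, sub_zero, hst]
    exact hx n
  have hadd : ∀ b c, L (b + c) = L b + L c := by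
    intro b c
    rw [← sub_eq_zero]
    apply hzero
    intro n
    have h1 := (seq J D₀ hAB n).2.1 b c
    have e : L (b + c) - (L b + L c) =
        ((seq J D₀ hAB n).1 (b + c) - ((seq J D₀ hAB n).1 b + (seq J D₀ hAB n).1 c))
        - ((seq J D₀ hAB n).1 (b + c) - L (b + c))
        + ((seq J D₀ hAB n).1 b - L b) + ((seq J D₀ hAB n).1 c - L c) := by ring
    rw [e]
    exact Ideal.add_mem _ (Ideal.add_mem _ (Ideal.sub_mem _ h1 (hL _ n)) (hL _ n)) (hL _ n)
  have hmul : ∀ b c, L (b * c) = b * L c + c * L b := by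
    intro b c
    rw [← sub_eq_zero]
    apply hzero
    intro n
    have h1 := (seq J D₀ hAB n).2.2.1 b c
    have e : L (b * c) - (b * L c + c * L b) =
        ((seq J D₀ hAB n).1 (b * c) - (b * (seq J D₀ hAB n).1 c + c * (seq J D₀ hAB n).1 b))
        - ((seq J D₀ hAB n).1 (b * c) - L (b * c))
        + b * ((seq J D₀ hAB n).1 c - L c) + c * ((seq J D₀ hAB n).1 b - L b) := by ring
    rw [e]
    exact Ideal.add_mem _ (Ideal.add_mem _ (Ideal.sub_mem _ h1 (hL _ n))
      (Ideal.mul_mem_left _ _ (hL _ n))) (Ideal.mul_mem_left _ _ (hL _ n))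
  have hA : ∀ a, L (algebraMap A B a) = algebraMap A B (D₀ a) := by
    intro a
    rw [← sub_eq_zero]
    apply hzero
    intro n
    have h1 := (seq J D₀ hAB n).2.2.2 a
    have e : L (algebraMap A B a) - algebraMap A B (D₀ a) =
        ((seq J D₀ hAB n).1 (algebraMap A B a) - algebraMap A B (D₀ a))
        - ((seq J D₀ hAB n).1 (algebraMap A B a) - L (algebraMap A B a)) := by ring
    rw [e]
    exact Ideal.sub_mem _ h1 (hL _ n)
  have hL0 : L 0 = 0 := by
    have h := hadd 0 0
    rw [add_zero] at h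
    have : L 0 + L 0 = L 0 + 0 := by rw [add_zero]; exact h.symm
    exact add_left_cancel this
  let Ladd : B →+ B := { toFun := L, map_zero' := hL0, map_add' := hadd }
  refine ⟨Derivation.mk' Ladd.toIntLinearMap ?_, hA⟩
  intro b c
  change L (b * c) = b • L c + c • L b
  rw [hmul, smul_eq_mul, smul_eq_mul]

end limit

end Groth.Agent.Lib.Helper70.AdicFS7
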