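import Groth.Agent.Lib.Helper85.GorFlat
import Groth.Agent.Lib.Helper85.GorRing
import Groth.Agent.Lib.Helper85.RegGor

set_option autoImplicit false
set_option linter.unusedSectionVars false
set_option linter.style.haveILetI false
universe u

namespace Groth.Agent.Lib.Helper70.ArtFact

open IsLocalRing Groth.Agent.Lib.Helper85.GorFlat Groth.Agent.Lib.Helper85

/-- Truncation step: a flat local `A`-algebra `B` with Gorenstein closed fibre `F` surjecting onto
an Artinian local ring `S` can be cut down to an Artinian one. -/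
theorem exists_artinian_aux (N : ℕ) : ∀ (A B F S : Type u) [CommRing A] [CommRing B] [CommRing F]
    [CommRing S] [IsLocalRing A] [IsArtinianRing A] [IsLocalRing B] [IsNoetherianRing B]
    [IsLocalRing F] [IsNoetherianRing F] [IsLocalRing S] [IsArtinianRing S]
    [Algebra A B] [IsLocalHom (algebraMap A B)] [Module.Flat A B] [Algebra A S]
    (π : B →+* F) (_ : Function.Surjective π)
    (_ : RingHom.ker π = (maximalIdeal A).map (algebraMap A B))
    (_ : LocCoh.IsGorensteinLocalRing F) (g : B →ₐ[A] S) (_ : Function.Surjective g),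
    LocCoh.depth F F = N →
    ∃ (R' : Type u) (_ : CommRing R') (_ : Algebra A R'), IsArtinianRing R' ∧ IsLocalRing R' ∧
      Module.Flat A R' ∧ IsLocalHom (algebraMap A R') ∧
      LocCoh.IsGorensteinLocalRing (R' ⧸ (maximalIdeal A).map (algebraMap A R')) ∧
      ∃ g' : R' →ₐ[A] S, Function.Surjective g' := by
  induction N with
  | zero =>
    intro A B F S _ _ _ _ _ _ _ _ _ _ _ _ _ _ _ _ π hπ hker hG g hg hd
    have hdimF : ringKrullDim F = 0 :=
      ringKrullDim_eq_zero_of_gorenstein_of_depth_zero (R := F) hd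
    have hdimA : ringKrullDim A = 0 := by
      have h1 : Ring.KrullDimLE 0 A :=
        (isArtinianRing_iff_isNoetherianRing_krullDimLE_zero.mp inferInstance).2
      exact le_antisymm (by simpa using Ring.krullDimLE_iff.mp h1) ringKrullDim_nonneg_of_nontrivial
    have hdimB : ringKrullDim B = 0 := by
      rw [dim_eq_add π hπ hker, hdimA, hdimF, add_zero]
    have hB : IsArtinianRing B := by
      rw [isArtinianRing_iff_isNoetherianRing_krullDimLE_zero]
      exact ⟨inferInstance, Ring.krullDimLE_iff.mpr hdimB.le⟩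
    refine ⟨B, inferInstance, inferInstance, hB, inferInstance, inferInstance, inferInstance,
      ?_, g, hg⟩
    have e : F ≃+* (B ⧸ (maximalIdeal A).map (algebraMap A B)) :=
      ((RingHom.quotientKerEquivOfSurjective hπ).symm).trans (Ideal.quotEquivOfEq hker)
    exact GorRing.gor_of_ringEquiv e
  | succ N ih =>
    intro A B F S _ _ _ _ _ _ _ _ _ _ _ _ _ _ _ _ π hπ hker hG g hg hd
    have hdF : LocCoh.depth F F ≠ 0 := by rw [hd]; simp
    obtain ⟨y', hy'm, hy'⟩ := exists_regular_of_depth_ne_zero F hdF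
    obtain ⟨y₀, hy₀m, rfl⟩ := exists_lift_maximalIdeal π hπ y' hy'm
    -- g y₀ is nilpotent
    have hgy : g y₀ ∈ maximalIdeal S := by
      haveI : IsLocalHom g.toRingHom := IsLocalHom.of_surjective g.toRingHom hg
      exact map_nonunit g.toRingHom y₀ hy₀m
    obtain ⟨k, hk⟩ := (isArtinianRing_iff_isNilpotent_maximalIdeal S).mp ‹_›
    have hgyk : g (y₀ ^ (k + 1)) = 0 := by
      rw [map_pow, pow_succ]
      have : g y₀ ^ k ∈ maximalIdeal S ^ k := Ideal.pow_mem_pow hgy k
      rw [hk] at this
      rw [(Submodule.mem_bot S).mp this, zero_mul]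
    set y := y₀ ^ (k + 1) with hy
    have hym : y ∈ maximalIdeal B := Ideal.pow_mem_of_mem _ hy₀m _ (Nat.succ_pos k)
    have hπym : π y ∈ maximalIdeal F := pi_mem_maximalIdeal π hπ y hym
    have hπy : IsSMulRegular F (π y) := by
      rw [hy, map_pow]
      exact hy'.pow _
    obtain ⟨hyB, hflat⟩ := regular_and_flat_of_fibre π hker y hπy
    haveI := hflat
    haveI : IsLocalRing (B ⧸ Ideal.span {y}) :=
      isLocalRing_quot _ ((Ideal.span_singleton_le_iff_mem _).mpr hym)
    haveI : IsLocalRing (F ⧸ Ideal.span {π y}) :=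
      isLocalRing_quot _ ((Ideal.span_singleton_le_iff_mem _).mpr hπym)
    haveI := isLocalHom_quotB (A := A) y
    have h0 : Ideal.span {y} ≤ (Ideal.span {π y}).comap π := by
      rw [Ideal.span_singleton_le_iff_mem, Ideal.mem_comap]
      exact Ideal.mem_span_singleton_self _
    have hker' := ker_quotientMap_eq π hπ hker y h0
    have hπ' : Function.Surjective (Ideal.quotientMap (Ideal.span {π y}) π h0) :=
      Ideal.quotientMap_surjective hπ
    have hd' := depth_quot_add_one (π y) hπym hπy (Ideal.span {π y}) rfl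
    have hdN : LocCoh.depth (F ⧸ Ideal.span {π y}) (F ⧸ Ideal.span {π y}) = N := by
      rw [hd] at hd'
      obtain ⟨N', hN'⟩ := ENat.ne_top_iff_exists.mp
        (Groth.Agent.Lib.Helper67.depth_ne_top (R := F ⧸ Ideal.span {π y})
          (F ⧸ Ideal.span {π y}))
      rw [← hN'] at hd' ⊢
      have : N' + 1 = N + 1 := by exact_mod_cast hd'
      have : N' = N := by omega
      rw [this]
    have hG' : LocCoh.IsGorensteinLocalRing (F ⧸ Ideal.span {π y}) :=
      (gorenstein_quot_iff (π y) hπym hπy _ rfl).mpr hG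
    have hgker : ∀ b ∈ Ideal.span {y}, g b = 0 := by
      intro b hb
      obtain ⟨c, rfl⟩ := Ideal.mem_span_singleton'.mp hb
      rw [map_mul, hgyk, mul_zero]
    let g' : (B ⧸ Ideal.span {y}) →ₐ[A] S := Ideal.Quotient.liftₐ (Ideal.span {y}) g hgker
    have hg' : Function.Surjective g' := by
      intro s
      obtain ⟨b, rfl⟩ := hg s
      exact ⟨Ideal.Quotient.mk _ b, by simp [g']⟩
    exact ih A (B ⧸ Ideal.span {y}) (F ⧸ Ideal.span {π y}) S
      (Ideal.quotientMap (Ideal.span {π y}) π h0) hπ' hker' hG' g' hg' hdN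

end Groth.Agent.Lib.Helper70.ArtFact
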