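import Groth.Agent.Lib.Helper70.ArtFact1
import Groth.Agent.Lib.Helper70.CohenFact5

set_option autoImplicit false
set_option linter.unusedSectionVars false
set_option linter.style.haveILetI false
universe u

namespace Groth.Agent.Lib.Helper70.ArtFact

open IsLocalRing Groth.Agent.Lib.Helper85.GorFlat Groth.Agent.Lib.Helper85

/-- From a "Cohen square" to an Artinian factorization. -/
theorem of_square {R S P Q : Type u} [CommRing R] [CommRing S] [CommRing P] [CommRing Q]
    [IsLocalRing R] [IsArtinianRing R] [IsLocalRing S] [IsArtinianRing S] [Algebra R S]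
    [IsLocalHom (algebraMap R S)] [IsLocalRing P] [IsLocalRing Q] [IsNoetherianRing Q]
    (ρ : P →+* R) (σ : Q →+* S) (τ : P →+* Q) (hρ : Function.Surjective ρ)
    (hσ : Function.Surjective σ) (h : σ.comp τ = (algebraMap R S).comp ρ) (hflat : τ.Flat)
    (hreg : IsRegularRing (Q ⧸ (maximalIdeal P).map τ)) :
    ∃ (R' : Type u) (_ : CommRing R') (_ : Algebra R R'), IsArtinianRing R' ∧ IsLocalRing R' ∧
      Module.Flat R R' ∧ IsLocalHom (algebraMap R R') ∧
      LocCoh.IsGorensteinLocalRing (R' ⧸ (maximalIdeal R).map (algebraMap R R')) ∧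
      ∃ g' : R' →ₐ[R] S, Function.Surjective g' := by
  haveI hτloc : IsLocalHom τ :=
    Groth.Agent.Lib.Helper70.CohenFact.isLocalHom_of_square (A := R) (B := S) ρ σ τ hρ h
  haveI hρloc : IsLocalHom ρ := IsLocalHom.of_surjective ρ hρ
  letI : Algebra P Q := τ.toAlgebra
  haveI : Module.Flat P Q := hflat
  set I : Ideal P := RingHom.ker ρ with hI
  have hIm : I ≤ maximalIdeal P := by
    intro f hf
    rw [mem_maximalIdeal, mem_nonunits_iff]
    intro hu
    have h1 : IsUnit (ρ f) := hu.map ρ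
    rw [hI, RingHom.mem_ker] at hf
    rw [hf] at h1
    exact not_isUnit_zero h1
  set K : Ideal Q := I.map (algebraMap P Q) with hK
  set J : Ideal Q := (maximalIdeal P).map τ with hJ
  have hKJ : K ≤ J := Ideal.map_mono hIm
  have hJm : J ≤ maximalIdeal Q := by
    rw [hJ, Ideal.map_le_iff_le_comap]
    intro f hf
    exact map_nonunit τ f hf
  have hKm : K ≤ maximalIdeal Q := hKJ.trans hJm
  haveI : IsLocalRing (Q ⧸ K) := isLocalRing_quot K hKm
  haveI : IsLocalRing (Q ⧸ J) := isLocalRing_quot J hJm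
  let e : P ⧸ I ≃+* R := RingHom.quotientKerEquivOfSurjective hρ
  letI : Algebra R (P ⧸ I) := e.symm.toRingHom.toAlgebra
  letI : Algebra R (Q ⧸ K) := ((algebraMap (P ⧸ I) (Q ⧸ K)).comp e.symm.toRingHom).toAlgebra
  haveI : IsScalarTower R (P ⧸ I) (Q ⧸ K) := IsScalarTower.of_algebraMap_eq fun _ => rfl
  haveI : Module.Flat R (P ⧸ I) := by
    let e' : (P ⧸ I) ≃ₗ[R] R :=
      { e.toAddEquiv with
        map_smul' := by
          intro r x
          show e (e.symm r * x) = r * e x
          rw [map_mul, RingEquiv.apply_symm_apply] }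
    exact Module.Flat.of_linearEquiv e'
  haveI : Module.Flat (P ⧸ I) (Q ⧸ K) := flat_quot (A := P) (B := Q) I
  haveI : Module.Flat R (Q ⧸ K) := Module.Flat.trans R (P ⧸ I) (Q ⧸ K)
  have hψ : ∀ f : P, algebraMap R (Q ⧸ K) (ρ f) = Ideal.Quotient.mk K (τ f) := by
    intro f
    show algebraMap (P ⧸ I) (Q ⧸ K) (e.symm (ρ f)) = _
    rw [RingHom.quotientKerEquivOfSurjective_symm_apply]
    rfl
  haveI : IsLocalHom (algebraMap R (Q ⧸ K)) := by
    constructor
    intro r hr
    obtain ⟨f, rfl⟩ := hρ r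
    rw [hψ] at hr
    haveI : IsLocalHom (Ideal.Quotient.mk K) :=
      IsLocalHom.of_surjective _ Ideal.Quotient.mk_surjective
    exact (isUnit_of_map_unit τ f (isUnit_of_map_unit (Ideal.Quotient.mk K) _ hr)).map ρ
  -- the fibre
  let π : Q ⧸ K →+* Q ⧸ J := Ideal.Quotient.factor hKJ
  have hπ : Function.Surjective π := Ideal.Quotient.factor_surjective hKJ
  have hker : RingHom.ker π = (maximalIdeal R).map (algebraMap R (Q ⧸ K)) := by
    have h1 : (maximalIdeal R).map (algebraMap R (Q ⧸ K)) = J.map (Ideal.Quotient.mk K) := by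
      rw [← map_maximalIdeal_of_surjective ρ hρ, Ideal.map_map, hJ, Ideal.map_map]
      congr 1
      ext f
      exact hψ f
    rw [h1]
    ext x
    obtain ⟨q, rfl⟩ := Ideal.Quotient.mk_surjective x
    rw [RingHom.mem_ker]
    show Ideal.Quotient.factor hKJ (Ideal.Quotient.mk K q) = 0 ↔ _
    rw [Ideal.Quotient.factor_mk, Ideal.Quotient.eq_zero_iff_mem]
    constructor
    · intro hq
      exact Ideal.mem_map_of_mem _ hq
    · intro hq
      obtain ⟨q', hq', hqq⟩ :=
        (Ideal.mem_map_iff_of_surjective _ Ideal.Quotient.mk_surjective).mp hq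
      have : q' - q ∈ K := Ideal.Quotient.eq.mp hqq
      have h2 : q = q' - (q' - q) := by ring
      rw [h2]
      exact Ideal.sub_mem _ hq' (hKJ this)
  haveI : IsRegularLocalRing (Q ⧸ J) := IsRegularLocalRing.of_isRegularRing_of_isLocalRing _
  have hG : LocCoh.IsGorensteinLocalRing (Q ⧸ J) := FLCrit.isGorensteinLocalRing_of_regular _
  -- the map to S
  have hσK : ∀ q ∈ K, σ q = 0 := by
    have : K ≤ RingHom.ker σ := by
      rw [hK, Ideal.map_le_iff_le_comap]
      intro f hf
      rw [Ideal.mem_comap, RingHom.mem_ker]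
      show σ (τ f) = 0
      have h2 : σ (τ f) = algebraMap R S (ρ f) := congrArg (fun k => k f) h
      rw [h2, (RingHom.mem_ker).mp hf, map_zero]
    exact fun q hq => this hq
  let g : (Q ⧸ K) →ₐ[R] S :=
    { Ideal.Quotient.lift K σ hσK with
      commutes' := by
        intro r
        obtain ⟨f, rfl⟩ := hρ r
        show Ideal.Quotient.lift K σ hσK (algebraMap R (Q ⧸ K) (ρ f)) = _
        rw [hψ, Ideal.Quotient.lift_mk]
        exact congrArg (fun k => k f) h }
  have hg : Function.Surjective g := by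
    intro s
    obtain ⟨q, rfl⟩ := hσ s
    exact ⟨Ideal.Quotient.mk K q, Ideal.Quotient.lift_mk K σ hσK⟩
  obtain ⟨N, hN⟩ := ENat.ne_top_iff_exists.mp
    (Groth.Agent.Lib.Helper67.depth_ne_top (R := Q ⧸ J) (Q ⧸ J))
  exact exists_artinian_aux N R (Q ⧸ K) (Q ⧸ J) S π hπ hker hG g hg hN.symm

end Groth.Agent.Lib.Helper70.ArtFact
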