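import Groth.Agent.Lib.Helper70.ArtFact2

set_option autoImplicit false
set_option linter.unusedSectionVars false
set_option linter.style.haveILetI false
universe u

namespace Groth.Agent.Lib.Helper70.ArtFact

open IsLocalRing

theorem main (R S : Type u) [CommRing R] [CommRing S] [IsArtinianRing R] [IsLocalRing R]
    [IsArtinianRing S] [IsLocalRing S] [Algebra R S] [IsLocalHom (algebraMap R S)] :
    ∃ (R' : Type u) (_ : CommRing R') (_ : Algebra R R'), IsArtinianRing R' ∧ IsLocalRing R' ∧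
      Module.Flat R R' ∧ IsLocalHom (algebraMap R R') ∧
      LocCoh.IsGorensteinLocalRing (R' ⧸ (IsLocalRing.maximalIdeal R).map (algebraMap R R')) ∧
      ∃ g : R' →ₐ[R] S, Function.Surjective g := by
  obtain ⟨Λ, Λ', i1, i2, i3, n, m, ρ, σ, τ, hcase, hρ, hσ, h, hflat, hreg⟩ :=
    Groth.Agent.Lib.Helper70.CohenFact.main (A := R) (B := S)
  have hΛ' : IsLocalRing Λ' ∧ IsNoetherianRing Λ' := by
    rcases hcase with ⟨_, _, hf⟩ | ⟨_, _, hc⟩
    · letI := hf.toField
      exact ⟨inferInstance, inferInstance⟩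
    · obtain ⟨hD, hDVR, -⟩ := hc
      exact ⟨inferInstance, inferInstance⟩
  haveI := hΛ'.1
  haveI := hΛ'.2
  exact of_square ρ σ τ hρ hσ h hflat hreg

end Groth.Agent.Lib.Helper70.ArtFact
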