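import Mathlib
import Groth.Agent.Lib.Helper70.CIAscent
import Groth.Agent.Lib.Helper85.GorFiber
import Groth.Agent.Lib.Helper85.GorFlat
import Groth.Agent.Lib.Helper56.QuotFlat
import Groth.Agent.S2842

/-!
# Complete intersection fibres are preserved by composition with a regular map (helper70)

Same plumbing as `Helper77.GorComp` (Gorenstein case), with `Pi1.IsCompleteIntersection` and the
ascent theorem `CIAscent.ci_of_flat_of_ci_fibre`.
-/
set_option autoImplicit false
set_option linter.style.haveILetI false
set_option linter.unusedSectionVars false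
universe u
open IsLocalRing TensorProduct

namespace Groth.Agent.Lib.Helper70.CIComp

open Groth.Agent.Lib.Helper85.GorFlat Groth.Agent.Lib.Helper56
open Groth.Agent.Lib.Helper76.CITransport Groth.Agent.Lib.Helper70.CIAscent

/-- flat local hom `R → T`, `I ⊆ m_R`: if `R/I` and `T/m_R T` are complete intersections then so
is `T/IT` -/
theorem ci_quot_of_flat (R T : Type u) [CommRing R] [CommRing T] [IsLocalRing R] [IsLocalRing T]
    [IsNoetherianRing R] [IsNoetherianRing T] [Algebra R T] [IsLocalHom (algebraMap R T)]
    [Module.Flat R T] (I : Ideal R) (hI : I ≤ maximalIdeal R)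
    [IsLocalRing (R ⧸ I)] [IsLocalRing (T ⧸ I.map (algebraMap R T))]
    [IsLocalRing (T ⧸ (maximalIdeal R).map (algebraMap R T))]
    (h1 : Pi1.IsCompleteIntersection (R ⧸ I))
    (h2 : Pi1.IsCompleteIntersection (T ⧸ (maximalIdeal R).map (algebraMap R T))) :
    Pi1.IsCompleteIntersection (T ⧸ I.map (algebraMap R T)) := by
  haveI : Module.Flat (R ⧸ I) (T ⧸ I.map (algebraMap R T)) := flat_quotient_map R T I
  haveI : IsLocalHom (algebraMap (R ⧸ I) (T ⧸ I.map (algebraMap R T))) :=
    isLocalHom_quotient_map R T I
  have hle : I.map (algebraMap R T) ≤ (maximalIdeal R).map (algebraMap R T) := Ideal.map_mono hI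
  have hfib : EGA4.mB (R ⧸ I) (T ⧸ I.map (algebraMap R T)) =
      ((maximalIdeal R).map (algebraMap R T)).map
        (Ideal.Quotient.mk (I.map (algebraMap R T))) := map_maximalIdeal_quotient_eq R T I
  let e1 : EGA4.FibRing (R ⧸ I) (T ⧸ I.map (algebraMap R T)) ≃+*
      T ⧸ (maximalIdeal R).map (algebraMap R T) :=
    (Ideal.quotEquivOfEq hfib).trans
      ((DoubleQuot.quotQuotEquivQuotSup (I.map (algebraMap R T))
        ((maximalIdeal R).map (algebraMap R T))).trans
          (Ideal.quotEquivOfEq (sup_eq_right.mpr hle)))
  exact ci_of_flat_of_ci_fibre (R ⧸ I) (T ⧸ I.map (algebraMap R T)) h1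
    (isCompleteIntersection_of_ringEquiv e1.symm h2)

section Fiber

variable (A B : Type u) [CommRing A] [CommRing B] [Algebra A B]

/-- the local ring of the fibre at a prime is a complete intersection -/
theorem ci_loc_quot_of_fiber [Module.Flat A B] (q : Ideal A) [q.IsPrime]
    (hq : ∀ (P : Ideal (q.Fiber B)) [P.IsPrime],
      Pi1.IsCompleteIntersection (Localization.AtPrime P))
    (s : Ideal B) [s.IsPrime] (hs : s.comap (algebraMap A B) = q)
    [IsLocalRing (Localization.AtPrime s ⧸ q.map (algebraMap A (Localization.AtPrime s)))] :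
    Pi1.IsCompleteIntersection
      (Localization.AtPrime s ⧸ q.map (algebraMap A (Localization.AtPrime s))) := by
  obtain ⟨P, hP⟩ := Groth.Agent.Lib.Helper85.GorFiber.exists_fiber_prime A B q s hs
  subst hP
  letI := Localization.AtPrime.algebraOfLiesOver q
    (P.asIdeal.comap (Algebra.TensorProduct.includeRight : B →ₐ[A] q.Fiber B))
  let e := Ideal.Fiber.localizationAlgEquivQuotient q P.asIdeal
  exact isCompleteIntersection_of_ringEquiv e.toRingEquiv (hq P.asIdeal)

theorem ci_fiber_loc_of_quot (q : Ideal A) [q.IsPrime] (Q : Ideal (q.Fiber B)) [Q.IsPrime]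
    [IsLocalRing
      (Localization.AtPrime (Q.comap (Algebra.TensorProduct.includeRight : B →ₐ[A] q.Fiber B)) ⧸
        q.map (algebraMap A (Localization.AtPrime
          (Q.comap (Algebra.TensorProduct.includeRight : B →ₐ[A] q.Fiber B)))))]
    (h : Pi1.IsCompleteIntersection
      (Localization.AtPrime (Q.comap (Algebra.TensorProduct.includeRight : B →ₐ[A] q.Fiber B)) ⧸
        q.map (algebraMap A (Localization.AtPrime
          (Q.comap (Algebra.TensorProduct.includeRight : B →ₐ[A] q.Fiber B)))))) :
    Pi1.IsCompleteIntersection (Localization.AtPrime Q) := by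
  letI := Localization.AtPrime.algebraOfLiesOver q
    (Q.comap (Algebra.TensorProduct.includeRight : B →ₐ[A] q.Fiber B))
  let e := Ideal.Fiber.localizationAlgEquivQuotient q Q
  exact isCompleteIntersection_of_ringEquiv e.symm.toRingEquiv h

/-- the ideal `q A_s`-extension is contained in the maximal ideal -/
theorem map_le_maximalIdeal_atPrime (q : Ideal A) (s : Ideal B) [s.IsPrime]
    (hq : q ≤ s.comap (algebraMap A B)) :
    q.map (algebraMap A (Localization.AtPrime s)) ≤ maximalIdeal (Localization.AtPrime s) := by
  rw [Ideal.map_le_iff_le_comap]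
  intro a ha
  rw [Ideal.mem_comap, IsScalarTower.algebraMap_apply A B (Localization.AtPrime s),
    IsLocalization.AtPrime.to_map_mem_maximal_iff (Localization.AtPrime s) s]
  exact hq ha

end Fiber

section Core

variable (A B C : Type u) [CommRing A] [CommRing B] [CommRing C] [Algebra A B] [Algebra B C]
  [Algebra A C] [IsScalarTower A B C] [IsNoetherianRing B] [IsNoetherianRing C] [Module.Flat B C]

theorem core (q : Ideal A) (s : Ideal B) [s.IsPrime] (r : Ideal C) [r.IsPrime] [r.LiesOver s]
    (hq : q ≤ s.comap (algebraMap A B))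
    [IsLocalRing (Localization.AtPrime s ⧸ q.map (algebraMap A (Localization.AtPrime s)))]
    [IsLocalRing (Localization.AtPrime r ⧸ s.map (algebraMap B (Localization.AtPrime r)))]
    [IsLocalRing (Localization.AtPrime r ⧸ q.map (algebraMap A (Localization.AtPrime r)))]
    (h1 : Pi1.IsCompleteIntersection
      (Localization.AtPrime s ⧸ q.map (algebraMap A (Localization.AtPrime s))))
    (h2 : Pi1.IsCompleteIntersection
      (Localization.AtPrime r ⧸ s.map (algebraMap B (Localization.AtPrime r)))) :
    Pi1.IsCompleteIntersection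
      (Localization.AtPrime r ⧸ q.map (algebraMap A (Localization.AtPrime r))) := by
  letI := Localization.AtPrime.algebraOfLiesOver s r
  haveI : IsLocalHom (algebraMap (Localization.AtPrime s) (Localization.AtPrime r)) :=
    Localization.isLocalHom_localRingHom s r (algebraMap B C) _
  haveI : Module.Flat (Localization.AtPrime s) (Localization.AtPrime r) :=
    RingHom.Flat.localRingHom (f := algebraMap B C)
      (RingHom.flat_algebraMap_iff.mpr inferInstance) r s Ideal.LiesOver.over
  haveI : IsNoetherianRing (Localization.AtPrime s) :=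
    IsLocalization.isNoetherianRing s.primeCompl _ inferInstance
  haveI : IsNoetherianRing (Localization.AtPrime r) :=
    IsLocalization.isNoetherianRing r.primeCompl _ inferInstance
  obtain ⟨I, hIdef⟩ : ∃ I : Ideal (Localization.AtPrime s),
      I = q.map (algebraMap A (Localization.AtPrime s)) := ⟨_, rfl⟩
  have hI : I ≤ maximalIdeal (Localization.AtPrime s) := by
    rw [hIdef]
    exact map_le_maximalIdeal_atPrime A B q s hq
  have hmapI : I.map (algebraMap (Localization.AtPrime s) (Localization.AtPrime r)) =
      q.map (algebraMap A (Localization.AtPrime r)) := by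
    rw [hIdef, Ideal.map_map, ← IsScalarTower.algebraMap_eq]
  have hmapm : (maximalIdeal (Localization.AtPrime s)).map
      (algebraMap (Localization.AtPrime s) (Localization.AtPrime r)) =
      s.map (algebraMap B (Localization.AtPrime r)) := by
    rw [← Localization.AtPrime.map_eq_maximalIdeal, Ideal.map_map, ← IsScalarTower.algebraMap_eq]
  have hle2 : (maximalIdeal (Localization.AtPrime s)).map
      (algebraMap (Localization.AtPrime s) (Localization.AtPrime r)) ≤
      maximalIdeal (Localization.AtPrime r) :=
    map_le_maximalIdeal (maximalIdeal (Localization.AtPrime s)) le_rfl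
  haveI : IsLocalRing (Localization.AtPrime s ⧸ I) := isLocalRing_quot I hI
  haveI : IsLocalRing (Localization.AtPrime r ⧸
      I.map (algebraMap (Localization.AtPrime s) (Localization.AtPrime r))) :=
    isLocalRing_quot _ ((Ideal.map_mono hI).trans hle2)
  haveI : IsLocalRing (Localization.AtPrime r ⧸ (maximalIdeal (Localization.AtPrime s)).map
      (algebraMap (Localization.AtPrime s) (Localization.AtPrime r))) :=
    isLocalRing_quot _ hle2
  have h1' : Pi1.IsCompleteIntersection (Localization.AtPrime s ⧸ I) :=
    isCompleteIntersection_of_ringEquiv (Ideal.quotEquivOfEq hIdef.symm) h1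
  have h2' : Pi1.IsCompleteIntersection (Localization.AtPrime r ⧸
      (maximalIdeal (Localization.AtPrime s)).map
        (algebraMap (Localization.AtPrime s) (Localization.AtPrime r))) :=
    isCompleteIntersection_of_ringEquiv (Ideal.quotEquivOfEq hmapm.symm) h2
  have h3 := ci_quot_of_flat (Localization.AtPrime s) (Localization.AtPrime r) I hI h1' h2'
  exact isCompleteIntersection_of_ringEquiv (Ideal.quotEquivOfEq hmapI) h3

end Core

section Main

variable (A B C : Type u) [CommRing A] [CommRing B] [CommRing C] [IsNoetherianRing A]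
  [IsNoetherianRing B] [IsNoetherianRing C] [Algebra A B] [Algebra B C] [Algebra A C]
  [IsScalarTower A B C] [Module.Flat A B] [Module.Flat B C]

theorem ci_fiber_of_regularHom (hBC : CAlg.IsRegularHom B C) (s : Ideal B) [s.IsPrime]
    (P : Ideal (s.Fiber C)) [P.IsPrime] :
    Pi1.IsCompleteIntersection (Localization.AtPrime P) := by
  obtain ⟨hN, hreg⟩ := hBC.2 s
  haveI := hreg s.ResidueField (Module.Finite.self _)
  haveI : IsRegularRing (s.Fiber C) :=
    IsRegularRing.of_ringEquiv (R := s.ResidueField ⊗[s.ResidueField] s.Fiber C)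
      (Algebra.TensorProduct.lid s.ResidueField (s.Fiber C)).toRingEquiv
  exact Groth.Agent.S2842.isCompleteIntersection_of_isRegularLocalRing _

theorem main_aux
    (hAB : ∀ (q : Ideal A) [q.IsPrime] (P : Ideal (q.Fiber B)) [P.IsPrime],
      Pi1.IsCompleteIntersection (Localization.AtPrime P))
    (hBC : CAlg.IsRegularHom B C) (q : Ideal A) [q.IsPrime] (r : Ideal C) [r.IsPrime]
    (hrq : r.comap (algebraMap A C) = q)
    [IsLocalRing (Localization.AtPrime r ⧸ q.map (algebraMap A (Localization.AtPrime r)))] :
    Pi1.IsCompleteIntersection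
      (Localization.AtPrime r ⧸ q.map (algebraMap A (Localization.AtPrime r))) := by
  obtain ⟨s, hs⟩ : ∃ s : Ideal B, s = r.comap (algebraMap B C) := ⟨_, rfl⟩
  haveI : s.IsPrime := by rw [hs]; infer_instance
  haveI : r.LiesOver s := ⟨hs⟩
  have hsq : s.comap (algebraMap A B) = q := by
    rw [hs, Ideal.comap_comap, ← IsScalarTower.algebraMap_eq, hrq]
  haveI : IsLocalRing (Localization.AtPrime s ⧸ q.map (algebraMap A (Localization.AtPrime s))) :=
    isLocalRing_quot _ (map_le_maximalIdeal_atPrime A B q s (le_of_eq hsq.symm))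
  haveI : IsLocalRing (Localization.AtPrime r ⧸ s.map (algebraMap B (Localization.AtPrime r))) :=
    isLocalRing_quot _ (map_le_maximalIdeal_atPrime B C s r (le_of_eq hs))
  have h1 := ci_loc_quot_of_fiber A B q (hAB q) s hsq
  have h2 := ci_loc_quot_of_fiber B C s (fun P _ => ci_fiber_of_regularHom B C hBC s P) r hs.symm
  exact core A B C q s r (le_of_eq hsq.symm) h1 h2

theorem main
    (hAB : ∀ (q : Ideal A) [q.IsPrime] (P : Ideal (q.Fiber B)) [P.IsPrime],
      Pi1.IsCompleteIntersection (Localization.AtPrime P))
    (hBC : CAlg.IsRegularHom B C) (q : Ideal A) [q.IsPrime] (Q : Ideal (q.Fiber C))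
    [Q.IsPrime] : Pi1.IsCompleteIntersection (Localization.AtPrime Q) := by
  have hQq : (Q.comap (Algebra.TensorProduct.includeRight : C →ₐ[A] q.Fiber C)).comap
      (algebraMap A C) = q := by
    have h := Ideal.over_def Q q
    refine Eq.trans ?_ h.symm
    ext a
    change _ ∈ Q ↔ _ ∈ Q
    rw [AlgHom.commutes]
  haveI : IsLocalRing
      (Localization.AtPrime (Q.comap (Algebra.TensorProduct.includeRight : C →ₐ[A] q.Fiber C)) ⧸
        q.map (algebraMap A (Localization.AtPrime
          (Q.comap (Algebra.TensorProduct.includeRight : C →ₐ[A] q.Fiber C))))) :=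
    isLocalRing_quot _ (map_le_maximalIdeal_atPrime A C q _ (le_of_eq hQq.symm))
  apply ci_fiber_loc_of_quot A C q Q
  exact main_aux A B C hAB hBC q _ hQq

end Main

end Groth.Agent.Lib.Helper70.CIComp
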