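import Groth.Agent.Lib.Helper70.PolyDivPow
import Groth.Agent.Lib.Helper23.DiffOp4
import Groth.Agent.S9472

/-!
# Divided-power operators form a basis of differential operators (helper70)

Setting: `B` an `A`-algebra, `z : ι → B` (`ι` finite) with `d z_i` generating `Ω_{B/A}`, and a family
`Dq p : B →ₗ[A] B` of differential operators of finite order with
`Dq p (z^q) = (∏ binom(q_i, p_i)) z^(q-p)`.

* `ZZ A ι z q = ∏ (1 ⊗ z_i - z_i ⊗ 1)^{q_i}`; `linearize_Dq_ZZ`: `linearize (Dq p) (ZZ q) = δ_{pq}`.
* `exists_Wr`: `I^j ⊆ B-span{ZZ q : j ≤ |q| ≤ k} + I^(k+1)` (`I` the diagonal ideal).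
* `linearize_vanish`, `order_le` (`Dq p` has order `≤ |p|`), `exists_unique_expansion`.
-/

set_option autoImplicit false
set_option linter.unusedSectionVars false
universe u
open scoped TensorProduct
open MvPolynomial

namespace Groth.Agent.Lib.Helper70.DivPowBasis

open Groth.Agent.Lib.Helper70.PolyDivPow
open Groth.Agent.Lib.Helper23 (gen gen_mem linearize_tmul linearize_mul_gen isDiffOpLE_iff_linearize
  isDiffOpLE_mono)

section poly

variable (A : Type u) [CommRing A] (ι : Type) [Fintype ι] [DecidableEq ι]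

/-- `∏ (1 ⊗ z_i - z_i ⊗ 1)^{q_i}`. -/
noncomputable def ZZ {B : Type u} [CommRing B] [Algebra A B] (z : ι → B) (q : ι → ℕ) : B ⊗[A] B :=
  ∏ i, gen A (z i) ^ q i

theorem ZZ_zero {B : Type u} [CommRing B] [Algebra A B] (z : ι → B) : ZZ A ι z 0 = 1 := by
  simp [ZZ]

theorem ZZ_add_single {B : Type u} [CommRing B] [Algebra A B] (z : ι → B) (q : ι → ℕ) (i : ι) :
    ZZ A ι z (q + Pi.single i 1) = ZZ A ι z q * gen A (z i) := by
  rw [ZZ, ZZ]
  simp only [Pi.add_apply, pow_add, Finset.prod_mul_distrib]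
  have h : ∏ j, gen A (z j) ^ (Pi.single i 1 : ι → ℕ) j = gen A (z i) := by
    rw [Fintype.prod_eq_single i (fun j hj => by rw [Pi.single_eq_of_ne hj, pow_zero]),
      Pi.single_eq_same, pow_one]
  rw [h]

theorem linearize_zero {B : Type u} [CommRing B] [Algebra A B] (x : B ⊗[A] B) :
    Diff16.linearize A B B B (0 : B →ₗ[A] B) x = 0 := by
  induction x using TensorProduct.induction_on with
  | zero => simp
  | tmul b c => rw [linearize_tmul, LinearMap.zero_apply, smul_zero]
  | add x y hx hy => rw [map_add, hx, hy, add_zero]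

/-- key computation in the polynomial ring. -/
theorem linearize_Dp_ZZ : ∀ (n : ℕ) (q : ι → ℕ), ∑ i, q i = n → ∀ p : ι → ℕ,
    Diff16.linearize A (MvPolynomial ι A) (MvPolynomial ι A) (MvPolynomial ι A) (Dp A ι p)
      (ZZ A ι (X : ι → MvPolynomial ι A) q) = if p = q then 1 else 0 := by
  intro n
  induction n with
  | zero =>
    intro q hq p
    have h0 : q = 0 := by
      funext i
      exact (Finset.sum_eq_zero_iff.mp hq) i (Finset.mem_univ i)
    subst h0
    rw [ZZ_zero, Algebra.TensorProduct.one_def, linearize_tmul, one_smul]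
    have h1 : (1 : MvPolynomial ι A) = mono A ι 0 := by simp [mono]
    rw [h1, Dp_mono]
    by_cases hp : p = 0
    · subst hp
      rw [if_pos rfl]
      simp [binom, mono]
    · rw [if_neg hp]
      have : ∃ i, p i ≠ 0 := by
        by_contra hcon
        push Not at hcon
        exact hp (funext hcon)
      obtain ⟨i, hi⟩ := this
      have hb : binom (0 : ι → ℕ) p = 0 := by
        unfold binom
        apply Finset.prod_eq_zero (Finset.mem_univ i)
        exact Nat.choose_eq_zero_of_lt (Nat.pos_of_ne_zero hi)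
      rw [hb, Nat.cast_zero, zero_mul]
  | succ n ih =>
    intro q hq p
    have : ∃ i, q i ≠ 0 := by
      by_contra hcon
      push Not at hcon
      simp [hcon] at hq
    obtain ⟨i, hi⟩ := this
    have hq' : q = (q - Pi.single i 1) + Pi.single i 1 := by
      funext j
      by_cases hj : j = i
      · subst hj
        simp only [Pi.sub_apply, Pi.add_apply, Pi.single_eq_same]
        omega
      · simp [Pi.single_eq_of_ne hj]
    have hsum : ∑ j, (q - Pi.single i 1 : ι → ℕ) j = n := by
      have h2 : ∑ j, q j = ∑ j, (q - Pi.single i 1 : ι → ℕ) j + 1 := by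
        conv_lhs => rw [hq']
        simp only [Pi.add_apply, Finset.sum_add_distrib]
        congr 1
        rw [Fintype.sum_eq_single i (fun j hj => Pi.single_eq_of_ne hj _), Pi.single_eq_same]
      omega
    rw [hq', ZZ_add_single, linearize_mul_gen, commutator_Dp_X]
    split_ifs with hp0 hpq hpq
    · exfalso
      have := congrFun hpq i
      simp only [Pi.add_apply, Pi.sub_apply, Pi.single_eq_same] at this
      omega
    · exact linearize_zero A _
    · rw [ih _ hsum, if_pos]
      rw [hpq]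
      funext j
      simp
    · rw [ih _ hsum, if_neg]
      intro hcon
      apply hpq
      rw [← hcon]
      funext j
      by_cases hj : j = i
      · subst hj
        simp only [Pi.sub_apply, Pi.add_apply, Pi.single_eq_same]
        omega
      · simp [Pi.single_eq_of_ne hj]

end poly

section transfer

variable (A B : Type u) [CommRing A] [CommRing B] [Algebra A B] (ι : Type) [Fintype ι]
  [DecidableEq ι] (z : ι → B) (Dq : (ι → ℕ) → (B →ₗ[A] B))
  (hDz : ∀ p q : ι → ℕ, Dq p (∏ i, z i ^ q i) =
    ((∏ i, Nat.choose (q i) (p i) : ℕ) : B) * ∏ i, z i ^ (q i - p i))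

theorem aeval_mono (q : ι → ℕ) : aeval z (mono A ι q) = ∏ i, z i ^ q i := by
  rw [mono, map_prod]
  simp only [map_pow, aeval_X]

include hDz in
theorem Dq_aeval (p : ι → ℕ) (c : MvPolynomial ι A) :
    Dq p (aeval z c) = aeval z (Dp A ι p c) := by
  have h : Dq p ∘ₗ (aeval z : MvPolynomial ι A →ₐ[A] B).toLinearMap =
      (aeval z : MvPolynomial ι A →ₐ[A] B).toLinearMap ∘ₗ Dp A ι p := by
    apply (monoBasis A ι).ext
    intro q
    rw [monoBasis_apply, LinearMap.comp_apply, LinearMap.comp_apply, AlgHom.toLinearMap_apply,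
      AlgHom.toLinearMap_apply, Dp_mono, aeval_mono, hDz, map_mul, map_natCast, aeval_mono]
    rfl
  exact LinearMap.congr_fun h c

include hDz in
theorem linearize_map (p : ι → ℕ) (t : MvPolynomial ι A ⊗[A] MvPolynomial ι A) :
    Diff16.linearize A B B B (Dq p) (Algebra.TensorProduct.map (aeval z) (aeval z) t) =
      aeval z (Diff16.linearize A (MvPolynomial ι A) (MvPolynomial ι A) (MvPolynomial ι A)
        (Dp A ι p) t) := by
  induction t using TensorProduct.induction_on with
  | zero => simp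
  | tmul c c' =>
    rw [Algebra.TensorProduct.map_tmul, linearize_tmul, linearize_tmul, Dq_aeval A B ι z Dq hDz,
      smul_eq_mul, smul_eq_mul, map_mul]
  | add x y hx hy => rw [map_add, map_add, map_add, map_add, hx, hy]

theorem map_gen (c : MvPolynomial ι A) :
    Algebra.TensorProduct.map (aeval z) (aeval z) (gen A c) = gen A (aeval z c) := by
  rw [gen, gen, map_sub, Algebra.TensorProduct.map_tmul, Algebra.TensorProduct.map_tmul, map_one]

theorem map_ZZ (q : ι → ℕ) :
    Algebra.TensorProduct.map (aeval z) (aeval z) (ZZ A ι (X : ι → MvPolynomial ι A) q) =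
      ZZ A ι z q := by
  rw [ZZ, ZZ, map_prod]
  simp only [map_pow, map_gen, aeval_X]

include hDz in
theorem linearize_Dq_ZZ (p q : ι → ℕ) :
    Diff16.linearize A B B B (Dq p) (ZZ A ι z q) = if p = q then 1 else 0 := by
  rw [← map_ZZ, linearize_map A B ι z Dq hDz, linearize_Dp_ZZ A ι _ q rfl p]
  split_ifs <;> simp

end transfer

section generation

variable (A B : Type u) [CommRing A] [CommRing B] [Algebra A B] (ι : Type) [Fintype ι]
  [DecidableEq ι] (z : ι → B)

/-- `B`-span (left structure) of the `ZZ q` with `j ≤ |q| ≤ k`. -/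
def Wr (j k : ℕ) : Submodule B (B ⊗[A] B) :=
  Submodule.span B {t | ∃ q : ι → ℕ, j ≤ ∑ i, q i ∧ ∑ i, q i ≤ k ∧ t = ZZ A ι z q}

theorem ZZ_mem_Wr (j k : ℕ) (q : ι → ℕ) (h1 : j ≤ ∑ i, q i) (h2 : ∑ i, q i ≤ k) :
    ZZ A ι z q ∈ Wr A B ι z j k :=
  Submodule.subset_span ⟨q, h1, h2, rfl⟩

theorem Wr_mono {j j' k k' : ℕ} (hj : j' ≤ j) (hk : k ≤ k') :
    Wr A B ι z j k ≤ Wr A B ι z j' k' := by
  apply Submodule.span_mono
  rintro _ ⟨q, h1, h2, rfl⟩
  exact ⟨q, hj.trans h1, h2.trans hk, rfl⟩

theorem Wr_mul_gen (j : ℕ) (w : B ⊗[A] B) (hw : w ∈ Wr A B ι z j j) (i : ι) :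
    w * gen A (z i) ∈ Wr A B ι z (j + 1) (j + 1) := by
  induction hw using Submodule.span_induction with
  | mem x hx =>
    obtain ⟨q, h1, h2, rfl⟩ := hx
    rw [← ZZ_add_single]
    have hs : ∑ l, (q + Pi.single i 1 : ι → ℕ) l = ∑ l, q l + 1 := by
      simp only [Pi.add_apply, Finset.sum_add_distrib]
      congr 1
      rw [Fintype.sum_eq_single i (fun l hl => Pi.single_eq_of_ne hl _), Pi.single_eq_same]
    apply ZZ_mem_Wr <;> omega
  | zero => rw [zero_mul]; exact Submodule.zero_mem _
  | add x y _ _ hx hy => rw [add_mul]; exact Submodule.add_mem _ hx hy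
  | smul c x _ hx => rw [smul_mul_assoc]; exact Submodule.smul_mem _ c hx

variable (hz : Submodule.span B (Set.range fun i => KaehlerDifferential.D A B (z i)) = ⊤)

include hz in
/-- `I ⊆ span{gen z_i} + I²`. -/
theorem exists_sum_gen (x : B ⊗[A] B) (hx : x ∈ KaehlerDifferential.ideal A B) :
    ∃ c : ι → B, x - ∑ i, c i • gen A (z i) ∈ KaehlerDifferential.ideal A B ^ 2 := by
  have hω : KaehlerDifferential.fromIdeal A B ⟨x, hx⟩ ∈
      Submodule.span B (Set.range fun i => KaehlerDifferential.D A B (z i)) := by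
    rw [hz]
    trivial
  obtain ⟨c, hc⟩ := (Submodule.mem_span_range_iff_exists_fun B).mp hω
  refine ⟨c, ?_⟩
  let g : ι → KaehlerDifferential.ideal A B := fun i => ⟨gen A (z i), gen_mem (z i)⟩
  have key : KaehlerDifferential.fromIdeal A B (⟨x, hx⟩ - ∑ i, c i • g i) = 0 := by
    rw [map_sub, map_sum, ← hc, sub_eq_zero]
    refine (Finset.sum_congr rfl fun i _ => ?_).symm
    rw [LinearMap.map_smul_of_tower]
    rfl
  have key' : (KaehlerDifferential.ideal A B).toCotangent (⟨x, hx⟩ - ∑ i, c i • g i) = 0 := key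
  rw [Ideal.toCotangent_eq_zero] at key'
  convert key' using 1
  simp [g]

include hz in
/-- `I^j ⊆ span{ZZ q : |q| = j} + I^(j+1)`. -/
theorem exists_Wr_step : ∀ (j : ℕ) (x : B ⊗[A] B), x ∈ KaehlerDifferential.ideal A B ^ j →
    ∃ w ∈ Wr A B ι z j j, x - w ∈ KaehlerDifferential.ideal A B ^ (j + 1) := by
  intro j
  induction j with
  | zero =>
    intro x _
    refine ⟨(Algebra.TensorProduct.lmul' A x : B) • (1 : B ⊗[A] B), ?_, ?_⟩
    · apply Submodule.smul_mem
      rw [← ZZ_zero A ι z]
      exact ZZ_mem_Wr A B ι z 0 0 0 (by simp) (by simp)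
    · rw [zero_add, pow_one]
      change _ ∈ RingHom.ker (Algebra.TensorProduct.lmul' A : B ⊗[A] B →ₐ[A] B)
      rw [RingHom.mem_ker, map_sub, sub_eq_zero, Algebra.TensorProduct.one_def,
        TensorProduct.smul_tmul', Algebra.TensorProduct.lmul'_apply_tmul, smul_eq_mul, mul_one,
        mul_one]
  | succ j ih =>
    intro x hx
    rw [pow_succ] at hx
    induction hx using Submodule.mul_induction_on' with
    | mem_mul_mem a ha b hb =>
      obtain ⟨wa, hwa, hwa'⟩ := ih a ha
      obtain ⟨c, hc⟩ := exists_sum_gen A B ι z hz b hb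
      refine ⟨∑ i, c i • (wa * gen A (z i)), ?_, ?_⟩
      · exact Submodule.sum_mem _ fun i _ =>
          Submodule.smul_mem _ _ (Wr_mul_gen A B ι z j wa hwa i)
      · have e : a * b - ∑ i, c i • (wa * gen A (z i)) =
            a * (b - ∑ i, c i • gen A (z i)) + (a - wa) * ∑ i, c i • gen A (z i) := by
          have hs : ∑ i, c i • (wa * gen A (z i)) = wa * ∑ i, c i • gen A (z i) := by
            rw [Finset.mul_sum]
            simp only [mul_smul_comm]
          rw [hs]
          ring
        rw [e]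
        apply Ideal.add_mem
        · have : a * (b - ∑ i, c i • gen A (z i)) ∈
              KaehlerDifferential.ideal A B ^ j * KaehlerDifferential.ideal A B ^ 2 :=
            Ideal.mul_mem_mul ha hc
          rwa [← pow_add] at this
        · have h1 : ∑ i, c i • gen A (z i) ∈ KaehlerDifferential.ideal A B := by
            apply Ideal.sum_mem
            intro i _
            rw [Algebra.smul_def]
            exact Ideal.mul_mem_left _ _ (gen_mem (z i))
          have : (a - wa) * ∑ i, c i • gen A (z i) ∈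
              KaehlerDifferential.ideal A B ^ (j + 1) * KaehlerDifferential.ideal A B :=
            Ideal.mul_mem_mul hwa' h1
          rwa [← pow_succ] at this
    | add x _ y _ hx hy =>
      obtain ⟨wx, hwx, hwx'⟩ := hx
      obtain ⟨wy, hwy, hwy'⟩ := hy
      refine ⟨wx + wy, Submodule.add_mem _ hwx hwy, ?_⟩
      have e : x + y - (wx + wy) = (x - wx) + (y - wy) := by ring
      rw [e]
      exact Ideal.add_mem _ hwx' hwy'

include hz in
/-- `I^j ⊆ span{ZZ q : j ≤ |q| ≤ k} + I^(k+1)`. -/
theorem exists_Wr : ∀ (d j k : ℕ), j + d = k + 1 → ∀ x : B ⊗[A] B,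
    x ∈ KaehlerDifferential.ideal A B ^ j →
    ∃ w ∈ Wr A B ι z j k, x - w ∈ KaehlerDifferential.ideal A B ^ (k + 1) := by
  intro d
  induction d with
  | zero =>
    intro j k hjk x hx
    refine ⟨0, Submodule.zero_mem _, ?_⟩
    rw [sub_zero]
    have : j = k + 1 := by omega
    rwa [← this]
  | succ d ih =>
    intro j k hjk x hx
    obtain ⟨w₁, hw₁, hw₁'⟩ := exists_Wr_step A B ι z hz j x hx
    obtain ⟨w₂, hw₂, hw₂'⟩ := ih (j + 1) k (by omega) (x - w₁) hw₁'
    refine ⟨w₁ + w₂, ?_, ?_⟩
    · apply Submodule.add_mem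
      · exact Wr_mono A B ι z (le_refl j) (by omega) hw₁
      · exact Wr_mono A B ι z (by omega) (le_refl k) hw₂
    · have e : x - (w₁ + w₂) = x - w₁ - w₂ := by ring
      rwa [e]

end generation

section assembly

open Groth.Agent.Lib.Helper23 (isDiffOpLE_add isDiffOpLE_zero isDiffOpLE_neg isDiffOpLE_mulA_comp mulA)

variable (A B : Type u) [CommRing A] [CommRing B] [Algebra A B] (ι : Type) [Fintype ι]
  [DecidableEq ι] (z : ι → B)

theorem linearize_smul (D : B →ₗ[A] B) (b : B) (t : B ⊗[A] B) :
    Diff16.linearize A B B B D (b • t) = b * Diff16.linearize A B B B D t := by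
  induction t using TensorProduct.induction_on with
  | zero => simp
  | tmul x y =>
    rw [TensorProduct.smul_tmul', linearize_tmul, linearize_tmul, smul_eq_mul, smul_eq_mul,
      smul_eq_mul, mul_assoc]
  | add x y hx hy => rw [smul_add, map_add, map_add, hx, hy, mul_add]

theorem linearize_sub (D E : B →ₗ[A] B) (t : B ⊗[A] B) :
    Diff16.linearize A B B B (D - E) t =
      Diff16.linearize A B B B D t - Diff16.linearize A B B B E t := by
  induction t using TensorProduct.induction_on with
  | zero => simp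
  | tmul x y =>
    rw [linearize_tmul, linearize_tmul, linearize_tmul, LinearMap.sub_apply, smul_sub]
  | add x y hx hy => rw [map_add, map_add, map_add, hx, hy]; abel

theorem linearize_add (D E : B →ₗ[A] B) (t : B ⊗[A] B) :
    Diff16.linearize A B B B (D + E) t =
      Diff16.linearize A B B B D t + Diff16.linearize A B B B E t := by
  induction t using TensorProduct.induction_on with
  | zero => simp
  | tmul x y =>
    rw [linearize_tmul, linearize_tmul, linearize_tmul, LinearMap.add_apply, smul_add]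
  | add x y hx hy => rw [map_add, map_add, map_add, hx, hy]; abel

theorem linearize_smul_op (c : B) (D : B →ₗ[A] B) (t : B ⊗[A] B) :
    Diff16.linearize A B B B (c • D) t = c * Diff16.linearize A B B B D t := by
  induction t using TensorProduct.induction_on with
  | zero => simp
  | tmul x y =>
    rw [linearize_tmul, linearize_tmul, LinearMap.smul_apply, smul_eq_mul, smul_eq_mul,
      smul_eq_mul, mul_left_comm]
  | add x y hx hy => rw [map_add, map_add, hx, hy, mul_add]

theorem linearize_finset_sum {J : Type*} (s : Finset J) (g : J → (B →ₗ[A] B)) (t : B ⊗[A] B) :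
    Diff16.linearize A B B B (∑ p ∈ s, g p) t = ∑ p ∈ s, Diff16.linearize A B B B (g p) t := by
  classical
  induction s using Finset.induction_on with
  | empty => simp [linearize_zero]
  | insert a s ha ih => rw [Finset.sum_insert ha, Finset.sum_insert ha, linearize_add, ih]

variable (hz : Submodule.span B (Set.range fun i => KaehlerDifferential.D A B (z i)) = ⊤)

include hz in
theorem linearize_vanish (D : B →ₗ[A] B) (j k : ℕ) (hjk : j ≤ k + 1)
    (h1 : ∀ x ∈ KaehlerDifferential.ideal A B ^ (k + 1), Diff16.linearize A B B B D x = 0)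
    (h2 : ∀ q : ι → ℕ, j ≤ ∑ i, q i → ∑ i, q i ≤ k →
      Diff16.linearize A B B B D (ZZ A ι z q) = 0) :
    ∀ x ∈ KaehlerDifferential.ideal A B ^ j, Diff16.linearize A B B B D x = 0 := by
  have hgen : ∀ w ∈ Wr A B ι z j k, Diff16.linearize A B B B D w = 0 := by
    intro w hw
    induction hw using Submodule.span_induction with
    | mem y hy =>
      obtain ⟨q, hq1, hq2, rfl⟩ := hy
      exact h2 q hq1 hq2
    | zero => exact map_zero _
    | add y y' _ _ hy hy' => rw [map_add, hy, hy', add_zero]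
    | smul c y _ hy => rw [linearize_smul, hy, mul_zero]
  intro x hx
  obtain ⟨w, hw, hw'⟩ := exists_Wr A B ι z hz (k + 1 - j) j k (by omega) x hx
  have hw0 : Diff16.linearize A B B B D w = 0 := hgen w hw
  have := h1 _ hw'
  rwa [map_sub, hw0, sub_zero] at this

variable (Dq : (ι → ℕ) → (B →ₗ[A] B))
  (hD : ∀ p, ∃ k : ℕ, Diff16.IsDiffOpLE A B B B k (Dq p))
  (hDz : ∀ p q : ι → ℕ, Dq p (∏ i, z i ^ q i) =
    ((∏ i, Nat.choose (q i) (p i) : ℕ) : B) * ∏ i, z i ^ (q i - p i))

include hz hD hDz in
theorem order_le (p : ι → ℕ) : Diff16.IsDiffOpLE A B B B (∑ i, p i) (Dq p) := by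
  obtain ⟨k, hk⟩ := hD p
  by_cases h : k ≤ ∑ i, p i
  · exact isDiffOpLE_mono h _ hk
  · rw [isDiffOpLE_iff_linearize]
    apply linearize_vanish A B ι z hz (Dq p) (∑ i, p i + 1) k (by omega)
      ((isDiffOpLE_iff_linearize k (Dq p)).mp hk)
    intro q hq1 _
    rw [linearize_Dq_ZZ A B ι z Dq hDz, if_neg]
    intro hpq
    rw [hpq] at hq1
    omega

omit [DecidableEq ι] in
theorem finiteJ (m : ℕ) : Finite {p : ι → ℕ // ∑ i, p i ≤ m} := by
  have hlt : ∀ (p : {p : ι → ℕ // ∑ i, p i ≤ m}) (i : ι), p.1 i < m + 1 := by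
    intro p i
    have h1 : p.1 i ≤ ∑ j, p.1 j := Finset.single_le_sum (fun _ _ => Nat.zero_le _) (Finset.mem_univ i)
    have h2 := p.2
    omega
  apply Finite.of_injective
    (fun (p : {p : ι → ℕ // ∑ i, p i ≤ m}) => fun i => (⟨p.1 i, hlt p i⟩ : Fin (m + 1)))
  intro p p' h
  apply Subtype.ext
  funext i
  have := congrFun h i
  exact Fin.mk.inj_iff.mp this

theorem smul_eq_mulA_comp (c : B) (D : B →ₗ[A] B) : c • D = mulA A B c ∘ₗ D := by
  ext x
  rfl

theorem isDiffOpLE_smul (n : ℕ) (c : B) (D : B →ₗ[A] B) (h : Diff16.IsDiffOpLE A B B B n D) :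
    Diff16.IsDiffOpLE A B B B n (c • D) := by
  rw [smul_eq_mulA_comp]
  exact isDiffOpLE_mulA_comp n D h c

theorem isDiffOpLE_finset_sum {J : Type*} (n : ℕ) (s : Finset J) (g : J → (B →ₗ[A] B))
    (h : ∀ p ∈ s, Diff16.IsDiffOpLE A B B B n (g p)) :
    Diff16.IsDiffOpLE A B B B n (∑ p ∈ s, g p) := by
  classical
  induction s using Finset.induction_on with
  | empty => rw [Finset.sum_empty]; exact isDiffOpLE_zero n
  | insert a s ha ih =>
    rw [Finset.sum_insert ha]
    exact isDiffOpLE_add n _ _ (h a (Finset.mem_insert_self a s))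
      (ih fun p hp => h p (Finset.mem_insert_of_mem hp))

include hDz in
theorem coef (m : ℕ) (a : {p : ι → ℕ // ∑ i, p i ≤ m} →₀ B)
    (q : {p : ι → ℕ // ∑ i, p i ≤ m}) :
    Diff16.linearize A B B B (a.sum fun p c => c • Dq p.1) (ZZ A ι z q.1) = a q := by
  classical
  rw [Finsupp.sum, linearize_finset_sum]
  rw [Finset.sum_eq_single q]
  · rw [linearize_smul_op, linearize_Dq_ZZ A B ι z Dq hDz, if_pos rfl, mul_one]
  · intro p _ hpq
    rw [linearize_smul_op, linearize_Dq_ZZ A B ι z Dq hDz, if_neg, mul_zero]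
    intro h
    exact hpq (Subtype.ext h)
  · intro hq
    rw [Finsupp.notMem_support_iff.mp hq, zero_smul, linearize_zero]

include hz hD hDz in
theorem exists_unique_expansion (m : ℕ) (D : B →ₗ[A] B) (hDm : Diff16.IsDiffOpLE A B B B m D) :
    ∃! a : {p : ι → ℕ // ∑ i, p i ≤ m} →₀ B, D = a.sum fun p c => c • Dq p.1 := by
  classical
  have := finiteJ ι m
  let a : {p : ι → ℕ // ∑ i, p i ≤ m} →₀ B :=
    Finsupp.equivFunOnFinite.symm (fun p => Diff16.linearize A B B B D (ZZ A ι z p.1))
  have ha : ∀ q, a q = Diff16.linearize A B B B D (ZZ A ι z q.1) := fun q => rfl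
  refine ⟨a, ?_, ?_⟩
  · -- existence
    have hS : Diff16.IsDiffOpLE A B B B m (a.sum fun p c => c • Dq p.1) := by
      rw [Finsupp.sum]
      apply isDiffOpLE_finset_sum
      intro p _
      apply isDiffOpLE_smul
      exact isDiffOpLE_mono p.2 _ (order_le A B ι z hz Dq hD hDz p.1)
    have hE : Diff16.IsDiffOpLE A B B B m (D - a.sum fun p c => c • Dq p.1) :=
      Groth.Agent.S9472.isDiffOpLE_sub m _ _ hDm hS
    have hvan : ∀ x ∈ KaehlerDifferential.ideal A B ^ 0,
        Diff16.linearize A B B B (D - a.sum fun p c => c • Dq p.1) x = 0 := by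
      apply linearize_vanish A B ι z hz _ 0 m (by omega)
        ((isDiffOpLE_iff_linearize m _).mp hE)
      intro q _ hq
      rw [linearize_sub, coef A B ι z Dq hDz m a ⟨q, hq⟩, ha, sub_self]
    show D = a.sum fun p c => c • Dq p.1
    rw [← sub_eq_zero]
    ext b
    have := hvan ((1 : B) ⊗ₜ[A] b) (by rw [pow_zero, Ideal.one_eq_top]; trivial)
    rw [linearize_tmul, one_smul] at this
    rw [this, LinearMap.zero_apply]
  · intro a' ha'
    have ha'' : D = a'.sum fun p c => c • Dq p.1 := ha'
    ext q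
    rw [ha, ha'', coef A B ι z Dq hDz m a' q]

end assembly

end Groth.Agent.Lib.Helper70.DivPowBasis
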