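import Mathlib.LinearAlgebra.TensorPower.Symmetric
import Mathlib.RingTheory.MvPolynomial.Basic
import Mathlib.LinearAlgebra.Multilinear.Basic
import Mathlib.LinearAlgebra.Basis.Defs

/-!
# Symmetric powers: universal property and monomials (helper70)

Mathlib's `SymmetricPower R ι M` only has `mk`, `tprod`, `span_tprod_eq_top`. Here:
* `lift g hg : Sym[R] ι M →ₗ[R] N` for a symmetric multilinear map `g`, with `lift_tprod`.
* `toPoly b : Sym[R] ι M →ₗ[R] MvPolynomial J R` for a basis `b : Basis J R M`
  (`⨂ₛ m_k ↦ ∏_k ∑_j b_j^*(m_k) X_j`), `toPoly_tprod_basis`.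
* `linearIndependent_tprod_basis`: symmetric monomials `⨂ₛ_k b (f s k)` with pairwise distinct exponent
  vectors are linearly independent.
-/

set_option autoImplicit false
universe u v w
open scoped TensorProduct

namespace Groth.Agent.Lib.Helper70.SymPow

section lift

variable {R ι : Type u} [CommRing R] {M : Type v} [AddCommGroup M] [Module R M]
  {N : Type w} [AddCommGroup N] [Module R N]

/-- The additive map out of the symmetric power induced by a symmetric multilinear map. -/
noncomputable def liftAdd (g : MultilinearMap R (fun _ : ι => M) N)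
    (hg : ∀ (e : Equiv.Perm ι) (f : ι → M), g (fun i => f (e i)) = g f) :
    SymmetricPower R ι M →+ N :=
  AddCon.lift _ (PiTensorProduct.lift g).toAddMonoidHom (by
    rw [AddCon.addConGen_le]
    rintro _ _ ⟨e, f⟩
    rw [AddCon.ker_rel]
    simp only [LinearMap.toAddMonoidHom_coe, PiTensorProduct.lift.tprod]
    exact (hg e f).symm)

theorem liftAdd_mk (g : MultilinearMap R (fun _ : ι => M) N)
    (hg : ∀ (e : Equiv.Perm ι) (f : ι → M), g (fun i => f (e i)) = g f) (x : ⨂[R] _ : ι, M) :
    liftAdd g hg (SymmetricPower.mk R ι M x) = PiTensorProduct.lift g x := rfl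

/-- The linear map out of the symmetric power induced by a symmetric multilinear map. -/
noncomputable def lift (g : MultilinearMap R (fun _ : ι => M) N)
    (hg : ∀ (e : Equiv.Perm ι) (f : ι → M), g (fun i => f (e i)) = g f) :
    SymmetricPower R ι M →ₗ[R] N where
  toFun := liftAdd g hg
  map_add' := map_add _
  map_smul' r x := by
    obtain ⟨y, rfl⟩ := AddCon.mk'_surjective x
    change liftAdd g hg (SymmetricPower.mk R ι M (r • y)) = r • liftAdd g hg (SymmetricPower.mk R ι M y)
    rw [liftAdd_mk, liftAdd_mk, map_smul]

theorem lift_tprod (g : MultilinearMap R (fun _ : ι => M) N)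
    (hg : ∀ (e : Equiv.Perm ι) (f : ι → M), g (fun i => f (e i)) = g f) (f : ι → M) :
    lift g hg (SymmetricPower.tprod R f) = g f := by
  change liftAdd g hg (SymmetricPower.mk R ι M (PiTensorProduct.tprod R f)) = g f
  rw [liftAdd_mk, PiTensorProduct.lift.tprod]

end lift

section poly

variable {R ι : Type u} [CommRing R] [Fintype ι] {M : Type v} [AddCommGroup M] [Module R M]
  {J : Type w} (b : Module.Basis J R M)

/-- `m ↦ ∑_j b_j^*(m) X_j`. -/
noncomputable def toLin : M →ₗ[R] MvPolynomial J R :=
  b.constr R (fun j => (MvPolynomial.X j : MvPolynomial J R))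

theorem toLin_basis (j : J) : toLin b (b j) = MvPolynomial.X j := by
  rw [toLin, Module.Basis.constr_basis]

/-- `⨂ₛ m_k ↦ ∏_k (∑_j b_j^*(m_k) X_j)`. -/
noncomputable def toPoly : SymmetricPower R ι M →ₗ[R] MvPolynomial J R :=
  lift ((MultilinearMap.mkPiAlgebra R ι (MvPolynomial J R)).compLinearMap (fun _ => toLin b))
    (by
      intro e f
      simp only [MultilinearMap.compLinearMap_apply, MultilinearMap.mkPiAlgebra_apply]
      exact Equiv.prod_comp e (fun i => toLin b (f i)))

theorem toPoly_tprod (f : ι → M) :
    toPoly b (SymmetricPower.tprod R f) = ∏ k, toLin b (f k) := by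
  rw [toPoly, lift_tprod]
  simp only [MultilinearMap.compLinearMap_apply, MultilinearMap.mkPiAlgebra_apply]

theorem toPoly_tprod_basis (f : ι → J) :
    toPoly b (SymmetricPower.tprod R (fun k => b (f k))) = ∏ k, MvPolynomial.X (f k) := by
  rw [toPoly_tprod]
  simp only [toLin_basis]

/-- Symmetric monomials in basis vectors with pairwise distinct exponents are linearly independent. -/
theorem linearIndependent_tprod_basis {S : Type*} (f : S → ι → J) (p : S → (J →₀ ℕ))
    (hp : Function.Injective p)
    (hfp : ∀ s, ∏ k, (MvPolynomial.X (f s k) : MvPolynomial J R) = MvPolynomial.monomial (p s) 1) :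
    LinearIndependent R (fun s => SymmetricPower.tprod R (fun k => b (f s k))) := by
  apply LinearIndependent.of_comp (toPoly b)
  have h : (toPoly b ∘ fun s => SymmetricPower.tprod R (fun k => b (f s k))) =
      (MvPolynomial.basisMonomials J R) ∘ p := by
    funext s
    simp only [Function.comp_apply, toPoly_tprod_basis, hfp, MvPolynomial.coe_basisMonomials]
  rw [h]
  exact (MvPolynomial.basisMonomials J R).linearIndependent.comp p hp

end poly

end Groth.Agent.Lib.Helper70.SymPow
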