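import Groth.Prelude.Def_PP16
import Groth.Agent.Lib.Helper70.DivPowBasis
import Groth.Agent.Lib.Helper70.SymPow

/-!
# Differentially smooth algebras: the monomial basis of `P^m` (helper70)

`B` differentially smooth over `A` (`PP16.IsDiffSmooth`), `z : ι → B` with `(d z_i)` a basis of `Ω_{B/A}`.
* `exists_fn`: a multi-index `p` of degree `n` is the fibre-count of some `f : Fin n → ι`.
* `coeff_eq_zero`: the classes of `ZZ q` (`|q| = n`) in `I^n/I^(n+1)` are linearly independent
  (stated elementarily: `∑ c_t ZZ (π t) ∈ I^(n+1) → c = 0`).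
* `vfam`, `vfam_eq`, `vfam_span`, `vfam_li`, `exists_basis`: the `ζ^p`, `|p| ≤ m`, form a basis of `P^m`.
-/

set_option autoImplicit false
set_option linter.unusedSectionVars false
universe u
open scoped TensorProduct

namespace Groth.Agent.Lib.Helper70.DiffSmoothBasis

open Groth.Agent.Lib.Helper70.DivPowBasis
open Groth.Agent.Lib.Helper23 (gen gen_mem)

section fn

variable {ι : Type} [Fintype ι] [DecidableEq ι]

theorem exists_fn : ∀ (n : ℕ) (p : ι → ℕ), ∑ i, p i = n →
    ∃ f : Fin n → ι, ∀ (N : Type u) [CommMonoid N] (g : ι → N), ∏ k, g (f k) = ∏ i, g i ^ p i := by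
  intro n
  induction n with
  | zero =>
    intro p hp
    refine ⟨Fin.elim0, ?_⟩
    intro N _ g
    have h0 : ∀ i, p i = 0 := fun i => (Finset.sum_eq_zero_iff.mp hp) i (Finset.mem_univ i)
    simp [h0]
  | succ n ih =>
    intro p hp
    have : ∃ i, p i ≠ 0 := by
      by_contra hcon
      push Not at hcon
      simp [hcon] at hp
    obtain ⟨i, hi⟩ := this
    obtain ⟨p', hp'⟩ : ∃ p' : ι → ℕ, p = p' + Pi.single i 1 := by
      refine ⟨p - Pi.single i 1, ?_⟩
      funext j
      by_cases hj : j = i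
      · subst hj
        simp only [Pi.sub_apply, Pi.add_apply, Pi.single_eq_same]
        omega
      · simp [Pi.single_eq_of_ne hj]
    subst hp'
    have hsum : ∑ j, p' j = n := by
      have h2 : ∑ j, (p' + Pi.single i 1 : ι → ℕ) j = ∑ j, p' j + 1 := by
        simp only [Pi.add_apply, Finset.sum_add_distrib]
        congr 1
        rw [Fintype.sum_eq_single i (fun j hj => Pi.single_eq_of_ne hj _), Pi.single_eq_same]
      omega
    obtain ⟨f, hf⟩ := ih _ hsum
    refine ⟨Fin.cons i f, ?_⟩
    intro N _ g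
    rw [Fin.prod_univ_succ]
    simp only [Fin.cons_zero, Fin.cons_succ]
    rw [hf N g]
    simp only [Pi.add_apply, pow_add, Finset.prod_mul_distrib]
    have h : ∏ j, g j ^ (Pi.single i 1 : ι → ℕ) j = g i := by
      rw [Fintype.prod_eq_single i (fun j hj => by rw [Pi.single_eq_of_ne hj, pow_zero]),
        Pi.single_eq_same, pow_one]
    rw [h, mul_comm]

end fn

section graded

open Groth.Agent.Lib.Helper70

variable (A B : Type u) [CommRing A] [CommRing B] [Algebra A B]
  (ι : Type) [Fintype ι] [DecidableEq ι] (z : ι → B)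

theorem ZZ_mem_pow (q : ι → ℕ) : ZZ A ι z q ∈ KaehlerDifferential.ideal A B ^ (∑ i, q i) := by
  rw [ZZ, ← Finset.prod_pow_eq_pow_sum]
  exact Ideal.prod_mem_prod fun i _ => Ideal.pow_mem_pow (gen_mem (z i)) _

/-- Linear independence of the classes of `ZZ q`, `|q| = n`, in `I^n/I^(n+1)`, in elementary terms. -/
theorem coeff_eq_zero (hB : PP16.IsDiffSmooth A B)
    (b : Module.Basis ι B (KaehlerDifferential A B))
    (hb : ∀ i, b i = KaehlerDifferential.D A B (z i)) (n : ℕ)
    {T : Type} [Fintype T] (π : T → (ι → ℕ)) (hπ : Function.Injective π)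
    (hπn : ∀ t, ∑ i, π t i = n) (c : T → B)
    (hc : ∑ t, c t • ZZ A ι z (π t) ∈ KaehlerDifferential.ideal A B ^ (n + 1)) :
    ∀ t, c t = 0 := by
  classical
  have hcard : Fintype.card (ULift.{u} (Fin n)) = n := by simp
  have hex : ∀ t, ∃ f : ULift.{u} (Fin n) → ι, ∀ (N : Type u) [CommMonoid N] (g : ι → N),
      ∏ k, g (f k) = ∏ i, g i ^ π t i := by
    intro t
    obtain ⟨f, hf⟩ := exists_fn.{u} n (π t) (hπn t)
    refine ⟨fun k => f k.down, ?_⟩
    intro N _ g
    rw [← hf N g]
    exact Fintype.prod_equiv Equiv.ulift _ _ (fun _ => rfl)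
  choose f hf using hex
  obtain ⟨φ, hφ, hbij⟩ := hB.2 (ULift.{u} (Fin n))
  have LI : LinearIndependent B
      (fun t => SymmetricPower.tprod B (fun k => b (f t k))) := by
    apply SymPow.linearIndependent_tprod_basis b f
      (fun t => Finsupp.equivFunOnFinite.symm (π t))
    · intro t t' h
      exact hπ (Finsupp.equivFunOnFinite.symm.injective h)
    · intro t
      rw [hf t (MvPolynomial ι B) (fun i => MvPolynomial.X i)]
      rw [MvPolynomial.monomial_eq, MvPolynomial.C_1, one_mul, Finsupp.prod_fintype _ _ (by simp)]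
      rfl
  have LI' := LI.map' φ (LinearMap.ker_eq_bot.mpr hbij.1)
  have hzero : ∑ t, c t • (φ ∘ fun t => SymmetricPower.tprod B (fun k => b (f t k))) t = 0 := by
    have hval : ∀ t, (φ ∘ fun t => SymmetricPower.tprod B (fun k => b (f t k))) t =
        Submodule.Quotient.mk ⟨ZZ A ι z (π t), by
          rw [Submodule.restrictScalars_mem, hcard, ← hπn t]
          exact ZZ_mem_pow A B ι z (π t)⟩ := by
      intro t
      simp only [Function.comp_apply, hb]
      rw [hφ (fun k => z (f t k))]
      rw [PP16.zetaProd]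
      congr 1
      apply Subtype.ext
      exact hf t (B ⊗[A] B) (fun i => gen A (z i))
    simp only [hval]
    simp only [← Submodule.mkQ_apply, ← map_smul, ← map_sum]
    rw [Submodule.mkQ_apply, Submodule.Quotient.mk_eq_zero, Submodule.mem_comap,
      Submodule.restrictScalars_mem, map_sum]
    simp only [map_smul, Submodule.subtype_apply]
    rw [hcard]
    exact hc
  exact Fintype.linearIndependent_iff.mp LI' c hzero

end graded

section basis

open Groth.Agent.Lib.Helper70

variable (A B : Type u) [CommRing A] [CommRing B] [Algebra A B]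
  (ι : Type) [Fintype ι] [DecidableEq ι] (z : ι → B)

/-- The family `ζ^p`, `|p| ≤ m`, in `P^m`. -/
noncomputable def vfam (m : ℕ) (p : {p : ι → ℕ // ∑ i, p i ≤ m}) : PP16.P m A B :=
  ∏ i, (PP16.dn m A B (z i) - algebraMap B (PP16.P m A B) (z i)) ^ (p.1 i)

theorem vfam_eq (m : ℕ) (p : {p : ι → ℕ // ∑ i, p i ≤ m}) :
    vfam A B ι z m p =
      Ideal.Quotient.mkₐ B (KaehlerDifferential.ideal A B ^ (m + 1)) (ZZ A ι z p.1) := by
  rw [vfam, ZZ, map_prod]
  refine Finset.prod_congr rfl fun i _ => ?_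
  rw [map_pow, gen, map_sub]
  rfl

theorem vfam_span (hz : Submodule.span B (Set.range fun i => KaehlerDifferential.D A B (z i)) = ⊤)
    (m : ℕ) : ⊤ ≤ Submodule.span B (Set.range (vfam A B ι z m)) := by
  intro y _
  obtain ⟨x, rfl⟩ := Ideal.Quotient.mk_surjective y
  obtain ⟨w, hw, hw'⟩ := exists_Wr A B ι z hz (m + 1) 0 m (by omega) x (by simp)
  have hxw : Ideal.Quotient.mk (KaehlerDifferential.ideal A B ^ (m + 1)) x =
      Ideal.Quotient.mkₐ B (KaehlerDifferential.ideal A B ^ (m + 1)) w :=
    Ideal.Quotient.eq.mpr hw'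
  rw [hxw]
  have hle : Wr A B ι z 0 m ≤ (Submodule.span B (Set.range (vfam A B ι z m))).comap
      (Ideal.Quotient.mkₐ B (KaehlerDifferential.ideal A B ^ (m + 1))).toLinearMap := by
    apply Submodule.span_le.mpr
    rintro _ ⟨q, _, h2, rfl⟩
    exact Submodule.subset_span ⟨⟨q, h2⟩, vfam_eq A B ι z m ⟨q, h2⟩⟩
  exact hle hw

theorem vfam_li (hB : PP16.IsDiffSmooth A B)
    (b : Module.Basis ι B (KaehlerDifferential A B))
    (hb : ∀ i, b i = KaehlerDifferential.D A B (z i)) (m : ℕ) :
    LinearIndependent B (vfam A B ι z m) := by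
  classical
  have := finiteJ ι m
  letI := Fintype.ofFinite {p : ι → ℕ // ∑ i, p i ≤ m}
  rw [Fintype.linearIndependent_iff]
  intro g hg
  have hX : ∑ p : {p : ι → ℕ // ∑ i, p i ≤ m}, g p • ZZ A ι z p.1 ∈
      KaehlerDifferential.ideal A B ^ (m + 1) := by
    rw [← Ideal.Quotient.eq_zero_iff_mem]
    change Ideal.Quotient.mkₐ B (KaehlerDifferential.ideal A B ^ (m + 1)) _ = 0
    rw [map_sum]
    simp only [map_smul, ← vfam_eq]
    exact hg
  have key : ∀ (n : ℕ) (p : {p : ι → ℕ // ∑ i, p i ≤ m}), ∑ i, p.1 i = n → g p = 0 := by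
    intro n
    induction n using Nat.strong_induction_on with
    | _ n ih =>
      intro p₀ hp₀
      have hnm : n ≤ m := hp₀ ▸ p₀.2
      let T := {p : {p : ι → ℕ // ∑ i, p i ≤ m} // ∑ i, p.1 i = n}
      have hsplit : ∑ t : T, g t.1 • ZZ A ι z t.1.1 =
          ∑ p : {p : ι → ℕ // ∑ i, p i ≤ m}, g p • ZZ A ι z p.1 -
            ∑ p ∈ Finset.univ.filter (fun p : {p : ι → ℕ // ∑ i, p i ≤ m} => ¬ ∑ i, p.1 i = n),
              g p • ZZ A ι z p.1 := by
        rw [eq_sub_iff_add_eq, ← Finset.sum_filter_add_sum_filter_not Finset.univ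
          (fun p : {p : ι → ℕ // ∑ i, p i ≤ m} => ∑ i, p.1 i = n)]
        congr 1
        exact (Finset.sum_subtype (p := fun p : {p : ι → ℕ // ∑ i, p i ≤ m} => ∑ i, p.1 i = n)
          (Finset.univ.filter _) (fun x => by simp)
          (fun p => g p • ZZ A ι z p.1)).symm
      have hmem : ∑ t : T, g t.1 • ZZ A ι z t.1.1 ∈ KaehlerDifferential.ideal A B ^ (n + 1) := by
        rw [hsplit]
        apply Ideal.sub_mem
        · exact Ideal.pow_le_pow_right (by omega) hX
        · apply Ideal.sum_mem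
          intro p hp
          rw [Finset.mem_filter] at hp
          rcases Nat.lt_or_gt_of_ne hp.2 with hlt | hgt
          · rw [ih _ hlt p rfl, zero_smul]
            exact Ideal.zero_mem _
          · rw [Algebra.smul_def]
            exact Ideal.mul_mem_left _ _
              (Ideal.pow_le_pow_right (by omega) (ZZ_mem_pow A B ι z p.1))
      exact coeff_eq_zero A B ι z hB b hb n (T := T) (fun t => t.1.1)
        (fun t t' h => Subtype.ext (Subtype.ext h)) (fun t => t.2) (fun t => g t.1) hmem ⟨p₀, hp₀⟩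
  intro p
  exact key _ p rfl

theorem span_of_basis (b : Module.Basis ι B (KaehlerDifferential A B))
    (hb : ∀ i, b i = KaehlerDifferential.D A B (z i)) :
    Submodule.span B (Set.range fun i => KaehlerDifferential.D A B (z i)) = ⊤ := by
  have h := b.span_eq
  have hr : Set.range b = Set.range fun i => KaehlerDifferential.D A B (z i) := by
    congr 1
    funext i
    exact hb i
  rwa [hr] at h

theorem exists_basis (hB : PP16.IsDiffSmooth A B)
    (hz : ∃ b : Module.Basis ι B (KaehlerDifferential A B),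
      ∀ i, b i = KaehlerDifferential.D A B (z i)) (m : ℕ) :
    ∃ b : Module.Basis {p : ι → ℕ // ∑ i, p i ≤ m} B (PP16.P m A B),
      ∀ p, b p = ∏ i, (PP16.dn m A B (z i) - algebraMap B (PP16.P m A B) (z i)) ^ (p.1 i) := by
  obtain ⟨b, hb⟩ := hz
  refine ⟨Module.Basis.mk (vfam_li A B ι z hB b hb m)
    (vfam_span A B ι z (span_of_basis A B ι z b hb) m), fun p => ?_⟩
  rw [Module.Basis.mk_apply]
  rfl

end basis

end Groth.Agent.Lib.Helper70.DiffSmoothBasis
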