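import Groth.Prelude.Def_PP16
import Groth.Agent.Lib.Helper70.DiffSmoothBasis

/-!
# Divided-power operators ⇒ differentially smooth with `dz` a basis (helper70)

* `cnt g` (fibre cardinalities of `g : ι' → ι`), `prod_comp_cnt`, `sum_cnt`, `exists_cnt_eq`,
  `tprod_eq_of_cnt_eq` (symmetric monomials depend only on fibre cardinalities).
* `prod_sub_prod_mem`: `x_k ≡ y_k mod I²`, all in `I` ⇒ `∏ x_k ≡ ∏ y_k mod I^(n+1)`.
* `injective_of_span_of_li`.
* `coeff_eq_zero_ops`, `li_dz`, `Lsec` (section `Ω → I`), `phi : Sym[B] ι' Ω → I^n/I^(n+1)` (canonical map when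
  `Ω` is free on the `dz_i`), `phi_D`, `phi_injective`, `phi_surjective`, `diffSmooth_of_ops`.
-/

set_option autoImplicit false
set_option linter.unusedSectionVars false
set_option linter.style.haveILetI false
universe u v w
open scoped TensorProduct

namespace Groth.Agent.Lib.Helper70.DiffSmoothOfOps

open Groth.Agent.Lib.Helper70 Groth.Agent.Lib.Helper70.DivPowBasis
  Groth.Agent.Lib.Helper70.DiffSmoothBasis
open Groth.Agent.Lib.Helper23 (gen gen_mem linearize_tmul isDiffOpLE_iff_linearize)

section cnt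

variable {ι' : Type u} [Fintype ι'] {ι : Type} [Fintype ι] [DecidableEq ι]

/-- fibre cardinalities of `g : ι' → ι`. -/
noncomputable def cnt (g : ι' → ι) (c : ι) : ℕ := Fintype.card {a // g a = c}

theorem prod_comp_cnt {N : Type*} [CommMonoid N] (g : ι' → ι) (h : ι → N) :
    ∏ k, h (g k) = ∏ i, h i ^ cnt g i := by
  rw [← Fintype.prod_fiberwise' g h]
  refine Finset.prod_congr rfl fun j _ => ?_
  rw [Finset.prod_const, Finset.card_univ, cnt]

theorem sum_cnt (g : ι' → ι) : ∑ i, cnt g i = Fintype.card ι' := by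
  simp only [cnt]
  rw [← Fintype.card_sigma]
  exact Fintype.card_congr (Equiv.sigmaFiberEquiv g)

theorem exists_cnt_eq (q : ι → ℕ) (hq : ∑ i, q i = Fintype.card ι') :
    ∃ g : ι' → ι, cnt g = q := by
  have hcard : Fintype.card ι' = Fintype.card (Σ i, Fin (q i)) := by
    rw [Fintype.card_sigma, ← hq]
    simp
  let e : ι' ≃ Σ i, Fin (q i) := Fintype.equivOfCardEq hcard
  refine ⟨fun a => (e a).1, ?_⟩
  funext c
  rw [cnt]
  have e' : {a // (e a).1 = c} ≃ Fin (q c) :=
    (e.subtypeEquiv (p := fun a => (e a).1 = c) (q := fun s => s.1 = c) (fun a => Iff.rfl)).trans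
      (Equiv.sigmaSubtype c)
  rw [Fintype.card_congr e', Fintype.card_fin]

theorem tprod_eq_of_cnt_eq {R : Type u} [CommRing R] {M : Type v} [AddCommGroup M] [Module R M]
    (m : ι → M) (g g' : ι' → ι) (h : cnt g = cnt g') :
    SymmetricPower.tprod R (fun k => m (g k)) = SymmetricPower.tprod R (fun k => m (g' k)) := by
  let σ : ι' ≃ ι' := Equiv.ofFiberEquiv (f := g) (g := g')
    (fun c => Fintype.equivOfCardEq (congrFun h c))
  have hσ : ∀ a, g' (σ a) = g a := Equiv.ofFiberEquiv_map _
  rw [← SymmetricPower.tprod_equiv σ (fun k => m (g' k))]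
  simp only [hσ]

end cnt

section general

theorem prod_sub_prod_mem {R : Type*} [CommRing R] (I : Ideal R) {κ : Type*} (s : Finset κ)
    (x y : κ → R) (hy : ∀ k ∈ s, y k ∈ I) (hx : ∀ k ∈ s, x k ∈ I)
    (hxy : ∀ k ∈ s, x k - y k ∈ I ^ 2) :
    ∏ k ∈ s, x k - ∏ k ∈ s, y k ∈ I ^ (s.card + 1) := by
  classical
  induction s using Finset.induction_on with
  | empty => simp
  | insert a s ha ih =>
    rw [Finset.prod_insert ha, Finset.prod_insert ha, Finset.card_insert_of_notMem ha]
    have e : x a * ∏ k ∈ s, x k - y a * ∏ k ∈ s, y k =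
        (x a - y a) * ∏ k ∈ s, x k + y a * (∏ k ∈ s, x k - ∏ k ∈ s, y k) := by ring
    rw [e]
    apply Ideal.add_mem
    · have h1 : ∏ k ∈ s, x k ∈ I ^ s.card := by
        rw [← Finset.prod_const]
        exact Ideal.prod_mem_prod fun k hk => hx k (Finset.mem_insert_of_mem hk)
      have h2 := Ideal.mul_mem_mul (hxy a (Finset.mem_insert_self a s)) h1
      rw [← pow_add] at h2
      have : 2 + s.card = s.card + 1 + 1 := by omega
      rwa [this] at h2
    · have h1 := ih (fun k hk => hy k (Finset.mem_insert_of_mem hk))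
        (fun k hk => hx k (Finset.mem_insert_of_mem hk))
        (fun k hk => hxy k (Finset.mem_insert_of_mem hk))
      have h2 := Ideal.mul_mem_mul (hy a (Finset.mem_insert_self a s)) h1
      rwa [← pow_succ'] at h2

theorem injective_of_span_of_li {R : Type*} [CommRing R] {M N : Type*} [AddCommGroup M]
    [Module R M] [AddCommGroup N] [Module R N] (φ : M →ₗ[R] N) {T : Type*} (v : T → M)
    (hspan : Submodule.span R (Set.range v) = ⊤) (hli : LinearIndependent R (φ ∘ v)) :
    Function.Injective φ := by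
  rw [← LinearMap.ker_eq_bot, Submodule.eq_bot_iff]
  intro x hx
  have hxs : x ∈ Submodule.span R (Set.range v) := by rw [hspan]; trivial
  obtain ⟨c, rfl⟩ := (Finsupp.mem_span_range_iff_exists_finsupp).mp hxs
  rw [LinearMap.mem_ker, Finsupp.sum, map_sum] at hx
  simp only [map_smul] at hx
  have h0 : c = 0 := by
    apply (linearIndependent_iff.mp hli) c
    rw [Finsupp.linearCombination_apply, Finsupp.sum]
    exact hx
  rw [h0]
  simp

end general

section ba

variable (A B : Type u) [CommRing A] [CommRing B] [Algebra A B]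
  (ι : Type) [Fintype ι] [DecidableEq ι] (z : ι → B)

theorem ZZ_single (i : ι) : ZZ A ι z (Pi.single i 1) = gen A (z i) := by
  have := ZZ_add_single A ι z 0 i
  rwa [zero_add, ZZ_zero, one_mul] at this

theorem sum_single (i : ι) : ∑ j, (Pi.single i 1 : ι → ℕ) j = 1 := by
  rw [Fintype.sum_eq_single i (fun j hj => Pi.single_eq_of_ne hj _), Pi.single_eq_same]

theorem single_injective : Function.Injective (fun i : ι => (Pi.single i 1 : ι → ℕ)) := by
  intro i j h
  by_contra hij
  have := congrFun h i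
  simp only [Pi.single_eq_same] at this
  rw [Pi.single_eq_of_ne hij] at this
  exact one_ne_zero this

variable (hz : Submodule.span B (Set.range fun i => KaehlerDifferential.D A B (z i)) = ⊤)
  (Dq : (ι → ℕ) → (B →ₗ[A] B))
  (hD : ∀ p, ∃ k : ℕ, Diff16.IsDiffOpLE A B B B k (Dq p))
  (hDz : ∀ p q : ι → ℕ, Dq p (∏ i, z i ^ q i) =
    ((∏ i, Nat.choose (q i) (p i) : ℕ) : B) * ∏ i, z i ^ (q i - p i))

include hz hD hDz in
theorem coeff_eq_zero_ops (n : ℕ) {T : Type} [Fintype T] (π : T → (ι → ℕ))
    (hπ : Function.Injective π) (hπn : ∀ t, ∑ i, π t i = n) (c : T → B)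
    (hc : ∑ t, c t • ZZ A ι z (π t) ∈ KaehlerDifferential.ideal A B ^ (n + 1)) :
    ∀ t, c t = 0 := by
  classical
  intro t₀
  have hord := order_le A B ι z hz Dq hD hDz (π t₀)
  rw [hπn t₀, isDiffOpLE_iff_linearize] at hord
  have h := hord _ hc
  rw [map_sum] at h
  simp only [linearize_smul, linearize_Dq_ZZ A B ι z Dq hDz] at h
  rw [Finset.sum_eq_single t₀] at h
  · simpa using h
  · intro t _ ht
    rw [if_neg (fun h' => ht (hπ h').symm), mul_zero]
  · intro h'
    exact absurd (Finset.mem_univ _) h'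

include hz hD hDz in
theorem li_dz : LinearIndependent B (fun i => KaehlerDifferential.D A B (z i)) := by
  rw [Fintype.linearIndependent_iff]
  intro c hc
  let g : ι → KaehlerDifferential.ideal A B := fun i => ⟨gen A (z i), gen_mem (z i)⟩
  have key : KaehlerDifferential.fromIdeal A B (∑ i, c i • g i) = 0 := by
    rw [map_sum, ← hc]
    refine Finset.sum_congr rfl fun i _ => ?_
    rw [LinearMap.map_smul_of_tower]
    rfl
  have key' : (KaehlerDifferential.ideal A B).toCotangent (∑ i, c i • g i) = 0 := key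
  rw [Ideal.toCotangent_eq_zero] at key'
  have hmem : ∑ i, c i • ZZ A ι z (Pi.single i 1) ∈ KaehlerDifferential.ideal A B ^ (1 + 1) := by
    convert key' using 1
    simp [g, ZZ_single]
  exact coeff_eq_zero_ops A B ι z hz Dq hD hDz 1 (fun i => Pi.single i 1) (single_injective ι)
    (sum_single ι) c hmem

variable (bz : Module.Basis ι B (KaehlerDifferential A B))
  (hbz : ∀ i, bz i = KaehlerDifferential.D A B (z i))

/-- `B`-linear section `Ω → I`, `dz_i ↦ 1 ⊗ z_i - z_i ⊗ 1`. -/
noncomputable def Lsec : KaehlerDifferential A B →ₗ[B] KaehlerDifferential.ideal A B :=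
  bz.constr B (fun i => (⟨gen A (z i), gen_mem (z i)⟩ : KaehlerDifferential.ideal A B))

include hbz in
theorem fromIdeal_Lsec (ω : KaehlerDifferential A B) :
    KaehlerDifferential.fromIdeal A B (Lsec A B ι z bz ω) = ω := by
  have h : ((KaehlerDifferential.fromIdeal A B).restrictScalars B) ∘ₗ Lsec A B ι z bz =
      LinearMap.id := by
    apply bz.ext
    intro i
    rw [LinearMap.comp_apply, Lsec, Module.Basis.constr_basis, LinearMap.id_apply, hbz]
    rfl
  exact LinearMap.congr_fun h ω

include hbz in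
theorem Lsec_sub_gen_mem (b : B) :
    ((Lsec A B ι z bz (KaehlerDifferential.D A B b) : KaehlerDifferential.ideal A B) : B ⊗[A] B) -
      gen A b ∈ KaehlerDifferential.ideal A B ^ 2 := by
  have h : (KaehlerDifferential.ideal A B).toCotangent
      (Lsec A B ι z bz (KaehlerDifferential.D A B b) - ⟨gen A b, gen_mem b⟩) = 0 := by
    rw [map_sub]
    have h1 : (KaehlerDifferential.ideal A B).toCotangent
        (Lsec A B ι z bz (KaehlerDifferential.D A B b)) = KaehlerDifferential.D A B b :=
      fromIdeal_Lsec A B ι z bz hbz _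
    rw [h1, sub_eq_zero]
    rfl
  rw [Ideal.toCotangent_eq_zero] at h
  exact h

variable (ι' : Type u) [Fintype ι']

/-- `Ω → B ⊗ B`, the section followed by the inclusion. -/
noncomputable def Lin : KaehlerDifferential A B →ₗ[B] B ⊗[A] B :=
  ((KaehlerDifferential.ideal A B).subtype.restrictScalars B) ∘ₗ Lsec A B ι z bz

theorem Lin_apply (ω : KaehlerDifferential A B) :
    Lin A B ι z bz ω = ((Lsec A B ι z bz ω : KaehlerDifferential.ideal A B) : B ⊗[A] B) := rfl

theorem Lin_mem (ω : KaehlerDifferential A B) :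
    Lin A B ι z bz ω ∈ KaehlerDifferential.ideal A B := (Lsec A B ι z bz ω).2

noncomputable def mu0 : MultilinearMap B (fun _ : ι' => KaehlerDifferential A B) (B ⊗[A] B) :=
  (MultilinearMap.mkPiAlgebra B ι' (B ⊗[A] B)).compLinearMap (fun _ => Lin A B ι z bz)

theorem mu0_apply (ω : ι' → KaehlerDifferential A B) :
    mu0 A B ι z bz ι' ω = ∏ k, Lin A B ι z bz (ω k) := by
  simp only [mu0, MultilinearMap.compLinearMap_apply, MultilinearMap.mkPiAlgebra_apply]

theorem mu0_mem (ω : ι' → KaehlerDifferential A B) :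
    mu0 A B ι z bz ι' ω ∈ (KaehlerDifferential.ideal A B ^ Fintype.card ι').restrictScalars B := by
  rw [Submodule.restrictScalars_mem, mu0_apply, ← Finset.card_univ, ← Finset.prod_const]
  exact Ideal.prod_mem_prod fun k _ => Lin_mem A B ι z bz _

noncomputable def mu : MultilinearMap B (fun _ : ι' => KaehlerDifferential A B)
    (PP16.grI A B (Fintype.card ι')) :=
  (Submodule.mkQ _).compMultilinearMap
    ((mu0 A B ι z bz ι').codRestrict _ (mu0_mem A B ι z bz ι'))

theorem mu_apply (ω : ι' → KaehlerDifferential A B) :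
    mu A B ι z bz ι' ω = Submodule.Quotient.mk ⟨mu0 A B ι z bz ι' ω, mu0_mem A B ι z bz ι' ω⟩ :=
  rfl

theorem mu_symm (e : Equiv.Perm ι') (ω : ι' → KaehlerDifferential A B) :
    mu A B ι z bz ι' (fun k => ω (e k)) = mu A B ι z bz ι' ω := by
  rw [mu_apply, mu_apply]
  congr 1
  apply Subtype.ext
  change mu0 A B ι z bz ι' (fun k => ω (e k)) = mu0 A B ι z bz ι' ω
  rw [mu0_apply, mu0_apply]
  exact Equiv.prod_comp e (fun k => Lin A B ι z bz (ω k))

noncomputable def phi : SymmetricPower B ι' (KaehlerDifferential A B) →ₗ[B]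
    PP16.grI A B (Fintype.card ι') :=
  SymPow.lift (mu A B ι z bz ι') (mu_symm A B ι z bz ι')

theorem phi_tprod (ω : ι' → KaehlerDifferential A B) :
    phi A B ι z bz ι' (SymmetricPower.tprod B ω) =
      Submodule.Quotient.mk ⟨mu0 A B ι z bz ι' ω, mu0_mem A B ι z bz ι' ω⟩ := by
  rw [phi, SymPow.lift_tprod, mu_apply]

include hbz in
theorem phi_D (b : ι' → B) :
    phi A B ι z bz ι' (SymmetricPower.tprod B (fun k => KaehlerDifferential.D A B (b k))) =
      PP16.zetaProd A B b := by
  rw [phi_tprod, PP16.zetaProd, Submodule.Quotient.eq, Submodule.mem_comap,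
    Submodule.restrictScalars_mem]
  change mu0 A B ι z bz ι' (fun k => KaehlerDifferential.D A B (b k)) -
    ∏ i, ((1 : B) ⊗ₜ[A] b i - b i ⊗ₜ[A] (1 : B)) ∈ _
  rw [mu0_apply, ← Finset.card_univ]
  apply prod_sub_prod_mem
  · intro k _
    exact gen_mem (b k)
  · intro k _
    exact Lin_mem A B ι z bz _
  · intro k _
    exact Lsec_sub_gen_mem A B ι z bz hbz (b k)

omit [DecidableEq ι] in
theorem finiteT (N : ℕ) : Finite {q : ι → ℕ // ∑ i, q i = N} := by
  have := finiteJ ι N
  exact Finite.of_injective (fun q : {q : ι → ℕ // ∑ i, q i = N} =>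
    (⟨q.1, q.2.le⟩ : {p : ι → ℕ // ∑ i, p i ≤ N}))
    (fun q q' h => Subtype.ext (congrArg Subtype.val h : _))

/-- a function with prescribed fibre cardinalities. -/
noncomputable def rep (t : {q : ι → ℕ // ∑ i, q i = Fintype.card ι'}) : ι' → ι :=
  Classical.choose (exists_cnt_eq (ι' := ι') t.1 t.2)

theorem cnt_rep (t : {q : ι → ℕ // ∑ i, q i = Fintype.card ι'}) : cnt (rep ι ι' t) = t.1 :=
  Classical.choose_spec (exists_cnt_eq (ι' := ι') t.1 t.2)

/-- the symmetric monomials. -/
noncomputable def Sfam (t : {q : ι → ℕ // ∑ i, q i = Fintype.card ι'}) :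
    SymmetricPower B ι' (KaehlerDifferential A B) :=
  SymmetricPower.tprod B (fun k => KaehlerDifferential.D A B (z (rep ι ι' t k)))

include hbz in
theorem phi_Sfam (t : {q : ι → ℕ // ∑ i, q i = Fintype.card ι'}) :
    phi A B ι z bz ι' (Sfam A B ι z ι' t) =
      Submodule.Quotient.mk ⟨ZZ A ι z t.1, by
        rw [Submodule.restrictScalars_mem]
        have := ZZ_mem_pow A B ι z t.1
        rw [t.2] at this
        exact this⟩ := by
  rw [Sfam, phi_D A B ι z bz hbz ι' (fun k => z (rep ι ι' t k)), PP16.zetaProd]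
  congr 1
  apply Subtype.ext
  change ∏ k, gen A (z (rep ι ι' t k)) = ZZ A ι z t.1
  rw [prod_comp_cnt (rep ι ι' t) (fun i => gen A (z i)), cnt_rep, ZZ]

include hz hD hDz hbz in
theorem li_phi_Sfam : LinearIndependent B (phi A B ι z bz ι' ∘ Sfam A B ι z ι') := by
  classical
  have := finiteT ι (Fintype.card ι')
  letI := Fintype.ofFinite {q : ι → ℕ // ∑ i, q i = Fintype.card ι'}
  rw [Fintype.linearIndependent_iff]
  intro c hc
  simp only [Function.comp_apply, phi_Sfam A B ι z bz hbz ι'] at hc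
  simp only [← Submodule.mkQ_apply, ← map_smul, ← map_sum] at hc
  rw [Submodule.mkQ_apply, Submodule.Quotient.mk_eq_zero, Submodule.mem_comap,
    Submodule.restrictScalars_mem, map_sum] at hc
  simp only [map_smul, Submodule.subtype_apply] at hc
  refine coeff_eq_zero_ops A B ι z hz Dq hD hDz (Fintype.card ι') (fun t => t.1)
    Subtype.val_injective (fun t => t.2) c ?_
  convert hc using 3

include hbz in
theorem span_Sfam : Submodule.span B (Set.range (Sfam A B ι z ι')) = ⊤ := by
  classical
  rw [eq_top_iff, ← SymmetricPower.span_tprod_eq_top, Submodule.span_le]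
  rintro _ ⟨ω, rfl⟩
  have hω : ω = fun k => ∑ i, bz.repr (ω k) i • bz i := by
    funext k
    exact (bz.sum_repr (ω k)).symm
  rw [hω, MultilinearMap.map_sum]
  apply Submodule.sum_mem
  intro r _
  rw [MultilinearMap.map_smul_univ]
  apply Submodule.smul_mem
  apply Submodule.subset_span
  refine ⟨⟨cnt r, sum_cnt r⟩, ?_⟩
  simp only [Sfam, ← hbz]
  exact tprod_eq_of_cnt_eq bz _ _ (cnt_rep ι ι' _)

include hz hD hDz hbz in
theorem phi_injective : Function.Injective (phi A B ι z bz ι') :=
  injective_of_span_of_li _ (Sfam A B ι z ι') (span_Sfam A B ι z bz hbz ι')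
    (li_phi_Sfam A B ι z hz Dq hD hDz bz hbz ι')

include hz hbz in
theorem phi_surjective : Function.Surjective (phi A B ι z bz ι') := by
  intro y
  obtain ⟨⟨x, hx⟩, rfl⟩ := Submodule.Quotient.mk_surjective _ y
  rw [Submodule.restrictScalars_mem] at hx
  obtain ⟨w, hw, hw'⟩ := exists_Wr_step A B ι z hz (Fintype.card ι') x hx
  have hgen : ∀ w ∈ Wr A B ι z (Fintype.card ι') (Fintype.card ι'),
      ∃ s : SymmetricPower B ι' (KaehlerDifferential A B),
        ∀ hw : w ∈ (KaehlerDifferential.ideal A B ^ Fintype.card ι').restrictScalars B,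
          phi A B ι z bz ι' s = Submodule.Quotient.mk ⟨w, hw⟩ := by
    intro w hw
    induction hw using Submodule.span_induction with
    | mem w hw =>
      obtain ⟨q, h1, h2, rfl⟩ := hw
      refine ⟨Sfam A B ι z ι' ⟨q, le_antisymm h2 h1⟩, fun _ => ?_⟩
      rw [phi_Sfam A B ι z bz hbz ι']
    | zero =>
      refine ⟨0, fun _ => ?_⟩
      rw [map_zero]
      rfl
    | add w₁ w₂ h₁ h₂ ih₁ ih₂ =>
      obtain ⟨s₁, hs₁⟩ := ih₁
      obtain ⟨s₂, hs₂⟩ := ih₂
      have hm : ∀ w ∈ Wr A B ι z (Fintype.card ι') (Fintype.card ι'),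
          w ∈ (KaehlerDifferential.ideal A B ^ Fintype.card ι').restrictScalars B := by
        apply Submodule.span_le.mpr
        rintro _ ⟨q, h1, h2, rfl⟩
        have := ZZ_mem_pow A B ι z q
        rw [le_antisymm h2 h1] at this
        exact this
      refine ⟨s₁ + s₂, fun _ => ?_⟩
      rw [map_add, hs₁ (hm _ h₁), hs₂ (hm _ h₂)]
      rfl
    | smul c w h ih =>
      obtain ⟨s, hs⟩ := ih
      have hm : ∀ w ∈ Wr A B ι z (Fintype.card ι') (Fintype.card ι'),
          w ∈ (KaehlerDifferential.ideal A B ^ Fintype.card ι').restrictScalars B := by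
        apply Submodule.span_le.mpr
        rintro _ ⟨q, h1, h2, rfl⟩
        have := ZZ_mem_pow A B ι z q
        rw [le_antisymm h2 h1] at this
        exact this
      refine ⟨c • s, fun _ => ?_⟩
      rw [map_smul, hs (hm _ h)]
      rfl
  obtain ⟨s, hs⟩ := hgen w hw
  have hwm : w ∈ (KaehlerDifferential.ideal A B ^ Fintype.card ι').restrictScalars B := by
    rw [Submodule.restrictScalars_mem]
    have : w = x - (x - w) := by ring
    rw [this]
    exact Ideal.sub_mem _ hx (Ideal.pow_le_pow_right (Nat.le_succ _) hw')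
  refine ⟨s, ?_⟩
  rw [hs hwm, Submodule.Quotient.eq, Submodule.mem_comap, Submodule.restrictScalars_mem]
  change w - x ∈ _
  have : w - x = -(x - w) := by ring
  rw [this]
  exact Ideal.neg_mem_iff _ |>.mpr hw'

include hz hD hDz in
/-- (b) ⇒ (a). -/
theorem diffSmooth_of_ops :
    PP16.IsDiffSmooth A B ∧
      ∃ b : Module.Basis ι B (KaehlerDifferential A B),
        ∀ i, b i = KaehlerDifferential.D A B (z i) := by
  let bz : Module.Basis ι B (KaehlerDifferential A B) :=
    Module.Basis.mk (li_dz A B ι z hz Dq hD hDz) (by rw [hz])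
  have hbz : ∀ i, bz i = KaehlerDifferential.D A B (z i) := fun i => Module.Basis.mk_apply _ _ i
  refine ⟨⟨Module.Projective.of_basis bz, ?_⟩, ⟨bz, hbz⟩⟩
  intro ι' _
  exact ⟨phi A B ι z bz ι', phi_D A B ι z bz hbz ι',
    phi_injective A B ι z hz Dq hD hDz bz hbz ι', phi_surjective A B ι z hz bz hbz ι'⟩

end ba

end Groth.Agent.Lib.Helper70.DiffSmoothOfOps
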