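import Groth.Prelude.Def_PP16
import Groth.Agent.Lib.Helper70.DiffSmoothOfOps

/-!
# The canonical map `Sym^n Ω → I^n/I^(n+1)` (helper70)

For an `A`-algebra `B` with `Ω = Ω_{B/A}` projective, a `B`-linear section `L` of `I → I/I² = Ω` gives
`phi A B L ι' : Sym[B] ι' Ω →ₗ[B] PP16.grI A B (card ι')` with
`phi (⨂ₛ d b_k) = PP16.zetaProd A B b` (`phi_D`), always surjective (`phi_surjective`).
Hence `PP16.IsDiffSmooth A B` reduces to projectivity of `Ω` and injectivity of `phi`.
Also: `exists_section`, `Wgen`, `exists_Wgen_step` (`I^N ⊆ span{∏ gens} + I^(N+1)`),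
`tprod_mem_span_basis` (`Sym` of a free module is spanned by monomials in a basis, any index type),
`tprod_eq_of_card_eq` (symmetric monomials depend only on fibre cardinalities).
-/

set_option autoImplicit false
set_option linter.unusedSectionVars false
universe u v w
open scoped TensorProduct

namespace Groth.Agent.Lib.Helper70.CanonSym

open Groth.Agent.Lib.Helper70
open Groth.Agent.Lib.Helper70.DiffSmoothOfOps (prod_sub_prod_mem)
open Groth.Agent.Lib.Helper23 (gen gen_mem)

section canon

variable (A B : Type u) [CommRing A] [CommRing B] [Algebra A B]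

theorem exists_section [Module.Projective B (KaehlerDifferential A B)] :
    ∃ L : KaehlerDifferential A B →ₗ[B] KaehlerDifferential.ideal A B,
      ∀ ω, KaehlerDifferential.fromIdeal A B (L ω) = ω := by
  obtain ⟨L, hL⟩ := Module.projective_lifting_property
    ((KaehlerDifferential.fromIdeal A B).restrictScalars B) LinearMap.id
    (KaehlerDifferential.fromIdeal_surjective A B)
  exact ⟨L, fun ω => LinearMap.congr_fun hL ω⟩

variable (L : KaehlerDifferential A B →ₗ[B] KaehlerDifferential.ideal A B)
  (hL : ∀ ω, KaehlerDifferential.fromIdeal A B (L ω) = ω)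

include hL in
theorem L_sub_gen_mem (b : B) :
    ((L (KaehlerDifferential.D A B b) : KaehlerDifferential.ideal A B) : B ⊗[A] B) -
      gen A b ∈ KaehlerDifferential.ideal A B ^ 2 := by
  have h : (KaehlerDifferential.ideal A B).toCotangent
      (L (KaehlerDifferential.D A B b) - ⟨gen A b, gen_mem b⟩) = 0 := by
    rw [map_sub]
    have h1 : (KaehlerDifferential.ideal A B).toCotangent
        (L (KaehlerDifferential.D A B b)) = KaehlerDifferential.D A B b := hL _
    rw [h1, sub_eq_zero]
    rfl
  rw [Ideal.toCotangent_eq_zero] at h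
  exact h

variable (ι' : Type u) [Fintype ι']

/-- `Ω → B ⊗ B`, the section followed by the inclusion. -/
noncomputable def Lin : KaehlerDifferential A B →ₗ[B] B ⊗[A] B :=
  ((KaehlerDifferential.ideal A B).subtype.restrictScalars B) ∘ₗ L

theorem Lin_apply (ω : KaehlerDifferential A B) :
    Lin A B L ω = ((L ω : KaehlerDifferential.ideal A B) : B ⊗[A] B) := rfl

theorem Lin_mem (ω : KaehlerDifferential A B) :
    Lin A B L ω ∈ KaehlerDifferential.ideal A B := (L ω).2

noncomputable def mu0 : MultilinearMap B (fun _ : ι' => KaehlerDifferential A B) (B ⊗[A] B) :=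
  (MultilinearMap.mkPiAlgebra B ι' (B ⊗[A] B)).compLinearMap (fun _ => Lin A B L)

theorem mu0_apply (ω : ι' → KaehlerDifferential A B) :
    mu0 A B L ι' ω = ∏ k, Lin A B L (ω k) := by
  simp only [mu0, MultilinearMap.compLinearMap_apply, MultilinearMap.mkPiAlgebra_apply]

theorem mu0_mem (ω : ι' → KaehlerDifferential A B) :
    mu0 A B L ι' ω ∈ (KaehlerDifferential.ideal A B ^ Fintype.card ι').restrictScalars B := by
  rw [Submodule.restrictScalars_mem, mu0_apply, ← Finset.card_univ, ← Finset.prod_const]
  exact Ideal.prod_mem_prod fun k _ => Lin_mem A B L _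

noncomputable def mu : MultilinearMap B (fun _ : ι' => KaehlerDifferential A B)
    (PP16.grI A B (Fintype.card ι')) :=
  (Submodule.mkQ _).compMultilinearMap
    ((mu0 A B L ι').codRestrict _ (mu0_mem A B L ι'))

theorem mu_apply (ω : ι' → KaehlerDifferential A B) :
    mu A B L ι' ω = Submodule.Quotient.mk ⟨mu0 A B L ι' ω, mu0_mem A B L ι' ω⟩ :=
  rfl

theorem mu_symm (e : Equiv.Perm ι') (ω : ι' → KaehlerDifferential A B) :
    mu A B L ι' (fun k => ω (e k)) = mu A B L ι' ω := by
  rw [mu_apply, mu_apply]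
  congr 1
  apply Subtype.ext
  change mu0 A B L ι' (fun k => ω (e k)) = mu0 A B L ι' ω
  rw [mu0_apply, mu0_apply]
  exact Equiv.prod_comp e (fun k => Lin A B L (ω k))

/-- The canonical map `Sym^n Ω → I^n/I^(n+1)` built from a section `L` of `I → Ω`. -/
noncomputable def phi : SymmetricPower B ι' (KaehlerDifferential A B) →ₗ[B]
    PP16.grI A B (Fintype.card ι') :=
  SymPow.lift (mu A B L ι') (mu_symm A B L ι')

theorem phi_tprod (ω : ι' → KaehlerDifferential A B) :
    phi A B L ι' (SymmetricPower.tprod B ω) =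
      Submodule.Quotient.mk ⟨mu0 A B L ι' ω, mu0_mem A B L ι' ω⟩ := by
  rw [phi, SymPow.lift_tprod, mu_apply]

include hL in
theorem phi_D (b : ι' → B) :
    phi A B L ι' (SymmetricPower.tprod B (fun k => KaehlerDifferential.D A B (b k))) =
      PP16.zetaProd A B b := by
  rw [phi_tprod, PP16.zetaProd, Submodule.Quotient.eq, Submodule.mem_comap,
    Submodule.restrictScalars_mem]
  change mu0 A B L ι' (fun k => KaehlerDifferential.D A B (b k)) -
    ∏ i, ((1 : B) ⊗ₜ[A] b i - b i ⊗ₜ[A] (1 : B)) ∈ _
  rw [mu0_apply, ← Finset.card_univ]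
  apply prod_sub_prod_mem
  · intro k _
    exact gen_mem (b k)
  · intro k _
    exact Lin_mem A B L _
  · intro k _
    exact L_sub_gen_mem A B L hL (b k)

end canon

section surj

variable (A B : Type u) [CommRing A] [CommRing B] [Algebra A B]

/-- `B`-span of the products of `N` generators `1 ⊗ b - b ⊗ 1`. -/
def Wgen (N : ℕ) : Submodule B (B ⊗[A] B) :=
  Submodule.span B {x | ∃ b : Fin N → B, x = ∏ k, gen A (b k)}

theorem Wgen_mul_gen (N : ℕ) (w : B ⊗[A] B) (hw : w ∈ Wgen A B N) (c : B) :
    w * gen A c ∈ Wgen A B (N + 1) := by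
  induction hw using Submodule.span_induction with
  | mem x hx =>
    obtain ⟨b, rfl⟩ := hx
    apply Submodule.subset_span
    refine ⟨Fin.snoc b c, ?_⟩
    rw [Fin.prod_univ_castSucc]
    simp only [Fin.snoc_castSucc, Fin.snoc_last]
  | zero => rw [zero_mul]; exact Submodule.zero_mem _
  | add x y _ _ hx hy => rw [add_mul]; exact Submodule.add_mem _ hx hy
  | smul a x _ hx => rw [smul_mul_assoc]; exact Submodule.smul_mem _ a hx

theorem Wgen_mul_mem (N : ℕ) (w : B ⊗[A] B) (hw : w ∈ Wgen A B N) (b : B ⊗[A] B)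
    (hb : b ∈ KaehlerDifferential.ideal A B) : w * b ∈ Wgen A B (N + 1) := by
  have hb' : b ∈ Submodule.span B (Set.range fun s : B => (1 : B) ⊗ₜ[A] s - s ⊗ₜ[A] (1 : B)) := by
    rw [KaehlerDifferential.submodule_span_range_eq_ideal]
    exact hb
  clear hb
  induction hb' using Submodule.span_induction with
  | mem x hx =>
    obtain ⟨c, rfl⟩ := hx
    exact Wgen_mul_gen A B N w hw c
  | zero => rw [mul_zero]; exact Submodule.zero_mem _
  | add x y _ _ hx hy => rw [mul_add]; exact Submodule.add_mem _ hx hy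
  | smul a x _ hx => rw [mul_smul_comm]; exact Submodule.smul_mem _ a hx

theorem exists_Wgen_step : ∀ (N : ℕ) (x : B ⊗[A] B), x ∈ KaehlerDifferential.ideal A B ^ N →
    ∃ w ∈ Wgen A B N, x - w ∈ KaehlerDifferential.ideal A B ^ (N + 1) := by
  intro N
  induction N with
  | zero =>
    intro x _
    refine ⟨(Algebra.TensorProduct.lmul' A x : B) • (1 : B ⊗[A] B), ?_, ?_⟩
    · apply Submodule.smul_mem
      apply Submodule.subset_span
      exact ⟨Fin.elim0, by simp⟩
    · rw [zero_add, pow_one]
      change _ ∈ RingHom.ker (Algebra.TensorProduct.lmul' A : B ⊗[A] B →ₐ[A] B)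
      rw [RingHom.mem_ker, map_sub, sub_eq_zero, Algebra.TensorProduct.one_def,
        TensorProduct.smul_tmul', Algebra.TensorProduct.lmul'_apply_tmul, smul_eq_mul, mul_one,
        mul_one]
  | succ N ih =>
    intro x hx
    rw [pow_succ] at hx
    induction hx using Submodule.mul_induction_on' with
    | mem_mul_mem a ha b hb =>
      obtain ⟨wa, hwa, hwa'⟩ := ih a ha
      refine ⟨wa * b, Wgen_mul_mem A B N wa hwa b hb, ?_⟩
      have e : a * b - wa * b = (a - wa) * b := by ring
      rw [e, pow_succ (KaehlerDifferential.ideal A B) (N + 1)]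
      exact Ideal.mul_mem_mul hwa' hb
    | add x _ y _ hx hy =>
      obtain ⟨wx, hwx, hwx'⟩ := hx
      obtain ⟨wy, hwy, hwy'⟩ := hy
      refine ⟨wx + wy, Submodule.add_mem _ hwx hwy, ?_⟩
      have e : x + y - (wx + wy) = (x - wx) + (y - wy) := by ring
      rw [e]
      exact Ideal.add_mem _ hwx' hwy'

theorem Wgen_le (N : ℕ) :
    Wgen A B N ≤ (KaehlerDifferential.ideal A B ^ N).restrictScalars B := by
  apply Submodule.span_le.mpr
  rintro _ ⟨b, rfl⟩
  rw [SetLike.mem_coe, Submodule.restrictScalars_mem]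
  have h := Ideal.prod_mem_prod (ι := Fin N) (s := Finset.univ)
    (I := fun _ => KaehlerDifferential.ideal A B) (x := fun k => gen A (b k))
    (fun k _ => gen_mem (b k))
  rwa [Finset.prod_const, Finset.card_univ, Fintype.card_fin] at h

variable (L : KaehlerDifferential A B →ₗ[B] KaehlerDifferential.ideal A B)
  (hL : ∀ ω, KaehlerDifferential.fromIdeal A B (L ω) = ω) (ι' : Type u) [Fintype ι']

include hL in
theorem phi_surjective : Function.Surjective (phi A B L ι') := by
  intro y
  obtain ⟨⟨x, hx⟩, rfl⟩ := Submodule.Quotient.mk_surjective _ y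
  rw [Submodule.restrictScalars_mem] at hx
  obtain ⟨w, hw, hw'⟩ := exists_Wgen_step A B (Fintype.card ι') x hx
  have hgen : ∀ w ∈ Wgen A B (Fintype.card ι'),
      ∃ s : SymmetricPower B ι' (KaehlerDifferential A B),
        ∀ hw : w ∈ (KaehlerDifferential.ideal A B ^ Fintype.card ι').restrictScalars B,
          phi A B L ι' s = Submodule.Quotient.mk ⟨w, hw⟩ := by
    intro w hw
    induction hw using Submodule.span_induction with
    | mem w hw =>
      obtain ⟨b, rfl⟩ := hw
      refine ⟨SymmetricPower.tprod B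
        (fun k => KaehlerDifferential.D A B (b (Fintype.equivFin ι' k))), fun _ => ?_⟩
      rw [phi_D A B L hL ι' (fun k => b (Fintype.equivFin ι' k)), PP16.zetaProd]
      congr 1
      apply Subtype.ext
      exact Equiv.prod_comp (Fintype.equivFin ι') (fun j => gen A (b j))
    | zero =>
      refine ⟨0, fun _ => ?_⟩
      rw [map_zero]
      rfl
    | add w₁ w₂ h₁ h₂ ih₁ ih₂ =>
      obtain ⟨s₁, hs₁⟩ := ih₁
      obtain ⟨s₂, hs₂⟩ := ih₂
      refine ⟨s₁ + s₂, fun _ => ?_⟩
      rw [map_add, hs₁ (Wgen_le A B _ h₁), hs₂ (Wgen_le A B _ h₂)]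
      rfl
    | smul c w h ih =>
      obtain ⟨s, hs⟩ := ih
      refine ⟨c • s, fun _ => ?_⟩
      rw [map_smul, hs (Wgen_le A B _ h)]
      rfl
  obtain ⟨s, hs⟩ := hgen w hw
  refine ⟨s, ?_⟩
  rw [hs (Wgen_le A B _ hw), Submodule.Quotient.eq, Submodule.mem_comap,
    Submodule.restrictScalars_mem]
  change w - x ∈ _
  have : w - x = -(x - w) := by ring
  rw [this]
  exact Ideal.neg_mem_iff _ |>.mpr hw'

end surj

section monomials

variable {R : Type u} [CommRing R] {M : Type v} [AddCommGroup M] [Module R M] {J : Type w}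
  (ι' : Type u) [Fintype ι']

theorem tprod_mem_span_basis (e : Module.Basis J R M) (ω : ι' → M) :
    SymmetricPower.tprod R ω ∈ Submodule.span R
      (Set.range fun g : ι' → J => SymmetricPower.tprod R (fun k => e (g k))) := by
  classical
  have hω : ω = fun k => ∑ j ∈ (e.repr (ω k)).support, e.repr (ω k) j • e j := by
    funext k
    have := e.linearCombination_repr (ω k)
    rw [Finsupp.linearCombination_apply, Finsupp.sum] at this
    exact this.symm
  rw [hω, MultilinearMap.map_sum_finset]
  apply Submodule.sum_mem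
  intro r _
  rw [MultilinearMap.map_smul_univ]
  exact Submodule.smul_mem _ _ (Submodule.subset_span ⟨r, rfl⟩)

theorem tprod_eq_of_card_eq [DecidableEq J] (m : J → M) (g g' : ι' → J)
    (h : ∀ j, (Finset.univ.filter (fun k => g k = j)).card =
      (Finset.univ.filter (fun k => g' k = j)).card) :
    SymmetricPower.tprod R (fun k => m (g k)) = SymmetricPower.tprod R (fun k => m (g' k)) := by
  have h' : ∀ j, Fintype.card {k // g k = j} = Fintype.card {k // g' k = j} := by
    intro j
    rw [Fintype.card_subtype, Fintype.card_subtype]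
    exact h j
  let σ : ι' ≃ ι' := Equiv.ofFiberEquiv (f := g) (g := g')
    (fun c => Fintype.equivOfCardEq (h' c))
  have hσ : ∀ a, g' (σ a) = g a := Equiv.ofFiberEquiv_map _
  rw [← SymmetricPower.tprod_equiv σ (fun k => m (g' k))]
  simp only [hσ]

end monomials

end Groth.Agent.Lib.Helper70.CanonSym
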