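import Groth.Agent.Lib.Helper38.CohenStructure
import Groth.Agent.Lib.Helper49.MacLane
import Mathlib

set_option autoImplicit false
set_option linter.unusedSectionVars false
set_option linter.style.haveILetI false
universe u

namespace Groth.Agent.Lib.Helper70.CohenSep

open IsLocalRing

/-- Cohen structure theorem with a coefficient field containing `k`, for a separable residue
field extension. -/
theorem main (k A : Type u) [Field k] [CommRing A] [Algebra k A]
    [IsNoetherianRing A] [IsLocalRing A] [Algebra.IsGeometricallyReduced k (ResidueField A)] :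
    ∃ (n : ℕ) (I : Ideal (MvPowerSeries (Fin n) (ResidueField A)))
      (e : (MvPowerSeries (Fin n) (ResidueField A) ⧸ I) ≃ₐ[k]
        AdicCompletion (maximalIdeal A) A),
      ∀ a : A, e (Ideal.Quotient.mk I (MvPowerSeries.C (residue A a))) -
          algebraMap A (AdicCompletion (maximalIdeal A) A) a ∈
        (maximalIdeal A).map (algebraMap A (AdicCompletion (maximalIdeal A) A)) := by
  set Â := AdicCompletion (maximalIdeal A) A with hÂ
  haveI : Algebra.FormallySmooth k (ResidueField A) :=
    Groth.Agent.Lib.Helper49.MacLane.formallySmooth_of_geomReduced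
  -- the residue field map as a `k`-algebra map into `Â ⧸ m̂`
  let f₀ : ResidueField A →+* Â ⧸ maximalIdeal Â := ResidueField.map (algebraMap A Â)
  let f : ResidueField A →ₐ[k] Â ⧸ maximalIdeal Â :=
    { f₀ with
      commutes' := by
        intro c
        show ResidueField.map (algebraMap A Â) (residue A (algebraMap k A c)) = _
        rw [ResidueField.map_residue]
        rfl }
  obtain ⟨s, hs⟩ := Algebra.FormallySmooth.exists_mkₐ_comp_eq_of_isAdicComplete
    (I := maximalIdeal Â) f
  have hsres : ∀ c, residue Â (s c) = f₀ c := fun c => congrArg (fun h => h c) hs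
  have hfg : (maximalIdeal Â).FG := by
    rw [AdicCompletion.maximalIdeal_eq_map]
    exact Ideal.FG.map (IsNoetherian.noetherian _) _
  have hsurj : Function.Surjective ((residue Â).comp s.toRingHom) := by
    have : ⇑((residue Â).comp s.toRingHom) = f₀ := funext hsres
    rw [this]
    exact (AdicCompletion.residueField_map_bijective A).2
  obtain ⟨n, F, hF, hFC, -⟩ :=
    Groth.Agent.Lib.Helper38.CohenStructure.exists_surjective_of_coeff hfg s.toRingHom hsurj
  let Fa : MvPowerSeries (Fin n) (ResidueField A) →ₐ[k] Â :=
    { F with
      commutes' := by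
        intro c
        show F (algebraMap k (MvPowerSeries (Fin n) (ResidueField A)) c) = _
        rw [MvPowerSeries.algebraMap_apply, hFC]
        exact s.commutes c }
  have hFa : Function.Surjective Fa := hF
  refine ⟨n, RingHom.ker Fa, Ideal.quotientKerAlgEquivOfSurjective hFa, ?_⟩
  intro a
  rw [← AdicCompletion.maximalIdeal_eq_map, ← residue_eq_zero_iff, map_sub, sub_eq_zero]
  have h1 : Ideal.quotientKerAlgEquivOfSurjective hFa
      (Ideal.Quotient.mk (RingHom.ker Fa) (MvPowerSeries.C (residue A a))) =
      s (residue A a) := by
    show Fa (MvPowerSeries.C (residue A a)) = _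
    exact hFC _
  rw [h1, hsres]
  exact ResidueField.map_residue (algebraMap A Â) a

end Groth.Agent.Lib.Helper70.CohenSep
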