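import Mathlib

set_option autoImplicit false
set_option linter.style.haveILetI false
universe u

namespace Groth.Agent.Lib.Helper70.ComplStalk

open IsLocalRing

/-- Comparison of `R/m_R^n` and `S/m_S^n` for localisations `R = B_p`, `S = C_q` from the
corresponding statement for `B/p^n → C/p^nC`. -/
theorem quotient_compare {B C R S : Type u} [CommRing B] [CommRing C] [CommRing R] [CommRing S]
    (ψ : B →+* C) (p : Ideal B) [p.IsPrime] (q : Ideal C) [q.IsPrime]
    [Algebra B R] [IsLocalization.AtPrime R p] [Algebra C S] [IsLocalization.AtPrime S q]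
    [IsLocalRing R] [IsLocalRing S]
    (φ : R →+* S) [IsLocalHom φ] (hφ : φ.comp (algebraMap B R) = (algebraMap C S).comp ψ)
    (n : ℕ) (hn : 1 ≤ n)
    (ha : ∀ c : C, ∃ b : B, c - ψ b ∈ (p ^ n).map ψ)
    (hb : ∀ b : B, ψ b ∈ (p ^ n).map ψ → b ∈ p ^ n) :
    (maximalIdeal S ^ n).comap φ ≤ maximalIdeal R ^ n ∧
      ∀ s : S, ∃ r : R, s - φ r ∈ maximalIdeal S ^ n := by
  have hφ' : ∀ b : B, φ (algebraMap B R b) = algebraMap C S (ψ b) := fun b =>
    congrArg (fun g => g b) hφ
  have hmR : maximalIdeal R = p.map (algebraMap B R) :=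
    (IsLocalization.AtPrime.map_eq_maximalIdeal p R).symm
  have hmS : maximalIdeal S = q.map (algebraMap C S) :=
    (IsLocalization.AtPrime.map_eq_maximalIdeal q S).symm
  have hpR : (maximalIdeal R).comap (algebraMap B R) = p :=
    IsLocalization.AtPrime.under_maximalIdeal R p
  have hqS : (maximalIdeal S).comap (algebraMap C S) = q :=
    IsLocalization.AtPrime.under_maximalIdeal S q
  -- `q ∩ B = p`
  have hpq : q.comap ψ = p := by
    rw [← hqS, Ideal.comap_comap, ← hφ, ← Ideal.comap_comap,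
      IsLocalRing.maximalIdeal_comap φ, hpR]
  have hpq' : ∀ b : B, ψ b ∈ q ↔ b ∈ p := fun b => by rw [← hpq]; rfl
  have hpnq : (p ^ n).map ψ ≤ q := by
    rw [Ideal.map_le_iff_le_comap, hpq]
    exact Ideal.pow_le_self (by omega)
  -- `q = pC`
  have hq_eq : q = p.map ψ := by
    apply le_antisymm
    · intro c hc
      obtain ⟨b, hb'⟩ := ha c
      have h1 : (p ^ n).map ψ ≤ p.map ψ := Ideal.map_mono (Ideal.pow_le_self (by omega))
      have h2 : ψ b ∈ q := by
        have := q.sub_mem hc (hpnq hb')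
        rwa [sub_sub_cancel] at this
      have h3 : ψ b ∈ p.map ψ := Ideal.mem_map_of_mem ψ ((hpq' b).1 h2)
      have := (p.map ψ).add_mem (h1 hb') h3
      rwa [sub_add_cancel] at this
    · rw [Ideal.map_le_iff_le_comap, hpq]
  have hmSn : maximalIdeal S ^ n = ((p ^ n).map ψ).map (algebraMap C S) := by
    rw [hmS, hq_eq, Ideal.map_pow, Ideal.map_pow]
  have hmRn : maximalIdeal R ^ n = (p ^ n).map (algebraMap B R) := by
    rw [hmR, Ideal.map_pow]
  constructor
  · -- injectivity
    intro r hr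
    rw [Ideal.mem_comap] at hr
    obtain ⟨⟨b, s⟩, hbs⟩ := IsLocalization.surj p.primeCompl r
    -- r * s = b
    have h1 : algebraMap C S (ψ b) ∈ maximalIdeal S ^ n := by
      rw [← hφ', ← hbs, map_mul]
      exact Ideal.mul_mem_right _ _ hr
    rw [hmSn, IsLocalization.mem_map_algebraMap_iff q.primeCompl] at h1
    obtain ⟨⟨x, t⟩, hxt⟩ := h1
    -- ψ b * t = x in S, x ∈ p^n C
    have h2 : ∃ u : q.primeCompl, (u : C) * (ψ b * (t : C)) ∈ (p ^ n).map ψ := by
      rw [← map_mul] at hxt
      obtain ⟨u, hu⟩ := (IsLocalization.eq_iff_exists q.primeCompl S).1 hxt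
      exact ⟨u, by rw [hu]; exact Ideal.mul_mem_left _ _ x.2⟩
    obtain ⟨u, hu⟩ := h2
    -- approximate u * t by ψ b'
    obtain ⟨b', hb'⟩ := ha ((u : C) * (t : C))
    have hb'q : ψ b' ∉ q := by
      intro h
      have : (u : C) * (t : C) ∈ q := by
        have := q.add_mem (hpnq hb') h
        rwa [sub_add_cancel] at this
      rcases Ideal.IsPrime.mem_or_mem ‹q.IsPrime› this with h' | h'
      · exact u.2 h'
      · exact t.2 h'
    have hb'p : b' ∉ p := fun h => hb'q ((hpq' b').2 h)
    have h3 : ψ (b' * b) ∈ (p ^ n).map ψ := by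
      have e : ψ (b' * b) = (u : C) * (ψ b * (t : C)) - ((u : C) * (t : C) - ψ b') * ψ b := by
        rw [map_mul]; ring
      rw [e]
      exact Ideal.sub_mem _ hu (Ideal.mul_mem_right _ _ hb')
    have h4 : b' * b ∈ p ^ n := hb _ h3
    rw [hmRn, IsLocalization.mem_map_algebraMap_iff p.primeCompl]
    refine ⟨⟨⟨b' * b, h4⟩, ⟨b', hb'p⟩ * s⟩, ?_⟩
    show r * algebraMap B R (b' * (s : B)) = algebraMap B R (b' * b)
    rw [map_mul, map_mul, ← hbs]
    ring
  · -- surjectivity
    intro s
    obtain ⟨⟨c, t⟩, hct⟩ := IsLocalization.surj q.primeCompl s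
    obtain ⟨b, hb1⟩ := ha c
    obtain ⟨b', hb2⟩ := ha (t : C)
    have hb'q : ψ b' ∉ q := by
      intro h
      have : (t : C) ∈ q := by
        have := q.add_mem (hpnq hb2) h
        rwa [sub_add_cancel] at this
      exact t.2 this
    have hb'p : b' ∉ p := fun h => hb'q ((hpq' b').2 h)
    have hunit : IsUnit (algebraMap B R b') :=
      IsLocalization.map_units R (⟨b', hb'p⟩ : p.primeCompl)
    obtain ⟨v, hv⟩ := hunit
    refine ⟨algebraMap B R b * ↑v⁻¹, ?_⟩
    have hut : IsUnit (algebraMap C S (t : C)) := IsLocalization.map_units S t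
    have hub : IsUnit (algebraMap C S (ψ b')) :=
      IsLocalization.map_units S (⟨ψ b', hb'q⟩ : q.primeCompl)
    have hφv : φ (↑v⁻¹ : R) * algebraMap C S (ψ b') = 1 := by
      rw [← hφ', ← hv, ← map_mul, Units.inv_mul, map_one]
    -- (s - φ r) * (t * ψ b') = c ψ b' - t ψ b  ∈ p^n C
    have key : (s - φ (algebraMap B R b * ↑v⁻¹)) * (algebraMap C S (t : C) * algebraMap C S (ψ b'))
        = algebraMap C S ((c - ψ b) * ψ b' - ((t : C) - ψ b') * ψ b) := by
      rw [map_mul φ, hφ']
      have e1 : s * algebraMap C S (t : C) = algebraMap C S c := hct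
      calc (s - algebraMap C S (ψ b) * φ ↑v⁻¹) * (algebraMap C S (t : C) * algebraMap C S (ψ b'))
          = (s * algebraMap C S (t : C)) * algebraMap C S (ψ b') -
            algebraMap C S (ψ b) * algebraMap C S (t : C) * (φ ↑v⁻¹ * algebraMap C S (ψ b')) := by
              ring
        _ = algebraMap C S c * algebraMap C S (ψ b') -
            algebraMap C S (ψ b) * algebraMap C S (t : C) := by rw [e1, hφv, mul_one]
        _ = algebraMap C S ((c - ψ b) * ψ b' - ((t : C) - ψ b') * ψ b) := by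
              simp only [map_sub, map_mul]; ring
    have hmem : (s - φ (algebraMap B R b * ↑v⁻¹)) *
        (algebraMap C S (t : C) * algebraMap C S (ψ b')) ∈ maximalIdeal S ^ n := by
      rw [key, hmSn]
      apply Ideal.mem_map_of_mem
      exact Ideal.sub_mem _ (Ideal.mul_mem_right _ _ hb1) (Ideal.mul_mem_right _ _ hb2)
    have hu2 : IsUnit (algebraMap C S (t : C) * algebraMap C S (ψ b')) := hut.mul hub
    obtain ⟨w, hw⟩ := hu2
    have := Ideal.mul_mem_right (↑w⁻¹ : S) _ hmem
    rwa [← hw, mul_assoc, Units.mul_inv, mul_one] at this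

end Groth.Agent.Lib.Helper70.ComplStalk
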