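import Mathlib
import Groth.Agent.Lib.Helper76.ComplFacts

set_option autoImplicit false
set_option linter.style.haveILetI false
universe u

namespace Groth.Agent.Lib.Helper70.ComplStalk

open IsLocalRing CategoryTheory CategoryTheory.Limits

variable (A : Type u) [CommRing A] (m : Ideal A) (hm : m.FG)
  {B C : CommRingCat.{u}} (α : CommRingCat.of A ⟶ B) (ψ : B ⟶ C)
  (σ : CommRingCat.of (AdicCompletion m A) ⟶ C)
  (H : IsPushout α (CommRingCat.ofHom (algebraMap A (AdicCompletion m A))) ψ σ)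
  (p : Ideal B) (hmp : ∀ a ∈ m, α.hom a ∈ p) (n : ℕ)

include H hmp in
/-- (b): `B/p^n → C/p^nC` is injective. -/
theorem mem_pow_of_map_mem (b : B) (hb : ψ.hom b ∈ (p ^ n).map ψ.hom) : b ∈ p ^ n := by
  have hle : m ^ n ≤ (p ^ n).comap α.hom := by
    rw [← Ideal.map_le_iff_le_comap, Ideal.map_pow]
    apply Ideal.pow_right_mono
    rw [Ideal.map_le_iff_le_comap]
    exact hmp
  let τ : CommRingCat.of (AdicCompletion m A) ⟶ CommRingCat.of (B ⧸ p ^ n) :=
    CommRingCat.ofHom ((Ideal.quotientMap (p ^ n) α.hom hle).comp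
      (AdicCompletion.evalₐ m n : AdicCompletion m A →+* A ⧸ m ^ n))
  let β : B ⟶ CommRingCat.of (B ⧸ p ^ n) := CommRingCat.ofHom (Ideal.Quotient.mk (p ^ n))
  have hcomm : α ≫ β = CommRingCat.ofHom (algebraMap A (AdicCompletion m A)) ≫ τ := by
    ext a
    show Ideal.Quotient.mk (p ^ n) (α.hom a) =
      Ideal.quotientMap (p ^ n) α.hom hle
        ((AdicCompletion.evalₐ m n) (algebraMap A (AdicCompletion m A) a))
    rw [AlgHom.commutes, Ideal.Quotient.algebraMap_eq, Ideal.quotientMap_mk]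
  let ρ : C ⟶ CommRingCat.of (B ⧸ p ^ n) := H.desc β τ hcomm
  have hρ : ψ ≫ ρ = β := H.inl_desc _ _ _
  have hρ' : ∀ x : B, ρ.hom (ψ.hom x) = Ideal.Quotient.mk (p ^ n) x := fun x =>
    congrArg (fun g => g.hom x) hρ
  have hker : (p ^ n).map ψ.hom ≤ RingHom.ker ρ.hom := by
    rw [Ideal.map_le_iff_le_comap]
    intro x hx
    rw [Ideal.mem_comap, RingHom.mem_ker, hρ', Ideal.Quotient.eq_zero_iff_mem]
    exact hx
  have := hker hb
  rw [RingHom.mem_ker, hρ', Ideal.Quotient.eq_zero_iff_mem] at this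
  exact this

include H hm hmp in
/-- (a): `B/p^n → C/p^nC` is surjective. -/
theorem exists_sub_mem (c : C) : ∃ b : B, c - ψ.hom b ∈ (p ^ n).map ψ.hom := by
  have hcl := CommRingCat.closure_range_union_range_eq_top_of_isPushout H
  have hc : c ∈ Subring.closure (Set.range ψ ∪ Set.range σ) := by rw [hcl]; trivial
  have hw : ∀ a : A, ψ.hom (α.hom a) = σ.hom (algebraMap A (AdicCompletion m A) a) := fun a =>
    congrArg (fun g => g.hom a) H.w
  induction hc using Subring.closure_induction with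
  | mem x hx =>
    rcases hx with ⟨b, rfl⟩ | ⟨y, rfl⟩
    · exact ⟨b, by
        show ψ.hom b - ψ.hom b ∈ _
        rw [sub_self]; exact Ideal.zero_mem _⟩
    · obtain ⟨a, ha⟩ := Groth.Agent.Lib.Helper76.ComplFacts.exists_sub_mem m hm n y
      refine ⟨α.hom a, ?_⟩
      show σ.hom y - ψ.hom (α.hom a) ∈ _
      rw [hw, ← map_sub]
      -- σ maps (m Â)^n into p^n C
      have h1 : (m.map (algebraMap A (AdicCompletion m A))) ^ n ≤
          ((p ^ n).map ψ.hom).comap σ.hom := by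
        rw [← Ideal.map_le_iff_le_comap, Ideal.map_pow, Ideal.map_pow]
        apply Ideal.pow_right_mono
        rw [Ideal.map_map, Ideal.map_le_iff_le_comap]
        intro a' ha'
        rw [Ideal.mem_comap]
        show σ.hom (algebraMap A (AdicCompletion m A) a') ∈ _
        rw [← hw]
        exact Ideal.mem_map_of_mem _ (hmp a' ha')
      exact h1 ha
  | zero => exact ⟨0, by rw [map_zero, sub_zero]; exact Ideal.zero_mem _⟩
  | one => exact ⟨1, by rw [map_one, sub_self]; exact Ideal.zero_mem _⟩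
  | add x y _ _ hx hy =>
    obtain ⟨b1, h1⟩ := hx
    obtain ⟨b2, h2⟩ := hy
    refine ⟨b1 + b2, ?_⟩
    have : x + y - ψ.hom (b1 + b2) = (x - ψ.hom b1) + (y - ψ.hom b2) := by rw [map_add]; ring
    rw [this]; exact Ideal.add_mem _ h1 h2
  | neg x _ hx =>
    obtain ⟨b1, h1⟩ := hx
    refine ⟨-b1, ?_⟩
    have : -x - ψ.hom (-b1) = -(x - ψ.hom b1) := by rw [map_neg]; ring
    rw [this]; exact Ideal.neg_mem_iff _ |>.2 h1
  | mul x y _ _ hx hy =>
    obtain ⟨b1, h1⟩ := hx
    obtain ⟨b2, h2⟩ := hy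
    refine ⟨b1 * b2, ?_⟩
    have : x * y - ψ.hom (b1 * b2) = (x - ψ.hom b1) * y + ψ.hom b1 * (y - ψ.hom b2) := by
      rw [map_mul]; ring
    rw [this]
    exact Ideal.add_mem _ (Ideal.mul_mem_right _ _ h1) (Ideal.mul_mem_left _ _ h2)

end Groth.Agent.Lib.Helper70.ComplStalk
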