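import Groth.Agent.Lib.Helper70.ComplStalk1
import Groth.Agent.Lib.Helper70.ComplStalk2

set_option autoImplicit false
set_option linter.style.haveILetI false
universe u

namespace Groth.Agent.Lib.Helper70.ComplStalk

open IsLocalRing CategoryTheory CategoryTheory.Limits AlgebraicGeometry

/-- germ compatibility of `appLE` with the stalk map -/
theorem germ_comp_stalkMap_appLE {X Y : Scheme.{u}} (h : Y ⟶ X) {U : X.Opens} {V : Y.Opens}
    (e : V ≤ h ⁻¹ᵁ U) (y : Y) (hy : y ∈ V) :
    X.presheaf.germ U (h y) (e hy) ≫ h.stalkMap y = h.appLE U V e ≫ Y.presheaf.germ V y hy := by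
  rw [Scheme.Hom.germ_stalkMap, Scheme.Hom.appLE, Category.assoc]
  congr 1
  exact (TopCat.Presheaf.germ_res _ _ _ _).symm

theorem stalk_compare (A : Type u) [CommRing A] [IsLocalRing A] (hm : (maximalIdeal A).FG)
    (X : Scheme.{u}) (f : X ⟶ Spec (CommRingCat.of A))
    (g : Spec (CommRingCat.of (AdicCompletion (maximalIdeal A) A)) ⟶ Spec (CommRingCat.of A))
    (hg : g = Spec.map (CommRingCat.ofHom (algebraMap A (AdicCompletion (maximalIdeal A) A))))
    (q : ↥(pullback f g)) (hq : f ((pullback.fst f g) q) = closedPoint A)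
    (n : ℕ) (hn : 1 ≤ n) :
    (maximalIdeal ((pullback f g).presheaf.stalk q) ^ n).comap
        ((pullback.fst f g).stalkMap q).hom ≤
      maximalIdeal (X.presheaf.stalk ((pullback.fst f g) q)) ^ n ∧
    ∀ s : (pullback f g).presheaf.stalk q, ∃ r : X.presheaf.stalk ((pullback.fst f g) q),
      s - ((pullback.fst f g).stalkMap q).hom r ∈
        maximalIdeal ((pullback f g).presheaf.stalk q) ^ n := by
  set fst := pullback.fst f g with hfst
  set snd := pullback.snd f g with hsnd
  set p := fst q with hp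
  obtain ⟨U, hU, hpU, -⟩ := TopologicalSpace.Opens.isBasis_iff_nbhd.mp X.isBasis_affineOpens
    (show p ∈ (⊤ : X.Opens) from trivial)
  have H : IsPullback fst snd f g := IsPullback.of_hasPullback f g
  have hUST : (⊤ : (Spec (CommRingCat.of (AdicCompletion (maximalIdeal A) A))).Opens) ≤
      g ⁻¹ᵁ (⊤ : (Spec (CommRingCat.of A)).Opens) := fun _ _ => trivial
  have hUSX : U ≤ f ⁻¹ᵁ (⊤ : (Spec (CommRingCat.of A)).Opens) := fun _ _ => trivial
  set UY : (pullback f g).Opens := fst ⁻¹ᵁ U ⊓ snd ⁻¹ᵁ ⊤ with hUYdef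
  have hqUY : q ∈ UY := ⟨hpU, trivial⟩
  have hiso := AlgebraicGeometry.isIso_pushoutSection_of_isAffineOpen H hUST hUSX (UY := UY) rfl
    (isAffineOpen_top _) (isAffineOpen_top _) hU
  have hpush := (AlgebraicGeometry.isIso_pushoutSection_iff H hUST hUSX (UY := UY) rfl).1 hiso
  have hUY' : IsAffineOpen UY := by
    have : IsAffine (⊤ : (Spec (CommRingCat.of A)).Opens).toScheme := isAffineOpen_top _
    have : IsAffine
        (⊤ : (Spec (CommRingCat.of (AdicCompletion (maximalIdeal A) A))).Opens).toScheme :=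
      isAffineOpen_top _
    have : IsAffine (Scheme.Opens.toScheme U) := hU
    exact .of_isIso (Scheme.Hom.isPullback_resLE H hUST hUSX (UY := UY) rfl).isoPullback.hom
  -- move the corners of the pushout square to `A` and its completion
  have hpush' : IsPushout ((Scheme.ΓSpecIso (CommRingCat.of A)).inv ≫ f.appLE ⊤ U hUSX)
      (CommRingCat.ofHom (algebraMap A (AdicCompletion (maximalIdeal A) A)))
      (fst.appLE U UY (by simp [UY]))
      ((Scheme.ΓSpecIso (CommRingCat.of (AdicCompletion (maximalIdeal A) A))).inv ≫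
        snd.appLE ⊤ UY (by simp [UY])) := by
    refine IsPushout.of_iso hpush (Scheme.ΓSpecIso (CommRingCat.of A)) (Iso.refl _)
      (Scheme.ΓSpecIso (CommRingCat.of (AdicCompletion (maximalIdeal A) A))) (Iso.refl _)
      ?_ ?_ ?_ ?_
    · simp
    · have h1 : g.appLE ⊤ ⊤ hUST = g.appTop := by
        simp [Scheme.Hom.appLE, Scheme.Hom.appTop]
      rw [h1, hg]
      exact Scheme.ΓSpecIso_naturality _
    · simp
    · simp
  -- algebra structures on the stalks
  letI aBR : Algebra Γ(X, U) (X.presheaf.stalk p) := X.presheaf.algebra_section_stalk ⟨p, hpU⟩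
  haveI lR : IsLocalization.AtPrime (X.presheaf.stalk p) (hU.primeIdealOf ⟨p, hpU⟩).asIdeal :=
    hU.isLocalization_stalk ⟨p, hpU⟩
  letI aCS : Algebra Γ(pullback f g, UY) ((pullback f g).presheaf.stalk q) :=
    (pullback f g).presheaf.algebra_section_stalk ⟨q, hqUY⟩
  haveI lS : IsLocalization.AtPrime ((pullback f g).presheaf.stalk q)
      (hUY'.primeIdealOf ⟨q, hqUY⟩).asIdeal := hUY'.isLocalization_stalk ⟨q, hqUY⟩
  have hφ : (fst.stalkMap q).hom.comp (algebraMap Γ(X, U) (X.presheaf.stalk p)) =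
      (algebraMap Γ(pullback f g, UY) ((pullback f g).presheaf.stalk q)).comp
        (fst.appLE U UY (by simp [UY])).hom := by
    have := germ_comp_stalkMap_appLE fst (U := U) (V := UY) (by simp [UY]) q hqUY
    exact congrArg (fun k => k.hom) this
  have hmp : ∀ a ∈ maximalIdeal A,
      ((Scheme.ΓSpecIso (CommRingCat.of A)).inv ≫ f.appLE ⊤ U hUSX).hom a ∈
        (hU.primeIdealOf ⟨p, hpU⟩).asIdeal := by
    intro a ha
    rw [← IsLocalization.AtPrime.to_map_mem_maximal_iff (X.presheaf.stalk p)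
      (hU.primeIdealOf ⟨p, hpU⟩).asIdeal, IsLocalRing.mem_maximalIdeal, mem_nonunits_iff]
    intro hunit
    have h1 : p ∈ X.basicOpen (((Scheme.ΓSpecIso (CommRingCat.of A)).inv ≫
        f.appLE ⊤ U hUSX).hom a) := (X.mem_basicOpen _ p hpU).2 hunit
    have h2 : ((Scheme.ΓSpecIso (CommRingCat.of A)).inv ≫ f.appLE ⊤ U hUSX).hom a =
        X.presheaf.map (homOfLE hUSX).op
          (f.app ⊤ ((Scheme.ΓSpecIso (CommRingCat.of A)).inv a)) := rfl
    rw [h2, Scheme.basicOpen_res, ← Scheme.preimage_basicOpen, basicOpen_eq_of_affine] at h1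
    have h3 : f p ∈ PrimeSpectrum.basicOpen a := h1.2
    rw [hq] at h3
    exact h3 ha
  have hA := exists_sub_mem A (maximalIdeal A) hm _ _ _ hpush' _ hmp n
  have hB := mem_pow_of_map_mem A (maximalIdeal A) _ _ _ hpush' _ hmp n
  exact quotient_compare (fst.appLE U UY (by simp [UY])).hom (hU.primeIdealOf ⟨p, hpU⟩).asIdeal
    (hUY'.primeIdealOf ⟨q, hqUY⟩).asIdeal (fst.stalkMap q).hom hφ n hn hA hB

end Groth.Agent.Lib.Helper70.ComplStalk
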