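import Mathlib
import Groth.Agent.Lib.Helper45.ContrINT
import Groth.Agent.Lib.Helper95.ContrFIB
import Groth.Agent.Lib.Helper61.ContrISO

/-!
# Inputs of the contraction-uniqueness argument (S7909), collected from the lemmas landed by
helper45 (INT), helper95 (FIB) and helper61 (ISO).
-/

set_option autoImplicit false
universe u
open CategoryTheory CategoryTheory.Limits AlgebraicGeometry

namespace Groth.Agent.Lib.Helper70.ContrStubs

theorem finite_fiber_pullback {S Y₁ Y₂ : Scheme.{u}} (p₁ : Y₁ ⟶ S) (p₂ : Y₂ ⟶ S)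
    [LocallyOfFiniteType p₁] (y₁ : Y₁) (hy₁ : IsClosed ({y₁} : Set Y₁)) (y₂ : Y₂) :
    {z : ↥(pullback p₁ p₂) | (pullback.fst p₁ p₂) z = y₁ ∧ (pullback.snd p₁ p₂) z = y₂}.Finite :=
  Groth.Agent.Lib.Helper95.ContrFIB.finite_fiber_pullback p₁ p₂ y₁ hy₁ y₂

theorem isIntegral_image {X P : Scheme.{u}} [IsIntegral X] (h : X ⟶ P) [QuasiCompact h] :
    IsIntegral h.image :=
  Groth.Agent.Lib.Helper45.ContrINT.isIntegral_image h

theorem isIso_of_isFinite_of_factor {X Z Y : Scheme.{u}} [IsIntegral X] [IsIntegral Z]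
    [IsIntegral Y] (hnor : ∀ y : Y, IsIntegrallyClosed (Y.presheaf.stalk y))
    (t : X ⟶ Z) [IsDominant t] (p : Z ⟶ Y) [IsFinite p] (V : Y.Opens)
    (hV : (V : Set Y).Nonempty) (hiso : IsIso ((t ≫ p) ∣_ V)) : IsIso p :=
  Groth.Agent.Lib.Helper61.ContrISO.isIso_of_isFinite_of_factor hnor t p V hV hiso

end Groth.Agent.Lib.Helper70.ContrStubs
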