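import Mathlib
import Groth.Agent.Lib.Helper70.ContrStubs

set_option autoImplicit false
set_option linter.style.haveILetI false
universe u
open CategoryTheory CategoryTheory.Limits AlgebraicGeometry

namespace Groth.Agent.Lib.Helper70.ContrCore

theorem isIso_restrict_congr {X Y : Scheme.{u}} {f g : X ⟶ Y} (e : f = g) (V : Y.Opens)
    (h : IsIso (f ∣_ V)) : IsIso (g ∣_ V) := by
  subst e; exact h

/-- Existence of the factorisation through a proper birational morphism onto a normal scheme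
with "finite graph fibres". -/
theorem exists_factor {S X Y₁ Y₂ : Scheme.{u}} [IsIntegral X] [IsIntegral Y₁]
    (hnor : ∀ q : Y₁, IsIntegrallyClosed (Y₁.presheaf.stalk q))
    (pX : X ⟶ S) (p₁ : Y₁ ⟶ S) (p₂ : Y₂ ⟶ S) [IsProper pX] [IsSeparated p₁]
    [IsProper p₂]
    (f₁ : X ⟶ Y₁) (f₂ : X ⟶ Y₂) (h₁ : f₁ ≫ p₁ = pX) (h₂ : f₂ ≫ p₂ = pX)
    (V : Y₁.Opens) (hV : (V : Set Y₁).Nonempty) (hiso : IsIso (f₁ ∣_ V))
    (hfin : ∀ y : Y₁,
      ((pullback.lift f₁ f₂ (h₁.trans h₂.symm)).base '' (f₁.base ⁻¹' {y})).Finite) :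
    ∃ g : Y₁ ⟶ Y₂, f₁ ≫ g = f₂ ∧ g ≫ p₂ = p₁ := by
  set h : X ⟶ pullback p₁ p₂ := pullback.lift f₁ f₂ (h₁.trans h₂.symm) with hh
  have hfst : h ≫ pullback.fst p₁ p₂ = f₁ := pullback.lift_fst _ _ _
  have hsnd : h ≫ pullback.snd p₁ p₂ = f₂ := pullback.lift_snd _ _ _
  haveI : IsProper (pullback.fst p₁ p₂) :=
    MorphismProperty.pullback_fst (P := @IsProper) _ _ inferInstance
  haveI : IsProper f₁ := by
    haveI : IsProper (f₁ ≫ p₁) := by rw [h₁]; infer_instance
    exact IsProper.of_comp f₁ p₁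
  haveI : IsProper (h ≫ pullback.fst p₁ p₂) := by rw [hfst]; infer_instance
  haveI : IsProper h := IsProper.of_comp h (pullback.fst p₁ p₂)
  set p : h.image ⟶ Y₁ := h.imageι ≫ pullback.fst p₁ p₂ with hp
  have hloc : ∀ y : Y₁, ∃ U : Y₁.Opens, y ∈ U ∧ IsFinite (p ∣_ U) := by
    intro y
    refine exists_finite_imageι_comp_morphismRestrict_of_finite_image_preimage h
      (pullback.fst p₁ p₂) y ?_
    have : (h ≫ pullback.fst p₁ p₂).base ⁻¹' {y} = f₁.base ⁻¹' {y} := by rw [hfst]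
    rw [this]
    exact hfin y
  haveI : IsFinite p := IsZariskiLocalAtTarget.of_forall_exists_morphismRestrict hloc
  haveI : IsIntegral h.image := Groth.Agent.Lib.Helper70.ContrStubs.isIntegral_image h
  have htp : h.toImage ≫ p = f₁ := by
    rw [hp, Scheme.Hom.toImage_imageι_assoc, hfst]
  haveI : IsIso p :=
    Groth.Agent.Lib.Helper70.ContrStubs.isIso_of_isFinite_of_factor hnor h.toImage p V hV
      (isIso_restrict_congr htp.symm V hiso)
  refine ⟨inv p ≫ h.imageι ≫ pullback.snd p₁ p₂, ?_, ?_⟩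
  · rw [← htp, Category.assoc, IsIso.hom_inv_id_assoc, Scheme.Hom.toImage_imageι_assoc, hsnd]
  · rw [Category.assoc, Category.assoc, ← pullback.condition, IsIso.inv_comp_eq, hp,
      Category.assoc]

end Groth.Agent.Lib.Helper70.ContrCore
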