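import Mathlib
import Groth.Prelude.Def_ArSurf
import Groth.Agent.Lib.Helper70.ContrCore

set_option autoImplicit false
set_option linter.style.haveILetI false
universe u
open CategoryTheory CategoryTheory.Limits AlgebraicGeometry

namespace Groth.Agent.Lib.Helper70.ContrMain

theorem isDominant_of_isIso_restrict {X Y : Scheme.{u}} [IrreducibleSpace Y] (f : X ⟶ Y)
    (V : Y.Opens) (hV : (V : Set Y).Nonempty) (hiso : IsIso (f ∣_ V)) : IsDominant f := by
  refine ⟨(V.isOpen.dense hV).mono ?_⟩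
  intro y hy
  obtain ⟨x, hx⟩ := (f ∣_ V).homeomorph.surjective ⟨y, hy⟩
  refine ⟨x.1, ?_⟩
  have := congrArg Subtype.val hx
  rwa [Scheme.Hom.homeomorph_apply, morphismRestrict_base_coe] at this

theorem cancel_of_dominant {S : Scheme.{u}} (X Y Z : Over S) [IsReduced Y.left]
    [IsSeparated Z.hom] (f : X ⟶ Y) [IsDominant f.left] (a b : Y ⟶ Z) (h : f ≫ a = f ≫ b) :
    a = b := by
  apply Over.OverMorphism.ext
  exact ext_of_isDominant_of_isSeparated Z.hom (by rw [Over.w a, Over.w b]) f.left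
    (by rw [← Over.comp_left, ← Over.comp_left, h])

theorem exists_hom (R : Type u) [CommRing R] [IsDomain R] [IsDiscreteValuationRing R]
    (X Y₁ Y₂ : Over (Spec (CommRingCat.of R))) [IsIntegral X.left] [IsProper X.hom]
    [IsIntegral Y₁.left] [IsProper Y₁.hom] [IsProper Y₂.hom]
    (hnor : ∀ q : Y₁.left, IsIntegrallyClosed (Y₁.left.presheaf.stalk q))
    (hdim : topologicalKrullDim Y₁.left = 2)
    {r : ℕ} (Γ : Fin r → ArSurf.VertComp R X) (f₁ : X ⟶ Y₁) (f₂ : X ⟶ Y₂)
    (hpt₁ : ∀ i, ∃ y : Y₁.left,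
      Set.range (((Γ i).ι ≫ f₁.left).base : (Γ i).curve.left → Y₁.left) = {y})
    (hpre₁ : f₁.left.base ⁻¹' (f₁.left.base '' ⋃ i, Set.range (Γ i).ι.base) =
      ⋃ i, Set.range (Γ i).ι.base)
    (hiso₁ : ∀ V : Y₁.left.Opens,
      (V : Set Y₁.left) ∩ f₁.left.base '' (⋃ i, Set.range (Γ i).ι.base) = ∅ →
        IsIso (f₁.left ∣_ V))
    (hpt₂ : ∀ i, ∃ y : Y₂.left,
      Set.range (((Γ i).ι ≫ f₂.left).base : (Γ i).curve.left → Y₂.left) = {y}) :
    (∃ g : Y₁ ⟶ Y₂, f₁ ≫ g = f₂) ∧ IsDominant f₁.left := by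
  choose y₁ hy₁ using hpt₁
  choose y₂ hy₂ using hpt₂
  have hw : f₁.left ≫ Y₁.hom = X.hom := Over.w f₁
  have hw2 : f₂.left ≫ Y₂.hom = X.hom := Over.w f₂
  haveI : IsProper f₁.left := by
    haveI : IsProper (f₁.left ≫ Y₁.hom) := by rw [hw]; infer_instance
    exact IsProper.of_comp f₁.left Y₁.hom
  set W : Set Y₁.left := f₁.left.base '' ⋃ i, Set.range (Γ i).ι.base with hW
  have hWeq : W = ⋃ i, ({y₁ i} : Set Y₁.left) := by
    rw [hW, Set.image_iUnion]
    refine Set.iUnion_congr fun i => ?_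
    rw [← hy₁ i]
    ext z
    constructor
    · rintro ⟨_, ⟨c, rfl⟩, rfl⟩
      exact ⟨c, rfl⟩
    · rintro ⟨c, rfl⟩
      exact ⟨_, ⟨c, rfl⟩, rfl⟩
  have hcl : ∀ i, IsClosed ({y₁ i} : Set Y₁.left) := by
    intro i
    rw [← hy₁ i]
    exact ((Γ i).ι ≫ f₁.left).isClosedMap.isClosed_range
  have hWcl : IsClosed W := by rw [hWeq]; exact isClosed_iUnion_of_finite hcl
  let V : Y₁.left.Opens := ⟨Wᶜ, hWcl.isOpen_compl⟩
  have hVW : (V : Set Y₁.left) ∩ W = ∅ := Set.compl_inter_self W
  have hisoV : IsIso (f₁.left ∣_ V) := hiso₁ V hVW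
  have hVne : (V : Set Y₁.left).Nonempty := by
    refine ⟨genericPoint Y₁.left, ?_⟩
    intro hmem
    rw [hWeq] at hmem
    obtain ⟨i, hi⟩ := Set.mem_iUnion.mp hmem
    have hi' : genericPoint Y₁.left = y₁ i := hi
    have hclη : IsClosed ({genericPoint Y₁.left} : Set Y₁.left) := hi' ▸ hcl i
    have huniv : ({genericPoint Y₁.left} : Set Y₁.left) = Set.univ := by
      have h0 := (genericPoint_spec Y₁.left)
      rw [← hclη.closure_eq]
      exact h0
    haveI : Subsingleton Y₁.left := ⟨fun a b => by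
      have ha : a ∈ ({genericPoint Y₁.left} : Set _) := huniv ▸ Set.mem_univ a
      have hb : b ∈ ({genericPoint Y₁.left} : Set _) := huniv ▸ Set.mem_univ b
      rw [Set.mem_singleton_iff] at ha hb
      rw [ha, hb]⟩
    haveI : Subsingleton (TopologicalSpace.IrreducibleCloseds Y₁.left) := ⟨fun s t => by
      apply TopologicalSpace.IrreducibleCloseds.ext
      ext x
      obtain ⟨a, ha⟩ := s.isIrreducible.nonempty
      obtain ⟨b, hb⟩ := t.isIrreducible.nonempty
      constructor
      · intro _; rw [Subsingleton.elim x b]; exact hb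
      · intro _; rw [Subsingleton.elim x a]; exact ha⟩
    have hle : topologicalKrullDim Y₁.left ≤ 0 := Order.krullDim_nonpos_of_subsingleton
    rw [hdim] at hle
    exact absurd hle (by norm_num)
  set h := pullback.lift f₁.left f₂.left (hw.trans hw2.symm) with hh
  have e1 : h ≫ pullback.fst Y₁.hom Y₂.hom = f₁.left := pullback.lift_fst _ _ _
  have e2 : h ≫ pullback.snd Y₁.hom Y₂.hom = f₂.left := pullback.lift_snd _ _ _
  have hfin : ∀ y : Y₁.left, (h.base '' (f₁.left.base ⁻¹' {y})).Finite := by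
    intro y
    by_cases hy : y ∈ W
    · have hsub : f₁.left.base ⁻¹' {y} ⊆ ⋃ i, Set.range (Γ i).ι.base := by
        rw [← hpre₁]
        intro x hx
        have hx' : f₁.left.base x = y := hx
        show f₁.left.base x ∈ W
        rw [hx']; exact hy
      refine Set.Finite.subset (Set.finite_iUnion fun i =>
        Groth.Agent.Lib.Helper70.ContrStubs.finite_fiber_pullback Y₁.hom Y₂.hom (y₁ i) (hcl i)
          (y₂ i)) ?_
      rintro _ ⟨x, hx, rfl⟩
      obtain ⟨i, c, rfl⟩ := Set.mem_iUnion.mp (hsub hx)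
      refine Set.mem_iUnion.mpr ⟨i, ?_, ?_⟩
      · have hz : (pullback.fst Y₁.hom Y₂.hom).base (h.base ((Γ i).ι.base c)) =
            f₁.left.base ((Γ i).ι.base c) := by rw [← e1]; rfl
        have hm : f₁.left.base ((Γ i).ι.base c) ∈
            Set.range (((Γ i).ι ≫ f₁.left).base : (Γ i).curve.left → Y₁.left) := ⟨c, rfl⟩
        rw [hy₁ i] at hm
        exact hz.trans hm
      · have hz : (pullback.snd Y₁.hom Y₂.hom).base (h.base ((Γ i).ι.base c)) =
            f₂.left.base ((Γ i).ι.base c) := by rw [← e2]; rfl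
        have hm : f₂.left.base ((Γ i).ι.base c) ∈
            Set.range (((Γ i).ι ≫ f₂.left).base : (Γ i).curve.left → Y₂.left) := ⟨c, rfl⟩
        rw [hy₂ i] at hm
        exact hz.trans hm
    · have hsub : (f₁.left.base ⁻¹' {y}).Subsingleton := by
        intro a ha b hb
        have ha' : f₁.left.base a = y := ha
        have hb' : f₁.left.base b = y := hb
        have haV : a ∈ f₁.left ⁻¹ᵁ V := by
          show f₁.left.base a ∈ Wᶜ
          rw [ha']; exact hy
        have hbV : b ∈ f₁.left ⁻¹ᵁ V := by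
          show f₁.left.base b ∈ Wᶜ
          rw [hb']; exact hy
        have hinj := (f₁.left ∣_ V).homeomorph.injective
        have := @hinj ⟨a, haV⟩ ⟨b, hbV⟩ (Subtype.ext (by
          rw [Scheme.Hom.homeomorph_apply, Scheme.Hom.homeomorph_apply,
            morphismRestrict_base_coe, morphismRestrict_base_coe]
          exact ha'.trans hb'.symm))
        exact congrArg Subtype.val this
      exact (hsub.image _).finite
  obtain ⟨g, hg1, hg2⟩ := Groth.Agent.Lib.Helper70.ContrCore.exists_factor hnor X.hom Y₁.hom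
    Y₂.hom f₁.left f₂.left hw hw2 V hVne hisoV hfin
  refine ⟨⟨Over.homMk g hg2, ?_⟩, isDominant_of_isIso_restrict f₁.left V hVne hisoV⟩
  apply Over.OverMorphism.ext
  simpa using hg1

end Groth.Agent.Lib.Helper70.ContrMain
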