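import Mathlib
import Groth.Agent.Lib.Helper97.ArtinCot.LocalCot

/-!
# Local algebra at a closed point of a smooth curve (helper70)

* `nonempty_linearEquiv_kaehler`: if `B` is the localization at a prime of a `k`-algebra `D` which is
  standard smooth of relative dimension one, then `Ω[B⁄k]` is free of rank one.
* `essFiniteType_of_chart`.
* `bijective_smul_D` (core of S6555): `B` local, essentially of finite type over the field `k`,
  `Ω[B⁄k]` free of rank one, `κ(B)/k` separable, `s` irreducible ⟹ `a ↦ a • d s` is bijective.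
* `isSeparable_of_ramified` (core of S16548): `A → B` local homomorphism of local `k`-algebras, `B`
  essentially of finite type over `k`, not a field, `Ω[B⁄k]` free of rank one, `κ(B)/κ(A)` separable and
  `𝔪_A B = 𝔪_B ^ e` with `e ≥ 2` ⟹ `κ(B)/k` separable.
-/

set_option autoImplicit false
set_option linter.style.haveILetI false

namespace Groth.Agent.Lib.Helper70.CurvePtAlg

open IsLocalRing TensorProduct KaehlerDifferential
open Groth.Agent.Lib.Helper97.ArtinCot

universe u

section Chart

variable {k D B : Type u} [Field k] [CommRing D] [CommRing B] [Algebra k D] [Algebra k B]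
  [Algebra D B] [IsScalarTower k D B]

theorem nonempty_linearEquiv_kaehler (q : Ideal D) [q.IsPrime] [IsLocalization.AtPrime B q]
    [Algebra.IsStandardSmoothOfRelativeDimension 1 k D] : Nonempty (B ≃ₗ[B] Ω[B⁄k]) := by
  haveI : Nontrivial D :=
    ⟨⟨0, 1, fun h => (‹q.IsPrime›.ne_top) ((Ideal.eq_top_iff_one q).2 (h ▸ q.zero_mem))⟩⟩
  haveI : Algebra.IsStandardSmooth k D :=
    Algebra.IsStandardSmoothOfRelativeDimension.isStandardSmooth 1
  haveI : Algebra.FormallyEtale D B :=
    Algebra.FormallyEtale.of_isLocalization (Rₘ := B) q.primeCompl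
  have hbc : IsBaseChange B (KaehlerDifferential.map k k D B) :=
    KaehlerDifferential.isBaseChange_of_formallyEtale k D B
  have hrank : Module.rank D Ω[D⁄k] = 1 := by
    simpa using
      Algebra.IsStandardSmoothOfRelativeDimension.rank_kaehlerDifferential (R := k) (S := D) 1
  obtain ⟨e₀⟩ := (Module.nonempty_linearEquiv_iff_rank_eq_one (R := D) (M := Ω[D⁄k])).2 hrank
  let e₁ : B ⊗[D] D ≃ₗ[B] B ⊗[D] Ω[D⁄k] :=
    TensorProduct.AlgebraTensorModule.congr (LinearEquiv.refl B B) e₀
  let e₂ : B ⊗[D] D ≃ₗ[B] B := TensorProduct.AlgebraTensorModule.rid D B B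
  exact ⟨e₂.symm.trans (e₁.trans hbc.equiv)⟩

theorem essFiniteType_of_chart (q : Ideal D) [q.IsPrime] [IsLocalization.AtPrime B q]
    [Algebra.FiniteType k D] : Algebra.EssFiniteType k B := by
  haveI : Algebra.EssFiniteType D B := Algebra.EssFiniteType.of_isLocalization B q.primeCompl
  exact Algebra.EssFiniteType.comp k D B

end Chart

section Local

variable {B : Type u} [CommRing B] [IsLocalRing B]

theorem isUnit_symm_of_one_tmul_ne_zero {M : Type*} [AddCommGroup M] [Module B M]
    (e : B ≃ₗ[B] M) (ω : M) (h : (1 : ResidueField B) ⊗ₜ[B] ω ≠ 0) : IsUnit (e.symm ω) := by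
  by_contra hnu
  apply h
  have hmem : e.symm ω ∈ maximalIdeal B := hnu
  have hω : ω = (e.symm ω) • e 1 := by
    rw [← map_smul, smul_eq_mul, mul_one, LinearEquiv.apply_symm_apply]
  rw [hω, ← TensorProduct.smul_tmul, Algebra.smul_def, mul_one, ResidueField.algebraMap_eq,
    (residue_eq_zero_iff _).2 hmem, TensorProduct.zero_tmul]

theorem bijective_smul_of_one_tmul_ne_zero {M : Type*} [AddCommGroup M] [Module B M]
    (e : B ≃ₗ[B] M) (ω : M) (h : (1 : ResidueField B) ⊗ₜ[B] ω ≠ 0) :
    Function.Bijective (fun a : B => a • ω) := by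
  have hc := isUnit_symm_of_one_tmul_ne_zero e ω h
  have hfun : (fun a : B => a • ω) = e ∘ (fun a => a * e.symm ω) := by
    funext a
    simp only [Function.comp_apply]
    rw [← smul_eq_mul, map_smul, LinearEquiv.apply_symm_apply]
  rw [hfun]
  exact e.bijective.comp (IsUnit.isUnit_iff_mulRight_bijective.1 hc)

end Local

section Sep

variable {k B : Type u} [Field k] [CommRing B] [IsLocalRing B] [Algebra k B]

theorem one_tmul_D_ne_zero_of_notMem_sq [Algebra.FormallySmooth k (ResidueField B)] {s : B}
    (hs : s ∈ maximalIdeal B) (hs2 : s ∉ maximalIdeal B ^ 2) :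
    (1 : ResidueField B) ⊗ₜ[B] D k B s ≠ 0 := by
  intro h0
  have h1 : cotToTensor k B ((maximalIdeal B).toCotangent ⟨s, hs⟩) = 0 := by
    rw [cotToTensor_toCotangent]; exact h0
  have h2 := (cotToTensor_injective k B) (h1.trans (map_zero _).symm)
  rw [Ideal.toCotangent_eq_zero] at h2
  exact hs2 h2

theorem finrank_tensor_eq_one (e : B ≃ₗ[B] Ω[B⁄k]) :
    Module.finrank (ResidueField B) (ResidueField B ⊗[B] Ω[B⁄k]) = 1 := by
  let e₁ : ResidueField B ⊗[B] B ≃ₗ[ResidueField B] ResidueField B ⊗[B] Ω[B⁄k] :=
    TensorProduct.AlgebraTensorModule.congr (LinearEquiv.refl _ _) e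
  let e₂ : ResidueField B ⊗[B] B ≃ₗ[ResidueField B] ResidueField B :=
    TensorProduct.AlgebraTensorModule.rid B (ResidueField B) (ResidueField B)
  rw [← e₁.finrank_eq, e₂.finrank_eq, Module.finrank_self]

theorem bijective_smul_D [Algebra.EssFiniteType k B] [Algebra.IsSeparable k (ResidueField B)]
    (e : B ≃ₗ[B] Ω[B⁄k]) (s : B) (hs : Irreducible s) :
    Function.Bijective (fun a : B => a • D k B s) := by
  haveI : IsNoetherianRing B := Algebra.EssFiniteType.isNoetherianRing k B
  haveI : Algebra.FormallyEtale k (ResidueField B) := Algebra.FormallyEtale.of_isSeparable k _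
  haveI : Algebra.FormallySmooth k (ResidueField B) := inferInstance
  haveI : Algebra.FormallyUnramified k (ResidueField B) := inferInstance
  apply bijective_smul_of_one_tmul_ne_zero e
  have hsm : s ∈ maximalIdeal B := hs.not_isUnit
  apply one_tmul_D_ne_zero_of_notMem_sq hsm
  intro hs2
  have hker : LinearMap.ker (mapBaseChange k B (ResidueField B)) = ⊤ := by
    rw [eq_top_iff]
    intro w _
    exact Subsingleton.elim _ _
  have hfr : Module.finrank (ResidueField B) (CotangentSpace B) = 1 := by
    rw [← finrank_ker_mapBaseChange k B, hker, finrank_top, finrank_tensor_eq_one e]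
  obtain ⟨t, ht⟩ := (finrank_cotangentSpace_le_one_iff.1 hfr.le).principal
  have ht' : maximalIdeal B = Ideal.span {t} := ht
  have htm : t ∈ maximalIdeal B := ht' ▸ Ideal.mem_span_singleton_self t
  rw [ht', Ideal.span_singleton_pow, Ideal.mem_span_singleton] at hs2
  obtain ⟨c, hc⟩ := hs2
  rcases hs.isUnit_or_isUnit (a := t) (b := t * c) (by rw [hc]; ring) with h | h
  · exact htm h
  · exact (Ideal.mul_mem_right c _ htm) h

end Sep

section Ram

variable {k A B : Type u} [Field k] [CommRing A] [CommRing B] [IsLocalRing A] [IsLocalRing B]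
  [Algebra k A] [Algebra k B] [Algebra A B] [IsScalarTower k A B] [IsLocalHom (algebraMap A B)]

theorem isSeparable_of_ramified [Algebra.EssFiniteType k B] (eΩ : B ≃ₗ[B] Ω[B⁄k])
    (hnf : maximalIdeal B ≠ ⊥)
    [Algebra.IsSeparable (ResidueField A) (ResidueField B)]
    (e : ℕ) (h2 : 2 ≤ e) (he : (maximalIdeal A).map (algebraMap A B) = maximalIdeal B ^ e) :
    Algebra.IsSeparable k (ResidueField B) := by
  by_contra hns
  haveI : IsNoetherianRing B := Algebra.EssFiniteType.isNoetherianRing k B
  haveI : Algebra.FiniteType B (ResidueField B) :=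
    Algebra.FiniteType.of_surjective (Algebra.ofId B (ResidueField B))
      (by intro x; obtain ⟨b, rfl⟩ := residue_surjective x; exact ⟨b, rfl⟩)
  haveI : Algebra.EssFiniteType k (ResidueField B) := Algebra.EssFiniteType.comp k B _
  have hnt : Nontrivial Ω[ResidueField B⁄k] := by
    by_contra hsub
    rw [not_nontrivial_iff_subsingleton] at hsub
    haveI : Algebra.FormallyUnramified k (ResidueField B) := ⟨hsub⟩
    exact hns (Algebra.FormallyUnramified.isSeparable k (ResidueField B))
  haveI : Algebra.FormallyUnramified (ResidueField A) (ResidueField B) :=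
    Algebra.FormallyUnramified.of_isSeparable _ _
  haveI : Algebra.FormallyUnramified A (ResidueField B) :=
    Algebra.FormallyUnramified.comp A (ResidueField A) (ResidueField B)
  have hsurj : Function.Surjective (mapBaseChange k A (ResidueField B)) := by
    intro w
    have : map k A (ResidueField B) (ResidueField B) w = 0 := Subsingleton.elim _ _
    exact (exact_mapBaseChange_map k A (ResidueField B) w).1 this
  obtain ⟨a₀, ha₀⟩ : ∃ a₀ : A, D k (ResidueField B) (algebraMap A (ResidueField B) a₀) ≠ 0 := by
    by_contra hall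
    push Not at hall
    have hmap : map k k A (ResidueField B) = 0 := by
      apply Derivation.liftKaehlerDifferential_unique
      ext a
      simp [hall]
    have hzero : ∀ v, mapBaseChange k A (ResidueField B) v = 0 := by
      intro v
      induction v using TensorProduct.induction_on with
      | zero => simp
      | tmul c y => rw [mapBaseChange_tmul, hmap]; simp
      | add x y hx hy => rw [map_add, hx, hy, add_zero]
    obtain ⟨w, hw⟩ := exists_ne (0 : Ω[ResidueField B⁄k])
    obtain ⟨v, rfl⟩ := hsurj w
    exact hw (hzero v)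
  have h1 : (1 : ResidueField B) ⊗ₜ[B] D k B (algebraMap A B a₀) ≠ 0 := by
    intro h0
    apply ha₀
    have := congrArg (mapBaseChange k B (ResidueField B)) h0
    rw [mapBaseChange_tmul, map_zero, one_smul, map_D] at this
    rw [IsScalarTower.algebraMap_apply A B (ResidueField B)]
    exact this
  have hc := isUnit_symm_of_one_tmul_ne_zero eΩ _ h1
  haveI : Algebra.FormallyUnramified A B := by
    constructor
    refine ⟨fun y₁ y₂ => ?_⟩
    have hz : ∀ y : Ω[B⁄A], y = 0 := by
      intro y
      obtain ⟨z, rfl⟩ := KaehlerDifferential.map_surjective k A B y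
      obtain ⟨u, hu⟩ := hc
      have hz' : z = (eΩ.symm z * ↑u⁻¹) • D k B (algebraMap A B a₀) := by
        apply eΩ.symm.injective
        rw [map_smul, ← hu, smul_eq_mul, mul_assoc, Units.inv_mul, mul_one]
      rw [hz', map_smul, map_D]
      simp
    rw [hz y₁, hz y₂]
  haveI : Algebra.EssFiniteType A B := Algebra.EssFiniteType.of_comp k A B
  have hmax := Algebra.FormallyUnramified.map_maximalIdeal (R := A) (S := B)
  rw [he] at hmax
  apply hnf
  apply Submodule.eq_bot_of_le_smul_of_le_jacobson_bot (maximalIdeal B) (maximalIdeal B)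
    (IsNoetherian.noetherian _)
  · rw [smul_eq_mul, ← sq]
    calc maximalIdeal B = maximalIdeal B ^ e := hmax.symm
      _ ≤ maximalIdeal B ^ 2 := Ideal.pow_le_pow_right h2
  · rw [IsLocalRing.jacobson_eq_maximalIdeal ⊥ bot_ne_top]

end Ram

end Groth.Agent.Lib.Helper70.CurvePtAlg
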