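import Mathlib
import Groth.Agent.Lib.Helper59.SmoothDimMain

/-!
# A closed point of a smooth curve is not a generic point (helper70)

`maximalIdeal_ne_bot`: the localization of a standard smooth `k`-algebra of relative dimension one at
a maximal ideal is not a field (its dimension is one).
-/

set_option autoImplicit false
set_option linter.style.haveILetI false

universe u

namespace Groth.Agent.Lib.Helper70.CurvePtDim

theorem height_eq_one {k D : Type u} [Field k] [CommRing D] [Algebra k D]
    (q : Ideal D) [hq : q.IsMaximal]
    [Algebra.IsStandardSmoothOfRelativeDimension 1 k D] : q.height = 1 := by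
  haveI : Algebra.IsStandardSmooth k D :=
    Algebra.IsStandardSmoothOfRelativeDimension.isStandardSmooth 1
  haveI : Algebra.FiniteType k D := inferInstance
  let y : PrimeSpectrum D := ⟨q, inferInstance⟩
  have h1 := Groth.Agent.Lib.Helper59.SmoothDimMain.localDim_stdSmooth (k := k) 1 y
  rw [Groth.Agent.Lib.Helper73.localDim_primeSpectrum_eq k y,
    Groth.Agent.Lib.Helper73.quotDim_eq_zero_of_isMaximal k y hq] at h1
  have h2 : (q.height + ((0 : ℕ) : ℕ∞) : ℕ∞) = ((1 : ℕ) : ℕ∞) := by exact_mod_cast h1
  simpa using h2

theorem maximalIdeal_ne_bot {k D B : Type u} [Field k] [CommRing D] [CommRing B] [IsLocalRing B]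
    [Algebra k D] [Algebra D B] (q : Ideal D) [hq : q.IsMaximal] [IsLocalization.AtPrime B q]
    [Algebra.IsStandardSmoothOfRelativeDimension 1 k D] : IsLocalRing.maximalIdeal B ≠ ⊥ := by
  intro hbot
  have hfield : IsField B := IsLocalRing.isField_iff_maximalIdeal_eq.2 hbot
  have hht := height_eq_one (k := k) q
  have hdim : ringKrullDim B = q.height := IsLocalization.AtPrime.ringKrullDim_eq_height q B
  rw [ringKrullDim_eq_zero_of_isField hfield, hht] at hdim
  have : (0 : ℕ∞) = 1 := by exact_mod_cast hdim
  exact zero_ne_one this

end Groth.Agent.Lib.Helper70.CurvePtDim
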