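import Mathlib
import Groth.Prelude.Def_CurvBase

/-!
# Standard smooth chart at a point of a curve over a field (helper70)

`exists_chart`: for a `k`-scheme `X`, a point `x` and an open `U ∋ x` which is smooth of relative
dimension one over `k`, the local ring `O_{X,x}` (with the `k`-algebra structure `Curv2.stalkAlgebra`)
is the localization at a prime `q` of a `k`-algebra `D` which is standard smooth of relative
dimension one over `k`; the prime `q` is maximal if `x` is a closed point.
-/

set_option autoImplicit false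
set_option linter.style.haveILetI false

universe u

open CategoryTheory CategoryTheory.Limits AlgebraicGeometry

namespace Groth.Agent.Lib.Helper70.CurvePtSch

set_option backward.isDefEq.respectTransparency.types false in
theorem exists_chart (k : Type u) [Field k] (X : Scheme.{u}) [X.Over (Spec (CommRingCat.of k))]
    (x : X) (U : X.Opens) (hxU : x ∈ U)
    (hsm : SmoothOfRelativeDimension 1 (U.ι ≫ (X ↘ Spec (CommRingCat.of k)))) :
    letI := Curv2.stalkAlgebra k X x
    ∃ (D : Type u) (_ : CommRing D) (_ : Algebra k D) (_ : Algebra D (X.presheaf.stalk x))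
      (_ : IsScalarTower k D (X.presheaf.stalk x))
      (_ : Algebra.IsStandardSmoothOfRelativeDimension 1 k D)
      (q : Ideal D) (_ : q.IsPrime), IsLocalization.AtPrime (X.presheaf.stalk x) q ∧
        (IsClosed ({x} : Set X) → q.IsMaximal) := by
  classical
  letI algB := Curv2.stalkAlgebra k X x
  let p : X ⟶ Spec (CommRingCat.of k) := X ↘ Spec (CommRingCat.of k)
  let g : (U : Scheme.{u}) ⟶ Spec (CommRingCat.of k) := U.ι ≫ p
  let x' : (U : Scheme.{u}) := ⟨x, hxU⟩
  obtain ⟨U', hU', V, hV, hx'V, e, hstd⟩ := hsm.exists_isStandardSmoothOfRelativeDimension x'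
  obtain rfl : U' = ⊤ := by
    refine top_unique fun y _ => ?_
    have hy : y = g x' := Subsingleton.elim _ _
    rw [hy]
    exact e hx'V
  let V' : X.Opens := U.ι ''ᵁ V
  have hV' : IsAffineOpen V' := hV.image_of_isOpenImmersion U.ι
  have hxV' : x ∈ V' := ⟨x', hx'V, rfl⟩
  let ψ : Γ(Spec (CommRingCat.of k), ⊤) →+* Γ(X, V') := (g.appLE ⊤ V e).hom
  have hψ : ψ.IsStandardSmoothOfRelativeDimension 1 := hstd
  let ε : k ≃+* Γ(Spec (CommRingCat.of k), ⊤) :=
    (Scheme.ΓSpecIso (CommRingCat.of k)).symm.commRingCatIsoToRingEquiv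
  let φ : k →+* Γ(X, V') := ψ.comp ε.toRingHom
  have hφ : φ.IsStandardSmoothOfRelativeDimension 1 :=
    (RingHom.isStandardSmoothOfRelativeDimension_respectsIso (n := 1)).2 ψ ε hψ
  letI algD : Algebra k Γ(X, V') := φ.toAlgebra
  letI algDB : Algebra Γ(X, V') (X.presheaf.stalk x) :=
    X.presheaf.algebra_section_stalk ⟨x, hxV'⟩
  have hcomp : g.appLE ⊤ V e ≫ X.presheaf.germ (U.ι ''ᵁ V) x hxV' =
      p.appTop ≫ X.presheaf.germ ⊤ x trivial := by
    rw [Scheme.Hom.comp_appLE, Scheme.Opens.ι_appLE, Category.assoc]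
    erw [TopCat.Presheaf.germ_res]
    rfl
  have htower : IsScalarTower k Γ(X, V') (X.presheaf.stalk x) := by
    refine IsScalarTower.of_algebraMap_eq fun r => ?_
    have h := congrArg (fun f => f.hom ((Scheme.ΓSpecIso (CommRingCat.of k)).inv.hom r)) hcomp
    exact h.symm
  have hstdD : Algebra.IsStandardSmoothOfRelativeDimension 1 k Γ(X, V') :=
    (RingHom.isStandardSmoothOfRelativeDimension_algebraMap (n := 1)).1 hφ
  refine ⟨Γ(X, V'), inferInstance, algD, algDB, htower, hstdD,
    (hV'.primeIdealOf ⟨x, hxV'⟩).asIdeal, inferInstance, hV'.isLocalization_stalk ⟨x, hxV'⟩, ?_⟩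
  intro hcl
  exact hV'.primeIdealOf_isMaximal_of_isClosed ⟨x, hxV'⟩ hcl

end Groth.Agent.Lib.Helper70.CurvePtSch
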