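import Groth.Agent.Lib.Helper70.SymPow2
import Groth.Agent.S3806

/-!
# Base change of differential smoothness (helper70)

* `sym_free_projective`, `sym_projective`: symmetric powers of free / projective modules are projective.
* `jN : I^N/I^(N+1) → P^N`, `piN : P^N → (B ⊗ B)/I^N`: the exact sequence of principal parts.
* `proj_all`: if `B/A` is differentially smooth, all `(B ⊗ B)/I^N` are projective `B`-modules;
  `exists_u`: a `B`-linear retraction `P^N → Sym^N Ω` of the canonical map.
* `multilinear_eq_of_span`, `sym_hom_ext_of_span`: extensionality over a spanning set.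
* `span_D_algebraMap`, `projective'`, `cMap`, `main`: differential smoothness is stable under base change.
-/

set_option autoImplicit false
set_option linter.unusedSectionVars false
universe u v w
open scoped TensorProduct

namespace Groth.Agent.Lib.Helper70.DiffSmoothBC

open Groth.Agent.Lib.Helper70 Groth.Agent.Lib.Helper70.CanonSym
open Groth.Agent.Lib.Helper70.DiffSmoothChar0 (cntS Q rep cnt_rep)
open Groth.Agent.Lib.Helper23 (gen gen_mem)
open PP16

section symproj

variable {R : Type u} [CommRing R] {M : Type v} [AddCommGroup M] [Module R M]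
  {J : Type u} (e : Module.Basis J R M) (ι' : Type u) [Fintype ι']

include e in
theorem sym_free_projective : Module.Projective R (SymmetricPower R ι' M) := by
  classical
  have hli : LinearIndependent R (SymPow2.monoS e ι') := by
    apply LinearIndependent.of_comp (SymPow.toPoly e)
    have h : (SymPow.toPoly e ∘ SymPow2.monoS e ι') =
        (MvPolynomial.basisMonomials J R) ∘ (fun q : Q J ι' => SymPow2.expo ι' (rep ι' q)) := by
      funext q
      simp only [Function.comp_apply, SymPow2.toPoly_monoS, MvPolynomial.coe_basisMonomials]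
    rw [h]
    exact (MvPolynomial.basisMonomials J R).linearIndependent.comp _ (SymPow2.expo_rep_injective ι')
  have hsp : ⊤ ≤ Submodule.span R (Set.range (SymPow2.monoS e ι')) := (SymPow2.span_monoS e ι').ge
  exact Module.Projective.of_basis (Module.Basis.mk hli hsp)

end symproj

section symproj2

variable {R : Type u} [CommRing R] {M : Type u} [AddCommGroup M] [Module R M]
  (ι' : Type u) [Fintype ι']

theorem sym_projective [hM : Module.Projective R M] : Module.Projective R (SymmetricPower R ι' M) := by
  obtain ⟨s, hs⟩ := Module.projective_def'.mp hM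
  have : Module.Projective R (SymmetricPower R ι' (M →₀ R)) :=
    sym_free_projective (Finsupp.basisSingleOne (R := R) (ι := M)) ι'
  refine Module.Projective.of_split (SymPow2.map (ι := ι') s)
    (SymPow2.map (ι := ι') (Finsupp.linearCombination R id)) ?_
  apply SymPow2.hom_ext
  intro m
  rw [LinearMap.comp_apply, SymPow2.map_tprod, SymPow2.map_tprod, LinearMap.id_apply]
  congr 1
  funext i
  exact LinearMap.congr_fun hs (m i)

end symproj2


section exact

variable (A B : Type u) [CommRing A] [CommRing B] [Algebra A B]

/-- `I^N/I^(N+1) → P^N`. -/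
noncomputable def jN (N : ℕ) : grI A B N →ₗ[B] P N A B :=
  Submodule.liftQ _
    ((Ideal.Quotient.mkₐ B (KaehlerDifferential.ideal A B ^ (N + 1))).toLinearMap ∘ₗ
      ((KaehlerDifferential.ideal A B ^ N).restrictScalars B).subtype) (by
    intro x hx
    rw [Submodule.mem_comap] at hx
    rw [LinearMap.mem_ker, LinearMap.comp_apply]
    exact Ideal.Quotient.eq_zero_iff_mem.mpr hx)

theorem jN_mk (N : ℕ) (x : ((KaehlerDifferential.ideal A B ^ N).restrictScalars B)) :
    jN A B N (Submodule.Quotient.mk x) = Ideal.Quotient.mk _ (x : B ⊗[A] B) := rfl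

theorem jN_injective (N : ℕ) : Function.Injective (jN A B N) := by
  rw [← LinearMap.ker_eq_bot, LinearMap.ker_eq_bot']
  intro x hx
  obtain ⟨y, rfl⟩ := Submodule.Quotient.mk_surjective _ x
  rw [jN_mk, Ideal.Quotient.eq_zero_iff_mem] at hx
  rw [Submodule.Quotient.mk_eq_zero]
  exact hx

theorem jN_zetaProd {ι : Type u} [Fintype ι] (b : ι → B) :
    jN A B (Fintype.card ι) (zetaProd A B b) = Ideal.Quotient.mk _ (∏ i, gen A (b i)) := rfl

/-- `P^N → (B ⊗ B)/I^N`. -/
noncomputable def piN (N : ℕ) : P N A B →ₗ[B] (B ⊗[A] B) ⧸ KaehlerDifferential.ideal A B ^ N :=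
  (Ideal.Quotient.factorₐ B (Ideal.pow_le_pow_right (Nat.le_succ N))).toLinearMap

theorem piN_mk (N : ℕ) (t : B ⊗[A] B) :
    piN A B N (Ideal.Quotient.mk _ t) = Ideal.Quotient.mk _ t := rfl

theorem piN_surjective (N : ℕ) : Function.Surjective (piN A B N) := by
  intro y
  obtain ⟨t, rfl⟩ := Ideal.Quotient.mk_surjective y
  exact ⟨Ideal.Quotient.mk _ t, rfl⟩

theorem piN_jN (N : ℕ) (x : grI A B N) : piN A B N (jN A B N x) = 0 := by
  obtain ⟨y, rfl⟩ := Submodule.Quotient.mk_surjective _ x
  rw [jN_mk, piN_mk, Ideal.Quotient.eq_zero_iff_mem]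
  exact y.2

theorem exists_of_piN_eq_zero (N : ℕ) (p : P N A B) (hp : piN A B N p = 0) :
    ∃ x, jN A B N x = p := by
  obtain ⟨t, rfl⟩ := Ideal.Quotient.mk_surjective p
  have ht : t ∈ KaehlerDifferential.ideal A B ^ N := Ideal.Quotient.eq_zero_iff_mem.mp hp
  exact ⟨Submodule.Quotient.mk ⟨t, ht⟩, rfl⟩

end exact

section induction

variable (A B : Type u) [CommRing A] [CommRing B] [Algebra A B]

theorem step (h : IsDiffSmooth A B) (ι : Type u) [Fintype ι]
    (hp : Module.Projective B ((B ⊗[A] B) ⧸ KaehlerDifferential.ideal A B ^ (Fintype.card ι))) :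
    Module.Projective B ((B ⊗[A] B) ⧸ KaehlerDifferential.ideal A B ^ (Fintype.card ι + 1)) ∧
      ∃ u : P (Fintype.card ι) A B →ₗ[B] SymmetricPower B ι (KaehlerDifferential A B),
        ∀ b : ι → B, u (Ideal.Quotient.mk _ (∏ i, gen A (b i))) =
          SymmetricPower.tprod B (fun i => KaehlerDifferential.D A B (b i)) := by
  obtain ⟨hΩ, hφ⟩ := h
  obtain ⟨φ, hφD, hφb⟩ := hφ ι
  obtain ⟨s, hs⟩ := Module.projective_lifting_property (piN A B (Fintype.card ι)) LinearMap.id
    (piN_surjective A B _)
  set k : SymmetricPower B ι (KaehlerDifferential A B) →ₗ[B] P (Fintype.card ι) A B :=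
    jN A B (Fintype.card ι) ∘ₗ φ with hk
  have hkinj : Function.Injective k := (jN_injective A B _).comp hφb.1
  set w : P (Fintype.card ι) A B →ₗ[B] P (Fintype.card ι) A B :=
    LinearMap.id - s ∘ₗ piN A B (Fintype.card ι) with hw
  have hmem : ∀ p, w p ∈ LinearMap.range k := by
    intro p
    have h0 : piN A B (Fintype.card ι) (w p) = 0 := by
      rw [hw, LinearMap.sub_apply, map_sub, LinearMap.id_apply, LinearMap.comp_apply]
      have := LinearMap.congr_fun hs (piN A B (Fintype.card ι) p)
      rw [LinearMap.comp_apply, LinearMap.id_apply] at this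
      rw [this, sub_self]
    obtain ⟨x, hx⟩ := exists_of_piN_eq_zero A B _ _ h0
    obtain ⟨y, rfl⟩ := hφb.2 x
    exact ⟨y, hx⟩
  set u : P (Fintype.card ι) A B →ₗ[B] SymmetricPower B ι (KaehlerDifferential A B) :=
    (LinearEquiv.ofInjective k hkinj).symm.toLinearMap ∘ₗ
      (LinearMap.codRestrict (LinearMap.range k) w hmem) with hu
  have hku : ∀ p, k (u p) = p - s (piN A B (Fintype.card ι) p) := by
    intro p
    have h1 : (LinearEquiv.ofInjective k hkinj) (u p) =
        (LinearMap.codRestrict (LinearMap.range k) w hmem) p := by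
      rw [hu, LinearMap.comp_apply, LinearEquiv.coe_coe, LinearEquiv.apply_symm_apply]
    have h2 := congrArg Subtype.val h1
    rw [LinearEquiv.ofInjective_apply] at h2
    rw [h2]
    rfl
  have huk : ∀ x, u (k x) = x := by
    intro x
    apply hkinj
    rw [hku, hk, LinearMap.comp_apply, piN_jN, map_zero, sub_zero]
  refine ⟨?_, u, ?_⟩
  · have := hΩ
    have : Module.Projective B (SymmetricPower B ι (KaehlerDifferential A B)) := sym_projective ι
    refine Module.Projective.of_split (u.prod (piN A B (Fintype.card ι))) (k.coprod s) ?_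
    refine LinearMap.ext fun p => ?_
    change k (u p) + s (piN A B (Fintype.card ι) p) = p
    rw [hku, sub_add_cancel]
  · intro b
    rw [← jN_zetaProd, ← hφD b]
    exact huk _

theorem proj_all (h : IsDiffSmooth A B) :
    ∀ N : ℕ, Module.Projective B ((B ⊗[A] B) ⧸ KaehlerDifferential.ideal A B ^ N)
  | 0 => by
    have : Subsingleton ((B ⊗[A] B) ⧸ KaehlerDifferential.ideal A B ^ 0) := by
      rw [pow_zero, Ideal.one_eq_top]
      exact Ideal.Quotient.subsingleton_iff.mpr rfl
    exact Module.Projective.of_split (0 : _ →ₗ[B] PUnit.{u+1}) 0 (Subsingleton.elim _ _)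
  | N + 1 => by
    have hN : Fintype.card (ULift.{u} (Fin N)) = N := by simp
    have := (step A B h (ULift.{u} (Fin N)) (by rw [hN]; exact proj_all h N)).1
    rwa [hN] at this

theorem exists_u (h : IsDiffSmooth A B) (ι : Type u) [Fintype ι] :
    ∃ u : P (Fintype.card ι) A B →ₗ[B] SymmetricPower B ι (KaehlerDifferential A B),
      ∀ b : ι → B, u (Ideal.Quotient.mk _ (∏ i, gen A (b i))) =
        SymmetricPower.tprod B (fun i => KaehlerDifferential.D A B (b i)) :=
  (step A B h ι (proj_all A B h _)).2

end induction


section multilin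

variable {R : Type u} [CommRing R] {ι : Type u} [Fintype ι] {M : Type v} [AddCommGroup M] [Module R M]
  {X : Type w} [AddCommGroup X] [Module R X]

/-- multilinear maps agreeing on families from a spanning set agree. -/
theorem multilinear_eq_of_span (S : Set M) (hS : Submodule.span R S = ⊤)
    (f g : MultilinearMap R (fun _ : ι => M) X)
    (h : ∀ m : ι → M, (∀ i, m i ∈ S) → f m = g m) : ∀ m, f m = g m := by
  classical
  have key : ∀ t : Finset ι, ∀ m : ι → M, (∀ i, i ∉ t → m i ∈ S) → f m = g m := by
    intro t
    induction t using Finset.induction_on with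
    | empty => exact fun m hm => h m (fun i => hm i (Finset.notMem_empty i))
    | insert a t ha ih =>
      intro m hm
      have hx : m a ∈ Submodule.span R S := hS ▸ Submodule.mem_top
      have key2 : ∀ x ∈ Submodule.span R S, f (Function.update m a x) = g (Function.update m a x) := by
        intro x hx
        induction hx using Submodule.span_induction with
        | mem x hxS =>
          apply ih
          intro i hi
          by_cases hia : i = a
          · subst hia
            rw [Function.update_self]
            exact hxS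
          · rw [Function.update_of_ne hia]
            exact hm i (by simp [hia, hi])
        | zero => rw [MultilinearMap.map_update_zero, MultilinearMap.map_update_zero]
        | add x y _ _ hx1 hy1 => rw [MultilinearMap.map_update_add, MultilinearMap.map_update_add, hx1, hy1]
        | smul r x _ hx1 => rw [MultilinearMap.map_update_smul, MultilinearMap.map_update_smul, hx1]
      have := key2 _ hx
      rwa [Function.update_eq_self] at this
  exact fun m => key Finset.univ m (fun i hi => absurd (Finset.mem_univ i) hi)

theorem sym_hom_ext_of_span (S : Set M) (hS : Submodule.span R S = ⊤)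
    {f g : SymmetricPower R ι M →ₗ[R] X}
    (h : ∀ m : ι → M, (∀ i, m i ∈ S) →
      f (SymmetricPower.tprod R m) = g (SymmetricPower.tprod R m)) : f = g := by
  apply SymPow2.hom_ext
  exact multilinear_eq_of_span S hS (f.compMultilinearMap (SymmetricPower.tprod R))
    (g.compMultilinearMap (SymmetricPower.tprod R)) h

end multilin


section bc

variable (A B A' B' : Type u) [CommRing A] [CommRing B] [Algebra A B]
    [CommRing A'] [CommRing B'] [Algebra A' B'] [Algebra A A'] [Algebra B B'] [Algebra A B']
    [IsScalarTower A A' B'] [IsScalarTower A B B']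

attribute [local instance] SMulCommClass.of_commMonoid

section
variable [Algebra.IsPushout A B A' B']

include A in
theorem span_D_algebraMap :
    Submodule.span B' (Set.range fun b : B => KaehlerDifferential.D A' B' (algebraMap B B' b)) = ⊤ := by
  rw [eq_top_iff, ← KaehlerDifferential.span_range_derivation A' B', Submodule.span_le]
  rintro _ ⟨x, rfl⟩
  have h : Algebra.IsPushout A A' B B' := Algebra.IsPushout.symm inferInstance
  refine h.out.inductionOn x
    (fun x => KaehlerDifferential.D A' B' x ∈ Submodule.span B'
      (Set.range fun b : B => KaehlerDifferential.D A' B' (algebraMap B B' b))) ?_ ?_ ?_ ?_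
  · change KaehlerDifferential.D A' B' 0 ∈ _
    rw [map_zero]
    exact Submodule.zero_mem _
  · intro b
    exact Submodule.subset_span ⟨b, rfl⟩
  · intro a' n hn
    change KaehlerDifferential.D A' B' (a' • n) ∈ _
    rw [Derivation.map_smul, ← algebraMap_smul B' a']
    exact Submodule.smul_mem _ _ hn
  · intro x y hx hy
    change KaehlerDifferential.D A' B' (x + y) ∈ _
    rw [map_add]
    exact Submodule.add_mem _ hx hy

theorem projective' [Module.Projective B (KaehlerDifferential A B)] :
    Module.Projective B' (KaehlerDifferential A' B') := by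
  have h : Algebra.IsPushout A A' B B' := Algebra.IsPushout.symm inferInstance
  exact Module.Projective.of_equiv (KaehlerDifferential.tensorKaehlerEquiv A A' B B')

end

variable (ι : Type u) [Fintype ι]

/-- `Sym_{B'} Ω'` as a `B`-module. -/
@[reducible] noncomputable def modB : Module B (SymmetricPower B' ι (KaehlerDifferential A' B')) :=
  Module.compHom _ (algebraMap B B')

attribute [local instance] modB

theorem isScalarTower_modB :
    IsScalarTower B B' (SymmetricPower B' ι (KaehlerDifferential A' B')) :=
  IsScalarTower.of_algebraMap_smul (fun _ _ => rfl)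

attribute [local instance] isScalarTower_modB

noncomputable def cMap : SymmetricPower B ι (KaehlerDifferential A B) →ₗ[B]
    SymmetricPower B' ι (KaehlerDifferential A' B') :=
  SymPow.lift
    (((SymmetricPower.tprod B' (ι := ι) (M := KaehlerDifferential A' B')).restrictScalars B).compLinearMap
      (fun _ => KaehlerDifferential.map A A' B B'))
    (by
      intro e m
      simp only [MultilinearMap.compLinearMap_apply, MultilinearMap.coe_restrictScalars]
      exact SymmetricPower.tprod_equiv e (fun i => KaehlerDifferential.map A A' B B' (m i)))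

theorem cMap_tprod (m : ι → KaehlerDifferential A B) :
    cMap A B A' B' ι (SymmetricPower.tprod B m) =
      SymmetricPower.tprod B' (fun i => KaehlerDifferential.map A A' B B' (m i)) := by
  rw [cMap, SymPow.lift_tprod]
  rfl


set_option maxSynthPendingDepth 3 in
theorem main [Algebra.IsPushout A B A' B'] (h : IsDiffSmooth A B) : IsDiffSmooth A' B' := by
  have hΩ := h.1
  have hΩ' : Module.Projective B' (KaehlerDifferential A' B') := projective' A B A' B'
  obtain ⟨L', hL'⟩ := CanonSym.exists_section A' B'
  refine ⟨hΩ', fun ι _ => ⟨CanonSym.phi A' B' L' ι, CanonSym.phi_D A' B' L' hL' ι, ?_,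
    CanonSym.phi_surjective A' B' L' hL' ι⟩⟩
  obtain ⟨u, hu⟩ := exists_u A B h ι
  let V : B' ⊗[B] P (Fintype.card ι) A B →ₗ[B'] SymmetricPower B' ι (KaehlerDifferential A' B') :=
    LinearMap.liftBaseChange B' (cMap A B A' B' ι ∘ₗ u)
  let ρ : grI A' B' (Fintype.card ι) →ₗ[B'] SymmetricPower B' ι (KaehlerDifferential A' B') :=
    V ∘ₗ (Groth.Agent.S3806.ψ (Fintype.card ι) A B A' B').toLinearMap ∘ₗ jN A' B' (Fintype.card ι)
  have hρ : ρ ∘ₗ CanonSym.phi A' B' L' ι = LinearMap.id := by
    apply sym_hom_ext_of_span _ (span_D_algebraMap A B A' B')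
    intro m hm
    choose b hb using hm
    obtain rfl : m = fun i => KaehlerDifferential.D A' B' (algebraMap B B' (b i)) :=
      funext fun i => (hb i).symm
    rw [LinearMap.comp_apply, CanonSym.phi_D A' B' L' hL' ι, LinearMap.id_apply]
    change V (Groth.Agent.S3806.ψ (Fintype.card ι) A B A' B'
      (jN A' B' _ (zetaProd A' B' fun i => algebraMap B B' (b i)))) = _
    rw [jN_zetaProd]
    have h1 : (Ideal.Quotient.mk _ (∏ i, gen A' (algebraMap B B' (b i))) : P (Fintype.card ι) A' B') =
        PP16.map (Fintype.card ι) A B A' B' (Ideal.Quotient.mk _ (∏ i, gen A (b i))) := by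
      rw [map_mk, map_prod (tensorMap A B A' B')]
      congr 1
      refine Finset.prod_congr rfl fun i _ => ?_
      rw [gen, gen, map_sub, tensorMap_tmul, tensorMap_tmul, map_one]
    rw [h1, Groth.Agent.S3806.ψ_map, LinearMap.liftBaseChange_tmul, one_smul, LinearMap.comp_apply, hu,
      cMap_tprod]
    congr 1
    funext i
    exact KaehlerDifferential.map_D A A' B B' (b i)
  intro x y hxy
  have := congrArg ρ hxy
  rwa [← LinearMap.comp_apply, ← LinearMap.comp_apply, hρ] at this

end bc

end Groth.Agent.Lib.Helper70.DiffSmoothBC
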