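import Groth.Prelude.Def_PP16
import Groth.Agent.Lib.Helper70.CanonSym

/-!
# Characteristic 0, `Ω` free ⇒ differentially smooth (helper70)

* `dt δ = id ⊗ δ` on `B ⊗ B` for a derivation `δ`; `dt_mul` (Leibniz), `linearize_comp_der`
  (`linearize (E ∘ δ) = linearize E ∘ dt δ`), `dt_mem_pow` (`dt δ (I^(n+1)) ⊆ I^n`), `dt_prod`, `rule`
  (symbol of `E ∘ δ` on a product of `N` elements of `I`).
* `der e j = e_j^* ∘ d`, `opL e l` (composite of the `∂_j`, `j ∈ l`), `opL_vanish`, `eval_main`
  (value of the symbol of `opL l` on a monomial `∏ L(e_{g k})`: `0` unless the multiplicities agree,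
  else a positive integer).
* `phi_injective` (ℚ-algebra, `Ω` free on any index set), `main` (= S3819).
-/

set_option autoImplicit false
set_option linter.unusedSectionVars false
universe u v w
open scoped TensorProduct

namespace Groth.Agent.Lib.Helper70.DiffSmoothChar0

open Groth.Agent.Lib.Helper70 Groth.Agent.Lib.Helper70.CanonSym
  Groth.Agent.Lib.Helper70.DivPowBasis
open Groth.Agent.Lib.Helper23 (gen gen_mem linearize_tmul)

section deriv

variable (A B : Type u) [CommRing A] [CommRing B] [Algebra A B] (δ : Derivation A B B)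

/-- `id ⊗ δ` on `B ⊗ B`, `B`-linear for the left structure. -/
noncomputable def dt : B ⊗[A] B →ₗ[B] B ⊗[A] B :=
  TensorProduct.AlgebraTensorModule.map (LinearMap.id : B →ₗ[B] B) (δ : B →ₗ[A] B)

theorem dt_tmul (b c : B) : dt A B δ (b ⊗ₜ[A] c) = b ⊗ₜ[A] δ c := rfl

theorem dt_mul (x y : B ⊗[A] B) :
    dt A B δ (x * y) = x * dt A B δ y + dt A B δ x * y := by
  induction x using TensorProduct.induction_on with
  | zero => simp
  | tmul b c =>
    induction y using TensorProduct.induction_on with
    | zero => simp
    | tmul b' c' =>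
      rw [Algebra.TensorProduct.tmul_mul_tmul, dt_tmul, dt_tmul, dt_tmul,
        Algebra.TensorProduct.tmul_mul_tmul, Algebra.TensorProduct.tmul_mul_tmul,
        Derivation.leibniz, TensorProduct.tmul_add, smul_eq_mul, smul_eq_mul, mul_comm c' (δ c)]
    | add y y' hy hy' => rw [mul_add, map_add, map_add, hy, hy', mul_add, mul_add]; abel
  | add x x' hx hx' => rw [add_mul, map_add, map_add, hx, hx', add_mul, add_mul]; abel

theorem linearize_comp_der (E : B →ₗ[A] B) (x : B ⊗[A] B) :
    Diff16.linearize A B B B (E ∘ₗ (δ : B →ₗ[A] B)) x =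
      Diff16.linearize A B B B E (dt A B δ x) := by
  induction x using TensorProduct.induction_on with
  | zero => simp
  | tmul b c => rw [dt_tmul, linearize_tmul, linearize_tmul]; rfl
  | add x y hx hy => rw [map_add, map_add, map_add, hx, hy]

theorem linearize_id (x : B ⊗[A] B) :
    Diff16.linearize A B B B (LinearMap.id : B →ₗ[A] B) x = Algebra.TensorProduct.lmul' A x := by
  induction x using TensorProduct.induction_on with
  | zero => simp
  | tmul b c => rw [linearize_tmul, Algebra.TensorProduct.lmul'_apply_tmul]; rfl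
  | add x y hx hy => rw [map_add, map_add, hx, hy]

theorem lmul'_dt (x : B ⊗[A] B) :
    Algebra.TensorProduct.lmul' A (dt A B δ x) = Diff16.linearize A B B B (δ : B →ₗ[A] B) x := by
  induction x using TensorProduct.induction_on with
  | zero => simp
  | tmul b c => rw [dt_tmul, linearize_tmul, Algebra.TensorProduct.lmul'_apply_tmul]; rfl
  | add x y hx hy => rw [map_add, map_add, map_add, hx, hy]

theorem dt_sub_mem (x : B ⊗[A] B) :
    dt A B δ x - (Diff16.linearize A B B B (δ : B →ₗ[A] B) x) • (1 : B ⊗[A] B) ∈
      KaehlerDifferential.ideal A B := by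
  change _ ∈ RingHom.ker (Algebra.TensorProduct.lmul' A : B ⊗[A] B →ₐ[A] B)
  rw [RingHom.mem_ker, map_sub, lmul'_dt, sub_eq_zero, Algebra.TensorProduct.one_def,
    TensorProduct.smul_tmul', Algebra.TensorProduct.lmul'_apply_tmul, smul_eq_mul, mul_one,
    mul_one]

theorem dt_mem_pow : ∀ (n : ℕ) (x : B ⊗[A] B), x ∈ KaehlerDifferential.ideal A B ^ (n + 1) →
    dt A B δ x ∈ KaehlerDifferential.ideal A B ^ n := by
  intro n
  induction n with
  | zero =>
    intro x _
    rw [pow_zero, Ideal.one_eq_top]
    trivial
  | succ n ih =>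
    intro x hx
    rw [pow_succ] at hx
    induction hx using Submodule.mul_induction_on' with
    | mem_mul_mem a ha b hb =>
      rw [dt_mul]
      apply Ideal.add_mem
      · exact Ideal.mul_mem_right _ _ ha
      · rw [pow_succ]
        exact Ideal.mul_mem_mul (ih a ha) hb
    | add x _ y _ hx hy =>
      rw [map_add]
      exact Ideal.add_mem _ hx hy

theorem dt_prod {κ : Type*} [DecidableEq κ] (s : Finset κ) (x : κ → B ⊗[A] B) :
    dt A B δ (∏ k ∈ s, x k) = ∑ k ∈ s, dt A B δ (x k) * ∏ l ∈ s.erase k, x l := by
  induction s using Finset.induction_on with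
  | empty =>
    rw [Finset.prod_empty, Finset.sum_empty, Algebra.TensorProduct.one_def, dt_tmul,
      Derivation.map_one_eq_zero, TensorProduct.tmul_zero]
  | insert a s ha ih =>
    rw [Finset.prod_insert ha, dt_mul, ih, Finset.sum_insert ha, Finset.erase_insert ha,
      Finset.mul_sum, add_comm]
    congr 1
    refine Finset.sum_congr rfl fun k hk => ?_
    have hka : k ≠ a := fun h => ha (h ▸ hk)
    rw [Finset.erase_insert_of_ne (Ne.symm hka), Finset.prod_insert (by
      intro h
      exact ha (Finset.mem_of_mem_erase h))]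
    ring

/-- The rule for the symbol of `E ∘ δ` on a product of `N` elements of `I`. -/
theorem rule {κ : Type*} [DecidableEq κ] (E : B →ₗ[A] B) (N : ℕ)
    (hE : ∀ y ∈ KaehlerDifferential.ideal A B ^ N, Diff16.linearize A B B B E y = 0)
    (s : Finset κ) (hs : s.card = N) (x : κ → B ⊗[A] B)
    (hx : ∀ k ∈ s, x k ∈ KaehlerDifferential.ideal A B) :
    Diff16.linearize A B B B (E ∘ₗ (δ : B →ₗ[A] B)) (∏ k ∈ s, x k) =
      ∑ k ∈ s, Diff16.linearize A B B B (δ : B →ₗ[A] B) (x k) *
        Diff16.linearize A B B B E (∏ l ∈ s.erase k, x l) := by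
  rw [linearize_comp_der, dt_prod, map_sum]
  refine Finset.sum_congr rfl fun k hk => ?_
  have hP : ∏ l ∈ s.erase k, x l ∈ KaehlerDifferential.ideal A B ^ (N - 1) := by
    have : (s.erase k).card = N - 1 := by rw [Finset.card_erase_of_mem hk, hs]
    rw [← this, ← Finset.prod_const]
    exact Ideal.prod_mem_prod fun l hl => hx l (Finset.mem_of_mem_erase hl)
  have hN : 1 ≤ N := by
    rw [← hs]
    exact Finset.card_pos.mpr ⟨k, hk⟩
  have e : dt A B δ (x k) * ∏ l ∈ s.erase k, x l =
      (Diff16.linearize A B B B (δ : B →ₗ[A] B) (x k)) • (∏ l ∈ s.erase k, x l) +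
        (dt A B δ (x k) - (Diff16.linearize A B B B (δ : B →ₗ[A] B) (x k)) • (1 : B ⊗[A] B)) *
          ∏ l ∈ s.erase k, x l := by
    rw [sub_mul, smul_mul_assoc, one_mul]
    abel
  rw [e, map_add, linearize_smul]
  have hz : Diff16.linearize A B B B E
      ((dt A B δ (x k) - (Diff16.linearize A B B B (δ : B →ₗ[A] B) (x k)) • (1 : B ⊗[A] B)) *
          ∏ l ∈ s.erase k, x l) = 0 := by
    apply hE
    have h1 := Ideal.mul_mem_mul (dt_sub_mem A B δ (x k)) hP
    rw [← pow_succ'] at h1
    have : N - 1 + 1 = N := by omega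
    rwa [this] at h1
  rw [hz, add_zero]

end deriv

section eval

variable (A B : Type u) [CommRing A] [CommRing B] [Algebra A B]
  {J : Type u} [DecidableEq J] (e : Module.Basis J B (KaehlerDifferential A B))
  (L : KaehlerDifferential A B →ₗ[B] KaehlerDifferential.ideal A B)
  (hL : ∀ ω, KaehlerDifferential.fromIdeal A B (L ω) = ω)

/-- `∂_j = e_j^* ∘ d`. -/
noncomputable def der (j : J) : Derivation A B B := (e.coord j).compDer (KaehlerDifferential.D A B)

theorem linearize_eq_tensorProductTo (δ : Derivation A B B) (x : B ⊗[A] B) :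
    Diff16.linearize A B B B (δ : B →ₗ[A] B) x = δ.tensorProductTo x := by
  induction x using TensorProduct.induction_on with
  | zero => simp
  | tmul b c => rw [linearize_tmul, Derivation.tensorProductTo_tmul]; rfl
  | add x y hx hy => rw [map_add, map_add, hx, hy]

theorem linearize_der (j : J) (x : KaehlerDifferential.ideal A B) :
    Diff16.linearize A B B B (der A B e j : B →ₗ[A] B) (x : B ⊗[A] B) =
      e.coord j (KaehlerDifferential.fromIdeal A B x) := by
  rw [linearize_eq_tensorProductTo, ← Derivation.liftKaehlerDifferential_apply]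
  have h : (der A B e j).liftKaehlerDifferential = e.coord j := by
    apply Derivation.liftKaehlerDifferential_unique
    rw [Derivation.liftKaehlerDifferential_comp]
    rfl
  rw [h]
  rfl

include hL in
theorem linearize_der_L (j i : J) :
    Diff16.linearize A B B B (der A B e j : B →ₗ[A] B) (Lin A B L (e i)) =
      if i = j then 1 else 0 := by
  rw [Lin_apply, linearize_der, hL, Module.Basis.coord_apply, Module.Basis.repr_self,
    Finsupp.single_apply]

/-- `E_l = ∂_{j_n} ∘ ⋯ ∘ ∂_{j_1}` for `l = [j_1, …, j_n]` (first letter applied first). -/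
noncomputable def opL : List J → (B →ₗ[A] B)
  | [] => LinearMap.id
  | j :: l => opL l ∘ₗ (der A B e j : B →ₗ[A] B)

theorem opL_vanish : ∀ (l : List J) (y : B ⊗[A] B),
    y ∈ KaehlerDifferential.ideal A B ^ (l.length + 1) →
      Diff16.linearize A B B B (opL A B e l) y = 0 := by
  intro l
  induction l with
  | nil =>
    intro y hy
    rw [List.length_nil, zero_add, pow_one] at hy
    rw [opL, linearize_id]
    exact hy
  | cons j l ih =>
    intro y hy
    rw [opL, linearize_comp_der]
    apply ih
    rw [List.length_cons] at hy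
    exact dt_mem_pow A B _ _ y hy

variable {ι' : Type u} [Fintype ι'] [DecidableEq ι'] (g : ι' → J)

/-- fibre cardinalities of `g` on a finset. -/
def cntS (s : Finset ι') (j : J) : ℕ := (s.filter (fun k => g k = j)).card

theorem cntS_erase (s : Finset ι') (k : ι') (hk : k ∈ s) :
    cntS g s = cntS g (s.erase k) + Pi.single (g k) 1 := by
  funext j
  simp only [cntS, Pi.add_apply]
  by_cases hj : g k = j
  · subst hj
    rw [Pi.single_eq_same, Finset.filter_erase]
    have hmem : k ∈ s.filter (fun k' => g k' = g k) := Finset.mem_filter.mpr ⟨hk, rfl⟩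
    rw [Finset.card_erase_of_mem hmem]
    have : 0 < (s.filter (fun k' => g k' = g k)).card := Finset.card_pos.mpr ⟨k, hmem⟩
    omega
  · rw [Pi.single_eq_of_ne (Ne.symm hj), add_zero, Finset.filter_erase,
      Finset.erase_eq_of_notMem]
    intro h
    exact hj (Finset.mem_filter.mp h).2

theorem cntL_cons (j : J) (l : List J) :
    (fun i => (j :: l).count i) = (fun i => l.count i) + Pi.single j 1 := by
  funext i
  simp only [Pi.add_apply, List.count_cons]
  by_cases h : j = i
  · subst h
    simp
  · rw [Pi.single_eq_of_ne (Ne.symm h)]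
    simp [h]

include hL in
theorem eval_main : ∀ (l : List J) (s : Finset ι'), s.card = l.length →
    ((fun i => l.count i) ≠ cntS g s →
      Diff16.linearize A B B B (opL A B e l) (∏ k ∈ s, Lin A B L (e (g k))) = 0) ∧
    ((fun i => l.count i) = cntS g s → ∃ m : ℕ, 0 < m ∧
      Diff16.linearize A B B B (opL A B e l) (∏ k ∈ s, Lin A B L (e (g k))) = (m : B)) := by
  intro l
  induction l with
  | nil =>
    intro s hs
    rw [List.length_nil, Finset.card_eq_zero] at hs
    subst hs
    constructor
    · intro h
      exfalso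
      apply h
      funext i
      simp [cntS]
    · intro _
      refine ⟨1, Nat.one_pos, ?_⟩
      rw [Finset.prod_empty, opL, linearize_id, map_one, Nat.cast_one]
  | cons j l ih =>
    intro s hs
    have hrule := rule A B (der A B e j) (opL A B e l) (l.length + 1) (opL_vanish A B e l) s
      (by rw [hs, List.length_cons]) (fun k => Lin A B L (e (g k)))
      (fun k _ => Lin_mem A B L _)
    have hV : Diff16.linearize A B B B (opL A B e (j :: l)) (∏ k ∈ s, Lin A B L (e (g k))) =
        ∑ k ∈ s.filter (fun k => g k = j),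
          Diff16.linearize A B B B (opL A B e l) (∏ k' ∈ s.erase k, Lin A B L (e (g k'))) := by
      rw [opL, hrule, Finset.sum_filter]
      refine Finset.sum_congr rfl fun k _ => ?_
      rw [linearize_der_L A B e L hL]
      split_ifs <;> simp
    have hcard : ∀ k ∈ s, (s.erase k).card = l.length := by
      intro k hk
      rw [Finset.card_erase_of_mem hk, hs, List.length_cons]
      rfl
    constructor
    · intro hne
      rw [hV]
      apply Finset.sum_eq_zero
      intro k hk
      rw [Finset.mem_filter] at hk
      apply (ih (s.erase k) (hcard k hk.1)).1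
      intro heq
      apply hne
      rw [cntL_cons, heq, cntS_erase g s k hk.1, hk.2]
    · intro heq
      rw [hV]
      have hall : ∀ k ∈ s.filter (fun k => g k = j), ∃ m : ℕ, 0 < m ∧
          Diff16.linearize A B B B (opL A B e l) (∏ k' ∈ s.erase k, Lin A B L (e (g k'))) =
            (m : B) := by
        intro k hk
        rw [Finset.mem_filter] at hk
        apply (ih (s.erase k) (hcard k hk.1)).2
        have h1 := cntS_erase g s k hk.1
        rw [hk.2, ← heq, cntL_cons] at h1
        exact add_right_cancel h1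
      choose! m hm using hall
      have hne : (s.filter (fun k => g k = j)).Nonempty := by
        rw [← Finset.card_pos]
        have h1 := congrFun heq j
        simp only [cntS] at h1
        rw [← h1, List.count_cons_self]
        omega
      refine ⟨∑ k ∈ s.filter (fun k => g k = j), m k, ?_, ?_⟩
      · obtain ⟨k₀, hk₀⟩ := hne
        exact lt_of_lt_of_le (hm k₀ hk₀).1
          (Finset.single_le_sum (f := m) (fun _ _ => Nat.zero_le _) hk₀)
      · rw [Nat.cast_sum]
        exact Finset.sum_congr rfl fun k hk => (hm k hk).2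

end eval

section final

open Groth.Agent.Lib.Helper70.DiffSmoothOfOps (injective_of_span_of_li)

variable (A B : Type u) [CommRing A] [CommRing B] [Algebra A B] [Algebra ℚ B]
  {J : Type u} [DecidableEq J] (e : Module.Basis J B (KaehlerDifferential A B))
  (L : KaehlerDifferential A B →ₗ[B] KaehlerDifferential.ideal A B)
  (hL : ∀ ω, KaehlerDifferential.fromIdeal A B (L ω) = ω)
  (ι' : Type u) [Fintype ι'] [DecidableEq ι']

omit [CommRing A] [Algebra A B] in
theorem eq_zero_of_mul_natCast (a : B) (m : ℕ) (hm : 0 < m) (h : a * (m : B) = 0) : a = 0 := by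
  have hm' : (m : ℚ) ≠ 0 := Nat.cast_ne_zero.mpr (by omega)
  have h1 : (m : B) * algebraMap ℚ B ((m : ℚ)⁻¹) = 1 := by
    rw [← map_natCast (algebraMap ℚ B), ← map_mul, mul_inv_cancel₀ hm', map_one]
  calc a = a * ((m : B) * algebraMap ℚ B ((m : ℚ)⁻¹)) := by rw [h1, mul_one]
    _ = (a * (m : B)) * algebraMap ℚ B ((m : ℚ)⁻¹) := by ring
    _ = 0 := by rw [h, zero_mul]

theorem exists_list (g : ι' → J) (s : Finset ι') :
    ∃ l : List J, l.length = s.card ∧ (fun i => l.count i) = cntS g s := by
  induction s using Finset.induction_on with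
  | empty =>
    refine ⟨[], rfl, ?_⟩
    funext i
    simp [cntS]
  | insert a s ha ih =>
    obtain ⟨l, hl1, hl2⟩ := ih
    refine ⟨g a :: l, ?_, ?_⟩
    · rw [List.length_cons, hl1, Finset.card_insert_of_notMem ha]
    · rw [cntL_cons, hl2, cntS_erase g (insert a s) a (Finset.mem_insert_self a s),
        Finset.erase_insert ha]

/-- index type: the fibre-count vectors of functions `ι' → J`. -/
abbrev Q (J : Type u) [DecidableEq J] (ι' : Type u) [Fintype ι'] [DecidableEq ι'] : Type u :=
  {q : J → ℕ // ∃ g : ι' → J, cntS g Finset.univ = q}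

noncomputable def rep (q : Q J ι') : ι' → J := Classical.choose q.2

theorem cnt_rep (q : Q J ι') : cntS (rep ι' q) Finset.univ = q.1 := Classical.choose_spec q.2

noncomputable def vfamS (q : Q J ι') : SymmetricPower B ι' (KaehlerDifferential A B) :=
  SymmetricPower.tprod B (fun k => e (rep ι' q k))

theorem span_vfamS : Submodule.span B (Set.range (vfamS A B e ι')) = ⊤ := by
  rw [eq_top_iff, ← SymmetricPower.span_tprod_eq_top, Submodule.span_le]
  rintro _ ⟨ω, rfl⟩
  refine Submodule.span_le.mpr ?_ (tprod_mem_span_basis ι' e ω)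
  rintro _ ⟨g, rfl⟩
  apply Submodule.subset_span
  refine ⟨⟨cntS g Finset.univ, g, rfl⟩, ?_⟩
  rw [vfamS]
  apply tprod_eq_of_card_eq ι' (fun j => e j)
  intro j
  exact congrFun (cnt_rep ι' ⟨cntS g Finset.univ, g, rfl⟩) j

include hL in
theorem li_phi_vfamS : LinearIndependent B (phi A B L ι' ∘ vfamS A B e ι') := by
  rw [linearIndependent_iff']
  intro F a ha q₀ hq₀
  have hval : ∀ q, (phi A B L ι' ∘ vfamS A B e ι') q =
      Submodule.Quotient.mk ⟨mu0 A B L ι' (fun k => e (rep ι' q k)),
        mu0_mem A B L ι' (fun k => e (rep ι' q k))⟩ := by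
    intro q
    rw [Function.comp_apply, vfamS, phi_tprod]
  simp only [hval] at ha
  simp only [← Submodule.mkQ_apply, ← map_smul, ← map_sum] at ha
  rw [Submodule.mkQ_apply, Submodule.Quotient.mk_eq_zero, Submodule.mem_comap,
    Submodule.restrictScalars_mem, map_sum] at ha
  simp only [map_smul, Submodule.subtype_apply, mu0_apply] at ha
  obtain ⟨l, hl1, hl2⟩ := exists_list ι' (rep ι' q₀) Finset.univ
  rw [Finset.card_univ] at hl1
  have h0 := opL_vanish A B e l _ (by rw [hl1]; exact ha)
  rw [map_sum] at h0
  simp only [linearize_smul] at h0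
  rw [Finset.sum_eq_single q₀] at h0
  · obtain ⟨m, hm, hV⟩ := (eval_main A B e L hL (rep ι' q₀) l Finset.univ
      (by rw [Finset.card_univ, hl1])).2 hl2
    rw [hV] at h0
    exact eq_zero_of_mul_natCast B _ m hm h0
  · intro q _ hq
    have hne : (fun i => l.count i) ≠ cntS (rep ι' q) Finset.univ := by
      rw [hl2, cnt_rep, cnt_rep]
      intro h
      exact hq (Subtype.ext h.symm)
    rw [(eval_main A B e L hL (rep ι' q) l Finset.univ
      (by rw [Finset.card_univ, hl1])).1 hne, mul_zero]
  · intro h
    exact absurd hq₀ h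

include e hL in
theorem phi_injective : Function.Injective (phi A B L ι') :=
  injective_of_span_of_li _ (vfamS A B e ι') (span_vfamS A B e ι') (li_phi_vfamS A B e L hL ι')

end final

theorem main (A B : Type u) [CommRing A] [CommRing B] [Algebra A B] [Algebra ℚ B]
    (hΩ : Module.Free B (KaehlerDifferential A B)) : PP16.IsDiffSmooth A B := by
  classical
  have hproj : Module.Projective B (KaehlerDifferential A B) := Module.Projective.of_free
  obtain ⟨L, hL⟩ := exists_section A B
  refine ⟨hproj, ?_⟩
  intro ι' _
  exact ⟨phi A B L ι', phi_D A B L hL ι',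
    phi_injective A B (Module.Free.chooseBasis B (KaehlerDifferential A B)) L hL ι',
    phi_surjective A B L hL ι'⟩

end Groth.Agent.Lib.Helper70.DiffSmoothChar0
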