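import Groth.Agent.Lib.Helper70.DiffSmoothBC
import Mathlib.RingTheory.Flat.FaithfullyFlat.Basic
import Mathlib.RingTheory.Flat.FaithfullyFlat.Algebra
import Mathlib.RingTheory.Finiteness.Descent
import Mathlib.RingTheory.Flat.Equalizer
import Mathlib.RingTheory.Flat.EquationalCriterion

/-!
# Faithfully flat descent of differential smoothness (helper70)

* `finitePresentation_of_faithfullyFlat`, `projective_of_faithfullyFlat`: descent of finite presentation and
  of finite projectivity of modules along a faithfully flat ring map.
* `cG m : Sym_B M → Sym_{B'} M'` (base change map of symmetric powers), `cG_injective_of_basis`,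
  `cG_injective_of_projective` (injective when `M` is projective, `M' = B' ⊗ M`, `B → B'` injective).
* `span_tprod_of_span`, `isBaseChange_map` (`Ω_{B'/A'} = B' ⊗_B Ω_{B/A}`), `main`.
-/

set_option autoImplicit false
set_option linter.unusedSectionVars false
universe u v w
open scoped TensorProduct

namespace Groth.Agent.Lib.Helper70.DiffSmoothFF

open Groth.Agent.Lib.Helper70 Groth.Agent.Lib.Helper70.CanonSym
open Groth.Agent.Lib.Helper70.DiffSmoothBC
open Groth.Agent.Lib.Helper23 (gen gen_mem)
open PP16

section descent

variable (R S : Type*) [CommRing R] [CommRing S] [Algebra R S] [Module.FaithfullyFlat R S]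
  (M : Type*) [AddCommGroup M] [Module R M]

theorem finitePresentation_of_faithfullyFlat [Module.Finite R M]
    [Module.FinitePresentation S (S ⊗[R] M)] : Module.FinitePresentation R M := by
  obtain ⟨n, f, hf⟩ := Module.Finite.exists_fin' R M
  apply Module.finitePresentation_of_free_of_surjective f hf
  rw [← Module.Finite.iff_fg]
  have hfs : Function.Surjective (TensorProduct.AlgebraTensorModule.lTensor S S f) := by
    rw [TensorProduct.AlgebraTensorModule.coe_lTensor]
    exact LinearMap.lTensor_surjective S hf
  have hker : (LinearMap.ker (TensorProduct.AlgebraTensorModule.lTensor S S f)).FG :=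
    Module.FinitePresentation.fg_ker _ hfs
  rw [← Module.Finite.iff_fg] at hker
  have : Module.Finite S (S ⊗[R] LinearMap.ker f) :=
    Module.Finite.equiv (LinearMap.tensorKerEquiv S S f).symm
  exact Module.Finite.of_finite_tensorProduct_of_faithfullyFlat S

theorem projective_of_faithfullyFlat [Module.Finite S (S ⊗[R] M)]
    [Module.Projective S (S ⊗[R] M)] : Module.Projective R M ∧ Module.Finite R M := by
  have hfin : Module.Finite R M := Module.Finite.of_finite_tensorProduct_of_faithfullyFlat S
  have : Module.FinitePresentation S (S ⊗[R] M) := Module.finitePresentation_of_projective _ _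
  have hfp : Module.FinitePresentation R M := finitePresentation_of_faithfullyFlat R S M
  have hflat : Module.Flat R M := Module.Flat.of_flat_tensorProduct R M S
  exact ⟨Module.Flat.projective_of_finitePresentation, hfin⟩

end descent


section cG

variable (B B' : Type u) [CommRing B] [CommRing B'] [Algebra B B'] (ι : Type u) [Fintype ι]

section defs

variable {M : Type v} [AddCommGroup M] [Module B M] (M' : Type w) [AddCommGroup M'] [Module B' M']
  [Module B M'] [IsScalarTower B B' M']

/-- `Sym_{B'} M'` as a `B`-module. -/
@[reducible] noncomputable def modB : Module B (SymmetricPower B' ι M') :=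
  Module.compHom _ (algebraMap B B')

attribute [local instance] modB

theorem isScalarTower_modB : IsScalarTower B B' (SymmetricPower B' ι M') :=
  IsScalarTower.of_algebraMap_smul (fun _ _ => rfl)

attribute [local instance] isScalarTower_modB

variable {M'}

/-- base change map on symmetric powers. -/
noncomputable def cG (m : M →ₗ[B] M') : SymmetricPower B ι M →ₗ[B] SymmetricPower B' ι M' :=
  SymPow.lift
    (((SymmetricPower.tprod B' (ι := ι) (M := M')).restrictScalars B).compLinearMap (fun _ => m))
    (by
      intro e x
      simp only [MultilinearMap.compLinearMap_apply, MultilinearMap.coe_restrictScalars]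
      exact SymmetricPower.tprod_equiv e (fun i => m (x i)))

theorem cG_tprod (m : M →ₗ[B] M') (x : ι → M) :
    cG B B' ι m (SymmetricPower.tprod B x) = SymmetricPower.tprod B' (fun i => m (x i)) := by
  rw [cG, SymPow.lift_tprod]
  rfl

theorem cG_smul (m : M →ₗ[B] M') (b : B) (x : SymmetricPower B ι M) :
    cG B B' ι m (b • x) = algebraMap B B' b • cG B B' ι m x := by
  rw [map_smul]
  rfl

end defs

attribute [local instance] modB isScalarTower_modB

section free

variable {F : Type v} [AddCommGroup F] [Module B F] {F' : Type w} [AddCommGroup F'] [Module B' F']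
  [Module B F'] [IsScalarTower B B' F'] {J : Type u} (e : Module.Basis J B F)
  (e' : Module.Basis J B' F') (f : F →ₗ[B] F') (hf : ∀ j, f (e j) = e' j)
  (hinj : Function.Injective (algebraMap B B'))

include hf in
theorem toPoly_cG (x : SymmetricPower B ι F) :
    SymPow.toPoly e' (cG B B' ι f x) = MvPolynomial.map (algebraMap B B') (SymPow.toPoly e x) := by
  have h : ((SymPow.toPoly e' : SymmetricPower B' ι F' →ₗ[B'] MvPolynomial J B').restrictScalars B) ∘ₗ
      cG B B' ι f =
      (MvPolynomial.mapAlgHom (Algebra.ofId B B')).toLinearMap ∘ₗ SymPow.toPoly e := by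
    apply sym_hom_ext_of_span (Set.range e) e.span_eq
    intro m hm
    choose g hg using hm
    obtain rfl : m = fun i => e (g i) := funext fun i => (hg i).symm
    rw [LinearMap.comp_apply, LinearMap.comp_apply, cG_tprod, LinearMap.restrictScalars_apply,
      SymPow.toPoly_tprod_basis]
    simp only [hf]
    rw [SymPow.toPoly_tprod_basis, AlgHom.toLinearMap_apply, map_prod]
    refine Finset.prod_congr rfl fun i _ => ?_
    simp
  exact LinearMap.congr_fun h x

include hf hinj in
theorem cG_injective_of_basis : Function.Injective (cG B B' ι f) := by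
  classical
  have h1 : Function.Injective (SymPow.toPoly e : SymmetricPower B ι F →ₗ[B] MvPolynomial J B) :=
    Function.Injective.of_comp (SymPow2.mk_toPoly_injective e ι)
  have h2 : Function.Injective (fun x => SymPow.toPoly e' (cG B B' ι f x)) := by
    have : (fun x => SymPow.toPoly e' (cG B B' ι f x)) =
        (MvPolynomial.map (algebraMap B B')) ∘ (SymPow.toPoly e) := by
      funext x
      exact toPoly_cG B B' ι e e' f hf x
    rw [this]
    exact (MvPolynomial.map_injective _ hinj).comp h1
  exact Function.Injective.of_comp h2

end free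


section proj

variable {M : Type u} [AddCommGroup M] [Module B M] [hM : Module.Projective B M]
  {M' : Type w} [AddCommGroup M'] [Module B' M'] [Module B M'] [IsScalarTower B B' M']
  (m : M →ₗ[B] M') (hm : IsBaseChange B' m) (hinj : Function.Injective (algebraMap B B'))

include hM hm hinj in
theorem cG_injective_of_projective : Function.Injective (cG B B' ι m) := by
  obtain ⟨s, hs⟩ := Module.projective_def'.mp hM
  let f : (M →₀ B) →ₗ[B] (M →₀ B') := Finsupp.mapRange.linearMap (Algebra.linearMap B B')
  have hf : ∀ j, f (Finsupp.basisSingleOne (R := B) (ι := M) j) =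
      Finsupp.basisSingleOne (R := B') (ι := M) j := by
    intro j
    simp [f]
  let s' : M' →ₗ[B'] (M →₀ B') := hm.lift (f ∘ₗ s)
  have hs' : ∀ x, s' (m x) = f (s x) := fun x => hm.lift_eq _ x
  have hF := cG_injective_of_basis B B' ι (Finsupp.basisSingleOne (R := B) (ι := M))
    (Finsupp.basisSingleOne (R := B') (ι := M)) f hf hinj
  have hS : Function.Injective (SymPow2.map (ι := ι) s) :=
    SymPow2.map_injective_of_leftInverse s (Finsupp.linearCombination B id)
      (fun x => LinearMap.congr_fun hs x)
  have hcomm : ∀ x, SymPow2.map (ι := ι) s' (cG B B' ι m x) =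
      cG B B' ι f (SymPow2.map (ι := ι) s x) := by
    intro x
    have : ((SymPow2.map (ι := ι) s').restrictScalars B) ∘ₗ cG B B' ι m =
        cG B B' ι f ∘ₗ SymPow2.map (ι := ι) s := by
      refine SymPow2.hom_ext (R := B) (ι := ι) (M := M) (N := SymmetricPower B' ι (M →₀ B'))
        (fun y => ?_)
      rw [LinearMap.comp_apply, LinearMap.comp_apply, cG_tprod, LinearMap.restrictScalars_apply,
        SymPow2.map_tprod, SymPow2.map_tprod, cG_tprod]
      simp only [hs']
    exact LinearMap.congr_fun this x
  intro x y hxy
  apply hS
  apply hF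
  rw [← hcomm, ← hcomm, hxy]

end proj

end cG


section span

variable {R : Type u} [CommRing R] {ι : Type u} [Fintype ι] {M : Type v} [AddCommGroup M] [Module R M]

theorem span_tprod_of_span (S : Set M) (hS : Submodule.span R S = ⊤) :
    Submodule.span R {y | ∃ m : ι → M, (∀ i, m i ∈ S) ∧ SymmetricPower.tprod R m = y} = ⊤ := by
  set W := Submodule.span R {y | ∃ m : ι → M, (∀ i, m i ∈ S) ∧ SymmetricPower.tprod R m = y} with hW
  have h : W.mkQ = 0 := by
    apply sym_hom_ext_of_span S hS
    intro m hm
    rw [LinearMap.zero_apply, Submodule.mkQ_apply, Submodule.Quotient.mk_eq_zero]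
    exact Submodule.subset_span ⟨m, hm, rfl⟩
  rw [← Submodule.ker_mkQ W, h, LinearMap.ker_zero]

end span

section main

variable (A B A' B' : Type u) [CommRing A] [CommRing B] [Algebra A B]
    [CommRing A'] [CommRing B'] [Algebra A' B'] [Algebra A A'] [Algebra B B'] [Algebra A B']
    [IsScalarTower A A' B'] [IsScalarTower A B B']

attribute [local instance] SMulCommClass.of_commMonoid
attribute [local instance] modB isScalarTower_modB

theorem isBaseChange_map [Algebra.IsPushout A B A' B'] :
    IsBaseChange B' (KaehlerDifferential.map A A' B B') := by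
  have h : Algebra.IsPushout A A' B B' := Algebra.IsPushout.symm inferInstance
  refine IsBaseChange.of_equiv (KaehlerDifferential.tensorKaehlerEquiv A A' B B') ?_
  intro ω
  have hω : ω ∈ Submodule.span B (Set.range (KaehlerDifferential.D A B)) := by
    rw [KaehlerDifferential.span_range_derivation]
    exact Submodule.mem_top
  induction hω using Submodule.span_induction with
  | mem x hx =>
    obtain ⟨b, rfl⟩ := hx
    rw [KaehlerDifferential.tensorKaehlerEquiv_tmul_D, one_smul, KaehlerDifferential.map_D]
  | zero => rw [TensorProduct.tmul_zero, map_zero, map_zero]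
  | add x y _ _ hx hy => rw [TensorProduct.tmul_add, map_add, map_add, hx, hy]
  | smul b x _ hx =>
    rw [TensorProduct.tmul_smul, ← algebraMap_smul B' b ((1 : B') ⊗ₜ[B] x), map_smul, hx, map_smul,
      algebraMap_smul]


theorem map_prod_gen {ι : Type u} [Fintype ι] (b : ι → B) :
    PP16.map (Fintype.card ι) A B A' B' (Ideal.Quotient.mk _ (∏ i, gen A (b i))) =
      (Ideal.Quotient.mk _ (∏ i, gen A' (algebraMap B B' (b i))) : P (Fintype.card ι) A' B') := by
  rw [map_mk, map_prod (tensorMap A B A' B')]
  congr 1
  refine Finset.prod_congr rfl fun i _ => ?_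
  rw [gen, gen, map_sub, tensorMap_tmul, tensorMap_tmul, map_one]

theorem map_smul' (N : ℕ) (b : B) (p : P N A B) :
    PP16.map N A B A' B' (b • p) = algebraMap B B' b • PP16.map N A B A' B' p := by
  rw [Algebra.smul_def, map_mul, map_algebraMap, ← Algebra.smul_def]

theorem main [Algebra.IsPushout A B A' B'] [Module.FaithfullyFlat A A']
    (h : IsDiffSmooth A' B') (hfin : Module.Finite B' (KaehlerDifferential A' B')) :
    IsDiffSmooth A B ∧ Module.Finite B (KaehlerDifferential A B) := by
  have hpo : Algebra.IsPushout A A' B B' := Algebra.IsPushout.symm inferInstance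
  have hff : Module.FaithfullyFlat B B' :=
    Module.FaithfullyFlat.of_linearEquiv B (B ⊗[A] A')
      (Algebra.IsPushout.equiv A B A' B').symm.toLinearEquiv
  have hΩ' := h.1
  have : Module.Finite B' (B' ⊗[B] KaehlerDifferential A B) :=
    Module.Finite.equiv (KaehlerDifferential.tensorKaehlerEquiv A A' B B').symm
  have : Module.Projective B' (B' ⊗[B] KaehlerDifferential A B) :=
    Module.Projective.of_equiv (KaehlerDifferential.tensorKaehlerEquiv A A' B B').symm
  obtain ⟨hproj, hfinB⟩ := projective_of_faithfullyFlat B B' (KaehlerDifferential A B)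
  refine ⟨?_, hfinB⟩
  obtain ⟨L, hL⟩ := CanonSym.exists_section A B
  refine ⟨hproj, fun ι _ => ⟨CanonSym.phi A B L ι, CanonSym.phi_D A B L hL ι, ?_,
    CanonSym.phi_surjective A B L hL ι⟩⟩
  obtain ⟨φ', hφ'D, hφ'b⟩ := h.2 ι
  have hinj : Function.Injective (algebraMap B B') := FaithfulSMul.algebraMap_injective B B'
  have hc := cG_injective_of_projective B B' ι (KaehlerDifferential.map A A' B B')
    (isBaseChange_map A B A' B') hinj
  have key : ∀ x : SymmetricPower B ι (KaehlerDifferential A B),
      jN A' B' (Fintype.card ι) (φ' (cG B B' ι (KaehlerDifferential.map A A' B B') x)) =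
        PP16.map (Fintype.card ι) A B A' B' (jN A B (Fintype.card ι) (CanonSym.phi A B L ι x)) := by
    intro x
    have hx : x ∈ Submodule.span B {y | ∃ m : ι → KaehlerDifferential A B,
        (∀ i, m i ∈ Set.range (KaehlerDifferential.D A B)) ∧ SymmetricPower.tprod B m = y} := by
      rw [span_tprod_of_span _ (KaehlerDifferential.span_range_derivation A B)]
      exact Submodule.mem_top
    induction hx using Submodule.span_induction with
    | mem y hy =>
      obtain ⟨m, hm, rfl⟩ := hy
      choose b hb using hm
      obtain rfl : m = fun i => KaehlerDifferential.D A B (b i) := funext fun i => (hb i).symm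
      rw [cG_tprod, CanonSym.phi_D A B L hL ι, jN_zetaProd, map_prod_gen]
      simp only [KaehlerDifferential.map_D]
      rw [hφ'D, jN_zetaProd]
    | zero => simp only [map_zero]
    | add y z _ _ hy hz => simp only [map_add, hy, hz]
    | smul b y _ hy =>
      rw [cG_smul, map_smul, map_smul, hy, map_smul, map_smul, map_smul']
  intro x y hxy
  apply hc
  apply hφ'b.1
  apply jN_injective A' B'
  rw [key, key, hxy]

end main

end Groth.Agent.Lib.Helper70.DiffSmoothFF
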