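import Groth.Prelude.Def_PP16
import Groth.Agent.Lib.Helper70.DiffSmoothBasis

/-!
# Differentially smooth with `dz` a basis ⇒ divided-power operators (helper70)

* `prod_add_pow`: multi-binomial expansion of `∏ (g_i + a_i)^{q_i}`.
* `opOf m u = u ∘ d^m` for `u : P^m →ₗ[B] B`; `linearize_opOf`, `isDiffOpLE_opOf`.
* `one_tmul_prod`: `1 ⊗ z^q = ∑_{r ≤ q} binom(q,r) z^(q-r) • ∏ (1⊗z_i - z_i⊗1)^{r_i}`.
* `exists_ops`: (a) ⇒ (b) of S3816.
-/

set_option autoImplicit false
set_option linter.unusedSectionVars false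
universe u
open scoped TensorProduct

namespace Groth.Agent.Lib.Helper70.DiffSmoothOps

open Groth.Agent.Lib.Helper70 Groth.Agent.Lib.Helper70.DivPowBasis
  Groth.Agent.Lib.Helper70.DiffSmoothBasis
open Groth.Agent.Lib.Helper23 (gen gen_mem linearize_tmul isDiffOpLE_iff_linearize)

section expand

variable {ι : Type} [Fintype ι] [DecidableEq ι]

theorem prod_add_pow {R : Type*} [CommRing R] (a g : ι → R) (q : ι → ℕ) :
    ∏ i, (g i + a i) ^ q i =
      ∑ r ∈ Fintype.piFinset (fun i => Finset.range (q i + 1)),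
        ((∏ i, a i ^ (q i - r i)) * ((∏ i, Nat.choose (q i) (r i) : ℕ) : R)) * ∏ i, g i ^ r i := by
  simp_rw [add_pow]
  rw [Finset.prod_univ_sum]
  refine Finset.sum_congr rfl fun r _ => ?_
  simp only [Finset.prod_mul_distrib, Nat.cast_prod]
  ring

end expand

section ab

variable (A B : Type u) [CommRing A] [CommRing B] [Algebra A B]
  (ι : Type) [Fintype ι] [DecidableEq ι] (z : ι → B)

/-- `D_u = u ∘ d^m` for a `B`-linear form `u` on `P^m`. -/
noncomputable def opOf (m : ℕ) (u : PP16.P m A B →ₗ[B] B) : B →ₗ[A] B :=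
  (u.restrictScalars A) ∘ₗ (PP16.dn m A B).toLinearMap

theorem linearize_opOf (m : ℕ) (u : PP16.P m A B →ₗ[B] B) (x : B ⊗[A] B) :
    Diff16.linearize A B B B (opOf A B m u) x =
      u (Ideal.Quotient.mk (KaehlerDifferential.ideal A B ^ (m + 1)) x) := by
  induction x using TensorProduct.induction_on with
  | zero => simp
  | tmul b c =>
    rw [linearize_tmul]
    change b • u (PP16.dn m A B c) = _
    rw [← map_smul]
    congr 1
    rw [Algebra.smul_def]
    change Ideal.Quotient.mk _ (b ⊗ₜ[A] (1 : B)) * Ideal.Quotient.mk _ ((1 : B) ⊗ₜ[A] c) = _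
    rw [← map_mul, Algebra.TensorProduct.tmul_mul_tmul, mul_one, one_mul]
  | add x y hx hy => rw [map_add, map_add, map_add, hx, hy]

theorem isDiffOpLE_opOf (m : ℕ) (u : PP16.P m A B →ₗ[B] B) :
    Diff16.IsDiffOpLE A B B B m (opOf A B m u) := by
  rw [isDiffOpLE_iff_linearize]
  intro x hx
  rw [linearize_opOf, Ideal.Quotient.eq_zero_iff_mem.mpr hx, map_zero]

theorem one_tmul_prod (q : ι → ℕ) :
    (1 : B) ⊗ₜ[A] (∏ i, z i ^ q i) =
      ∑ r ∈ Fintype.piFinset (fun i => Finset.range (q i + 1)),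
        (((∏ i, Nat.choose (q i) (r i) : ℕ) : B) * ∏ i, z i ^ (q i - r i)) • ZZ A ι z r := by
  have h1 : (1 : B) ⊗ₜ[A] (∏ i, z i ^ q i) =
      ∏ i, (gen A (z i) + algebraMap B (B ⊗[A] B) (z i)) ^ q i := by
    have : ∀ i, gen A (z i) + algebraMap B (B ⊗[A] B) (z i) =
        (Algebra.TensorProduct.includeRight : B →ₐ[A] B ⊗[A] B) (z i) := by
      intro i
      rw [gen, Algebra.TensorProduct.algebraMap_apply, Algebra.TensorProduct.includeRight_apply]
      simp
    simp only [this, ← map_pow, ← map_prod]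
    rfl
  rw [h1, prod_add_pow]
  refine Finset.sum_congr rfl fun r _ => ?_
  rw [Algebra.smul_def, map_mul, map_natCast, map_prod, ZZ]
  simp only [map_pow]
  ring

theorem mk_ZZ_eq_zero (m : ℕ) (r : ι → ℕ) (hr : m < ∑ i, r i) :
    Ideal.Quotient.mk (KaehlerDifferential.ideal A B ^ (m + 1)) (ZZ A ι z r) = 0 := by
  rw [Ideal.Quotient.eq_zero_iff_mem]
  exact Ideal.pow_le_pow_right (by omega) (ZZ_mem_pow A B ι z r)

/-- (a) ⇒ (b). -/
theorem exists_ops (hB : PP16.IsDiffSmooth A B)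
    (hz : ∃ b : Module.Basis ι B (KaehlerDifferential A B),
      ∀ i, b i = KaehlerDifferential.D A B (z i)) :
    ∃ Dp : (ι → ℕ) → (B →ₗ[A] B),
      (∀ p, ∃ k : ℕ, Diff16.IsDiffOpLE A B B B k (Dp p)) ∧
      ∀ p q : ι → ℕ, Dp p (∏ i, z i ^ q i) =
        ((∏ i, Nat.choose (q i) (p i) : ℕ) : B) * ∏ i, z i ^ (q i - p i) := by
  classical
  have hex := fun m => exists_basis A B ι z hB hz m
  choose β hβ using hex
  refine ⟨fun p => opOf A B (∑ i, p i) ((β (∑ i, p i)).coord ⟨p, le_refl _⟩), ?_, ?_⟩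
  · intro p
    exact ⟨_, isDiffOpLE_opOf A B _ _⟩
  · intro p q
    set m := ∑ i, p i with hm
    have hcoord : ∀ r : ι → ℕ, (β m).coord ⟨p, le_refl _⟩
        (Ideal.Quotient.mk (KaehlerDifferential.ideal A B ^ (m + 1)) (ZZ A ι z r)) =
          if r = p then 1 else 0 := by
      intro r
      by_cases hr : ∑ i, r i ≤ m
      · have h1 : Ideal.Quotient.mk (KaehlerDifferential.ideal A B ^ (m + 1)) (ZZ A ι z r) =
            β m ⟨r, hr⟩ := by
          rw [hβ m ⟨r, hr⟩]
          exact (vfam_eq A B ι z m ⟨r, hr⟩).symm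
        rw [h1, Module.Basis.coord_apply, Module.Basis.repr_self, Finsupp.single_apply]
        simp only [Subtype.mk.injEq]
      · rw [mk_ZZ_eq_zero A B ι z m r (by omega), map_zero, if_neg]
        intro h
        rw [h] at hr
        exact hr (le_refl _)
    have h0 : opOf A B m ((β m).coord ⟨p, le_refl _⟩) (∏ i, z i ^ q i) =
        Diff16.linearize A B B B (opOf A B m ((β m).coord ⟨p, le_refl _⟩))
          ((1 : B) ⊗ₜ[A] (∏ i, z i ^ q i)) := by
      rw [linearize_tmul, one_smul]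
    rw [h0, linearize_opOf, one_tmul_prod, map_sum, map_sum]
    have hterm : ∀ r : ι → ℕ, (β m).coord ⟨p, le_refl _⟩
        (Ideal.Quotient.mk (KaehlerDifferential.ideal A B ^ (m + 1))
          ((((∏ i, Nat.choose (q i) (r i) : ℕ) : B) * ∏ i, z i ^ (q i - r i)) • ZZ A ι z r)) =
        if r = p then ((∏ i, Nat.choose (q i) (r i) : ℕ) : B) * ∏ i, z i ^ (q i - r i) else 0 := by
      intro r
      have : Ideal.Quotient.mk (KaehlerDifferential.ideal A B ^ (m + 1))
          ((((∏ i, Nat.choose (q i) (r i) : ℕ) : B) * ∏ i, z i ^ (q i - r i)) • ZZ A ι z r) =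
          (((∏ i, Nat.choose (q i) (r i) : ℕ) : B) * ∏ i, z i ^ (q i - r i)) •
            Ideal.Quotient.mk (KaehlerDifferential.ideal A B ^ (m + 1)) (ZZ A ι z r) :=
        map_smul (Ideal.Quotient.mkₐ B (KaehlerDifferential.ideal A B ^ (m + 1))) _ _
      rw [this, map_smul, hcoord r, smul_eq_mul, mul_ite, mul_one, mul_zero]
    simp only [hterm]
    rw [Finset.sum_ite_eq' ]
    split_ifs with hmem
    · rfl
    · rw [Fintype.mem_piFinset] at hmem
      push Not at hmem
      obtain ⟨i, hi⟩ := hmem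
      rw [Finset.mem_range] at hi
      have : (∏ i, Nat.choose (q i) (p i) : ℕ) = 0 :=
        Finset.prod_eq_zero (Finset.mem_univ i) (Nat.choose_eq_zero_of_lt (by omega))
      rw [this, Nat.cast_zero, zero_mul]

end ab

end Groth.Agent.Lib.Helper70.DiffSmoothOps
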