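import Groth.Agent.Lib.Helper70.DiffSmoothOps
import Groth.Agent.Lib.Helper70.DiffEtale

/-!
# Presentation of `P^n` for differentially smooth algebras; extension of operators (helper70)

* `zeta`, `aeval_zeta_surjective`, `ker_aeval_zeta`: if `ζ^p` (`|p| ≤ n`) is a basis of `P^n_{B/A}`, then
  `B[U_i] → P^n`, `U_i ↦ ζ_i`, is surjective with kernel `(U)^(n+1)`.
* `exists_ext_op`: a differential operator on `S` extends to a formally smooth `S`-algebra `K`
  (e.g. a localization), compatibly with `algebraMap`.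
-/

set_option autoImplicit false
set_option linter.unusedSectionVars false
set_option linter.style.haveILetI false
universe u
open scoped TensorProduct

namespace Groth.Agent.Lib.Helper70.DiffSmoothPres

open Groth.Agent.Lib.Helper70 Groth.Agent.Lib.Helper70.DivPowBasis
  Groth.Agent.Lib.Helper70.DiffSmoothBasis Groth.Agent.Lib.Helper70.DiffSmoothOps
open Groth.Agent.Lib.Helper23 (gen gen_mem)

section presentation

variable (A B : Type u) [CommRing A] [CommRing B] [Algebra A B]
  (ι : Type) [Fintype ι] [DecidableEq ι] (z : ι → B) (n : ℕ)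

/-- `ζ_i = d^n z_i - z_i`. -/
noncomputable def zeta (i : ι) : PP16.P n A B :=
  PP16.dn n A B (z i) - algebraMap B (PP16.P n A B) (z i)

theorem prod_zeta_pow (s : ι → ℕ) :
    ∏ i, zeta A B ι z n i ^ s i =
      Ideal.Quotient.mkₐ B (KaehlerDifferential.ideal A B ^ (n + 1)) (ZZ A ι z s) := by
  rw [ZZ, map_prod]
  refine Finset.prod_congr rfl fun i _ => ?_
  rw [map_pow, gen, map_sub]
  rfl

theorem prod_zeta_pow_eq_zero (s : ι → ℕ) (hs : n < ∑ i, s i) :
    ∏ i, zeta A B ι z n i ^ s i = 0 := by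
  rw [prod_zeta_pow]
  exact mk_ZZ_eq_zero A B ι z n s hs

theorem aeval_zeta_eq_sum (f : MvPolynomial ι B) :
    MvPolynomial.aeval (zeta A B ι z n) f =
      ∑ s ∈ f.support, f.coeff s • ∏ i, zeta A B ι z n i ^ s i := by
  rw [MvPolynomial.aeval_def, MvPolynomial.eval₂_eq']
  refine Finset.sum_congr rfl fun s _ => ?_
  rw [Algebra.smul_def]

variable (β : Module.Basis {p : ι → ℕ // ∑ i, p i ≤ n} B (PP16.P n A B))
  (hβ : ∀ p, β p = ∏ i, zeta A B ι z n i ^ p.1 i)

include hβ in
theorem repr_aeval (f : MvPolynomial ι B) (p₀ : {p : ι → ℕ // ∑ i, p i ≤ n}) :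
    β.repr (MvPolynomial.aeval (zeta A B ι z n) f) p₀ =
      f.coeff (Finsupp.equivFunOnFinite.symm p₀.1) := by
  classical
  rw [aeval_zeta_eq_sum, map_sum, Finsupp.finset_sum_apply]
  have hterm : ∀ s : ι →₀ ℕ, (β.repr (f.coeff s • ∏ i, zeta A B ι z n i ^ s i)) p₀ =
      if s = Finsupp.equivFunOnFinite.symm p₀.1 then f.coeff s else 0 := by
    intro s
    rw [map_smul, Finsupp.smul_apply, smul_eq_mul]
    by_cases hs : ∑ i, s i ≤ n
    · have : ∏ i, zeta A B ι z n i ^ s i = β ⟨⇑s, hs⟩ := (hβ ⟨⇑s, hs⟩).symm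
      rw [this, Module.Basis.repr_self, Finsupp.single_apply]
      have hiff : ((⟨⇑s, hs⟩ : {p : ι → ℕ // ∑ i, p i ≤ n}) = p₀) ↔
          s = Finsupp.equivFunOnFinite.symm p₀.1 := by
        constructor
        · intro h
          rw [← h]
          ext i
          rfl
        · intro h
          apply Subtype.ext
          change ⇑s = p₀.1
          rw [h]
          rfl
      by_cases h : s = Finsupp.equivFunOnFinite.symm p₀.1
      · rw [if_pos (hiff.mpr h), if_pos h, mul_one]
      · rw [if_neg (fun h' => h (hiff.mp h')), if_neg h, mul_zero]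
    · rw [prod_zeta_pow_eq_zero A B ι z n (⇑s) (by omega), map_zero, Finsupp.zero_apply, mul_zero,
        if_neg]
      intro h
      apply hs
      rw [h]
      exact p₀.2
  simp only [hterm]
  rw [Finset.sum_ite_eq']
  split_ifs with h
  · rfl
  · exact (MvPolynomial.notMem_support_iff.mp h).symm

omit [DecidableEq ι] in
theorem finsupp_eq (s : ι →₀ ℕ) : Finsupp.equivFunOnFinite.symm (⇑s) = s := by
  ext i
  rfl

include hβ in
theorem aeval_zeta_surjective :
    Function.Surjective (MvPolynomial.aeval (R := B) (zeta A B ι z n)) := by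
  classical
  have := finiteJ ι n
  letI := Fintype.ofFinite {p : ι → ℕ // ∑ i, p i ≤ n}
  intro y
  refine ⟨∑ p : {p : ι → ℕ // ∑ i, p i ≤ n},
    MvPolynomial.monomial (Finsupp.equivFunOnFinite.symm p.1) (β.repr y p), ?_⟩
  rw [map_sum]
  conv_rhs => rw [← β.sum_repr y]
  refine Finset.sum_congr rfl fun p _ => ?_
  rw [MvPolynomial.aeval_monomial, hβ p, Algebra.smul_def, Finsupp.prod_fintype _ _ (by simp)]
  rfl

include hβ in
theorem ker_aeval_zeta :
    RingHom.ker (MvPolynomial.aeval (R := B) (zeta A B ι z n)).toRingHom =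
      (Ideal.span (Set.range (MvPolynomial.X : ι → MvPolynomial ι B))) ^ (n + 1) := by
  classical
  ext f
  rw [RingHom.mem_ker]
  change MvPolynomial.aeval (zeta A B ι z n) f = 0 ↔ f ∈ MvPolynomial.idealOfVars ι B ^ (n + 1)
  rw [MvPolynomial.mem_pow_idealOfVars_iff']
  constructor
  · intro h s hs
    rw [Finsupp.degree_eq_sum] at hs
    have := repr_aeval A B ι z n β hβ f ⟨⇑s, by omega⟩
    rw [h, map_zero, Finsupp.zero_apply] at this
    rw [this, finsupp_eq]
  · intro h
    rw [aeval_zeta_eq_sum]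
    apply Finset.sum_eq_zero
    intro s hs
    have hdeg : ¬ (Finsupp.degree s < n + 1) := fun hlt =>
      (MvPolynomial.mem_support_iff.mp hs) (h s hlt)
    rw [Finsupp.degree_eq_sum] at hdeg
    rw [prod_zeta_pow_eq_zero A B ι z n (⇑s) (by omega), smul_zero]

end presentation

section ext

variable (A S K : Type u) [CommRing A] [CommRing S] [CommRing K] [Algebra A S] [Algebra A K]
  [Algebra S K] [IsScalarTower A S K] [Algebra.FormallySmooth S K]

/-- A differential operator on `S` extends to a formally smooth `S`-algebra `K`. -/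
theorem exists_ext_op (k : ℕ) (D : S →ₗ[A] S) (hD : Diff16.IsDiffOpLE A S S S k D) :
    ∃ D' : K →ₗ[A] K, Diff16.IsDiffOpLE A K K K k D' ∧
      ∀ s : S, D' (algebraMap S K s) = algebraMap S K (D s) := by
  let D₁ : S →ₗ[A] K := (Algebra.linearMap S K).restrictScalars A ∘ₗ D
  have hD₁ : Diff16.IsDiffOpLE A S S K k D₁ :=
    Groth.Agent.S9472.isDiffOpLE_comp_left (Algebra.linearMap S K) k D hD
  obtain ⟨D₂, hD₂, hD₂'⟩ := DiffEtale.exists_extension k A S K S K D₁ hD₁
  let e : K ⊗[S] S ≃ₗ[K] K := TensorProduct.AlgebraTensorModule.rid S K K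
  have he : Diff16.IsDiffOpLE A K K (K ⊗[S] S) 0 (e.symm.toLinearMap.restrictScalars A) := by
    intro b m
    exact map_smul e.symm b m
  have h := Groth.Agent.Lib.Helper23.isDiffOpLE_comp 0 k _ D₂ he hD₂
  rw [zero_add] at h
  refine ⟨D₂ ∘ₗ e.symm.toLinearMap.restrictScalars A, h, fun s => ?_⟩
  have h1 : e.symm (algebraMap S K s) = (1 : K) ⊗ₜ[S] s := by
    rw [LinearEquiv.symm_apply_eq]
    simp [e, Algebra.smul_def]
  change D₂ (e.symm (algebraMap S K s)) = _
  rw [h1, hD₂']
  rfl

end ext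


end Groth.Agent.Lib.Helper70.DiffSmoothPres
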