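import Groth.Agent.S2797
import Groth.Agent.S9472
import Mathlib.RingTheory.MvPolynomial.Basic

/-!
# Divided-power differential operators on polynomial rings (helper70)

For `C = A[X_i : i ∈ σ]` (`σ` a finite type) and a multi-index `p : σ → ℕ`, the `A`-linear operator
`Dp p : C → C`, `X^q ↦ (∏ binom(q_i, p_i)) X^(q - p)`, is a differential operator of order `≤ |p|`
relative to `A` (`isDiffOpLE_Dp`).
-/

set_option autoImplicit false
universe u
open MvPolynomial

namespace Groth.Agent.Lib.Helper70.PolyDivPow

variable (A : Type u) [CommRing A] (σ : Type) [Fintype σ] [DecidableEq σ]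

/-- the monomial `∏ X_i ^ q_i`. -/
noncomputable def mono (q : σ → ℕ) : MvPolynomial σ A := ∏ i, X i ^ q i

theorem mono_eq_monomial (q : σ → ℕ) :
    mono A σ q = monomial (Finsupp.equivFunOnFinite.symm q) 1 := by
  rw [mono, monomial_eq, C_1, one_mul, Finsupp.prod_fintype _ _ (fun i => pow_zero _)]
  rfl

/-- the monomial basis indexed by functions. -/
noncomputable def monoBasis : Module.Basis (σ → ℕ) A (MvPolynomial σ A) :=
  (basisMonomials σ A).reindex Finsupp.equivFunOnFinite

theorem monoBasis_apply (q : σ → ℕ) : monoBasis A σ q = mono A σ q := by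
  rw [monoBasis, Module.Basis.reindex_apply, coe_basisMonomials, mono_eq_monomial]

/-- the multi-binomial coefficient. -/
def binom {σ : Type} [Fintype σ] (q p : σ → ℕ) : ℕ := ∏ i, (q i).choose (p i)

/-- the divided-power operator `X^q ↦ binom(q,p) X^(q-p)`. -/
noncomputable def Dp (p : σ → ℕ) : MvPolynomial σ A →ₗ[A] MvPolynomial σ A :=
  (monoBasis A σ).constr A (fun q => (binom q p : MvPolynomial σ A) * mono A σ (q - p))

theorem Dp_mono (p q : σ → ℕ) :
    Dp A σ p (mono A σ q) = (binom q p : MvPolynomial σ A) * mono A σ (q - p) := by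
  rw [← monoBasis_apply, Dp, Module.Basis.constr_basis]

theorem X_mul_mono (i : σ) (q : σ → ℕ) :
    X i * mono A σ q = mono A σ (q + Pi.single i 1) := by
  rw [mono, mono]
  simp only [Pi.add_apply, pow_add, Finset.prod_mul_distrib]
  have h : ∏ j, (X j : MvPolynomial σ A) ^ (Pi.single i 1 : σ → ℕ) j = X i := by
    rw [Fintype.prod_eq_single i (fun j hj => by rw [Pi.single_eq_of_ne hj, pow_zero]),
      Pi.single_eq_same, pow_one]
  rw [h, mul_comm]

omit [DecidableEq σ] in
theorem binom_ne_zero_le (q p : σ → ℕ) (h : binom q p ≠ 0) : p ≤ q := by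
  intro i
  by_contra hlt
  apply h
  unfold binom
  exact Finset.prod_eq_zero (Finset.mem_univ i) (Nat.choose_eq_zero_of_lt (not_le.mp hlt))

theorem binom_add_single_of_zero (q p : σ → ℕ) (i : σ) (hp : p i = 0) :
    binom (q + Pi.single i 1) p = binom q p := by
  unfold binom
  refine Finset.prod_congr rfl fun j _ => ?_
  by_cases hj : j = i
  · subst hj
    rw [hp, Nat.choose_zero_right, Nat.choose_zero_right]
  · simp [Pi.single_eq_of_ne hj]

theorem binom_pascal (q p : σ → ℕ) (i : σ) (hp : p i ≠ 0) :
    binom (q + Pi.single i 1) p = binom q (p - Pi.single i 1) + binom q p := by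
  unfold binom
  have e1 := (Finset.mul_prod_erase Finset.univ
    (fun j => ((q + Pi.single i 1 : σ → ℕ) j).choose (p j)) (Finset.mem_univ i)).symm
  have e2 := (Finset.mul_prod_erase Finset.univ
    (fun j => (q j).choose ((p - Pi.single i 1 : σ → ℕ) j)) (Finset.mem_univ i)).symm
  have e3 := (Finset.mul_prod_erase Finset.univ
    (fun j => (q j).choose (p j)) (Finset.mem_univ i)).symm
  rw [e1, e2, e3]
  have h1 : ∀ j ∈ Finset.univ.erase i,
      ((q + Pi.single i 1 : σ → ℕ) j).choose (p j) = (q j).choose (p j) := by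
    intro j hj
    have : j ≠ i := (Finset.mem_erase.mp hj).1
    simp [Pi.single_eq_of_ne this]
  have h2 : ∀ j ∈ Finset.univ.erase i,
      (q j).choose ((p - Pi.single i 1 : σ → ℕ) j) = (q j).choose (p j) := by
    intro j hj
    have : j ≠ i := (Finset.mem_erase.mp hj).1
    simp [Pi.single_eq_of_ne this]
  rw [Finset.prod_congr rfl h1, Finset.prod_congr rfl h2, ← add_mul]
  congr 1
  obtain ⟨c, hc⟩ := Nat.exists_eq_succ_of_ne_zero hp
  simp only [Pi.add_apply, Pi.single_eq_same, Pi.sub_apply, hc]
  rw [Nat.succ_sub_one, Nat.succ_eq_add_one, Nat.choose_succ_succ]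

theorem commutator_Dp_X (p : σ → ℕ) (i : σ) :
    Diff16.commutator A (MvPolynomial σ A) (MvPolynomial σ A) (MvPolynomial σ A) (Dp A σ p) (X i) =
      if p i = 0 then 0 else Dp A σ (p - Pi.single i 1) := by
  apply (monoBasis A σ).ext
  intro q
  rw [monoBasis_apply, Groth.Agent.S9472.commutator_apply, smul_eq_mul, smul_eq_mul, X_mul_mono,
    Dp_mono, Dp_mono]
  split_ifs with hp
  · rw [binom_add_single_of_zero σ q p i hp, LinearMap.zero_apply, sub_eq_zero]
    have h1 : q + Pi.single i 1 - p = (q - p) + Pi.single i 1 := by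
      funext j
      by_cases hj : j = i
      · subst hj
        simp only [Pi.sub_apply, Pi.add_apply, Pi.single_eq_same, hp]
        omega
      · simp [Pi.single_eq_of_ne hj]
    rw [h1, ← X_mul_mono]
    ring
  · rw [Dp_mono, binom_pascal σ q p i hp, Nat.cast_add, add_mul]
    have h1 : q + Pi.single i 1 - p = q - (p - Pi.single i 1) := by
      funext j
      by_cases hj : j = i
      · subst hj
        simp only [Pi.sub_apply, Pi.add_apply, Pi.single_eq_same]
        omega
      · simp [Pi.single_eq_of_ne hj]
    rw [h1]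
    by_cases hb : binom q p = 0
    · rw [hb]
      simp
    · have hle := binom_ne_zero_le σ q p hb
      have h2 : X i * mono A σ (q - p) = mono A σ (q - (p - Pi.single i 1)) := by
        rw [X_mul_mono]
        congr 1
        funext j
        have hj' : p j ≤ q j := hle j
        by_cases hj : j = i
        · subst hj
          simp only [Pi.sub_apply, Pi.add_apply, Pi.single_eq_same]
          omega
        · simp [Pi.single_eq_of_ne hj]
      rw [mul_left_comm, h2]
      ring

theorem Dp_zero : Dp A σ 0 = LinearMap.id := by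
  apply (monoBasis A σ).ext
  intro q
  rw [monoBasis_apply, Dp_mono, LinearMap.id_apply]
  have h1 : binom q (0 : σ → ℕ) = 1 := by
    unfold binom
    exact Finset.prod_eq_one fun i _ => Nat.choose_zero_right _
  rw [h1, Nat.cast_one, one_mul, tsub_zero]

theorem isDiffOpLE_Dp : ∀ (m : ℕ) (p : σ → ℕ), ∑ i, p i = m →
    Diff16.IsDiffOpLE A (MvPolynomial σ A) (MvPolynomial σ A) (MvPolynomial σ A) m (Dp A σ p) := by
  intro m
  induction m with
  | zero =>
    intro p hp
    have h0 : p = 0 := by
      funext i
      exact (Finset.sum_eq_zero_iff.mp hp) i (Finset.mem_univ i)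
    rw [h0, Dp_zero]
    intro b x
    rfl
  | succ m ih =>
    intro p hp
    apply Groth.Agent.S2797.result A (MvPolynomial σ A) (MvPolynomial σ A) (MvPolynomial σ A)
      (Set.range X) adjoin_range_X m (Dp A σ p)
    rintro _ ⟨i, rfl⟩
    rw [commutator_Dp_X]
    split_ifs with hpi
    · exact Groth.Agent.S9472.isDiffOpLE_zero m
    · apply ih
      have h1 : p = (p - Pi.single i 1) + Pi.single i 1 := by
        funext j
        by_cases hj : j = i
        · subst hj
          simp only [Pi.sub_apply, Pi.add_apply, Pi.single_eq_same]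
          omega
        · simp [Pi.single_eq_of_ne hj]
      have h2 : ∑ j, p j = ∑ j, (p - Pi.single i 1 : σ → ℕ) j + 1 := by
        conv_lhs => rw [h1]
        simp only [Pi.add_apply, Finset.sum_add_distrib]
        congr 1
        rw [Fintype.sum_eq_single i (fun j hj => Pi.single_eq_of_ne hj _), Pi.single_eq_same]
      omega

end Groth.Agent.Lib.Helper70.PolyDivPow
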