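import Mathlib
import Groth.Agent.Lib.Helper51.RelSepClosed

set_option autoImplicit false
set_option linter.style.haveILetI false

namespace Groth.Agent.Lib.Helper70.FieldTensor

open TensorProduct

/-- If `F` is algebraically closed in `K`, `E/F` is finite and `K ⊗[F] E` is reduced, then
`K ⊗[F] E` is a field. -/
theorem isField_tensor {F K E : Type*} [Field F] [Field K] [Field E] [Algebra F K] [Algebra F E]
    [FiniteDimensional F E]
    (hcl : ∀ a : K, IsIntegral F a → a ∈ Set.range (algebraMap F K))
    (hred : IsReduced (K ⊗[F] E)) : IsField (K ⊗[F] E) := by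
  classical
  let Es := separableClosure F E
  haveI : Algebra.IsSeparable F Es := separableClosure.isSeparable F E
  haveI : IsPurelyInseparable Es E := separableClosure.isPurelyInseparable F E
  haveI hdom : IsDomain (K ⊗[F] Es) :=
    Groth.Agent.Lib.Helper51.isDomain_tensor_of_relSepClosed (k := F) (L := K) (K := Es)
      (fun a ha => hcl a ha.isIntegral)
  have hfld : IsField (K ⊗[F] Es) := by
    have h := isField_of_isIntegral_of_isField' (R := K) (S := K ⊗[F] Es) (Field.toIsField K)
    exact ⟨h.exists_pair_ne, h.mul_comm, h.mul_inv_cancel⟩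
  let φ : K ⊗[F] Es →ₐ[K] K ⊗[F] E := Algebra.TensorProduct.map (AlgHom.id K K) Es.val
  let q := ringExpChar F
  haveI : ExpChar F q := ringExpChar.expChar F
  haveI : Nontrivial (K ⊗[F] E) := inferInstance
  haveI hqR : ExpChar (K ⊗[F] E) q :=
    expChar_of_injective_algebraMap (algebraMap F (K ⊗[F] E)).injective q
  haveI hqEs : ExpChar Es q :=
    expChar_of_injective_algebraMap (algebraMap F Es).injective q
  haveI hqK : ExpChar K q :=
    expChar_of_injective_algebraMap (algebraMap F K).injective q
  -- every element has a `q^n`-th power in the range of `φ`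
  have hpow : ∀ r : K ⊗[F] E, ∃ n : ℕ, r ^ q ^ n ∈ φ.range := by
    intro r
    induction r using TensorProduct.induction_on with
    | zero => exact ⟨0, by simp⟩
    | tmul a e =>
      obtain ⟨n, y, hy⟩ := IsPurelyInseparable.pow_mem Es q e
      refine ⟨n, (a ^ q ^ n) ⊗ₜ[F] y, ?_⟩
      show Algebra.TensorProduct.map (AlgHom.id K K) Es.val ((a ^ q ^ n) ⊗ₜ[F] y) = _
      rw [Algebra.TensorProduct.map_tmul, Algebra.TensorProduct.tmul_pow]
      congr 1
    | add r s hr hs =>
      obtain ⟨n, hn⟩ := hr
      obtain ⟨m, hm⟩ := hs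
      refine ⟨n + m, ?_⟩
      rw [add_pow_expChar_pow]
      refine add_mem ?_ ?_
      · rw [pow_add, pow_mul]
        exact pow_mem hn _
      · rw [add_comm n m, pow_add, pow_mul]
        exact pow_mem hm _
  refine ⟨exists_pair_ne _, mul_comm, ?_⟩
  intro r hr
  obtain ⟨n, s, hs⟩ := hpow r
  have hs0 : s ≠ 0 := by
    rintro rfl
    rw [map_zero] at hs
    exact hr (IsReduced.eq_zero _ ⟨_, hs.symm⟩)
  obtain ⟨t, ht⟩ := hfld.mul_inv_cancel hs0
  have hunit : IsUnit (r ^ q ^ n) := by
    rw [← hs]
    exact ⟨⟨φ.toRingHom s, φ.toRingHom t, by rw [← RingHom.map_mul, ht, RingHom.map_one],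
      by rw [← RingHom.map_mul, hfld.mul_comm, ht, RingHom.map_one]⟩, rfl⟩
  have hpos : q ^ n ≠ 0 := pow_ne_zero _ (expChar_pos F q).ne'
  have hru : IsUnit r := (isUnit_pow_iff hpos).mp hunit
  obtain ⟨u, hu⟩ := hru.exists_right_inv
  exact ⟨u, hu⟩

/-- Degree divisibility: if `F` is algebraically closed in `K`, `E/F` is finite, `K ⊗[F] E` is
reduced, and `L` contains `K` and `E` compatibly, then `[E : F] ∣ [L : K]`. -/
theorem finrank_dvd {F K E L : Type*} [Field F] [Field K] [Field E] [Field L]
    [Algebra F K] [Algebra F E] [Algebra K L] [Algebra E L] [Algebra F L]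
    [IsScalarTower F K L] [IsScalarTower F E L] [FiniteDimensional F E]
    (hcl : ∀ a : K, IsIntegral F a → a ∈ Set.range (algebraMap F K))
    (hred : IsReduced (K ⊗[F] E)) : Module.finrank F E ∣ Module.finrank K L := by
  have hfld := isField_tensor hcl hred
  letI : Field (K ⊗[F] E) := hfld.toField
  let ψ : K ⊗[F] E →ₐ[K] L := Algebra.TensorProduct.lift (Algebra.ofId K L)
    (IsScalarTower.toAlgHom F E L) (fun _ _ => Commute.all _ _)
  letI : Algebra (K ⊗[F] E) L := ψ.toRingHom.toAlgebra
  haveI : IsScalarTower K (K ⊗[F] E) L :=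
    IsScalarTower.of_algebraMap_eq (fun x => (ψ.commutes x).symm)
  have h1 := Module.finrank_mul_finrank K (K ⊗[F] E) L
  have h2 : Module.finrank K (K ⊗[F] E) = Module.finrank F E := Module.finrank_baseChange
  exact ⟨_, by rw [← h1, h2]⟩

end Groth.Agent.Lib.Helper70.FieldTensor
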