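import Mathlib

set_option autoImplicit false
set_option linter.style.haveILetI false
universe u

open AlgebraicGeometry CategoryTheory CategoryTheory.Limits TensorProduct

namespace Groth.Agent.Lib.Helper70.GeomRedSch

variable {X Z : Scheme.{u}}

theorem fromSpecResidueField_eq {V : Z.Opens} (hV : IsAffineOpen V) (z : Z) (hz : z ∈ V) :
    Spec.map (Z.evaluation V z hz) ≫ hV.fromSpec = Z.fromSpecResidueField z := by
  rw [Scheme.fromSpecResidueField, ← hV.fromSpecStalk_eq_fromSpecStalk hz,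
    IsAffineOpen.fromSpecStalk, Scheme.evaluation, Spec.map_comp, Category.assoc]

theorem isReduced_tensor_of_geometricallyReduced (f : X ⟶ Z) (x : X)
    (hsep : GeometricallyReduced (pullback.snd f (Z.fromSpecResidueField (f x))))
    {U : X.Opens} {V : Z.Opens} (hU : IsAffineOpen U) (hV : IsAffineOpen V) (e : U ≤ f ⁻¹ᵁ V)
    (hx : x ∈ U) (K' : Type u) [Field K'] [Algebra (Z.residueField (f x)) K'] :
    letI : Algebra Γ(Z, V) Γ(X, U) := (f.appLE V U e).hom.toAlgebra
    letI : Algebra Γ(Z, V) K' := ((algebraMap (Z.residueField (f x)) K').comp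
      (Z.evaluation V (f x) (e hx)).hom).toAlgebra
    IsReduced (Γ(X, U) ⊗[Γ(Z, V)] K') := by
  letI a1 : Algebra Γ(Z, V) Γ(X, U) := (f.appLE V U e).hom.toAlgebra
  letI a2 : Algebra Γ(Z, V) K' := ((algebraMap (Z.residueField (f x)) K').comp
      (Z.evaluation V (f x) (e hx)).hom).toAlgebra
  show IsReduced (Γ(X, U) ⊗[Γ(Z, V)] K')
  let η := Z.fromSpecResidueField (f x)
  let g := pullback.snd f η
  let y : Spec (.of K') ⟶ Spec (Z.residueField (f x)) :=
    Spec.map (CommRingCat.ofHom (algebraMap (Z.residueField (f x)) K'))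
  have hW : IsReduced (pullback g y) :=
    hsep.geometrically_isReduced y _ _ (IsPullback.of_hasPullback g y)
  have hpb : IsPullback (pullback.fst g y ≫ pullback.fst f η) (pullback.snd g y) f (y ≫ η) :=
    IsPullback.paste_horiz (IsPullback.of_hasPullback g y) (IsPullback.of_hasPullback f η)
  have hW' : IsReduced (pullback f (y ≫ η)) := isReduced_of_isOpenImmersion hpb.isoPullback.inv
  have e₁ : Spec.map (CommRingCat.ofHom (algebraMap Γ(Z, V) Γ(X, U))) ≫ hV.fromSpec =
      hU.fromSpec ≫ f := hV.SpecMap_appLE_fromSpec f hU e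
  have e₂ : Spec.map (CommRingCat.ofHom (algebraMap Γ(Z, V) K')) ≫ hV.fromSpec =
      𝟙 _ ≫ (y ≫ η) := by
    rw [Category.id_comp]
    show _ = y ≫ Z.fromSpecResidueField (f x)
    rw [← fromSpecResidueField_eq hV (f x) (e hx), ← Category.assoc, ← Spec.map_comp]
    rfl
  have h3 : IsReduced (pullback (Spec.map (CommRingCat.ofHom (algebraMap Γ(Z, V) Γ(X, U))))
      (Spec.map (CommRingCat.ofHom (algebraMap Γ(Z, V) K')))) :=
    isReduced_of_isOpenImmersion
      (pullback.map _ _ f (y ≫ η) hU.fromSpec (𝟙 _) hV.fromSpec e₁ e₂)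
  have h4 : IsReduced (Spec (.of (Γ(X, U) ⊗[Γ(Z, V)] K'))) :=
    isReduced_of_isOpenImmersion (pullbackSpecIso Γ(Z, V) Γ(X, U) K').inv
  exact (affine_isReduced_iff _).1 h4

end Groth.Agent.Lib.Helper70.GeomRedSch
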