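import Groth.Agent.Lib.Helper48.Conormal14
import Mathlib.RingTheory.Etale.Field

set_option autoImplicit false
set_option linter.style.haveILetI false
universe u

open TensorProduct KaehlerDifferential

namespace Groth.Agent.Lib.Helper70.OmegaMonoAlg

/-- Algebra core: `R → A → B ⊆ L` with `A → L` formally smooth and `Ω_{A/R}` flat over `A`.
Then `B ⊗_A Ω_{A/R} → Ω_{B/R}` is injective. -/
theorem mapBaseChange_injective_of_formallySmooth_of_injective (R A B L : Type u)
    [CommRing R] [CommRing A] [CommRing B] [CommRing L]
    [Algebra R A] [Algebra A B] [Algebra R B] [IsScalarTower R A B]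
    [Algebra B L] [Algebra A L] [Algebra R L] [IsScalarTower A B L] [IsScalarTower R B L]
    [IsScalarTower R A L] (hBL : Function.Injective (algebraMap B L))
    [Module.Flat A Ω[A⁄R]] [Algebra.FormallySmooth A L] :
    Function.Injective (mapBaseChange R A B) := by
  let ι : B ⊗[A] Ω[A⁄R] →ₗ[A] L ⊗[A] Ω[A⁄R] :=
    (IsScalarTower.toAlgHom A B L).toLinearMap.rTensor Ω[A⁄R]
  have hι : Function.Injective ι :=
    Module.Flat.rTensor_preserves_injective_linearMap _ hBL
  have hcomm : ∀ x : B ⊗[A] Ω[A⁄R],
      KaehlerDifferential.map R R B L (mapBaseChange R A B x) = mapBaseChange R A L (ι x) := by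
    intro x
    induction x using TensorProduct.induction_on with
    | zero => simp
    | tmul b ω =>
      rw [mapBaseChange_tmul, LinearMap.map_smul_of_tower]
      show _ = mapBaseChange R A L ((algebraMap B L b) ⊗ₜ ω)
      rw [mapBaseChange_tmul, algebraMap_smul]
      congr 1
      have hω : ω ∈ Submodule.span A (Set.range (KaehlerDifferential.D R A)) := by
        rw [KaehlerDifferential.span_range_derivation]; trivial
      induction hω using Submodule.span_induction with
      | mem y hy =>
        obtain ⟨a, rfl⟩ := hy
        rw [KaehlerDifferential.map_D, KaehlerDifferential.map_D, KaehlerDifferential.map_D,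
          ← IsScalarTower.algebraMap_apply]
      | zero => simp
      | add y z _ _ hy hz => rw [map_add, map_add, map_add, hy, hz]
      | smul r y _ hy =>
        rw [LinearMap.map_smul, ← algebraMap_smul B r (KaehlerDifferential.map R R A B y),
          LinearMap.map_smul, hy, LinearMap.map_smul, algebraMap_smul]
    | add x y hx hy => rw [map_add, map_add, map_add, map_add, hx, hy]
  rw [injective_iff_map_eq_zero]
  intro x hx
  apply hι
  rw [map_zero]
  apply Groth.Agent.Lib.Helper48.Conormal.mapBaseChange_injective_of_formallySmooth R A L
  rw [← hcomm, hx, map_zero, map_zero]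

end Groth.Agent.Lib.Helper70.OmegaMonoAlg
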