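import Groth.Agent.Lib.Helper70.OmegaMono
import Groth.Agent.Lib.Helper70.OmegaMonoAlg
import Mathlib.AlgebraicGeometry.FunctionField

set_option autoImplicit false
set_option linter.style.haveILetI false
universe u

open AlgebraicGeometry CategoryTheory Opposite TopologicalSpace CategoryTheory.Limits

namespace Groth.Agent.Lib.Helper70.OmegaMonoSch

variable {X Y : Scheme.{u}}

/-- The image of the generic point under a dominant map of integral schemes is the generic point. -/
theorem map_genericPoint_of_denseRange [IsIntegral X] [IsIntegral Y] (φ : X ⟶ Y)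
    (hdom : DenseRange φ.base) : φ (genericPoint X) = genericPoint Y := by
  have h1 : IsGenericPoint (φ (genericPoint X)) (⊤ : Set Y) := by
    rw [isGenericPoint_def]
    apply top_unique
    intro y _
    have hy : y ∈ closure (Set.range φ.base) := hdom y
    refine closure_minimal ?_ isClosed_closure hy
    rintro _ ⟨x, rfl⟩
    have hx : x ∈ closure ({genericPoint X} : Set X) := by
      rw [(genericPoint_spec X).def]; trivial
    exact image_closure_subset_closure_image φ.continuous ⟨x, hx, rfl⟩ |> fun h => by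
      simpa using h
  exact h1.eq (genericPoint_spec Y)

/-- residue map at the generic point of an integral scheme is bijective -/
theorem residue_bijective_of_eq_genericPoint [IsIntegral Y] (y : Y) (hy : y = genericPoint Y) :
    Function.Bijective (Y.residue y).hom := by
  subst hy
  have hF : IsField (Y.presheaf.stalk (genericPoint Y)) := Field.toIsField Y.functionField
  rw [IsLocalRing.isField_iff_maximalIdeal_eq] at hF
  refine ⟨fun a b hab => ?_, Y.residue_surjective _⟩
  have h1 : a - b ∈ IsLocalRing.maximalIdeal (Y.presheaf.stalk (genericPoint Y)) := by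
    rw [← IsLocalRing.residue_eq_zero_iff]
    have : IsLocalRing.residue _ a = IsLocalRing.residue _ b := hab
    rw [map_sub, this, sub_self]
  rw [hF] at h1
  exact sub_eq_zero.1 h1

/-- germ maps from affine opens are formally smooth (localisations) -/
theorem germ_formallySmooth {V : Y.Opens} (hV : IsAffineOpen V) (y : Y) (hy : y ∈ V) :
    (Y.presheaf.germ V y hy).hom.FormallySmooth := by
  letI : Algebra Γ(Y, V) (Y.presheaf.stalk y) := Y.presheaf.algebra_section_stalk ⟨y, hy⟩
  haveI : IsLocalization.AtPrime (Y.presheaf.stalk y) (hV.primeIdealOf ⟨y, hy⟩).asIdeal :=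
    hV.isLocalization_stalk ⟨y, hy⟩
  have h : Algebra.FormallySmooth Γ(Y, V) (Y.presheaf.stalk y) :=
    Algebra.FormallySmooth.of_isLocalization (hV.primeIdealOf ⟨y, hy⟩).asIdeal.primeCompl
  exact RingHom.formallySmooth_algebraMap.2 h

/-- the residue field extension being separable, the map on residue fields is formally smooth -/
theorem residueFieldMap_formallySmooth (φ : X ⟶ Y) (x : X)
    (hsep : letI := (φ.residueFieldMap x).hom.toAlgebra
      Algebra.IsSeparable (Y.residueField (φ x)) (X.residueField x)) :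
    (φ.residueFieldMap x).hom.FormallySmooth := by
  letI := (φ.residueFieldMap x).hom.toAlgebra
  haveI := hsep
  have h : Algebra.FormallyEtale (Y.residueField (φ x)) (X.residueField x) :=
    Algebra.FormallyEtale.of_isSeparable _ _
  show Algebra.FormallySmooth (Y.residueField (φ x)) (X.residueField x)
  infer_instance

theorem appLE_evaluation (φ : X ⟶ Y) {U : X.Opens} {V : Y.Opens} (e : U ≤ φ ⁻¹ᵁ V) (x : X)
    (hx : x ∈ U) :
    φ.appLE V U e ≫ X.evaluation U x hx =
      Y.evaluation V (φ x) (e hx) ≫ φ.residueFieldMap x := by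
  rw [Scheme.evaluation_naturality, Scheme.Hom.appLE, Category.assoc]
  congr 1
  unfold Scheme.evaluation
  rw [← Category.assoc]
  congr 1
  exact TopCat.Presheaf.germ_res _ _ _ _

/-- For a dominant morphism of integral schemes which is separable at the generic point, the
map `Γ(Y, V) → κ(η_X)` is formally smooth. -/
theorem formallySmooth_evaluation_comp_appLE [IsIntegral X] [IsIntegral Y] (φ : X ⟶ Y)
    (hdom : DenseRange φ.base)
    (hsep : letI := (φ.residueFieldMap (genericPoint X)).hom.toAlgebra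
      Algebra.IsSeparable (Y.residueField (φ (genericPoint X))) (X.residueField (genericPoint X)))
    {U : X.Opens} {V : Y.Opens} (hV : IsAffineOpen V) (e : U ≤ φ ⁻¹ᵁ V)
    (hη : genericPoint X ∈ U) :
    ((X.evaluation U (genericPoint X) hη).hom.comp (φ.appLE V U e).hom).FormallySmooth := by
  have key := appLE_evaluation φ e (genericPoint X) hη
  have h1 : (X.evaluation U (genericPoint X) hη).hom.comp (φ.appLE V U e).hom =
      (φ.residueFieldMap (genericPoint X)).hom.comp
        ((Y.residue (φ (genericPoint X))).hom.comp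
          (Y.presheaf.germ V (φ (genericPoint X)) (e hη)).hom) := by
    have := congrArg (fun f => f.hom) key
    simp only [CommRingCat.hom_comp] at this
    rw [this, ← RingHom.comp_assoc]
    rfl
  rw [h1]
  refine RingHom.FormallySmooth.comp (RingHom.FormallySmooth.comp ?_ ?_) ?_
  · exact germ_formallySmooth hV _ _
  · exact RingHom.FormallySmooth.of_bijective
      (residue_bijective_of_eq_genericPoint _ (map_genericPoint_of_denseRange φ hdom))
  · exact residueFieldMap_formallySmooth φ _ hsep

open KaehlerDifferential in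
/-- Ring-level injectivity for affine opens `U ≤ φ⁻¹V`, `V ≤ pY⁻¹T`, `U` containing the generic
point. -/
theorem mapBaseChange_injective_appLE {S : Scheme.{u}} [IsIntegral X] [IsIntegral Y]
    (pY : Y ⟶ S) [Smooth pY] (φ : X ⟶ Y) (hdom : DenseRange φ.base)
    (hsep : letI := (φ.residueFieldMap (genericPoint X)).hom.toAlgebra
      Algebra.IsSeparable (Y.residueField (φ (genericPoint X))) (X.residueField (genericPoint X)))
    {U : X.Opens} {V : Y.Opens} {T : S.Opens} (hV : IsAffineOpen V) (hT : IsAffineOpen T)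
    (e : U ≤ φ ⁻¹ᵁ V) (eVT : V ≤ pY ⁻¹ᵁ T) (hη : genericPoint X ∈ U) :
    letI : Algebra Γ(Y, V) Γ(X, U) := (φ.appLE V U e).hom.toAlgebra
    letI : Algebra Γ(S, T) Γ(Y, V) := (pY.appLE T V eVT).hom.toAlgebra
    letI : Algebra Γ(S, T) Γ(X, U) :=
      ((φ ≫ pY).appLE T U (fun _ hx => eVT (e hx))).hom.toAlgebra
    letI : IsScalarTower Γ(S, T) Γ(Y, V) Γ(X, U) := OmegaMono.isScalarTower_appLE pY φ e eVT
    Function.Injective (mapBaseChange Γ(S, T) Γ(Y, V) Γ(X, U)) := by
  letI aAB : Algebra Γ(Y, V) Γ(X, U) := (φ.appLE V U e).hom.toAlgebra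
  letI aRA : Algebra Γ(S, T) Γ(Y, V) := (pY.appLE T V eVT).hom.toAlgebra
  letI aRB : Algebra Γ(S, T) Γ(X, U) :=
    ((φ ≫ pY).appLE T U (fun _ hx => eVT (e hx))).hom.toAlgebra
  haveI tw : IsScalarTower Γ(S, T) Γ(Y, V) Γ(X, U) := OmegaMono.isScalarTower_appLE pY φ e eVT
  show Function.Injective (mapBaseChange Γ(S, T) Γ(Y, V) Γ(X, U))
  -- the field `L = κ(η_X)`
  letI aBL : Algebra Γ(X, U) (X.residueField (genericPoint X)) :=
    (X.evaluation U (genericPoint X) hη).hom.toAlgebra
  letI aAL : Algebra Γ(Y, V) (X.residueField (genericPoint X)) :=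
    ((X.evaluation U (genericPoint X) hη).hom.comp (φ.appLE V U e).hom).toAlgebra
  letI aRL : Algebra Γ(S, T) (X.residueField (genericPoint X)) :=
    (((X.evaluation U (genericPoint X) hη).hom.comp (φ.appLE V U e).hom).comp
      (pY.appLE T V eVT).hom).toAlgebra
  haveI t1 : IsScalarTower Γ(Y, V) Γ(X, U) (X.residueField (genericPoint X)) :=
    IsScalarTower.of_algebraMap_eq' rfl
  haveI t2 : IsScalarTower Γ(S, T) Γ(Y, V) (X.residueField (genericPoint X)) :=
    IsScalarTower.of_algebraMap_eq' rfl
  haveI t3 : IsScalarTower Γ(S, T) Γ(X, U) (X.residueField (genericPoint X)) :=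
    IsScalarTower.of_algebraMap_eq' (by
      rw [IsScalarTower.algebraMap_eq Γ(S, T) Γ(Y, V) Γ(X, U), ← RingHom.comp_assoc]
      rfl)
  have hBL : Function.Injective (algebraMap Γ(X, U) (X.residueField (genericPoint X))) := by
    show Function.Injective ((X.residue (genericPoint X)).hom.comp
      (X.presheaf.germ U (genericPoint X) hη).hom)
    exact (residue_bijective_of_eq_genericPoint (genericPoint X) rfl).1.comp
      (germ_injective_of_isIntegral X (genericPoint X) hη)
  have hsm : Algebra.Smooth Γ(S, T) Γ(Y, V) := Smooth.smooth_appLE pY hT hV eVT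
  haveI : Algebra.FormallySmooth Γ(S, T) Γ(Y, V) := hsm.formallySmooth
  haveI : Module.Flat Γ(Y, V) Ω[Γ(Y, V)⁄Γ(S, T)] := inferInstance
  haveI : Algebra.FormallySmooth Γ(Y, V) (X.residueField (genericPoint X)) :=
    formallySmooth_evaluation_comp_appLE φ hdom hsep hV e hη
  exact OmegaMonoAlg.mapBaseChange_injective_of_formallySmooth_of_injective Γ(S, T) Γ(Y, V) Γ(X, U)
    (X.residueField (genericPoint X)) hBL

/-- For a dominant morphism `φ : X → Y` of integral schemes over `S`, with `Y` smooth over `S` and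
the extension of function fields separable algebraic, `φ^*Ω_{Y/S} → Ω_{X/S}` is a monomorphism. -/
theorem mono_of_dominant_separable {S : Scheme.{u}} [IsIntegral X] [IsIntegral Y]
    (pY : Y ⟶ S) [Smooth pY] (φ : X ⟶ Y) (hdom : DenseRange φ.base)
    (hsep : letI := (φ.residueFieldMap (genericPoint X)).hom.toAlgebra
      Algebra.IsSeparable (Y.residueField (φ (genericPoint X))) (X.residueField (genericPoint X)))
    (ΩY : Y.Modules) (dY : OmegaSh.Der pY ΩY) (hY : OmegaSh.IsUniversal dY)
    (ΩX : X.Modules) (dX : OmegaSh.Der (φ ≫ pY) ΩX) (hX : OmegaSh.IsUniversal dX)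
    (c : (Scheme.Modules.pullback φ).obj ΩY ⟶ ΩX) (hc : OmegaSh.IsDiffCompat φ dY dX c) :
    Mono c := by
  let 𝓑 : Set X.Opens := {U | IsAffineOpen U ∧ genericPoint X ∈ U ∧
    ∃ (V : Y.Opens) (T : S.Opens), IsAffineOpen V ∧ IsAffineOpen T ∧ U ≤ φ ⁻¹ᵁ V ∧ V ≤ pY ⁻¹ᵁ T}
  have h𝓑 : Opens.IsBasis 𝓑 := by
    rw [Opens.isBasis_iff_nbhd]
    intro W x hx
    obtain ⟨T, hT, hxT, -⟩ := Opens.isBasis_iff_nbhd.mp S.isBasis_affineOpens
      (show pY (φ x) ∈ (⊤ : S.Opens) from trivial)
    obtain ⟨V, hV, hxV, hVT⟩ := Opens.isBasis_iff_nbhd.mp Y.isBasis_affineOpens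
      (show φ x ∈ pY ⁻¹ᵁ T from hxT)
    obtain ⟨U, hU, hxU, hUW⟩ := Opens.isBasis_iff_nbhd.mp X.isBasis_affineOpens
      (show x ∈ W ⊓ φ ⁻¹ᵁ V from ⟨hx, hxV⟩)
    refine ⟨U, ⟨hU, ?_, V, T, hV, hT, fun z hz => (hUW hz).2, hVT⟩, hxU, fun z hz => (hUW hz).1⟩
    exact ((genericPoint_spec X).mem_open_set_iff U.2).2 ⟨x, trivial, hxU⟩
  refine Groth.Agent.Lib.Helper48.Conormal.mono_of_basis c 𝓑 h𝓑 ?_
  rintro U ⟨hU, hη, V, T, hV, hT, e, eVT⟩
  exact OmegaMono.c_app_injective_of_mapBaseChange_injective pY φ dY hY dX hX c hc hU hV hT e eVT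
    (mapBaseChange_injective_appLE pY φ hdom hsep hV hT e eVT hη)

end Groth.Agent.Lib.Helper70.OmegaMonoSch
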