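import Mathlib

set_option autoImplicit false
universe u
set_option linter.style.haveILetI false

namespace Groth.Agent.Lib.Helper70.SepGen

open TensorProduct

/-- Transfer of reducedness: if `B ⊗[A] K'` is reduced, `K` a localization of `A`, `L` a
localization of `B`, then `K' ⊗[K] L` is reduced. -/
theorem isReduced_tensor_of_isLocalization
    (A B K L K' : Type u) [CommRing A] [CommRing B] [CommRing K] [CommRing L] [CommRing K']
    [Algebra A B] [Algebra A K] [Algebra K L] [Algebra B L] [Algebra A L]
    [IsScalarTower A K L] [IsScalarTower A B L]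
    [Algebra K K'] [Algebra A K'] [IsScalarTower A K K']
    (S : Submonoid A) [IsLocalization S K] (M : Submonoid B) [IsLocalization M L]
    [IsReduced (B ⊗[A] K')] : IsReduced (K' ⊗[K] L) := by
  letI : Algebra (B ⊗[A] K') (L ⊗[A] K') :=
    (Algebra.TensorProduct.map (IsScalarTower.toAlgHom A B L) (AlgHom.id A K')).toRingHom.toAlgebra
  haveI : IsScalarTower B (B ⊗[A] K') (L ⊗[A] K') :=
    IsScalarTower.of_algebraMap_eq' (by
      ext b
      show algebraMap B L b ⊗ₜ[A] (1 : K') = _
      rfl)
  haveI hloc : IsLocalization (Algebra.algebraMapSubmonoid (B ⊗[A] K') M) (L ⊗[A] K') :=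
    IsLocalization.tensorProduct_tensorProduct A K' M L (by
      ext x
      show (Algebra.TensorProduct.map (IsScalarTower.toAlgHom A B L) (AlgHom.id A K'))
        ((1 : B) ⊗ₜ[A] x) = (1 : L) ⊗ₜ[A] x
      simp)
  have h1 : IsReduced (L ⊗[A] K') :=
    isReduced_localizationPreserves (Algebra.algebraMapSubmonoid (B ⊗[A] K') M) (L ⊗[A] K')
      inferInstance
  have h2 : IsReduced (L ⊗[K] K') :=
    isReduced_of_injective (IsLocalization.algebraTensorEquiv S K L K')
      (IsLocalization.algebraTensorEquiv S K L K').injective
  exact isReduced_of_injective (Algebra.TensorProduct.comm K K' L)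
    (Algebra.TensorProduct.comm K K' L).injective

end Groth.Agent.Lib.Helper70.SepGen
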