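import Groth.Agent.Lib.Helper70.SepGen
import Groth.Agent.Lib.Helper70.SepGenB
import Groth.Agent.Lib.Helper70.GeomRedSch
import Groth.Agent.Lib.Helper70.OmegaMonoSch

set_option autoImplicit false
set_option linter.style.haveILetI false
universe u

open AlgebraicGeometry CategoryTheory CategoryTheory.Limits TensorProduct TopologicalSpace

namespace Groth.Agent.Lib.Helper70.GeomRedFS

open Groth.Agent.Lib.Helper70.OmegaMonoSch

variable {X Z : Scheme.{u}}

/-- the residue field at the generic point is a localisation of the sections over an affine -/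
theorem isLocalization_residueField_of_eq_genericPoint [IsIntegral Z] {V : Z.Opens}
    (hV : IsAffineOpen V) (z : Z) (hz : z = genericPoint Z) (hzV : z ∈ V) :
    letI : Algebra Γ(Z, V) (Z.residueField z) := (Z.evaluation V z hzV).hom.toAlgebra
    IsLocalization (hV.primeIdealOf ⟨z, hzV⟩).asIdeal.primeCompl (Z.residueField z) := by
  letI a0 : Algebra Γ(Z, V) (Z.residueField z) := (Z.evaluation V z hzV).hom.toAlgebra
  show IsLocalization (hV.primeIdealOf ⟨z, hzV⟩).asIdeal.primeCompl (Z.residueField z)
  letI a1 : Algebra Γ(Z, V) (Z.presheaf.stalk z) := Z.presheaf.algebra_section_stalk ⟨z, hzV⟩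
  haveI h1 : IsLocalization.AtPrime (Z.presheaf.stalk z) (hV.primeIdealOf ⟨z, hzV⟩).asIdeal :=
    hV.isLocalization_stalk ⟨z, hzV⟩
  let φ : Z.presheaf.stalk z →ₐ[Γ(Z, V)] Z.residueField z :=
    { (Z.residue z).hom with commutes' := fun a => rfl }
  exact IsLocalization.isLocalization_of_algEquiv _
    (AlgEquiv.ofBijective φ (residue_bijective_of_eq_genericPoint z hz))


/-- For a dominant morphism, locally of finite type, of integral schemes whose generic fibre is
geometrically reduced, the extension of function fields is formally smooth. -/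
theorem residueFieldMap_formallySmooth_aux [IsIntegral X] [IsIntegral Z]
    (f : X ⟶ Z) [LocallyOfFiniteType f] (hdom : DenseRange f.base)
    (hsep : GeometricallyReduced (pullback.snd f (Z.fromSpecResidueField (genericPoint Z))))
    (K' : Type u) [Field K'] [Algebra (Z.residueField (f (genericPoint X))) K'] [IsAlgClosed K'] :
    (f.residueFieldMap (genericPoint X)).hom.FormallySmooth := by
  have hz : f (genericPoint X) = genericPoint Z := map_genericPoint_of_denseRange f hdom
  rw [← hz] at hsep
  obtain ⟨V, hV, hzV, -⟩ := Opens.isBasis_iff_nbhd.mp Z.isBasis_affineOpens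
    (show f (genericPoint X) ∈ (⊤ : Z.Opens) from trivial)
  obtain ⟨U, hU, hxU, e'⟩ := Opens.isBasis_iff_nbhd.mp X.isBasis_affineOpens
    (show genericPoint X ∈ f ⁻¹ᵁ V from hzV)
  have e : U ≤ f ⁻¹ᵁ V := e'
  -- algebra structures
  letI aAB : Algebra Γ(Z, V) Γ(X, U) := (f.appLE V U e).hom.toAlgebra
  letI aAK : Algebra Γ(Z, V) (Z.residueField (f (genericPoint X))) :=
    (Z.evaluation V (f (genericPoint X)) (e hxU)).hom.toAlgebra
  letI aKL : Algebra (Z.residueField (f (genericPoint X))) (X.residueField (genericPoint X)) :=
    (f.residueFieldMap (genericPoint X)).hom.toAlgebra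
  letI aBL : Algebra Γ(X, U) (X.residueField (genericPoint X)) :=
    (X.evaluation U (genericPoint X) hxU).hom.toAlgebra
  letI aAL : Algebra Γ(Z, V) (X.residueField (genericPoint X)) :=
    ((f.residueFieldMap (genericPoint X)).hom.comp
      (Z.evaluation V (f (genericPoint X)) (e hxU)).hom).toAlgebra
  letI aAK' : Algebra Γ(Z, V) K' :=
    ((algebraMap (Z.residueField (f (genericPoint X)))
      K').comp
      (Z.evaluation V (f (genericPoint X)) (e hxU)).hom).toAlgebra
  haveI t1 : IsScalarTower Γ(Z, V) (Z.residueField (f (genericPoint X)))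
      (X.residueField (genericPoint X)) := IsScalarTower.of_algebraMap_eq' rfl
  haveI t2 : IsScalarTower Γ(Z, V) Γ(X, U) (X.residueField (genericPoint X)) :=
    IsScalarTower.of_algebraMap_eq' (by
      have := congrArg (fun g => g.hom) (appLE_evaluation f e (genericPoint X) hxU)
      simp only [CommRingCat.hom_comp] at this
      exact this.symm)
  haveI t3 : IsScalarTower Γ(Z, V) (Z.residueField (f (genericPoint X)))
      K' :=
    IsScalarTower.of_algebraMap_eq' rfl
  haveI l1 := isLocalization_residueField_of_eq_genericPoint hV (f (genericPoint X)) hz (e hxU)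
  haveI l2 := isLocalization_residueField_of_eq_genericPoint hU (genericPoint X) rfl hxU
  haveI r1 : IsReduced (Γ(X, U) ⊗[Γ(Z, V)]
      K') :=
    GeomRedSch.isReduced_tensor_of_geometricallyReduced f (genericPoint X) hsep hU hV e hxU _
  haveI r2 : IsReduced (K' ⊗[
      Z.residueField (f (genericPoint X))] (X.residueField (genericPoint X))) :=
    SepGen.isReduced_tensor_of_isLocalization Γ(Z, V) Γ(X, U) (Z.residueField (f (genericPoint X)))
      (X.residueField (genericPoint X)) K'
      (hV.primeIdealOf ⟨f (genericPoint X), e hxU⟩).asIdeal.primeCompl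
      (hU.primeIdealOf ⟨genericPoint X, hxU⟩).asIdeal.primeCompl
  -- essential finiteness
  haveI f1 : Algebra.FiniteType Γ(Z, V) Γ(X, U) := f.finiteType_appLE hV hU e
  haveI f2 : Algebra.EssFiniteType Γ(X, U) (X.residueField (genericPoint X)) :=
    Algebra.EssFiniteType.of_isLocalization _
      (hU.primeIdealOf ⟨genericPoint X, hxU⟩).asIdeal.primeCompl
  haveI f3 : Algebra.EssFiniteType Γ(Z, V) (X.residueField (genericPoint X)) :=
    Algebra.EssFiniteType.comp Γ(Z, V) Γ(X, U) _
  haveI f4 : Algebra.EssFiniteType (Z.residueField (f (genericPoint X)))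
      (X.residueField (genericPoint X)) :=
    Algebra.EssFiniteType.of_comp Γ(Z, V) _ _
  show Algebra.FormallySmooth (Z.residueField (f (genericPoint X)))
    (X.residueField (genericPoint X))
  exact SepGen.formallySmooth_of_isReduced _ _
    K'


/-- For a dominant morphism, locally of finite type, of integral schemes whose generic fibre is
geometrically reduced, the extension of function fields is formally smooth. -/
theorem residueFieldMap_formallySmooth_of_geometricallyReduced [IsIntegral X] [IsIntegral Z]
    (f : X ⟶ Z) [LocallyOfFiniteType f] (hdom : DenseRange f.base)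
    (hsep : GeometricallyReduced (pullback.snd f (Z.fromSpecResidueField (genericPoint Z)))) :
    (f.residueFieldMap (genericPoint X)).hom.FormallySmooth :=
  residueFieldMap_formallySmooth_aux f hdom hsep
    (AlgebraicClosure (Z.residueField (f (genericPoint X))))

end Groth.Agent.Lib.Helper70.GeomRedFS
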