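import Mathlib

set_option autoImplicit false
set_option linter.style.haveILetI false
universe u

open AlgebraicGeometry CategoryTheory CategoryTheory.Limits TopologicalSpace Opposite

namespace Groth.Agent.Lib.Helper70.NormalGlobal

variable {X : Scheme.{u}}

/-- On a normal integral scheme, an element of the function field which is integral over the ring
of global sections is a global section. -/
theorem exists_section_of_isIntegral [IsIntegral X]
    (hXn : ∀ x : X, IsIntegrallyClosed (X.presheaf.stalk x))
    (hne : Nonempty (⊤ : X.Opens))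
    (a : X.functionField) (ha : IsIntegral Γ(X, ⊤) a) :
    ∃ s : Γ(X, ⊤), X.germToFunctionField ⊤ s = a := by
  have hη : ∀ U : X.Opens, ∀ y : X, y ∈ U → genericPoint X ∈ U := fun U y hy =>
    ((genericPoint_spec X).mem_open_set_iff U.isOpen).mpr ⟨y, trivial, hy⟩
  have key : ∀ y : X, ∃ (U : X.Opens) (hy : y ∈ U) (s : Γ(X, U)),
      X.presheaf.germ U (genericPoint X) (hη U y hy) s = a := by
    intro y
    haveI := hXn y
    letI : Algebra Γ(X, ⊤) (X.presheaf.stalk y) :=
      X.presheaf.algebra_section_stalk (U := ⊤) ⟨y, trivial⟩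
    haveI : IsScalarTower Γ(X, ⊤) (X.presheaf.stalk y) X.functionField :=
      functionField_isScalarTower X ⊤ ⟨y, trivial⟩
    have h1 : IsIntegral (X.presheaf.stalk y) a := ha.tower_top
    obtain ⟨t, ht⟩ := IsIntegrallyClosed.isIntegral_iff.mp h1
    obtain ⟨U, hyU, s, hs⟩ := X.presheaf.exists_germ_eq t
    refine ⟨U, hyU, s, ?_⟩
    rw [← ht, ← hs]
    haveI : Nonempty U := ⟨⟨y, hyU⟩⟩
    exact (Scheme.algebraMap_germ_eq_germToFunctionField X hyU s).symm
  choose U hyU s hs using key
  have hcomp : TopCat.Presheaf.IsCompatible X.presheaf U s := by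
    intro y z
    have hmem : genericPoint X ∈ U y ⊓ U z := ⟨hη _ y (hyU y), hη _ z (hyU z)⟩
    apply germ_injective_of_isIntegral X (genericPoint X) hmem
    rw [X.presheaf.germ_res_apply (Opens.infLELeft (U y) (U z)) (genericPoint X) hmem (s y),
      X.presheaf.germ_res_apply (Opens.infLERight (U y) (U z)) (genericPoint X) hmem (s z),
      hs y, hs z]
  obtain ⟨g, hg, -⟩ := X.sheaf.existsUnique_gluing' U ⊤ (fun y => homOfLE le_top)
    (fun y _ => Opens.mem_iSup.mpr ⟨y, hyU y⟩) s hcomp
  refine ⟨g, ?_⟩
  have h2 := hg (genericPoint X)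
  have h3 := X.presheaf.germ_res_apply (homOfLE (le_top : U (genericPoint X) ≤ ⊤)) (genericPoint X)
    (hyU _) g
  show X.presheaf.germ ⊤ (genericPoint X) _ g = a
  rw [← hs (genericPoint X), ← h2]
  exact h3.symm

end Groth.Agent.Lib.Helper70.NormalGlobal
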