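import Mathlib
import Groth.Agent.Lib.Helper70.FieldTensor
import Groth.Agent.Lib.Helper70.NormalGlobal
import Groth.Agent.Lib.Helper70.GeomRedFS

set_option autoImplicit false
set_option linter.style.haveILetI false
universe u

open AlgebraicGeometry CategoryTheory CategoryTheory.Limits TopologicalSpace Opposite TensorProduct

namespace Groth.Agent.Lib.Helper70.FieldTensorSch

open Groth.Agent.Lib.Helper70.OmegaMonoSch Groth.Agent.Lib.Helper70.GeomRedFS

/-- `B ⊗[A] K'` reduced and `L` a localization of `B` implies `L ⊗[A] K'` reduced. -/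
theorem isReduced_tensor_left
    (A B L K' : Type u) [CommRing A] [CommRing B] [CommRing L] [CommRing K']
    [Algebra A B] [Algebra B L] [Algebra A L] [IsScalarTower A B L] [Algebra A K']
    (M : Submonoid B) [IsLocalization M L]
    [IsReduced (B ⊗[A] K')] : IsReduced (L ⊗[A] K') := by
  letI : Algebra (B ⊗[A] K') (L ⊗[A] K') :=
    (Algebra.TensorProduct.map (IsScalarTower.toAlgHom A B L) (AlgHom.id A K')).toRingHom.toAlgebra
  haveI : IsScalarTower B (B ⊗[A] K') (L ⊗[A] K') :=
    IsScalarTower.of_algebraMap_eq' (by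
      ext b
      show algebraMap B L b ⊗ₜ[A] (1 : K') = _
      rfl)
  haveI hloc : IsLocalization (Algebra.algebraMapSubmonoid (B ⊗[A] K') M) (L ⊗[A] K') :=
    IsLocalization.tensorProduct_tensorProduct A K' M L (by
      ext x
      show (Algebra.TensorProduct.map (IsScalarTower.toAlgHom A B L) (AlgHom.id A K'))
        ((1 : B) ⊗ₜ[A] x) = (1 : L) ⊗ₜ[A] x
      simp)
  exact isReduced_localizationPreserves (Algebra.algebraMapSubmonoid (B ⊗[A] K') M) (L ⊗[A] K')
      inferInstance

variable {X : Scheme.{u}}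

/-- On a normal integral scheme, the ring of global sections is integrally closed in the
residue field at the generic point. -/
theorem mem_range_Γevaluation_of_isIntegral [IsIntegral X]
    (hXn : ∀ x : X, IsIntegrallyClosed (X.presheaf.stalk x))
    (x : X) (hx : x = genericPoint X) (a : X.residueField x)
    (ha : letI := (X.Γevaluation x).hom.toAlgebra; IsIntegral Γ(X, ⊤) a) :
    a ∈ Set.range (X.Γevaluation x).hom := by
  subst hx
  letI a0 : Algebra Γ(X, ⊤) (X.residueField (genericPoint X)) :=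
    (X.Γevaluation (genericPoint X)).hom.toAlgebra
  have ha' : IsIntegral Γ(X, ⊤) a := ha
  haveI hne : Nonempty (⊤ : X.Opens) := ⟨⟨genericPoint X, trivial⟩⟩
  let φ : X.functionField →ₐ[Γ(X, ⊤)] X.residueField (genericPoint X) :=
    { (X.residue (genericPoint X)).hom with commutes' := fun a => rfl }
  have hbij : Function.Bijective φ := residue_bijective_of_eq_genericPoint (genericPoint X) rfl
  let e := AlgEquiv.ofBijective φ hbij
  have h1 : IsIntegral Γ(X, ⊤) (e.symm a) := IsIntegral.map e.symm.toAlgHom ha'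
  obtain ⟨s, hs⟩ := Groth.Agent.Lib.Helper70.NormalGlobal.exists_section_of_isIntegral hXn hne
    (e.symm a) h1
  refine ⟨s, ?_⟩
  have h2 : e (X.germToFunctionField ⊤ s) = a := by rw [hs]; exact e.apply_symm_apply a
  exact h2

/-- reducedness of `κ(η) ⊗[Γ(X,⊤)] E` from reducedness of `X ×_{Spec Γ(X,⊤)} Spec E`. -/
theorem isReduced_tensor_residueField [IsIntegral X] (x : X) (hx : x = genericPoint X)
    (E : Type u) [Field E] (i : Γ(X, ⊤) →+* E)
    (hgr : AlgebraicGeometry.IsReduced (pullback X.toSpecΓ (Spec.map (CommRingCat.ofHom i)))) :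
    letI := (X.Γevaluation x).hom.toAlgebra
    letI := i.toAlgebra
    IsReduced (X.residueField x ⊗[Γ(X, ⊤)] E) := by
  letI a0 : Algebra Γ(X, ⊤) (X.residueField x) := (X.Γevaluation x).hom.toAlgebra
  letI a1 : Algebra Γ(X, ⊤) E := i.toAlgebra
  show IsReduced (X.residueField x ⊗[Γ(X, ⊤)] E)
  obtain ⟨_, ⟨U, hU, rfl⟩, hxU, -⟩ :=
    X.isBasis_affineOpens.exists_subset_of_mem_open (Set.mem_univ x) isOpen_univ
  let ρ : Γ(X, ⊤) ⟶ Γ(X, U) := X.presheaf.map (homOfLE le_top).op
  letI a2 : Algebra Γ(X, ⊤) Γ(X, U) := ρ.hom.toAlgebra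
  letI a3 : Algebra Γ(X, U) (X.residueField x) := (X.evaluation U x hxU).hom.toAlgebra
  haveI : IsScalarTower Γ(X, ⊤) Γ(X, U) (X.residueField x) := IsScalarTower.of_algebraMap_eq' (by
    show (X.Γevaluation x).hom = (X.evaluation U x hxU).hom.comp ρ.hom
    rw [← CommRingCat.hom_comp]
    congr 1
    show X.presheaf.germ ⊤ x trivial ≫ X.residue x = ρ ≫ X.presheaf.germ U x hxU ≫ X.residue x
    rw [X.presheaf.germ_res_assoc])
  haveI hloc : IsLocalization (hU.primeIdealOf ⟨x, hxU⟩).asIdeal.primeCompl (X.residueField x) :=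
    isLocalization_residueField_of_eq_genericPoint hU x hx hxU
  haveI hBE : IsReduced (Γ(X, U) ⊗[Γ(X, ⊤)] E) := by
    have e₁ : Spec.map ρ ≫ 𝟙 _ = hU.fromSpec ≫ X.toSpecΓ := by
      rw [Category.comp_id, hU.fromSpec_toSpecΓ]
    have e₂ : Spec.map (CommRingCat.ofHom i) ≫ 𝟙 _ = 𝟙 _ ≫ Spec.map (CommRingCat.ofHom i) := by
      simp
    let m := pullback.map (Spec.map ρ) (Spec.map (CommRingCat.ofHom i)) X.toSpecΓ
      (Spec.map (CommRingCat.ofHom i)) hU.fromSpec (𝟙 _) (𝟙 _) e₁ e₂
    haveI : IsOpenImmersion m := inferInstance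
    have h1 : AlgebraicGeometry.IsReduced
        (pullback (Spec.map ρ) (Spec.map (CommRingCat.ofHom i))) :=
      isReduced_of_isOpenImmersion m
    have h2 : AlgebraicGeometry.IsReduced (Spec (.of (Γ(X, U) ⊗[Γ(X, ⊤)] E))) :=
      @isReduced_of_isOpenImmersion _ _ (pullbackSpecIso Γ(X, ⊤) Γ(X, U) E).inv _ h1
    exact (affine_isReduced_iff _).mp h2
  exact isReduced_tensor_left Γ(X, ⊤) Γ(X, U) (X.residueField x) E
    (hU.primeIdealOf ⟨x, hxU⟩).asIdeal.primeCompl

/-- Main theorem: `[Γ(Z) : Γ(X)]` divides the degree of function fields. -/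
theorem finrank_dvd_main (k : Type u) [Field k]
    (X Z : Scheme.{u}) [X.Over (Spec (CommRingCat.of k))] [Z.Over (Spec (CommRingCat.of k))]
    [IsIntegral X] [IsIntegral Z]
    [IsProper (X ↘ Spec (CommRingCat.of k))] [IsProper (Z ↘ Spec (CommRingCat.of k))]
    (hXn : ∀ x : X, IsIntegrallyClosed (X.presheaf.stalk x))
    (f : Z ⟶ X) (hf : f ≫ (X ↘ Spec (CommRingCat.of k)) = Z ↘ Spec (CommRingCat.of k))
    [IsFinite f] [Surjective f]
    (hgr : ∀ (E : Type u) [Field E] (i : Γ(X, ⊤) →+* E),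
      AlgebraicGeometry.IsReduced (pullback X.toSpecΓ (Spec.map (CommRingCat.ofHom i)))) :
    letI := f.appTop.hom.toAlgebra;
    letI := (f.residueFieldMap (genericPoint Z)).hom.toAlgebra;
    Module.finrank Γ(X, ⊤) Γ(Z, ⊤) ∣ Module.finrank (X.residueField (f.base (genericPoint Z)))
      (Z.residueField (genericPoint Z)) := by
  have hx : f (genericPoint Z) = genericPoint X :=
    map_genericPoint_of_denseRange f f.surjective.denseRange
  letI fF : Field Γ(X, ⊤) :=
    (isField_of_universallyClosed k (X ↘ Spec (CommRingCat.of k))).toField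
  letI fE : Field Γ(Z, ⊤) :=
    (isField_of_universallyClosed k (Z ↘ Spec (CommRingCat.of k))).toField
  letI aFE : Algebra Γ(X, ⊤) Γ(Z, ⊤) := f.appTop.hom.toAlgebra
  letI aKL : Algebra (X.residueField (f (genericPoint Z))) (Z.residueField (genericPoint Z)) :=
    (f.residueFieldMap (genericPoint Z)).hom.toAlgebra
  letI aFK : Algebra Γ(X, ⊤) (X.residueField (f (genericPoint Z))) :=
    (X.Γevaluation (f (genericPoint Z))).hom.toAlgebra
  letI aEL : Algebra Γ(Z, ⊤) (Z.residueField (genericPoint Z)) :=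
    (Z.Γevaluation (genericPoint Z)).hom.toAlgebra
  letI aFL : Algebra Γ(X, ⊤) (Z.residueField (genericPoint Z)) :=
    (X.Γevaluation (f (genericPoint Z)) ≫ f.residueFieldMap (genericPoint Z)).hom.toAlgebra
  haveI t1 : IsScalarTower Γ(X, ⊤) (X.residueField (f (genericPoint Z)))
      (Z.residueField (genericPoint Z)) := IsScalarTower.of_algebraMap_eq' rfl
  haveI t2 : IsScalarTower Γ(X, ⊤) Γ(Z, ⊤) (Z.residueField (genericPoint Z)) :=
    IsScalarTower.of_algebraMap_eq' (by
      show (X.Γevaluation (f (genericPoint Z)) ≫ f.residueFieldMap (genericPoint Z)).hom =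
        (Z.Γevaluation (genericPoint Z)).hom.comp f.appTop.hom
      rw [← CommRingCat.hom_comp, Scheme.Γevaluation_naturality])
  haveI hfin : FiniteDimensional Γ(X, ⊤) Γ(Z, ⊤) := by
    have h1 : (Z ↘ Spec (CommRingCat.of k)).appTop.hom.Finite :=
      finite_appTop_of_universallyClosed k (Z ↘ Spec (CommRingCat.of k))
    rw [← hf, Scheme.Hom.comp_appTop, CommRingCat.hom_comp] at h1
    exact RingHom.Finite.of_comp_finite h1
  have hcl : ∀ a : X.residueField (f (genericPoint Z)), IsIntegral Γ(X, ⊤) a →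
      a ∈ Set.range (algebraMap Γ(X, ⊤) (X.residueField (f (genericPoint Z)))) :=
    fun a ha => mem_range_Γevaluation_of_isIntegral hXn _ hx a ha
  have hred : IsReduced (X.residueField (f (genericPoint Z)) ⊗[Γ(X, ⊤)] Γ(Z, ⊤)) :=
    isReduced_tensor_residueField _ hx Γ(Z, ⊤) f.appTop.hom (hgr Γ(Z, ⊤) f.appTop.hom)
  exact Groth.Agent.Lib.Helper70.FieldTensor.finrank_dvd hcl hred

end Groth.Agent.Lib.Helper70.FieldTensorSch
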