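import Mathlib
import Groth.Agent.Lib.Helper70.FinFlatSch

set_option autoImplicit false
set_option linter.style.haveILetI false

universe u
open AlgebraicGeometry CategoryTheory TopologicalSpace

namespace Groth.Agent.Lib.Helper70.FinGoingDown

variable {X Y : Scheme.{u}} (f : X ⟶ Y)

/-- Going down for a finite dominant morphism of integral schemes with normal target:
generizations lift. -/
theorem exists_generization_of_finite [IsFinite f] [IsIntegral X] [IsIntegral Y] [IsDominant f]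
    (hnY : ∀ y : Y, IsIntegrallyClosed (Y.presheaf.stalk y)) (x : X) (ζ : Y)
    (hζ : ζ ⤳ f.base x) : ∃ ξ : X, ξ ⤳ x ∧ f.base ξ = ζ := by
  obtain ⟨_, ⟨U0, hU0, rfl⟩, hy, -⟩ :=
    Y.isBasis_affineOpens.exists_subset_of_mem_open (Set.mem_univ (f.base x)) isOpen_univ
  have hζU : ζ ∈ U0 := hζ.mem_open U0.isOpen hy
  have hfU0 : IsAffineOpen (f ⁻¹ᵁ U0) := hU0.preimage f
  letI : Algebra Γ(Y, U0) Γ(X, f ⁻¹ᵁ U0) := (f.app U0).hom.toAlgebra
  haveI : Nonempty U0 := ⟨⟨f.base x, hy⟩⟩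
  haveI : Nonempty (f ⁻¹ᵁ U0) := ⟨⟨x, hy⟩⟩
  haveI : Module.Finite Γ(Y, U0) Γ(X, f ⁻¹ᵁ U0) := f.finite_app U0 hU0
  haveI : IsSchemeTheoreticallyDominant f := .of_isDominant f
  have hinj : Function.Injective (algebraMap Γ(Y, U0) Γ(X, f ⁻¹ᵁ U0)) := f.app_injective U0
  haveI : FaithfulSMul Γ(Y, U0) Γ(X, f ⁻¹ᵁ U0) := (faithfulSMul_iff_algebraMap_injective _ _).mpr hinj
  haveI : IsIntegrallyClosed Γ(Y, U0) := FinFlatSch.isIntegrallyClosed_of_isAffineOpen hnY hU0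
  have h2 : f.appLE U0 (f ⁻¹ᵁ U0) le_rfl = f.app U0 := Scheme.Hom.appLE_eq_app f
  haveI : (hfU0.primeIdealOf ⟨x, hy⟩).asIdeal.LiesOver (hU0.primeIdealOf ⟨f.base x, hy⟩).asIdeal := by
    constructor
    have := IsAffineOpen.comap_primeIdealOf_appLE (f := f) (x := x) U0 hU0 (f ⁻¹ᵁ U0) hfU0 le_rfl hy
    rw [h2] at this
    rw [← this]
    rfl
  have hle : (hU0.primeIdealOf ⟨ζ, hζU⟩).asIdeal ≤ (hU0.primeIdealOf ⟨f.base x, hy⟩).asIdeal := by
    have h0 : hU0.fromSpec (hU0.primeIdealOf ⟨ζ, hζU⟩) ⤳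
        hU0.fromSpec (hU0.primeIdealOf ⟨f.base x, hy⟩) := by
      rw [hU0.fromSpec_primeIdealOf ⟨ζ, hζU⟩, hU0.fromSpec_primeIdealOf ⟨f.base x, hy⟩]
      exact hζ
    have key := hU0.fromSpec.isOpenEmbedding.toIsInducing.specializes_iff.mp h0
    exact (PrimeSpectrum.le_iff_specializes _ _).mpr key
  obtain ⟨Q, hQle, hQprime, hQover⟩ := Ideal.exists_ideal_le_liesOver_of_le
    (p := (hU0.primeIdealOf ⟨ζ, hζU⟩).asIdeal) (q := (hU0.primeIdealOf ⟨f.base x, hy⟩).asIdeal)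
    (hfU0.primeIdealOf ⟨x, hy⟩).asIdeal hle
  refine ⟨hfU0.fromSpec ⟨Q, hQprime⟩, ?_, ?_⟩
  · have h3 : (⟨Q, hQprime⟩ : PrimeSpectrum Γ(X, f ⁻¹ᵁ U0)) ⤳ hfU0.primeIdealOf ⟨x, hy⟩ :=
      (PrimeSpectrum.le_iff_specializes _ _).mp hQle
    have h4 := h3.map hfU0.fromSpec.continuous
    rwa [hfU0.fromSpec_primeIdealOf ⟨x, hy⟩] at h4
  · have h5 := IsAffineOpen.SpecMap_appLE_fromSpec f hU0 hfU0 le_rfl
    have h6 : f.base (hfU0.fromSpec ⟨Q, hQprime⟩) =
        hU0.fromSpec ((Spec.map (f.appLE U0 (f ⁻¹ᵁ U0) le_rfl)) ⟨Q, hQprime⟩) := by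
      rw [← Scheme.Hom.comp_apply, ← Scheme.Hom.comp_apply, h5]
    rw [h6]
    refine Eq.trans ?_ (hU0.fromSpec_primeIdealOf ⟨ζ, hζU⟩)
    congr 1
    rw [h2]
    apply PrimeSpectrum.ext
    exact (hQover.over).symm

section Top

variable {α : Type*} [TopologicalSpace α]

/-- The maximal irreducible subsets of `C`. -/
def comps (C : Set α) : Set (Set α) :=
  {Z | Maximal (fun S : Set α => IsIrreducible S ∧ S ⊆ C) Z}

theorem exists_le_of_irreducible {S : Set (Set α)} (hSf : S.Finite) (hSc : ∀ t ∈ S, IsClosed t)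
    {T : Set α} (hT : IsIrreducible T) (hTS : T ⊆ ⋃₀ S) : ∃ t ∈ S, T ⊆ t := by
  lift S to Finset (Set α) using hSf
  exact (isIrreducible_iff_sUnion_isClosed.mp hT) S (by simpa using hSc) hTS

theorem finite_comps [NoetherianSpace α] {C : Set α} (hC : IsClosed C) : (comps C).Finite := by
  obtain ⟨S, hSf, hSc, hSi, hCU⟩ := NoetherianSpace.exists_finite_set_isClosed_irreducible hC
  refine hSf.subset fun Z hZ => ?_
  replace hZ : Maximal (fun S : Set α => IsIrreducible S ∧ S ⊆ C) Z := hZ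
  obtain ⟨t, htS, hZt⟩ := exists_le_of_irreducible hSf hSc hZ.prop.1 (hCU ▸ hZ.prop.2)
  have h1 : t ⊆ Z :=
    hZ.le_of_ge ⟨hSi t htS, by rw [hCU]; exact Set.subset_sUnion_of_mem htS⟩ hZt
  rwa [Set.Subset.antisymm hZt h1]

theorem exists_comp_ge [NoetherianSpace α] {C : Set α} (hC : IsClosed C) {T : Set α}
    (hT : IsIrreducible T) (hTC : T ⊆ C) : ∃ Z ∈ comps C, T ⊆ Z := by
  obtain ⟨S, hSf, hSc, hSi, hCU⟩ := NoetherianSpace.exists_finite_set_isClosed_irreducible hC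
  have hne : {t ∈ S | T ⊆ t}.Nonempty := by
    obtain ⟨t, htS, hTt⟩ := exists_le_of_irreducible hSf hSc hT (hCU ▸ hTC)
    exact ⟨t, htS, hTt⟩
  obtain ⟨t, hmax⟩ := (hSf.subset (Set.sep_subset _ _)).exists_maximal hne
  obtain ⟨htS, hTt⟩ := hmax.prop
  refine ⟨t, ⟨⟨hSi t htS, by rw [hCU]; exact Set.subset_sUnion_of_mem htS⟩, fun u hu htu => ?_⟩, hTt⟩
  obtain ⟨t', ht'S, hut'⟩ := exists_le_of_irreducible hSf hSc hu.1 (hCU ▸ hu.2)
  have h1 : t' ⊆ t := hmax.le_of_ge ⟨ht'S, hTt.trans (htu.trans hut')⟩ (htu.trans hut')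
  exact hut'.trans h1

theorem isClosed_of_mem_comps {C : Set α} (hC : IsClosed C) {Z : Set α} (hZ : Z ∈ comps C) :
    IsClosed Z := by
  replace hZ : Maximal (fun S : Set α => IsIrreducible S ∧ S ⊆ C) Z := hZ
  have h1 : closure Z ⊆ Z :=
    hZ.le_of_ge ⟨hZ.prop.1.closure, hC.closure_subset_iff.mpr hZ.prop.2⟩ subset_closure
  exact closure_subset_iff_isClosed.mp h1

end Top

/-- If generizations lift along `f` at `x`, then there are at least as many components of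
`f⁻¹ C` through `x` as there are components of `C` through `f x`. -/
theorem ncard_comps_le [NoetherianSpace X] (CY : Set Y) (hCY : IsClosed CY) (x : X)
    (hgd : ∀ ζ : Y, ζ ⤳ f.base x → ∃ ξ : X, ξ ⤳ x ∧ f.base ξ = ζ) :
    {Z : Set Y | Z ∈ comps CY ∧ f.base x ∈ Z}.ncard ≤
      {W : Set X | W ∈ comps (f.base ⁻¹' CY) ∧ x ∈ W}.ncard := by
  have hCX : IsClosed (f.base ⁻¹' CY) := hCY.preimage f.continuous
  have key : ∀ Z ∈ {Z : Set Y | Z ∈ comps CY ∧ f.base x ∈ Z},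
      ∃ W : Set X, (W ∈ comps (f.base ⁻¹' CY) ∧ x ∈ W) ∧ closure (f.base '' W) = Z := by
    rintro Z ⟨hZ, hxZ⟩
    have hZc : IsClosed Z := isClosed_of_mem_comps hCY hZ
    replace hZ : Maximal (fun S : Set Y => IsIrreducible S ∧ S ⊆ CY) Z := hZ
    have hζ := hZ.prop.1.isGenericPoint_genericPoint hZc
    set ζ := hZ.prop.1.genericPoint
    obtain ⟨ξ, hξx, hξζ⟩ := hgd ζ (hζ.specializes hxZ)
    have hξC : ξ ∈ f.base ⁻¹' CY := by
      change f.base ξ ∈ CY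
      rw [hξζ]
      exact hZ.prop.2 hζ.mem
    obtain ⟨W, hW, hTW⟩ := exists_comp_ge hCX (T := closure {ξ}) isIrreducible_singleton.closure
      (hCX.closure_subset_iff.mpr (Set.singleton_subset_iff.mpr hξC))
    have hξW : ξ ∈ W := hTW (subset_closure rfl)
    refine ⟨W, ⟨hW, hTW hξx.mem_closure⟩, ?_⟩
    replace hW : Maximal (fun S : Set X => IsIrreducible S ∧ S ⊆ f.base ⁻¹' CY) W := hW
    have hsub : Z ⊆ closure (f.base '' W) := by
      rw [← hζ.def]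
      exact closure_mono (Set.singleton_subset_iff.mpr ⟨ξ, hξW, hξζ⟩)
    have hirr : IsIrreducible (closure (f.base '' W)) :=
      (hW.prop.1.image f.base f.continuous.continuousOn).closure
    have hle : closure (f.base '' W) ⊆ CY := by
      refine hCY.closure_subset_iff.mpr ?_
      rintro _ ⟨w, hw, rfl⟩
      exact hW.prop.2 hw
    exact Set.Subset.antisymm (hZ.le_of_ge ⟨hirr, hle⟩ hsub) hsub
  choose! Φ hΦ using key
  refine Set.ncard_le_ncard_of_injOn Φ (fun Z hZ => (hΦ Z hZ).1) ?_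
    ((finite_comps hCX).subset fun W hW => hW.1)
  intro Z1 hZ1 Z2 hZ2 h
  rw [← (hΦ Z1 hZ1).2, ← (hΦ Z2 hZ2).2, h]

end Groth.Agent.Lib.Helper70.FinGoingDown
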