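import Mathlib
import Groth.Agent.Lib.Helper70.FinGoingDown

set_option autoImplicit false
set_option linter.style.haveILetI false

universe u
open AlgebraicGeometry CategoryTheory TopologicalSpace

namespace Groth.Agent.Lib.Helper70.FinGoingDown

variable {X Y : Scheme.{u}} (f : X ⟶ Y)

/-- If generizations lift along `f` at `x`, every component of `C` through `f x` is the closure of
the image of a component of `f⁻¹ C` through `x`. -/
theorem exists_comp_over [NoetherianSpace X] (CY : Set Y) (hCY : IsClosed CY) (x : X)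
    (hgd : ∀ ζ : Y, ζ ⤳ f.base x → ∃ ξ : X, ξ ⤳ x ∧ f.base ξ = ζ)
    (Z : Set Y) (hZ : Z ∈ comps CY) (hxZ : f.base x ∈ Z) :
    ∃ W : Set X, (W ∈ comps (f.base ⁻¹' CY) ∧ x ∈ W) ∧ closure (f.base '' W) = Z := by
  have hCX : IsClosed (f.base ⁻¹' CY) := hCY.preimage f.continuous
  have hZc : IsClosed Z := isClosed_of_mem_comps hCY hZ
  replace hZ : Maximal (fun S : Set Y => IsIrreducible S ∧ S ⊆ CY) Z := hZ
  have hζ := hZ.prop.1.isGenericPoint_genericPoint hZc
  set ζ := hZ.prop.1.genericPoint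
  obtain ⟨ξ, hξx, hξζ⟩ := hgd ζ (hζ.specializes hxZ)
  have hξC : ξ ∈ f.base ⁻¹' CY := by
    change f.base ξ ∈ CY
    rw [hξζ]
    exact hZ.prop.2 hζ.mem
  obtain ⟨W, hW, hTW⟩ := exists_comp_ge hCX (T := closure {ξ}) isIrreducible_singleton.closure
    (hCX.closure_subset_iff.mpr (Set.singleton_subset_iff.mpr hξC))
  have hξW : ξ ∈ W := hTW (subset_closure rfl)
  refine ⟨W, ⟨hW, hTW hξx.mem_closure⟩, ?_⟩
  replace hW : Maximal (fun S : Set X => IsIrreducible S ∧ S ⊆ f.base ⁻¹' CY) W := hW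
  have hsub : Z ⊆ closure (f.base '' W) := by
    rw [← hζ.def]
    exact closure_mono (Set.singleton_subset_iff.mpr ⟨ξ, hξW, hξζ⟩)
  have hirr : IsIrreducible (closure (f.base '' W)) :=
    (hW.prop.1.image f.base f.continuous.continuousOn).closure
  have hle : closure (f.base '' W) ⊆ CY := by
    refine hCY.closure_subset_iff.mpr ?_
    rintro _ ⟨w, hw, rfl⟩
    exact hW.prop.2 hw
  exact Set.Subset.antisymm (hZ.le_of_ge ⟨hirr, hle⟩ hsub) hsub

end Groth.Agent.Lib.Helper70.FinGoingDown
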