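import Mathlib
import Groth.Agent.Lib.Helper88.ExtLen
import Groth.Agent.Lib.Helper75.Fitting12
import Groth.Agent.S14347

set_option autoImplicit false
set_option linter.style.haveILetI false

universe u

open CategoryTheory

namespace Groth.Agent.Lib.Helper70.FittExt

/-- abstract form: two-term free resolution -/
theorem fitt_eq_fitt_ext_one (R : Type u) [CommRing R] (M : Type u) [AddCommGroup M] [Module R M]
    (c r : ℕ) (π : (Fin r → R) →ₗ[R] M) (hπ : Function.Surjective π)
    (σ : (Fin c → R) →ₗ[R] (Fin r → R)) (hσ : Function.Injective σ)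
    (hex : LinearMap.range σ = LinearMap.ker π) :
    Fitt.ideal R M (r - c) =
      Fitt.ideal R (Abelian.Ext.{u} (ModuleCat.of R M) (ModuleCat.of R R) 1) 0 := by
  -- step 1: M ≅ coker σ
  have e1 : ((Fin r → R) ⧸ LinearMap.range σ) ≃ₗ[R] M :=
    (Submodule.quotEquivOfEq _ _ hex).trans (π.quotKerEquivOfSurjective hπ)
  rw [← Groth.Agent.Lib.Helper75.Fitting.fitt_congr e1 (r - c)]
  have h2 := (Groth.Agent.S14347.result R c r σ hσ).1 0
  rw [Nat.add_zero] at h2
  rw [h2]
  -- step 2: Ext¹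
  obtain ⟨e3⟩ := Groth.Agent.Lib.Helper88.ExtLen.nonempty_coker_equiv_ext_one (N := R) π hπ
  rw [← Groth.Agent.Lib.Helper75.Fitting.fitt_congr e3 0]
  -- step 3: identify the two cokernels
  let e : (Fin c → R) ≃ₗ[R] LinearMap.ker π :=
    (LinearEquiv.ofInjective σ hσ).trans (LinearEquiv.ofEq _ _ hex)
  have he : ∀ x, ((e x : LinearMap.ker π) : Fin r → R) = σ x := fun x => rfl
  let E : (LinearMap.ker π →ₗ[R] R) ≃ₗ[R] Module.Dual R (Fin c → R) :=
    LinearEquiv.arrowCongr e.symm (LinearEquiv.refl R R)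
  have hE : ∀ (f : LinearMap.ker π →ₗ[R] R) (x : Fin c → R), E f x = f (e x) := by
    intro f x
    simp [E, LinearEquiv.arrowCongr_apply]
  refine (Groth.Agent.Lib.Helper75.Fitting.fitt_congr
    (Submodule.Quotient.equiv _ _ E ?_) 0).symm
  ext g
  simp only [Submodule.mem_map, LinearMap.mem_range]
  constructor
  · rintro ⟨f, ⟨h, rfl⟩, rfl⟩
    refine ⟨h, ?_⟩
    ext x
    simp [hE, he, LinearMap.lcomp_apply]
  · rintro ⟨h, rfl⟩
    refine ⟨LinearMap.lcomp R R (LinearMap.ker π).subtype h, ⟨h, rfl⟩, ?_⟩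
    ext x
    simp [hE, he, LinearMap.lcomp_apply]

end Groth.Agent.Lib.Helper70.FittExt
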