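import Mathlib

set_option autoImplicit false
set_option linter.style.haveILetI false
universe u
open TensorProduct

namespace Groth.Agent.Lib.Helper70.GenFin

section Main

variable {A B : Type u} [CommRing A] [CommRing B] [Algebra A B]

/-- the final assembly: if `e` is an `A`-linearly independent family in `B` whose span contains
a `g`-power multiple of every element, then fibres over points where `g` is invertible are free
with basis `e`. -/
theorem finrank_tensor_of_span {d : ℕ} (g : A) (e : Fin d → B) (hli : LinearIndependent A e)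
    (hF : ∀ b : B, ∃ N : ℕ, g ^ N • b ∈ Submodule.span A (Set.range e))
    (κ : Type u) [Field κ] [Algebra A κ] (hgκ : algebraMap A κ g ≠ 0) :
    Module.Finite κ (κ ⊗[A] B) ∧ Module.finrank κ (κ ⊗[A] B) = d := by
  let Ag := Localization.Away g
  letI aκ : Algebra Ag κ := (IsLocalization.Away.lift (S := Ag) g (g := algebraMap A κ)
    (hgκ.isUnit)).toAlgebra
  haveI tw : IsScalarTower A Ag κ := IsScalarTower.of_algebraMap_eq' (by
    ext a
    exact (IsLocalization.Away.lift_eq (S := Ag) g (g := algebraMap A κ) (hgκ.isUnit) a).symm)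
  let φ : (Fin d → A) →ₗ[A] B := Fintype.linearCombination A e
  have hφ : Function.Injective φ := hli.fintypeLinearCombination_injective
  let ψ : Ag ⊗[A] (Fin d → A) →ₗ[Ag] Ag ⊗[A] B := LinearMap.baseChange Ag φ
  have hψi : Function.Injective ψ := by
    have := Module.Flat.lTensor_preserves_injective_linearMap (M := Ag) φ hφ
    exact this
  have hψs : Function.Surjective ψ := by
    rw [← LinearMap.range_eq_top, eq_top_iff]
    rintro x -
    induction x using TensorProduct.induction_on with
    | zero => exact Submodule.zero_mem _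
    | add x y hx hy => exact Submodule.add_mem _ hx hy
    | tmul a b =>
      obtain ⟨N, hN⟩ := hF b
      rw [← Fintype.range_linearCombination] at hN
      obtain ⟨r, hr⟩ := hN
      have hmem : g ^ N ∈ Submonoid.powers g := ⟨N, rfl⟩
      refine ⟨(a * IsLocalization.mk' Ag (1 : A) (⟨g ^ N, hmem⟩ : Submonoid.powers g)) ⊗ₜ r, ?_⟩
      show (a * IsLocalization.mk' Ag (1 : A) (⟨g ^ N, hmem⟩ : Submonoid.powers g)) ⊗ₜ φ r = _
      rw [show φ r = g ^ N • b from hr, TensorProduct.tmul_smul, TensorProduct.smul_tmul',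
        Algebra.smul_def, mul_comm a, ← mul_assoc]
      congr 1
      rw [IsLocalization.mul_mk'_eq_mk'_of_mul, mul_one]
      rw [show IsLocalization.mk' Ag (g ^ N) (⟨g ^ N, hmem⟩ : Submonoid.powers g) = 1 from
        IsLocalization.mk'_self' (S := Ag) (x := (⟨g ^ N, hmem⟩ : Submonoid.powers g)), one_mul]
  let E : Ag ⊗[A] (Fin d → A) ≃ₗ[Ag] Ag ⊗[A] B := LinearEquiv.ofBijective ψ ⟨hψi, hψs⟩
  let e1 : κ ⊗[A] B ≃ₗ[κ] κ ⊗[Ag] (Ag ⊗[A] B) :=
    (AlgebraTensorModule.cancelBaseChange A Ag κ κ B).symm
  let e2 : κ ⊗[Ag] (Ag ⊗[A] B) ≃ₗ[κ] κ ⊗[Ag] (Ag ⊗[A] (Fin d → A)) :=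
    AlgebraTensorModule.congr (LinearEquiv.refl κ κ) E.symm
  let e3 : κ ⊗[Ag] (Ag ⊗[A] (Fin d → A)) ≃ₗ[κ] κ ⊗[A] (Fin d → A) :=
    AlgebraTensorModule.cancelBaseChange A Ag κ κ (Fin d → A)
  let e4 : κ ⊗[A] (Fin d → A) ≃ₗ[κ] (Fin d → κ) := TensorProduct.piScalarRight A κ κ (Fin d)
  let eqv : κ ⊗[A] B ≃ₗ[κ] (Fin d → κ) := e1 ≪≫ₗ e2 ≪≫ₗ e3 ≪≫ₗ e4
  refine ⟨Module.Finite.equiv eqv.symm, ?_⟩
  rw [eqv.finrank_eq, Module.finrank_fin_fun]

end Main


section Gen

open scoped nonZeroDivisors

variable (A B K L : Type u) [CommRing A] [IsDomain A] [CommRing B] [IsDomain B] [Algebra A B]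
  [Field K] [Field L] [Algebra A K] [IsFractionRing A K] [Algebra B L] [IsFractionRing B L]
  [Algebra K L] [Algebra A L] [IsScalarTower A K L] [IsScalarTower A B L]

include K L in
theorem algebraMap_injective_of_tower : Function.Injective (algebraMap A B) := by
  have h : Function.Injective (algebraMap A L) := by
    rw [IsScalarTower.algebraMap_eq A K L]
    exact (algebraMap K L).injective.comp (IsFractionRing.injective A K)
  rw [IsScalarTower.algebraMap_eq A B L] at h
  exact Function.Injective.of_comp h

include K L in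
theorem isAlgebraic_of_tower [Algebra.IsAlgebraic K L] : Algebra.IsAlgebraic A B := by
  constructor
  intro b
  have h1 : IsAlgebraic K (algebraMap B L b) := Algebra.IsAlgebraic.isAlgebraic _
  have h2 : IsAlgebraic A (algebraMap B L b) := (IsFractionRing.isAlgebraic_iff A K L).mpr h1
  exact (isAlgebraic_algebraMap_iff (IsFractionRing.injective B L)).mp h2

variable {A B K L}

theorem exists_smul_mem_span {d : ℕ} (e : Fin d → B) (v : Module.Basis (Fin d) K L)
    (hv : ∀ i, v i = algebraMap B L (e i)) (b : B) :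
    ∃ a : A, a ≠ 0 ∧ a • b ∈ Submodule.span A (Set.range e) := by
  obtain ⟨s, hs⟩ := IsLocalization.exist_integer_multiples A⁰ (Finset.univ : Finset (Fin d))
    (fun i => v.repr (algebraMap B L b) i)
  choose r hr using fun i => hs i (Finset.mem_univ i)
  refine ⟨s, nonZeroDivisors.ne_zero s.2, ?_⟩
  have hsum : (s : A) • b = ∑ i, r i • e i := by
    apply IsFractionRing.injective B L
    rw [map_sum]
    have h1 : algebraMap B L ((s : A) • b) = (s : A) • algebraMap B L b := by
      rw [Algebra.smul_def, map_mul, ← IsScalarTower.algebraMap_apply, Algebra.smul_def]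
    rw [h1]
    conv_lhs => rw [← v.sum_repr (algebraMap B L b)]
    rw [Finset.smul_sum]
    refine Finset.sum_congr rfl fun i _ => ?_
    rw [Algebra.smul_def (r i) (e i), map_mul, ← IsScalarTower.algebraMap_apply, ← hv i,
      IsScalarTower.algebraMap_apply A K L, ← Algebra.smul_def, hr i, smul_assoc]
  rw [hsum]
  exact Submodule.sum_mem _ fun i _ => Submodule.smul_mem _ _ (Submodule.subset_span ⟨i, rfl⟩)

end Gen


section Gen2

open scoped nonZeroDivisors

variable (A B K L : Type u) [CommRing A] [IsDomain A] [CommRing B] [IsDomain B] [Algebra A B]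
  [Field K] [Field L] [Algebra A K] [IsFractionRing A K] [Algebra B L] [IsFractionRing B L]
  [Algebra K L] [Algebra A L] [IsScalarTower A K L] [IsScalarTower A B L]

/-- **Generic finiteness with degree** (algebraic form). -/
theorem exists_generic_finrank [Algebra.FiniteType A B] [Module.Finite K L] :
    ∃ g : A, g ≠ 0 ∧ ∀ (κ : Type u) [Field κ] [Algebra A κ], algebraMap A κ g ≠ 0 →
      Module.Finite κ (κ ⊗[A] B) ∧ Module.finrank κ (κ ⊗[A] B) = Module.finrank K L := by
  have inj : Function.Injective (algebraMap A B) := algebraMap_injective_of_tower A B K L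
  haveI : FaithfulSMul A B := (faithfulSMul_iff_algebraMap_injective A B).mpr inj
  haveI : Algebra.IsAlgebraic K L := Algebra.IsAlgebraic.of_finite K L
  haveI : Algebra.IsAlgebraic A B := isAlgebraic_of_tower A B K L
  set d := Module.finrank K L with hd
  let v0 : Module.Basis (Fin d) K L := Module.finBasis K L
  choose bs hbs using fun i => IsLocalizedModule.surj A⁰
    (IsScalarTower.toAlgHom A B L).toLinearMap (v0 i)
  let e : Fin d → B := fun i => (bs i).1
  have hunit : ∀ i, IsUnit (algebraMap A K ((bs i).2 : A)) := fun i =>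
    IsLocalization.map_units K (bs i).2
  let v : Module.Basis (Fin d) K L := v0.isUnitSMul hunit
  have hv : ∀ i, v i = algebraMap B L (e i) := by
    intro i
    rw [Module.Basis.isUnitSMul_apply]
    have := hbs i
    simp only [AlgHom.toLinearMap_apply, IsScalarTower.coe_toAlgHom'] at this
    rw [← this, algebraMap_smul]
    rfl
  have hli : LinearIndependent A e := by
    have h1 : LinearIndependent K (fun i => algebraMap B L (e i)) := by
      have := v.linearIndependent
      convert this using 1
      ext i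
      exact (hv i).symm
    have h2 : LinearIndependent A (fun i => algebraMap B L (e i)) :=
      h1.restrict_scalars (R := A) (by
        intro a b hab
        simp only [Algebra.smul_def, mul_one] at hab
        exact IsFractionRing.injective A K hab)
    exact LinearIndependent.of_comp (IsScalarTower.toAlgHom A B L).toLinearMap h2
  obtain ⟨σ, hσ⟩ := (Algebra.FiniteType.out : (⊤ : Subalgebra A B).FG)
  classical
  let T : Finset B := insert 1 ((σ ×ˢ (Finset.univ : Finset (Fin d))).image fun p => p.1 * e p.2)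
  choose a ha0 ha using fun t : B => exists_smul_mem_span (A := A) e v hv t
  let g : A := ∏ t ∈ T, a t
  have hg0 : g ≠ 0 := Finset.prod_ne_zero_iff.mpr fun t _ => ha0 t
  set F := Submodule.span A (Set.range e) with hFdef
  have hgT : ∀ t ∈ T, g • t ∈ F := by
    intro t ht
    have : g = (∏ x ∈ T.erase t, a x) * a t := by
      rw [mul_comm]; exact (Finset.mul_prod_erase T a ht).symm
    rw [this, mul_smul]
    exact Submodule.smul_mem _ _ (ha t)
  have hstep : ∀ x ∈ σ, ∀ z ∈ F, g • (x * z) ∈ F := by
    intro x hx z hz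
    induction hz using Submodule.span_induction with
    | mem z hz =>
      obtain ⟨i, rfl⟩ := hz
      apply hgT
      apply Finset.mem_insert_of_mem
      exact Finset.mem_image.mpr ⟨(x, i), Finset.mem_product.mpr ⟨hx, Finset.mem_univ i⟩, rfl⟩
    | zero => simp
    | add z w _ _ hz hw =>
      rw [mul_add, smul_add]; exact Submodule.add_mem _ hz hw
    | smul r z _ hz =>
      rw [mul_smul_comm, smul_comm]; exact Submodule.smul_mem _ _ hz
  have hP : ∀ x : B, ∀ y : B, (∃ N : ℕ, g ^ N • y ∈ F) → ∃ N : ℕ, g ^ N • (x * y) ∈ F := by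
    intro x
    have hx : x ∈ Algebra.adjoin A (σ : Set B) := by rw [hσ]; trivial
    induction hx using Algebra.adjoin_induction with
    | mem x hx =>
      rintro y ⟨N, hN⟩
      refine ⟨N + 1, ?_⟩
      have := hstep x hx _ hN
      rwa [mul_smul_comm, ← mul_smul, ← pow_succ'] at this
    | algebraMap r =>
      rintro y ⟨N, hN⟩
      refine ⟨N, ?_⟩
      rw [← Algebra.smul_def, smul_comm]
      exact Submodule.smul_mem _ _ hN
    | add x1 x2 _ _ h1 h2 =>
      intro y hy
      obtain ⟨N1, hN1⟩ := h1 y hy
      obtain ⟨N2, hN2⟩ := h2 y hy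
      refine ⟨N1 + N2, ?_⟩
      rw [add_mul, smul_add]
      refine Submodule.add_mem _ ?_ ?_
      · rw [add_comm, pow_add, mul_smul]; exact Submodule.smul_mem _ _ hN1
      · rw [pow_add, mul_smul]; exact Submodule.smul_mem _ _ hN2
    | mul x1 x2 _ _ h1 h2 =>
      intro y hy
      rw [mul_assoc]
      exact h1 _ (h2 y hy)
  have hF : ∀ b : B, ∃ N : ℕ, g ^ N • b ∈ F := by
    intro b
    have := hP b 1 ⟨1, by rw [pow_one]; exact hgT 1 (Finset.mem_insert_self _ _)⟩
    rwa [mul_one] at this
  refine ⟨g, hg0, fun κ _ _ hgκ => ?_⟩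
  exact finrank_tensor_of_span g e hli hF κ hgκ

include K L in
/-- every nonzero element of `B` divides a nonzero element of `A`. -/
theorem exists_ne_zero_dvd [Module.Finite K L] (b : B) (hb : b ≠ 0) :
    ∃ a : A, a ≠ 0 ∧ b ∣ algebraMap A B a := by
  haveI : Algebra.IsAlgebraic K L := Algebra.IsAlgebraic.of_finite K L
  haveI : Algebra.IsAlgebraic A B := isAlgebraic_of_tower A B K L
  exact (Algebra.IsAlgebraic.isAlgebraic (R := A) b).exists_nonzero_dvd
    (mem_nonZeroDivisors_of_ne_zero hb)

end Gen2

end Groth.Agent.Lib.Helper70.GenFin
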