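import Mathlib
import Groth.Agent.Lib.Helper70.GeomRedSch

set_option autoImplicit false
set_option linter.style.haveILetI false
universe u

open AlgebraicGeometry CategoryTheory CategoryTheory.Limits TensorProduct TopologicalSpace

namespace Groth.Agent.Lib.Helper70.GenFinFib

open Groth.Agent.Lib.Helper70.GeomRedSch

variable {X Y : Scheme.{u}}

/-- sections of `Spec κ(y) ⟶ Y` over an affine open, in terms of evaluation. -/
theorem fromSpecResidueField_appLE {V : Y.Opens} (hV : IsAffineOpen V) (y : Y) (hyV : y ∈ V)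
    (h : (⊤ : (Spec (Y.residueField y)).Opens) ≤ (Y.fromSpecResidueField y) ⁻¹ᵁ V) :
    (Y.fromSpecResidueField y).appLE V ⊤ h ≫ (Scheme.ΓSpecIso (Y.residueField y)).hom =
      Y.evaluation V y hyV := by
  apply Spec.map_injective
  rw [← cancel_mono hV.fromSpec, fromSpecResidueField_eq hV y hyV, Spec.map_comp, Category.assoc,
    hV.SpecMap_appLE_fromSpec (Y.fromSpecResidueField y) (isAffineOpen_top _) h,
    IsAffineOpen.fromSpec_top, Scheme.isoSpec_Spec, ← Category.assoc]
  simp [← Spec.map_comp]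


/-- If the fibre of `f` over `y ∈ V` is contained in an affine open `W ⊆ f⁻¹ V`, then the
scheme-theoretic fibre is affine with ring of sections `κ(y) ⊗[Γ(Y, V)] Γ(X, W)`. -/
theorem fibre_affine_equiv (f : X ⟶ Y) (y : Y) {V : Y.Opens} (hV : IsAffineOpen V) (hyV : y ∈ V)
    {W : X.Opens} (hW : IsAffineOpen W) (e : W ≤ f ⁻¹ᵁ V) (hfib : ∀ x : X, f x = y → x ∈ W) :
    IsAffine (pullback f (Y.fromSpecResidueField y)) ∧
    (letI := (f.appLE V W e).hom.toAlgebra
     letI := (Y.evaluation V y hyV).hom.toAlgebra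
     letI := ((Scheme.ΓSpecIso (CommRingCat.of (Y.residueField y))).inv ≫
        (pullback.snd f (Y.fromSpecResidueField y)).appTop).hom.toAlgebra
     Nonempty ((Y.residueField y) ⊗[Γ(Y, V)] Γ(X, W) ≃ₗ[Y.residueField y]
        Γ(pullback f (Y.fromSpecResidueField y), ⊤))) := by
  set η := Y.fromSpecResidueField y with hη
  set fst := pullback.fst f η with hfst
  set snd := pullback.snd f η with hsnd
  have H : IsPullback fst snd f η := IsPullback.of_hasPullback f η
  have hUST : (⊤ : (Spec (Y.residueField y)).Opens) ≤ η ⁻¹ᵁ V := by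
    intro s _
    show η s ∈ V
    rw [hη, Scheme.fromSpecResidueField_apply]
    exact hyV
  have hUY : (⊤ : (pullback f η).Opens) = fst ⁻¹ᵁ W ⊓ snd ⁻¹ᵁ ⊤ := by
    ext p
    simp only [Opens.coe_top, Set.mem_univ, Opens.coe_inf, Set.mem_inter_iff, SetLike.mem_coe,
      true_iff]
    refine ⟨?_, trivial⟩
    show fst p ∈ W
    apply hfib
    have h1 : f (fst p) = η (snd p) := by
      have := congrArg (fun g => g.base p) H.w
      simpa using this
    rw [h1]
    exact Scheme.fromSpecResidueField_apply y (snd p)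
  have hiso := AlgebraicGeometry.isIso_pushoutSection_of_isAffineOpen H hUST e
    (UY := ⊤) hUY hV (isAffineOpen_top _) hW
  have hpush := (AlgebraicGeometry.isIso_pushoutSection_iff H hUST e (UY := ⊤) hUY).1 hiso
  have hUY' : IsAffineOpen (⊤ : (pullback f η).Opens) := by
    have : IsAffine (Scheme.Opens.toScheme V) := hV
    have : IsAffine (⊤ : (Spec (Y.residueField y)).Opens).toScheme := isAffineOpen_top _
    have : IsAffine (Scheme.Opens.toScheme W) := hW
    exact .of_isIso (Scheme.Hom.isPullback_resLE H hUST e (UY := ⊤) hUY).isoPullback.hom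
  have haff : IsAffine (pullback f η) := by
    have : IsAffine (⊤ : (pullback f η).Opens).toScheme := hUY'
    exact .of_isIso (Scheme.topIso _).inv
  refine ⟨haff, ?_⟩
  have hpush' : IsPushout (f.appLE V W e) (Y.evaluation V y hyV)
      (fst.appLE W ⊤ (by rw [hUY]; exact inf_le_left))
      ((Scheme.ΓSpecIso (CommRingCat.of (Y.residueField y))).inv ≫ snd.appTop) := by
    refine IsPushout.of_iso hpush (Iso.refl _) (Iso.refl _)
      (Scheme.ΓSpecIso (Y.residueField y)) (Iso.refl _) ?_ ?_ ?_ ?_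
    · simp
    · rw [Iso.refl_hom, Category.id_comp]
      exact fromSpecResidueField_appLE hV y hyV hUST
    · simp
    · have h1 : snd.appLE ⊤ ⊤ (by rw [hUY]; exact inf_le_right) = snd.appTop := by
        simp [Scheme.Hom.appLE, Scheme.Hom.appTop]
      rw [h1]
      exact (Iso.hom_inv_id_assoc (Scheme.ΓSpecIso (Y.residueField y)) _).symm
  letI a1 : Algebra Γ(Y, V) Γ(X, W) := (f.appLE V W e).hom.toAlgebra
  letI a2 : Algebra Γ(Y, V) (Y.residueField y) := (Y.evaluation V y hyV).hom.toAlgebra
  letI a3 : Algebra (Y.residueField y) Γ(pullback f η, ⊤) :=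
    ((Scheme.ΓSpecIso (CommRingCat.of (Y.residueField y))).inv ≫ snd.appTop).hom.toAlgebra
  letI a4 : Algebra Γ(X, W) Γ(pullback f η, ⊤) :=
    (fst.appLE W ⊤ (by rw [hUY]; exact inf_le_left)).hom.toAlgebra
  letI a5 : Algebra Γ(Y, V) Γ(pullback f η, ⊤) :=
    ((fst.appLE W ⊤ (by rw [hUY]; exact inf_le_left)).hom.comp (f.appLE V W e).hom).toAlgebra
  haveI t1 : IsScalarTower Γ(Y, V) Γ(X, W) Γ(pullback f η, ⊤) :=
    IsScalarTower.of_algebraMap_eq' rfl
  haveI t2 : IsScalarTower Γ(Y, V) (Y.residueField y) Γ(pullback f η, ⊤) :=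
    IsScalarTower.of_algebraMap_eq' (by
      have := congrArg (fun g => g.hom) hpush'.w
      simp only [CommRingCat.hom_comp] at this
      exact this)
  have hP : Algebra.IsPushout Γ(Y, V) (Y.residueField y) Γ(X, W) Γ(pullback f η, ⊤) :=
    CommRingCat.isPushout_iff_isPushout.mp hpush'.flip
  exact ⟨(Algebra.IsPushout.equiv Γ(Y, V) (Y.residueField y) Γ(X, W)
    Γ(pullback f η, ⊤)).toLinearEquiv⟩

end Groth.Agent.Lib.Helper70.GenFinFib
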