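import Groth.Agent.Lib.Helper70.GenFin
import Groth.Agent.Lib.Helper70.GeomRedFS
import Groth.Agent.Lib.Helper73.DimFormula.GenericLocus

set_option autoImplicit false
set_option linter.style.haveILetI false
universe u

open AlgebraicGeometry CategoryTheory CategoryTheory.Limits TensorProduct TopologicalSpace

namespace Groth.Agent.Lib.Helper70.GenFinSch

open Groth.Agent.Lib.Helper70.OmegaMonoSch Groth.Agent.Lib.Helper70.GeomRedFS
open Groth.Agent.Lib.Helper73

variable {X Y : Scheme.{u}}

/-- the residue field at the generic point is the fraction field of the sections over an affine -/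
theorem isFractionRing_residueField_of_eq_genericPoint [IsIntegral Y] {V : Y.Opens}
    (hV : IsAffineOpen V) (z : Y) (hz : z = genericPoint Y) (hzV : z ∈ V) :
    letI : Algebra Γ(Y, V) (Y.residueField z) := (Y.evaluation V z hzV).hom.toAlgebra
    IsFractionRing Γ(Y, V) (Y.residueField z) := by
  subst hz
  letI a0 : Algebra Γ(Y, V) (Y.residueField (genericPoint Y)) :=
    (Y.evaluation V (genericPoint Y) hzV).hom.toAlgebra
  show IsFractionRing Γ(Y, V) (Y.residueField (genericPoint Y))
  haveI : Nonempty V := ⟨⟨_, hzV⟩⟩
  have h1 := isLocalization_residueField_of_eq_genericPoint hV (genericPoint Y) rfl hzV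
  delta IsFractionRing
  convert h1 using 1
  rw [hV.primeIdealOf_genericPoint, genericPoint_eq_bot_of_affine]
  ext; exact mem_nonZeroDivisors_iff_ne_zero

/-- finiteness of the function field extension for a dominant morphism of integral schemes of
the same dimension, locally of finite type over a field. -/
theorem finite_residueField_genericPoint (k : Type u) [Field k]
    (πX : X ⟶ Spec (CommRingCat.of k)) (πY : Y ⟶ Spec (CommRingCat.of k))
    [LocallyOfFiniteType πX] [LocallyOfFiniteType πY] [IsIntegral X] [IsIntegral Y]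
    (f : X ⟶ Y) (hdom : DenseRange f.base) (hf : f ≫ πY = πX)
    (hdim : topologicalKrullDim X = topologicalKrullDim Y) :
    letI := (f.residueFieldMap (genericPoint X)).hom.toAlgebra
    Module.Finite (Y.residueField (f (genericPoint X))) (X.residueField (genericPoint X)) := by
  letI aKL := (f.residueFieldMap (genericPoint X)).hom.toAlgebra
  show Module.Finite (Y.residueField (f (genericPoint X))) (X.residueField (genericPoint X))
  have hz : f (genericPoint X) = genericPoint Y := map_genericPoint_of_denseRange f hdom
  haveI : LocallyOfFiniteType f := by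
    have : LocallyOfFiniteType (f ≫ πY) := by rw [hf]; infer_instance
    exact locallyOfFiniteType_of_comp f πY
  have h1 := topologicalKrullDim_eq_trdegNat_genericPoint πX
  have h2 := topologicalKrullDim_eq_trdegNat_genericPoint πY
  have h3 := trdegNat_eq_add πX πY f hf (genericPoint X)
  rw [hz] at h3
  rw [h1, h2] at hdim
  have h4 : trdegNat πX (genericPoint X) = trdegNat πY (genericPoint Y) := by exact_mod_cast hdim
  have h5 : resTrdegNat f (genericPoint X) = 0 := by omega
  have h6 := resTrdeg_eq_resTrdegNat f (genericPoint X)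
  rw [h5, Nat.cast_zero] at h6
  have h7 : Algebra.trdeg (Y.residueField (f (genericPoint X)))
      (X.residueField (genericPoint X)) = 0 := h6
  haveI : Algebra.IsAlgebraic (Y.residueField (f (genericPoint X)))
      (X.residueField (genericPoint X)) := _root_.trdeg_eq_zero_iff.mp h7
  -- essential finiteness
  obtain ⟨V, hV, hzV, -⟩ := Opens.isBasis_iff_nbhd.mp Y.isBasis_affineOpens
    (show f (genericPoint X) ∈ (⊤ : Y.Opens) from trivial)
  obtain ⟨U, hU, hxU, e'⟩ := Opens.isBasis_iff_nbhd.mp X.isBasis_affineOpens
    (show genericPoint X ∈ f ⁻¹ᵁ V from hzV)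
  have e : U ≤ f ⁻¹ᵁ V := e'
  letI aAB : Algebra Γ(Y, V) Γ(X, U) := (f.appLE V U e).hom.toAlgebra
  letI aAK : Algebra Γ(Y, V) (Y.residueField (f (genericPoint X))) :=
    (Y.evaluation V (f (genericPoint X)) (e hxU)).hom.toAlgebra
  letI aBL : Algebra Γ(X, U) (X.residueField (genericPoint X)) :=
    (X.evaluation U (genericPoint X) hxU).hom.toAlgebra
  letI aAL : Algebra Γ(Y, V) (X.residueField (genericPoint X)) :=
    ((f.residueFieldMap (genericPoint X)).hom.comp
      (Y.evaluation V (f (genericPoint X)) (e hxU)).hom).toAlgebra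
  haveI t1 : IsScalarTower Γ(Y, V) (Y.residueField (f (genericPoint X)))
      (X.residueField (genericPoint X)) := IsScalarTower.of_algebraMap_eq' rfl
  haveI t2 : IsScalarTower Γ(Y, V) Γ(X, U) (X.residueField (genericPoint X)) :=
    IsScalarTower.of_algebraMap_eq' (by
      have := congrArg (fun g => g.hom) (appLE_evaluation f e (genericPoint X) hxU)
      simp only [CommRingCat.hom_comp] at this
      exact this.symm)
  haveI l2 := isLocalization_residueField_of_eq_genericPoint hU (genericPoint X) rfl hxU
  haveI f1 : Algebra.FiniteType Γ(Y, V) Γ(X, U) := f.finiteType_appLE hV hU e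
  haveI f2 : Algebra.EssFiniteType Γ(X, U) (X.residueField (genericPoint X)) :=
    Algebra.EssFiniteType.of_isLocalization _
      (hU.primeIdealOf ⟨genericPoint X, hxU⟩).asIdeal.primeCompl
  haveI f3 : Algebra.EssFiniteType Γ(Y, V) (X.residueField (genericPoint X)) :=
    Algebra.EssFiniteType.comp Γ(Y, V) Γ(X, U) _
  haveI f4 : Algebra.EssFiniteType (Y.residueField (f (genericPoint X)))
      (X.residueField (genericPoint X)) :=
    Algebra.EssFiniteType.of_comp Γ(Y, V) _ _
  exact Algebra.finite_of_essFiniteType_of_isAlgebraic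


section Chart

variable [IsIntegral X] [IsIntegral Y] (f : X ⟶ Y) [LocallyOfFiniteType f]
    (hdom : DenseRange f.base)
    (hfin : letI := (f.residueFieldMap (genericPoint X)).hom.toAlgebra
      Module.Finite (Y.residueField (f (genericPoint X))) (X.residueField (genericPoint X)))
    {V : Y.Opens} (hV : IsAffineOpen V) {U : X.Opens} (hU : IsAffineOpen U) (e : U ≤ f ⁻¹ᵁ V)
    (hxU : genericPoint X ∈ U)

include hdom hfin hV hU hxU in
/-- chart form of generic finiteness with degree -/
theorem chart_generic_finrank :
    ∃ g : Γ(Y, V), g ≠ 0 ∧ ∀ (κ : Type u) [Field κ] (ρ : Γ(Y, V) →+* κ), ρ g ≠ 0 →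
      letI := (f.appLE V U e).hom.toAlgebra
      letI := ρ.toAlgebra
      Module.Finite κ (κ ⊗[Γ(Y, V)] Γ(X, U)) ∧ Module.finrank κ (κ ⊗[Γ(Y, V)] Γ(X, U)) =
        (letI := (f.residueFieldMap (genericPoint X)).hom.toAlgebra
         Module.finrank (Y.residueField (f (genericPoint X)))
          (X.residueField (genericPoint X))) := by
  have hz : f (genericPoint X) = genericPoint Y := map_genericPoint_of_denseRange f hdom
  letI aKL := (f.residueFieldMap (genericPoint X)).hom.toAlgebra
  letI aAB : Algebra Γ(Y, V) Γ(X, U) := (f.appLE V U e).hom.toAlgebra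
  letI aAK : Algebra Γ(Y, V) (Y.residueField (f (genericPoint X))) :=
    (Y.evaluation V (f (genericPoint X)) (e hxU)).hom.toAlgebra
  letI aBL : Algebra Γ(X, U) (X.residueField (genericPoint X)) :=
    (X.evaluation U (genericPoint X) hxU).hom.toAlgebra
  letI aAL : Algebra Γ(Y, V) (X.residueField (genericPoint X)) :=
    ((f.residueFieldMap (genericPoint X)).hom.comp
      (Y.evaluation V (f (genericPoint X)) (e hxU)).hom).toAlgebra
  haveI t1 : IsScalarTower Γ(Y, V) (Y.residueField (f (genericPoint X)))
      (X.residueField (genericPoint X)) := IsScalarTower.of_algebraMap_eq' rfl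
  haveI t2 : IsScalarTower Γ(Y, V) Γ(X, U) (X.residueField (genericPoint X)) :=
    IsScalarTower.of_algebraMap_eq' (by
      have := congrArg (fun g => g.hom) (appLE_evaluation f e (genericPoint X) hxU)
      simp only [CommRingCat.hom_comp] at this
      exact this.symm)
  haveI l1 := isFractionRing_residueField_of_eq_genericPoint hV (f (genericPoint X)) hz (e hxU)
  haveI l2 := isFractionRing_residueField_of_eq_genericPoint hU (genericPoint X) rfl hxU
  haveI f1 : Algebra.FiniteType Γ(Y, V) Γ(X, U) := f.finiteType_appLE hV hU e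
  haveI : Nonempty V := ⟨⟨_, e hxU⟩⟩
  haveI : Nonempty U := ⟨⟨_, hxU⟩⟩
  haveI hfin' : Module.Finite (Y.residueField (f (genericPoint X)))
      (X.residueField (genericPoint X)) := hfin
  obtain ⟨g, hg0, hg⟩ := GenFin.exists_generic_finrank Γ(Y, V) Γ(X, U)
    (Y.residueField (f (genericPoint X))) (X.residueField (genericPoint X))
  refine ⟨g, hg0, fun κ _ ρ hρ => ?_⟩
  letI := ρ.toAlgebra
  exact hg κ hρ

include hdom hfin hV hU hxU in
theorem chart_exists_dvd (b : Γ(X, U)) (hb : b ≠ 0) :
    ∃ a : Γ(Y, V), a ≠ 0 ∧ b ∣ (f.appLE V U e).hom a := by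
  have hz : f (genericPoint X) = genericPoint Y := map_genericPoint_of_denseRange f hdom
  letI aKL := (f.residueFieldMap (genericPoint X)).hom.toAlgebra
  letI aAB : Algebra Γ(Y, V) Γ(X, U) := (f.appLE V U e).hom.toAlgebra
  letI aAK : Algebra Γ(Y, V) (Y.residueField (f (genericPoint X))) :=
    (Y.evaluation V (f (genericPoint X)) (e hxU)).hom.toAlgebra
  letI aBL : Algebra Γ(X, U) (X.residueField (genericPoint X)) :=
    (X.evaluation U (genericPoint X) hxU).hom.toAlgebra
  letI aAL : Algebra Γ(Y, V) (X.residueField (genericPoint X)) :=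
    ((f.residueFieldMap (genericPoint X)).hom.comp
      (Y.evaluation V (f (genericPoint X)) (e hxU)).hom).toAlgebra
  haveI t1 : IsScalarTower Γ(Y, V) (Y.residueField (f (genericPoint X)))
      (X.residueField (genericPoint X)) := IsScalarTower.of_algebraMap_eq' rfl
  haveI t2 : IsScalarTower Γ(Y, V) Γ(X, U) (X.residueField (genericPoint X)) :=
    IsScalarTower.of_algebraMap_eq' (by
      have := congrArg (fun g => g.hom) (appLE_evaluation f e (genericPoint X) hxU)
      simp only [CommRingCat.hom_comp] at this
      exact this.symm)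
  haveI l1 := isFractionRing_residueField_of_eq_genericPoint hV (f (genericPoint X)) hz (e hxU)
  haveI l2 := isFractionRing_residueField_of_eq_genericPoint hU (genericPoint X) rfl hxU
  haveI : Nonempty V := ⟨⟨_, e hxU⟩⟩
  haveI : Nonempty U := ⟨⟨_, hxU⟩⟩
  haveI hfin' : Module.Finite (Y.residueField (f (genericPoint X)))
      (X.residueField (genericPoint X)) := hfin
  exact GenFin.exists_ne_zero_dvd Γ(Y, V) Γ(X, U)
    (Y.residueField (f (genericPoint X))) (X.residueField (genericPoint X)) b hb

end Chart

end Groth.Agent.Lib.Helper70.GenFinSch
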