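import Groth.Agent.Lib.Helper48.FormallySmoothAppLE
import Groth.Agent.Lib.Helper77.ArtinSmoothLength
import Mathlib.AlgebraicGeometry.Morphisms.UniversallyOpen
import Mathlib.AlgebraicGeometry.Noetherian
import Mathlib.AlgebraicGeometry.Stalk

set_option autoImplicit false
set_option linter.style.haveILetI false
universe u

open AlgebraicGeometry CategoryTheory Opposite TopologicalSpace

namespace Groth.Agent.Lib.Helper70.GenLen

/-- A formally smooth morphism (lifting property) has formally smooth stalk maps. -/
theorem formallySmooth_stalkMap {X Y : Scheme.{u}} (f : X ⟶ Y)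
    (hf : MoreMor.IsFormallySmoothHom f) (x : X) :
    (f.stalkMap x).hom.FormallySmooth := by
  obtain ⟨V, hV, hfx, -⟩ := Opens.isBasis_iff_nbhd.mp Y.isBasis_affineOpens
    (Opens.mem_top (f x))
  obtain ⟨U, hU, hx, e⟩ := Opens.isBasis_iff_nbhd.mp X.isBasis_affineOpens
    (show x ∈ f ⁻¹ᵁ V from hfx)
  have h0 := Groth.Agent.Lib.Helper48.OmegaAff.formallySmooth_appLE f hf hU hV e
  letI : Algebra Γ(Y, V) Γ(X, U) := (f.appLE V U e).hom.toAlgebra
  letI : Algebra Γ(X, U) (X.presheaf.stalk x) :=
    TopCat.Presheaf.algebra_section_stalk X.presheaf (⟨x, hx⟩ : U)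
  letI : Algebra Γ(Y, V) (Y.presheaf.stalk (f x)) :=
    TopCat.Presheaf.algebra_section_stalk Y.presheaf (⟨f x, hfx⟩ : V)
  letI : Algebra (Y.presheaf.stalk (f x)) (X.presheaf.stalk x) := (f.stalkMap x).hom.toAlgebra
  letI : Algebra Γ(Y, V) (X.presheaf.stalk x) :=
    ((algebraMap Γ(X, U) (X.presheaf.stalk x)).comp (algebraMap Γ(Y, V) Γ(X, U))).toAlgebra
  haveI : IsScalarTower Γ(Y, V) Γ(X, U) (X.presheaf.stalk x) := .of_algebraMap_eq' rfl
  haveI : IsScalarTower Γ(Y, V) (Y.presheaf.stalk (f x)) (X.presheaf.stalk x) := by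
    refine .of_algebraMap_eq fun a => ?_
    change (X.presheaf.germ U x hx).hom ((f.appLE V U e).hom a) =
      (f.stalkMap x).hom ((Y.presheaf.germ V (f x) hfx).hom a)
    rw [Scheme.Hom.germ_stalkMap_apply, Scheme.Hom.appLE]
    simp only [CommRingCat.hom_comp, RingHom.comp_apply]
    exact TopCat.Presheaf.germ_res_apply X.presheaf (homOfLE e) x hx _
  haveI := hU.isLocalization_stalk ⟨x, hx⟩
  haveI := hV.isLocalization_stalk ⟨f x, hfx⟩
  haveI : Algebra.FormallySmooth Γ(Y, V) Γ(X, U) := h0
  haveI : Algebra.FormallySmooth Γ(X, U) (X.presheaf.stalk x) :=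
    .of_isLocalization (hU.primeIdealOf ⟨x, hx⟩).asIdeal.primeCompl
  haveI : Algebra.FormallySmooth Γ(Y, V) (X.presheaf.stalk x) :=
    .comp _ Γ(X, U) _
  exact Algebra.FormallySmooth.localization_base (hV.primeIdealOf ⟨f x, hfx⟩).asIdeal.primeCompl

/-- The local ring at the generic point of an irreducible locally Noetherian scheme is Artinian. -/
theorem isArtinianRing_stalk_genericPoint (X : Scheme.{u}) [IrreducibleSpace ↥X]
    [IsLocallyNoetherian X] : IsArtinianRing (X.presheaf.stalk (genericPoint X)) := by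
  rw [isArtinianRing_iff_isNoetherianRing_krullDimLE_zero]
  refine ⟨inferInstance, ?_⟩
  rw [Ring.krullDimLE_zero_iff]
  intro P hP
  let p : Spec (X.presheaf.stalk (genericPoint X)) := ⟨P, hP⟩
  have h1 : X.fromSpecStalk (genericPoint X) p ∈ Set.range (X.fromSpecStalk (genericPoint X)) :=
    ⟨p, rfl⟩
  rw [Scheme.range_fromSpecStalk] at h1
  have h2 : X.fromSpecStalk (genericPoint X) p = genericPoint X :=
    (h1.antisymm (genericPoint_specializes _)).eq
  have h3 : X.fromSpecStalk (genericPoint X) (IsLocalRing.closedPoint _) = genericPoint X :=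
    Scheme.fromSpecStalk_closedPoint
  have h4 : p = IsLocalRing.closedPoint _ :=
    (X.fromSpecStalk (genericPoint X)).isEmbedding.injective (h2.trans h3.symm)
  have h5 : P = IsLocalRing.maximalIdeal _ := congrArg PrimeSpectrum.asIdeal h4
  rw [h5]
  infer_instance

/-- A flat morphism of irreducible schemes maps the generic point to the generic point. -/
theorem map_genericPoint_of_flat {X' X : Scheme.{u}} (f : X' ⟶ X)
    [IrreducibleSpace ↥X'] [IrreducibleSpace ↥X] [Flat f] :
    f (genericPoint X') = genericPoint X := by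
  have hg : GeneralizingMap f := Flat.generalizingMap f
  obtain ⟨x', hx', hfx'⟩ := hg (genericPoint_specializes (f (genericPoint X')))
  have : x' = genericPoint X' := (hx'.antisymm (genericPoint_specializes _)).eq
  rw [← this, hfx']

theorem main {X' X : Scheme.{u}} (f : X' ⟶ X)
    [IrreducibleSpace ↥X'] [IrreducibleSpace ↥X] [IsNoetherian X'] [IsNoetherian X] [Flat f]
    (hf : MoreMor.IsFormallySmoothHom f) :
    Module.length (X'.presheaf.stalk (genericPoint X')) (X'.presheaf.stalk (genericPoint X'))
      = Module.length (X.presheaf.stalk (genericPoint X)) (X.presheaf.stalk (genericPoint X)) := by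
  have h := map_genericPoint_of_flat f
  haveI := isArtinianRing_stalk_genericPoint X'
  haveI : IsArtinianRing (X.presheaf.stalk (f (genericPoint X'))) := by
    rw [h]; exact isArtinianRing_stalk_genericPoint X
  letI : Algebra (X.presheaf.stalk (f (genericPoint X'))) (X'.presheaf.stalk (genericPoint X')) :=
    (f.stalkMap (genericPoint X')).hom.toAlgebra
  haveI : Module.Flat (X.presheaf.stalk (f (genericPoint X')))
      (X'.presheaf.stalk (genericPoint X')) := Flat.stalkMap f (genericPoint X')
  haveI : Algebra.FormallySmooth (X.presheaf.stalk (f (genericPoint X')))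
      (X'.presheaf.stalk (genericPoint X')) := formallySmooth_stalkMap f hf (genericPoint X')
  have key := Groth.Agent.Lib.Helper77.ArtinSmoothLength.main
    (X.presheaf.stalk (f (genericPoint X'))) (X'.presheaf.stalk (genericPoint X'))
  rw [← key, h]

end Groth.Agent.Lib.Helper70.GenLen
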