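import Mathlib

set_option autoImplicit false
set_option linter.style.haveILetI false

namespace Groth.Agent.Lib.Helper70.H0Alg

open TensorProduct

/-- `R` integrally closed domain, `A` a domain integral over `R` (injectively), `L` a field
containing `A`; if `L ⊗[R] A` is a domain then `R → A` is surjective. -/
theorem surjective_of_isDomain_tensor {R A L : Type*} [CommRing R] [IsDomain R]
    [IsIntegrallyClosed R]
    [CommRing A] [IsDomain A] [Algebra R A] [Algebra.IsIntegral R A]
    (hinj : Function.Injective (algebraMap R A))
    [Field L] [Algebra A L] [Algebra R L] [IsScalarTower R A L]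
    (hAL : Function.Injective (algebraMap A L))
    [IsDomain (L ⊗[R] A)] : Function.Surjective (algebraMap R A) := by
  intro a
  have hfld : IsField (L ⊗[R] A) := by
    have h := isField_of_isIntegral_of_isField' (R := L) (S := L ⊗[R] A) (Field.toIsField L)
    exact ⟨h.exists_pair_ne, h.mul_comm, h.mul_inv_cancel⟩
  let μ : L ⊗[R] A →ₐ[L] L := Algebra.TensorProduct.lift (AlgHom.id L L)
    (IsScalarTower.toAlgHom R A L) (fun _ _ => Commute.all _ _)
  have hμ : Function.Injective μ := by
    letI : Field (L ⊗[R] A) := hfld.toField
    exact RingHom.injective μ.toRingHom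
  have h1 : (1 : L) ⊗ₜ[R] a = (algebraMap A L a) ⊗ₜ[R] (1 : A) := by
    apply hμ
    simp [μ]
  haveI : FaithfulSMul R L := (faithfulSMul_iff_algebraMap_injective R L).mpr (by
    rw [IsScalarTower.algebraMap_eq R A L]; exact hAL.comp hinj)
  letI : Algebra (FractionRing R) L := FractionRing.liftAlgebra R L
  haveI : IsScalarTower R (FractionRing R) L := FractionRing.isScalarTower_liftAlgebra R L
  obtain ⟨g, hg⟩ := (Algebra.linearMap (FractionRing R) L).exists_leftInverse_of_injective
    (LinearMap.ker_eq_bot.mpr (algebraMap (FractionRing R) L).injective)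
  have hg1 : g 1 = 1 := by
    have := LinearMap.congr_fun hg (1 : FractionRing R)
    simpa using this
  let ψ : L ⊗[R] A →ₗ[R] L :=
    (Algebra.TensorProduct.productMap (IsScalarTower.toAlgHom R (FractionRing R) L)
      (IsScalarTower.toAlgHom R A L)).toLinearMap ∘ₗ
      TensorProduct.map (g.restrictScalars R) (LinearMap.id)
  have h2 : algebraMap A L a = algebraMap (FractionRing R) L (g (algebraMap A L a)) := by
    have := congrArg ψ h1
    simpa [ψ, hg1] using this
  have hc : IsIntegral R (g (algebraMap A L a)) := by
    have h3 : IsIntegral R (algebraMap A L a) :=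
      (Algebra.IsIntegral.isIntegral a).map (IsScalarTower.toAlgHom R A L)
    rw [h2] at h3
    exact (isIntegral_algebraMap_iff (algebraMap (FractionRing R) L).injective).mp h3
  obtain ⟨r, hr⟩ := IsIntegrallyClosed.isIntegral_iff.mp hc
  refine ⟨r, hAL ?_⟩
  rw [h2, ← hr, ← IsScalarTower.algebraMap_apply, ← IsScalarTower.algebraMap_apply]

end Groth.Agent.Lib.Helper70.H0Alg
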