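import Mathlib
import Groth.Prelude.Def_Neron
import Groth.Prelude.Def_Coh
import Groth.Agent.Lib.Helper70.H0Alg
import Groth.Agent.Lib.Helper5.QAffFBC
import Groth.Agent.Lib.Helper7.ProjSpaceProper

set_option autoImplicit false
set_option linter.style.haveILetI false
universe u

open AlgebraicGeometry CategoryTheory CategoryTheory.Limits TensorProduct

namespace Groth.Agent.Lib.Helper70.H0Sch

open Groth.Agent.Lib.Helper5.QAffFBC Groth.Agent.Lib.Helper5.AffCore

/-- `R → H^0(X, O_X)` is bijective for an integral scheme, proper and flat over a Dedekind domain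
`R`, with geometrically integral generic fibre. -/
theorem bijective_toGlobal {R : Type u} [CommRing R] [IsDedekindDomain R]
    (X : Over (Spec (CommRingCat.of R))) [IsIntegral X.left]
    [Flat X.hom] [IsProper X.hom]
    [GeometricallyIrreducible ((Neron.genericFibre R).obj X).hom]
    [GeometricallyReduced ((Neron.genericFibre R).obj X).hom] :
    Function.Bijective (Coh.toGlobal X.hom) := by
  set π := X.hom with hπ
  haveI : CompactSpace X.left := QuasiCompact.compactSpace_of_compactSpace π
  haveI : QuasiSeparatedSpace X.left := quasiSeparatedSpace_of_quasiSeparated π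
  let φ : R →+* Γ(X.left, ⊤) := Coh.toGlobal π
  -- integrality
  have hint : φ.IsIntegral := by
    have h1 : π.appTop.hom.IsIntegral := isIntegral_appTop_of_universallyClosed π
    have h2 : (Scheme.ΓSpecIso (CommRingCat.of R)).inv.hom.IsIntegral := by
      apply RingHom.isIntegral_of_surjective
      intro x
      refine ⟨(Scheme.ΓSpecIso (CommRingCat.of R)).hom.hom x, ?_⟩
      rw [← RingHom.comp_apply, ← CommRingCat.hom_comp, Iso.hom_inv_id]
      rfl
    exact RingHom.IsIntegral.trans _ _ h2 h1
  -- injectivity
  have hinj : Function.Injective φ := by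
    rw [injective_iff_map_eq_zero]
    intro r hr
    by_contra hr0
    obtain ⟨_, ⟨U, hU, rfl⟩, hxU, -⟩ := X.left.isBasis_affineOpens.exists_subset_of_mem_open
      (Set.mem_univ (Nonempty.some inferInstance : X.left)) isOpen_univ
    haveI : Nonempty U := ⟨⟨_, hxU⟩⟩
    have hfl : (π.appLE ⊤ U le_top).hom.Flat := π.flat_appLE (isAffineOpen_top _) hU le_top
    let r' := (Scheme.ΓSpecIso (CommRingCat.of R)).inv.hom r
    have hr' : r' ≠ 0 := by
      intro h
      apply hr0
      have := congrArg (Scheme.ΓSpecIso (CommRingCat.of R)).hom.hom h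
      rw [map_zero] at this
      rw [← this]
      show r = ((Scheme.ΓSpecIso (CommRingCat.of R)).inv ≫
        (Scheme.ΓSpecIso (CommRingCat.of R)).hom).hom r
      rw [Iso.inv_hom_id]
      rfl
    algebraize [(π.appLE ⊤ U le_top).hom]
    have hreg : IsSMulRegular Γ(X.left, U) r' :=
      Module.Flat.isSMulRegular_of_nonZeroDivisors (mem_nonZeroDivisors_of_ne_zero hr')
    have h0 : (π.appLE ⊤ U le_top).hom r' = 0 := by
      have h1 : π.appLE ⊤ U le_top = π.appTop ≫ X.left.presheaf.map (homOfLE le_top).op := rfl
      rw [h1, CommRingCat.hom_comp, RingHom.comp_apply]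
      have h2 : π.appTop.hom r' = 0 := hr
      rw [h2, map_zero]
    have h1 : r' • (1 : Γ(X.left, U)) = r' • (0 : Γ(X.left, U)) := by
      rw [smul_zero, Algebra.smul_def, mul_one]
      exact h0
    exact one_ne_zero (hreg h1)
  letI aRA : Algebra R Γ(X.left, ⊤) := φ.toAlgebra
  haveI : Algebra.IsIntegral R Γ(X.left, ⊤) := ⟨hint⟩
  let L := FractionRing Γ(X.left, ⊤)
  haveI : IsScalarTower R Γ(X.left, ⊤) L := inferInstance
  have hAL : Function.Injective (algebraMap Γ(X.left, ⊤) L) := IsFractionRing.injective _ _
  haveI : FaithfulSMul R L := (faithfulSMul_iff_algebraMap_injective R L).mpr (by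
    rw [IsScalarTower.algebraMap_eq R Γ(X.left, ⊤) L]
    exact hAL.comp hinj)
  letI aKL : Algebra (FractionRing R) L := FractionRing.liftAlgebra R L
  haveI : IsScalarTower R (FractionRing R) L := FractionRing.isScalarTower_liftAlgebra R L
  haveI : Module.Flat R L := Module.Flat.trans R (FractionRing R) L
  -- the base change to `L`
  have hpo := fbc (A := R) L π
  -- integrality of the base change
  haveI hgi : GeometricallyIntegral (pullback.snd π (Neron.genPt R)) :=
    @GeometricallyIntegral.of_geometricallyReduced_of_geometricallyIrreducible _ _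
      (pullback.snd π (Neron.genPt R))
      (inferInstanceAs (GeometricallyReduced ((Neron.genericFibre R).obj X).hom))
      (inferInstanceAs (GeometricallyIrreducible ((Neron.genericFibre R).obj X).hom))
  let y : Spec (CommRingCat.of L) ⟶ Spec (CommRingCat.of (FractionRing R)) :=
    Spec.map (CommRingCat.ofHom (algebraMap (FractionRing R) L))
  have hy : y ≫ Neron.genPt R = pp R L := by
    rw [← Spec.map_comp]
    congr 1
    ext x
    exact (IsScalarTower.algebraMap_apply R (FractionRing R) L x).symm
  let h11 : pullback (pp R L) π ⟶ pullback π (Neron.genPt R) :=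
    pullback.lift (pullback.snd (pp R L) π) (pullback.fst (pp R L) π ≫ y)
      (by rw [Category.assoc, hy]; exact pullback.condition.symm)
  have hbig : IsPullback (h11 ≫ pullback.fst π (Neron.genPt R)) (pullback.fst (pp R L) π) π
      (y ≫ Neron.genPt R) := by
    rw [pullback.lift_fst, hy]
    exact (IsPullback.of_hasPullback (pp R L) π).flip
  have hleft : IsPullback h11 (pullback.fst (pp R L) π) (pullback.snd π (Neron.genPt R)) y :=
    IsPullback.of_right hbig (pullback.lift_snd _ _ _) (IsPullback.of_hasPullback π (Neron.genPt R))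
  haveI hYint : IsIntegral (pullback (pp R L) π) :=
    hgi.geometrically_isIntegral y h11 _ hleft
  letI a3 : Algebra L Γ(pullback (pp R L) π, ⊤) := (iot L π).hom.toAlgebra
  letI a4 : Algebra Γ(X.left, ⊤) Γ(pullback (pp R L) π, ⊤) := (rho L π).hom.toAlgebra
  letI a5 : Algebra R Γ(pullback (pp R L) π, ⊤) := ((rho L π).hom.comp φ).toAlgebra
  haveI t1 : IsScalarTower R Γ(X.left, ⊤) Γ(pullback (pp R L) π, ⊤) :=
    IsScalarTower.of_algebraMap_eq' rfl
  haveI t2 : IsScalarTower R L Γ(pullback (pp R L) π, ⊤) :=
    IsScalarTower.of_algebraMap_eq' (by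
      have := congrArg (fun g => g.hom) hpo.w
      simp only [CommRingCat.hom_comp] at this
      exact this.symm)
  have hP : Algebra.IsPushout R L Γ(X.left, ⊤) Γ(pullback (pp R L) π, ⊤) :=
    CommRingCat.isPushout_iff_isPushout.mp hpo
  haveI : IsDomain (L ⊗[R] Γ(X.left, ⊤)) :=
    (Algebra.IsPushout.equiv R L Γ(X.left, ⊤) Γ(pullback (pp R L) π, ⊤)).toMulEquiv.isDomain _
  exact ⟨hinj, Groth.Agent.Lib.Helper70.H0Alg.surjective_of_isDomain_tensor
    (R := R) (A := Γ(X.left, ⊤)) (L := L) hinj hAL⟩

end Groth.Agent.Lib.Helper70.H0Sch
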