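import Mathlib
import Groth.Prelude.Def_ArSurf
import Groth.Prelude.Def_Pic
import Groth.Prelude.Def_Canon
import Groth.Prelude.Def_FGA
import Groth.Agent.Lib.Helper48.PullUnit

/-!
# Intersection number with a module that is trivial on the component (helper70)

* `finrank_HH_congr`, `eulerCharLE_congr`, `curveDeg_congr`: invariance under isomorphism.
* `nonempty_pullback_iso_unit`: if `i ≫ f` lands in an open `U` on which `M` is trivial, then
  `i^* f^* M ≅ O`.
* `inter_eq_zero`: `ArSurf.inter R X L Γ = 0` as soon as `L|_Γ ≅ O_Γ`.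
-/

set_option autoImplicit false
set_option linter.style.haveILetI false
universe u
open CategoryTheory CategoryTheory.Limits AlgebraicGeometry

namespace Groth.Agent.Lib.Helper70.InterTriv

section General

variable (k : Type u) [Field k] {X : Scheme.{u}} [X.Over (Spec (CommRingCat.of k))]

lemma HHlin_comp {F G H : X.Modules} (φ : F ⟶ G) (ψ : G ⟶ H) (i : ℕ) (x : Coh.HH X F i) :
    Canon.HHlin k (φ ≫ ψ) i x = Canon.HHlin k ψ i (Canon.HHlin k φ i x) := by
  have e : (SheafOfModules.toSheaf X.ringCatSheaf).map (φ ≫ ψ) =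
      (SheafOfModules.toSheaf X.ringCatSheaf).map φ ≫
        (SheafOfModules.toSheaf X.ringCatSheaf).map ψ :=
    Functor.map_comp _ _ _
  exact (congrArg (fun f => Sheaf.H.map f i x) e).trans (Sheaf.H.map_comp_apply _ _ x)

lemma HHlin_id {F : X.Modules} (i : ℕ) (x : Coh.HH X F i) : Canon.HHlin k (𝟙 F) i x = x := by
  have e : (SheafOfModules.toSheaf X.ringCatSheaf).map (𝟙 F) = 𝟙 _ :=
    CategoryTheory.Functor.map_id _ _
  exact (congrArg (fun f => Sheaf.H.map f i x) e).trans (Sheaf.H.map_id_apply x)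

/-- cohomology of isomorphic modules has the same dimension -/
theorem finrank_HH_congr {F G : X.Modules} (e : F ≅ G) (i : ℕ) :
    Module.finrank k (Coh.HH X F i) = Module.finrank k (Coh.HH X G i) := by
  refine LinearEquiv.finrank_eq (LinearEquiv.ofLinear (Canon.HHlin k e.hom i)
    (Canon.HHlin k e.inv i) ?_ ?_)
  · ext x
    change Canon.HHlin k e.hom i (Canon.HHlin k e.inv i x) = x
    rw [← HHlin_comp, e.inv_hom_id, HHlin_id]
  · ext x
    change Canon.HHlin k e.inv i (Canon.HHlin k e.hom i x) = x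
    rw [← HHlin_comp, e.hom_inv_id, HHlin_id]

theorem eulerCharLE_congr {F G : X.Modules} (e : F ≅ G) (d : ℕ) :
    FGA.eulerCharLE k X F d = FGA.eulerCharLE k X G d := by
  unfold FGA.eulerCharLE
  refine Finset.sum_congr rfl fun i _ => ?_
  rw [finrank_HH_congr k e i]

theorem curveDeg_eq_zero {F : X.Modules} (e : F ≅ Coh.structureModule X) :
    ArSurf.curveDeg k X F = 0 := by
  unfold ArSurf.curveDeg
  rw [eulerCharLE_congr k e 1, sub_self]

end General

/-- If `i ≫ f` factors through an open `U` on which `M` is trivial then `i^* f^* M ≅ O`. -/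
theorem nonempty_pullback_iso_unit {Z X Y : Scheme.{u}} (i : Z ⟶ X) (f : X ⟶ Y) (M : Y.Modules)
    (U : Y.Opens) (eU : M.restrict U.ι ≅ Coh.structureModule (↑U))
    (h : ∀ z : Z, (i ≫ f).base z ∈ U) :
    Nonempty ((Scheme.Modules.pullback i).obj ((Scheme.Modules.pullback f).obj M) ≅
      Coh.structureModule Z) := by
  have hrange : Set.range (i ≫ f).base ⊆ Set.range U.ι.base := by
    rintro _ ⟨z, rfl⟩
    rw [Scheme.Opens.range_ι]
    exact h z
  let g : Z ⟶ (U : Scheme.{u}) := IsOpenImmersion.lift U.ι (i ≫ f) hrange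
  have hg : g ≫ U.ι = i ≫ f := IsOpenImmersion.lift_fac _ _ _
  refine ⟨(Scheme.Modules.pullbackComp i f).app M ≪≫
    (Scheme.Modules.pullbackCongr hg.symm).app M ≪≫
    ((Scheme.Modules.pullbackComp g U.ι).app M).symm ≪≫
    (Scheme.Modules.pullback g).mapIso
      (((Scheme.Modules.restrictFunctorIsoPullback U.ι).app M).symm ≪≫ eU) ≪≫
    asIso (Groth.Agent.Lib.Helper48.PullUnit.unitHom g)⟩

theorem inter_eq_zero (R : Type u) [CommRing R] [IsDomain R] [IsDiscreteValuationRing R]
    (X : Over (Spec (CommRingCat.of R))) (Γ : ArSurf.VertComp R X) (L : X.left.Modules)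
    (h : Nonempty ((Scheme.Modules.pullback Γ.ι).obj L ≅ Coh.structureModule Γ.curve.left)) :
    ArSurf.inter R X L Γ = 0 := by
  obtain ⟨e⟩ := h
  unfold ArSurf.inter
  exact curveDeg_eq_zero _ e

end Groth.Agent.Lib.Helper70.InterTriv
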