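import Mathlib
import Groth.Agent.Lib.Helper70.LCIH1
import Groth.Agent.Lib.Helper67.FlatDepth12
import Groth.Agent.Lib.Helper85.GorLCIFibre

/-!
# `H¹` of the naive cotangent complex of a flat lci algebra with generically smooth fibres vanishes

* `exists_ass_of_nontrivial`: nonzero `H¹(L_{P/A})` (Koszul-regular presentation, `P` Noetherian)
  yields `x'` with prime annihilator `𝔓 ∈ Ass(P)`.
* `false_of_formallySmooth`: such a `𝔓` is not in the smooth locus.
* `eq_of_le_of_mem_associatedPrimes`: flat lci over Noetherian: associated primes of `P` are minimal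
  in their fibres (fibre local ring Gorenstein, depth formula).
* `main`: S18126.
-/

set_option autoImplicit false
set_option linter.style.haveILetI false
universe u

namespace Groth.Agent.Lib.Helper70.LCIRel

open IsLocalRing Algebra Groth.Agent.Lib.Helper70.LCIH1


/-- if `H¹(L_{P/A})` is nonzero for a Noetherian `A`-algebra `P` with a Koszul-regular presentation,
some element of it has annihilator a prime `𝔓` which is an associated prime of `P` -/
theorem exists_ass_of_nontrivial (A P : Type u) [CommRing A] [CommRing P] [Algebra A P]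
    [IsNoetherianRing P] (n : ℕ) (f : MvPolynomial (Fin n) A →ₐ[A] P)
    (hf : Function.Surjective f) (hI : LCI.IsKoszulRegularIdeal (RingHom.ker f.toRingHom))
    (hns : Nontrivial (Algebra.H1Cotangent A P)) :
    ∃ (𝔓 : Ideal P) (_ : 𝔓.IsPrime) (x' : Algebra.H1Cotangent A P),
      (∀ a : P, a ∈ 𝔓 ↔ a • x' = 0) ∧ 𝔓 ∈ associatedPrimes P P := by
  have hfa : (MvPolynomial.aeval (R := A) fun i => f (MvPolynomial.X i)) = f := by
    apply MvPolynomial.algHom_ext
    intro i
    simp
  let G : Algebra.Generators A P (Fin n) :=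
    Algebra.Generators.ofSurjective (fun i => f (MvPolynomial.X i)) (by rw [hfa]; exact hf)
  have hGf : ∀ b : MvPolynomial (Fin n) A, algebraMap G.toExtension.Ring P b = f b := by
    intro b
    have : algebraMap G.Ring P b =
        MvPolynomial.aeval (R := A) (fun i => f (MvPolynomial.X i)) b := G.algebraMap_apply b
    rw [hfa] at this
    exact this
  obtain ⟨p, hp⟩ := associatedPrimes.nonempty P (Algebra.H1Cotangent A P)
  obtain ⟨hpp, x', hx'⟩ := (isAssociatedPrime_iff).1 hp
  haveI := hpp
  have hx'mem : ∀ a : P, a ∈ p ↔ a • x' = 0 := by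
    intro a
    rw [hx', Submodule.mem_colon_singleton, Submodule.mem_bot]
  refine ⟨p, hpp, x', hx'mem, ?_⟩
  -- transfer to the presentation
  let e := G.equivH1Cotangent
  set x := e.symm x' with hxdef
  have hxmem : ∀ a : P, a ∈ p ↔ a • x.1 = 0 := by
    intro a
    rw [hx'mem]
    constructor
    · intro h
      have : a • x = 0 := by rw [hxdef, ← map_smul, h, map_zero]
      rw [← Algebra.Extension.H1Cotangent.val_smul, this]
      rfl
    · intro h
      have h1 : a • x = 0 := by
        apply Subtype.ext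
        rw [Algebra.Extension.H1Cotangent.val_smul, h]
        rfl
      have : e (a • x) = 0 := by rw [h1, map_zero]
      rwa [map_smul, hxdef, LinearEquiv.apply_symm_apply] at this
  obtain ⟨y, hy⟩ := Algebra.Extension.Cotangent.mk_surjective x.1
  have hker : ∀ b : MvPolynomial (Fin n) A,
      b ∈ G.toExtension.ker ↔ b ∈ RingHom.ker f.toRingHom := by
    intro b
    change algebraMap G.toExtension.Ring P b = 0 ↔ f b = 0
    rw [hGf]
  have hker2 : ∀ b : MvPolynomial (Fin n) A,
      b ∈ G.toExtension.ker ^ 2 ↔ b ∈ RingHom.ker f.toRingHom ^ 2 := by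
    intro b
    have : G.toExtension.ker = RingHom.ker f.toRingHom := Ideal.ext hker
    rw [this]
    exact Iff.rfl
  let q : Ideal (MvPolynomial (Fin n) A) := p.comap f.toRingHom
  let y1 : MvPolynomial (Fin n) A := y.1
  have hq : ∀ b : MvPolynomial (Fin n) A,
      b * y1 ∈ RingHom.ker f.toRingHom ^ 2 ↔ b ∈ q := by
    intro b
    change _ ↔ f b ∈ p
    rw [hxmem, ← hGf, algebraMap_smul, ← hy, ← map_smul,
      Algebra.Extension.Cotangent.mk_eq_zero_iff, ← hker2]
    rfl
  have hyI : y1 ∈ RingHom.ker f.toRingHom := (hker _).1 y.2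
  obtain ⟨w, hw, hqw⟩ := exists_socle_elt (RingHom.ker f.toRingHom) hI q y1 hyI hq
  obtain ⟨φ, hφ, hkerφ, hφalg⟩ :=
    Groth.Agent.Lib.Helper85.GorRing.exists_loc_surjective f.toRingHom hf q p rfl
  have hz : φ w ≠ 0 := by
    intro h0
    apply hw
    rw [← hkerφ]
    exact h0
  have hpz : ∀ a ∈ p, algebraMap P (Localization.AtPrime p) a * φ w = 0 := by
    intro a ha
    obtain ⟨b, rfl⟩ := hf a
    have hb : b ∈ q := ha
    have := hqw b hb
    rw [← hkerφ, RingHom.mem_ker, map_mul, hφalg] at this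
    exact this
  exact mem_associatedPrimes_of_socle p (φ w) hz hpz

/-- an element of `H¹(L_{P/A})` with prime annihilator `𝔓` is incompatible with `𝔓` lying in the
smooth locus -/
theorem false_of_formallySmooth (A P : Type u) [CommRing A] [CommRing P] [Algebra A P]
    (𝔓 : Ideal P) [𝔓.IsPrime] (x' : Algebra.H1Cotangent A P)
    (hx' : ∀ a : P, a ∈ 𝔓 ↔ a • x' = 0)
    [Algebra.FormallySmooth A (Localization.AtPrime 𝔓)] : False := by
  haveI : IsLocalizedModule 𝔓.primeCompl
      (Algebra.H1Cotangent.map A A P (Localization.AtPrime 𝔓)) :=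
    inferInstance
  have h0 : Algebra.H1Cotangent.map A A P (Localization.AtPrime 𝔓) x' = 0 :=
    Subsingleton.elim _ _
  obtain ⟨c, hc⟩ := (IsLocalizedModule.eq_zero_iff 𝔓.primeCompl _).1 h0
  exact c.2 ((hx' c.1).2 hc)


/-- for a flat lci algebra `P` over a Noetherian ring `A`, an associated prime of `P` is minimal
among the primes of its fibre -/
theorem eq_of_le_of_mem_associatedPrimes (A P : Type u) [CommRing A] [CommRing P] [Algebra A P]
    [IsNoetherianRing A] [Module.Flat A P] (hlci : LCI.IsLCI A P)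
    (𝔓 : Ideal P) [𝔓.IsPrime] (hass : 𝔓 ∈ associatedPrimes P P)
    (𝔔 : Ideal P) [𝔔.IsPrime] (hle : 𝔔 ≤ 𝔓)
    (hc : 𝔔.comap (algebraMap A P) = 𝔓.comap (algebraMap A P)) : 𝔔 = 𝔓 := by
  obtain ⟨hft, n, f, hf, hI⟩ := hlci
  haveI := hft
  haveI : IsNoetherianRing P := Algebra.FiniteType.isNoetherianRing A P
  let p : Ideal A := 𝔓.comap (algebraMap A P)
  haveI : p.IsPrime := Ideal.comap_isPrime _ _
  haveI : 𝔓.LiesOver p := ⟨rfl⟩
  letI := Localization.AtPrime.algebraOfLiesOver p 𝔓
  haveI : IsLocalHom (algebraMap (Localization.AtPrime p) (Localization.AtPrime 𝔓)) := by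
    rw [RingHom.algebraMap_toAlgebra]
    exact Localization.isLocalHom_localRingHom p 𝔓 (algebraMap A P) Ideal.LiesOver.over
  -- depth of `P_𝔓` is zero
  have h1 : LocCoh.depth (Localization.AtPrime 𝔓) (Localization.AtPrime 𝔓) = 0 := by
    rw [← Groth.Agent.Lib.Helper56.depth_localizedModule_self]
    exact Groth.Agent.Lib.Helper56.depth_localizedModule_eq_zero_of_mem_associatedPrimes hass
  haveI := Groth.Agent.Lib.Helper67.isLocalRing_fibre (R := Localization.AtPrime p)
    (S := Localization.AtPrime 𝔓)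
  have h2 := Groth.Agent.Lib.Helper67.depth_eq_add_depth_fibre (R := Localization.AtPrime p)
    (S := Localization.AtPrime 𝔓)
  rw [h1] at h2
  have h3 := (add_eq_zero.mp h2.symm).2
  -- the fibre ring is Gorenstein
  have hIdeal : (maximalIdeal (Localization.AtPrime p)).map
      (algebraMap (Localization.AtPrime p) (Localization.AtPrime 𝔓)) =
      p.map (algebraMap A (Localization.AtPrime 𝔓)) := by
    rw [← Localization.AtPrime.map_eq_maximalIdeal, Ideal.map_map,
      ← IsScalarTower.algebraMap_eq]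
  have hG85 := Groth.Agent.Lib.Helper85.GorLCIFibre.gor_lci_fibre_local A P n f hf hI p 𝔓 rfl
  haveI hGF : LocCoh.IsGorensteinLocalRing (Localization.AtPrime 𝔓 ⧸
      (maximalIdeal (Localization.AtPrime p)).map
        (algebraMap (Localization.AtPrime p) (Localization.AtPrime 𝔓))) := by
    rw [hIdeal]
    exact hG85
  have hCM := Groth.Agent.Lib.Helper4.GorCM.isCohenMacaulayLocalRing_of_gorenstein
    (Localization.AtPrime 𝔓 ⧸ (maximalIdeal (Localization.AtPrime p)).map
        (algebraMap (Localization.AtPrime p) (Localization.AtPrime 𝔓)))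
  have hdim := hCM.supportDim_eq_depth
  rw [Module.supportDim_self_eq_ringKrullDim, h3] at hdim
  have hK : Ring.KrullDimLE 0 (Localization.AtPrime 𝔓 ⧸
      (maximalIdeal (Localization.AtPrime p)).map
        (algebraMap (Localization.AtPrime p) (Localization.AtPrime 𝔓))) := by
    rw [ringKrullDimZero_iff_ringKrullDim_eq_zero]
    exact hdim
  have hmax := Ideal.krullDimLE_zero_quotient_iff_forall_minimalPrimes_isMaximal.1 hK
  -- the prime `𝔔 P_𝔓`
  have hdisj : Disjoint (𝔓.primeCompl : Set P) (𝔔 : Set P) := by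
    rw [Set.disjoint_left]
    intro a ha haQ
    exact ha (hle haQ)
  have hQ'prime : (𝔔.map (algebraMap P (Localization.AtPrime 𝔓))).IsPrime :=
    IsLocalization.isPrime_of_isPrime_disjoint 𝔓.primeCompl _ 𝔔 inferInstance hdisj
  have hQ'comap : (𝔔.map (algebraMap P (Localization.AtPrime 𝔓))).comap
      (algebraMap P (Localization.AtPrime 𝔓)) = 𝔔 :=
    IsLocalization.under_map_of_isPrime_disjoint 𝔓.primeCompl _ inferInstance hdisj
  have hmle : (maximalIdeal (Localization.AtPrime p)).map
      (algebraMap (Localization.AtPrime p) (Localization.AtPrime 𝔓)) ≤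
      𝔔.map (algebraMap P (Localization.AtPrime 𝔓)) := by
    rw [hIdeal, IsScalarTower.algebraMap_eq A P (Localization.AtPrime 𝔓), ← Ideal.map_map]
    apply Ideal.map_mono
    rw [Ideal.map_le_iff_le_comap, hc]
  obtain ⟨J, hJmin, hJle⟩ := Ideal.exists_minimalPrimes_le hmle
  have hJmax := hmax J hJmin
  have hJeq : J = maximalIdeal (Localization.AtPrime 𝔓) := IsLocalRing.eq_maximalIdeal hJmax
  rw [hJeq] at hJle
  apply le_antisymm hle
  have := Ideal.comap_mono (f := algebraMap P (Localization.AtPrime 𝔓)) hJle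
  rw [hQ'comap] at this
  have h5 : Ideal.comap (algebraMap P (Localization.AtPrime 𝔓))
      (maximalIdeal (Localization.AtPrime 𝔓)) = 𝔓 :=
    Localization.AtPrime.under_maximalIdeal (I := 𝔓)
  rwa [h5] at this

/-- **S18126**: flat lci over a Noetherian ring with generically smooth fibres has `H¹(L) = 0`. -/
theorem main (A : Type u) [CommRing A] [IsNoetherianRing A]
    (P : Type u) [CommRing P] [Algebra A P] [Module.Flat A P] (hlci : LCI.IsLCI A P)
    (hgs : ∀ 𝔓 : PrimeSpectrum P,
      (∀ 𝔔 : PrimeSpectrum P, 𝔔 ≤ 𝔓 →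
          𝔔.asIdeal.comap (algebraMap A P) = 𝔓.asIdeal.comap (algebraMap A P) → 𝔔 = 𝔓) →
        𝔓 ∈ Algebra.smoothLocus A P) :
    Subsingleton (Algebra.H1Cotangent A P) := by
  by_contra hns
  rw [not_subsingleton_iff_nontrivial] at hns
  have hlci' := hlci
  obtain ⟨hft, n, f, hf, hI⟩ := hlci
  haveI := hft
  haveI : IsNoetherianRing P := Algebra.FiniteType.isNoetherianRing A P
  obtain ⟨𝔓, h𝔓, x', hx', hass⟩ := exists_ass_of_nontrivial A P n f hf hI hns
  haveI := h𝔓
  have hsm : (⟨𝔓, h𝔓⟩ : PrimeSpectrum P) ∈ Algebra.smoothLocus A P := by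
    apply hgs
    intro 𝔔 hle hc
    haveI := 𝔔.isPrime
    exact PrimeSpectrum.ext (eq_of_le_of_mem_associatedPrimes A P hlci' 𝔓 hass 𝔔.asIdeal hle hc)
  haveI : Algebra.FormallySmooth A (Localization.AtPrime 𝔓) := hsm
  exact false_of_formallySmooth A P 𝔓 x' hx'

end Groth.Agent.Lib.Helper70.LCIRel
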