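import Groth.Prelude.Def_W4stk3formalspacesTaut
import Mathlib.Topology.Algebra.OpenSubgroup

set_option autoImplicit false
universe u v

namespace Groth.Agent.Lib.Helper70.LinTopLib

open Topology

section

set_option linter.unusedSectionVars false

variable {A : Type u} [CommRing A] [TopologicalSpace A] [IsTopologicalRing A]

theorem isClosed_of_isOpen_ideal (I : Ideal A) (h : IsOpen (I : Set A)) : IsClosed (I : Set A) :=
  AddSubgroup.isClosed_of_isOpen I.toAddSubgroup h

theorem isOpen_of_le {I J : Ideal A} (h : I ≤ J) (hI : IsOpen (I : Set A)) : IsOpen (J : Set A) :=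
  Ideal.isOpen_of_isOpen_subideal h hI

theorem exists_open_ideal_subset [IsLinearTopology A A] {U : Set A} (hU : U ∈ 𝓝 (0 : A)) :
    ∃ I : Ideal A, IsOpen (I : Set A) ∧ (I : Set A) ⊆ U := by
  obtain ⟨I, hI, hIU⟩ := (IsLinearTopology.hasBasis_open_ideal (R := A)).mem_iff.1 hU
  exact ⟨I, hI, hIU⟩

theorem mem_nhds_zero_of_isOpen_ideal (I : Ideal A) (h : IsOpen (I : Set A)) :
    (I : Set A) ∈ 𝓝 (0 : A) := h.mem_nhds I.zero_mem

variable {B : Type v} [CommRing B] [TopologicalSpace B] [IsTopologicalRing B]

theorem isOpen_comap (φ : A →+* B) (hφ : Continuous φ) (K : Ideal B) (hK : IsOpen (K : Set B)) :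
    IsOpen ((K.comap φ : Ideal A) : Set A) := hK.preimage hφ

theorem closure_map_subset_of_le_comap (φ : A →+* B) {I : Ideal A} {K : Ideal B}
    (hK : IsOpen (K : Set B)) (h : I ≤ K.comap φ) :
    closure ((I.map φ : Ideal B) : Set B) ⊆ (K : Set B) :=
  closure_minimal (Ideal.map_le_iff_le_comap.2 h) (isClosed_of_isOpen_ideal K hK)

end

section ClosureMul

variable {B : Type v} [CommRing B] [TopologicalSpace B] [IsTopologicalRing B]

theorem closure_mul_closure_le (K L : Ideal B) : K.closure * L.closure ≤ (K * L).closure := by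
  rw [Ideal.mul_le]
  intro x hx y hy
  have hx' : x ∈ closure (K : Set B) := by rw [← Ideal.coe_closure]; exact hx
  have hy' : y ∈ closure (L : Set B) := by rw [← Ideal.coe_closure]; exact hy
  have : x * y ∈ closure (((K * L : Ideal B)) : Set B) :=
    map_mem_closure₂ continuous_mul hx' hy' (fun a ha b hb => Ideal.mul_mem_mul ha hb)
  rw [← Ideal.coe_closure] at this
  exact this

theorem closure_mono_ideal {K L : Ideal B} (h : K ≤ L) : K.closure ≤ L.closure := by
  intro x hx
  have hx' : x ∈ closure (K : Set B) := by rw [← Ideal.coe_closure]; exact hx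
  have : x ∈ closure (L : Set B) := closure_mono (show (K : Set B) ⊆ L from h) hx'
  rw [← Ideal.coe_closure] at this
  exact this

theorem le_closure_ideal (K : Ideal B) : K ≤ K.closure := by
  intro x hx
  have : x ∈ closure (K : Set B) := subset_closure hx
  rw [← Ideal.coe_closure] at this
  exact this

theorem closure_closure_ideal (K : Ideal B) : K.closure.closure = K.closure := by
  apply SetLike.coe_injective
  rw [Ideal.coe_closure, Ideal.coe_closure, closure_closure]

theorem closure_pow_le (K : Ideal B) (n : ℕ) : K.closure ^ n ≤ (K ^ n).closure := by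
  induction n with
  | zero =>
    simp only [pow_zero]
    exact le_closure_ideal _
  | succ n ih =>
    rw [pow_succ, pow_succ]
    refine le_trans (Ideal.mul_mono_left ih) ?_
    exact closure_mul_closure_le _ _

end ClosureMul

section Nilp

variable {B : Type v} [CommRing B] [TopologicalSpace B] [IsTopologicalRing B]
  [IsLinearTopology B B]

theorem isTopologicallyNilpotent_iff {g : B} :
    IsTopologicallyNilpotent g ↔ ∀ K : Ideal B, IsOpen (K : Set B) → ∃ n : ℕ, g ^ n ∈ K := by
  constructor
  · intro hg K hK
    exact hg.exists_pow_mem_of_mem_nhds (mem_nhds_zero_of_isOpen_ideal K hK)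
  · intro h
    unfold IsTopologicallyNilpotent
    rw [Filter.atTop_basis.tendsto_iff (IsLinearTopology.hasBasis_open_ideal (R := B))]
    intro K hK
    obtain ⟨n, hn⟩ := h K hK
    refine ⟨n, trivial, fun m hm => ?_⟩
    obtain ⟨k, rfl⟩ := Nat.exists_eq_add_of_le (Set.mem_Ici.1 hm)
    rw [pow_add]
    exact K.mul_mem_right _ hn

theorem isClosed_topologicalNilradical :
    IsClosed ((topologicalNilradical B : Ideal B) : Set B) := by
  rw [← closure_subset_iff_isClosed]
  intro g hg
  change IsTopologicallyNilpotent g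
  rw [isTopologicallyNilpotent_iff]
  intro K hK
  have hnhd : (fun x => g - x) ⁻¹' (K : Set B) ∈ 𝓝 g := by
    have hc : Continuous (fun x : B => g - x) := continuous_const.sub continuous_id
    refine hc.continuousAt.preimage_mem_nhds ?_
    simp only [sub_self]
    exact mem_nhds_zero_of_isOpen_ideal K hK
  obtain ⟨h, hhK, hhN⟩ := mem_closure_iff_nhds.1 hg _ hnhd
  have hhN' : IsTopologicallyNilpotent h := hhN
  obtain ⟨n, hn⟩ := (isTopologicallyNilpotent_iff.1 hhN') K hK
  refine ⟨n, ?_⟩
  have hdvd : g - h ∣ g ^ n - h ^ n := sub_dvd_pow_sub_pow g h n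
  have h1 : g ^ n - h ^ n ∈ K := K.mem_of_dvd hdvd hhK
  have : g ^ n = (g ^ n - h ^ n) + h ^ n := by ring
  rw [this]
  exact K.add_mem h1 hn

variable {A : Type u} [CommRing A] [TopologicalSpace A]

theorem closure_map_le_topologicalNilradical (φ : A →+* B) (hφ : Continuous φ) (I : Ideal A)
    (hI : ∀ f ∈ I, IsTopologicallyNilpotent f) :
    closure ((I.map φ : Ideal B) : Set B) ⊆ ((topologicalNilradical B : Ideal B) : Set B) := by
  refine closure_minimal ?_ isClosed_topologicalNilradical
  have : I.map φ ≤ topologicalNilradical B := by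
    rw [Ideal.map_le_iff_le_comap]
    intro f hf
    exact (hI f hf).map hφ
  exact this

end Nilp

end Groth.Agent.Lib.Helper70.LinTopLib
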