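import Groth.Agent.Lib.Helper70.LinTop
import Mathlib.Topology.Algebra.InfiniteSum.Nonarchimedean
import Mathlib.Topology.UniformSpace.Cauchy

set_option autoImplicit false
universe u v

namespace Groth.Agent.Lib.Helper70.LinTopLib

open Topology Filter

section Approx

set_option linter.unusedSectionVars false

variable {A : Type u} [CommRing A] [UniformSpace A] [IsUniformAddGroup A] [IsTopologicalRing A]
  [IsLinearTopology A A]

theorem nonarchimedeanAddGroup : NonarchimedeanAddGroup A where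
  is_nonarchimedean U hU := by
    obtain ⟨I, hI, hIU⟩ := exists_open_ideal_subset hU
    exact ⟨⟨I.toAddSubgroup, hI⟩, hIU⟩

theorem exists_tendsto_of_sub_tendsto_zero [CompleteSpace A] (S : ℕ → A)
    (h : Tendsto (fun k => S (k + 1) - S k) atTop (𝓝 0)) : ∃ a, Tendsto S atTop (𝓝 a) := by
  have := nonarchimedeanAddGroup (A := A)
  exact cauchySeq_tendsto_of_complete (NonarchimedeanAddGroup.cauchySeq_of_tendsto_sub_nhds_zero h)

theorem tendsto_zero_of_mem {I : ℕ → Ideal A} (hIanti : Antitone I)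
    (hIbasis : ∀ U ∈ 𝓝 (0 : A), ∃ n, (I n : Set A) ⊆ U) (d : ℕ → A) (n : ℕ)
    (hd : ∀ k, d k ∈ I (n + k)) : Tendsto d atTop (𝓝 0) := by
  rw [tendsto_atTop']
  intro U hU
  obtain ⟨m, hm⟩ := hIbasis U hU
  refine ⟨m, fun k hk => hm ?_⟩
  exact hIanti (show m ≤ n + k by omega) (hd k)

variable {B : Type v} [CommRing B] [UniformSpace B] [IsUniformAddGroup B] [IsTopologicalRing B]
  [IsLinearTopology B B]

theorem exists_preimage_of_approx [CompleteSpace A] [T2Space B] (φ : A →+* B) (hφ : Continuous φ)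
    (I : ℕ → Ideal A) (J : ℕ → Ideal B)
    (hIo : ∀ n, IsOpen (I n : Set A)) (hIanti : Antitone I)
    (hIbasis : ∀ U ∈ 𝓝 (0 : A), ∃ n, (I n : Set A) ⊆ U)
    (hJanti : Antitone J)
    (hJbasis : ∀ U ∈ 𝓝 (0 : B), ∃ n, (J n : Set B) ⊆ U)
    (hD : ∀ n, ∀ b ∈ J n, ∃ a ∈ I n, b - φ a ∈ J (n + 1))
    (n : ℕ) (b : B) (hb : b ∈ J n) : ∃ a ∈ I n, φ a = b := by
  choose! pick hpick_mem hpick_sub using hD
  let r : ℕ → B := fun k => Nat.rec b (fun k rk => rk - φ (pick (n + k) rk)) k
  have hr0 : r 0 = b := rfl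
  have hrs : ∀ k, r (k + 1) = r k - φ (pick (n + k) (r k)) := fun k => rfl
  have hrmem : ∀ k, r k ∈ J (n + k) := by
    intro k
    induction k with
    | zero => exact hb
    | succ k ih =>
      rw [hrs]
      exact hpick_sub (n + k) (r k) ih
  let d : ℕ → A := fun k => pick (n + k) (r k)
  have hdmem : ∀ k, d k ∈ I (n + k) := fun k => hpick_mem (n + k) (r k) (hrmem k)
  let S : ℕ → A := fun k => ∑ j ∈ Finset.range k, d j
  have hSsucc : ∀ k, S (k + 1) - S k = d k := by
    intro k
    simp only [S, Finset.sum_range_succ, add_sub_cancel_left]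
  have hSmem : ∀ k, S k ∈ I n := by
    intro k
    refine (I n).sum_mem (fun j _ => ?_)
    exact hIanti (Nat.le_add_right n j) (hdmem j)
  have hφS : ∀ k, φ (S k) = b - r k := by
    intro k
    induction k with
    | zero => simp [S, hr0]
    | succ k ih =>
      have : S (k + 1) = S k + d k := by rw [← hSsucc k]; ring
      rw [this, map_add, ih, hrs]
      ring
  have hdt : Tendsto d atTop (𝓝 0) := tendsto_zero_of_mem hIanti hIbasis d n hdmem
  obtain ⟨a, ha⟩ := exists_tendsto_of_sub_tendsto_zero S (by simpa only [hSsucc] using hdt)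
  refine ⟨a, ?_, ?_⟩
  · exact (isClosed_of_isOpen_ideal (I n) (hIo n)).mem_of_tendsto ha
      (Filter.Eventually.of_forall hSmem)
  · have h1 : Tendsto (fun k => φ (S k)) atTop (𝓝 (φ a)) := (hφ.tendsto a).comp ha
    have hrt : Tendsto r atTop (𝓝 0) := tendsto_zero_of_mem hJanti hJbasis r n hrmem
    have h2 : Tendsto (fun k => φ (S k)) atTop (𝓝 b) := by
      have : Tendsto (fun k => b - r k) atTop (𝓝 (b - 0)) := tendsto_const_nhds.sub hrt
      rw [sub_zero] at this
      simpa only [hφS] using this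
    exact tendsto_nhds_unique h1 h2

omit [IsUniformAddGroup A] [IsUniformAddGroup B] [IsLinearTopology A A] [IsLinearTopology B B]
  [IsTopologicalRing A] in
theorem exists_approx (φ : A →+* B) (hd : DenseRange φ) (I : Ideal A) (K : Ideal B)
    (hK : IsOpen (K : Set B)) (b : B) (hb : b ∈ closure ((I.map φ : Ideal B) : Set B)) :
    ∃ a ∈ I, b - φ a ∈ K := by
  have hnear : ∀ (r : B) (T : Set B), r ∈ closure T → ∃ y ∈ T, r - y ∈ K := by
    intro r T hr
    have hnhd : (fun y => r - y) ⁻¹' (K : Set B) ∈ 𝓝 r := by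
      have hc : Continuous (fun y : B => r - y) := continuous_const.sub continuous_id
      refine hc.continuousAt.preimage_mem_nhds ?_
      simp only [sub_self]
      exact mem_nhds_zero_of_isOpen_ideal K hK
    obtain ⟨y, hyK, hyT⟩ := mem_closure_iff_nhds.1 hr _ hnhd
    exact ⟨y, hyT, hyK⟩
  have h1 : ∀ r : B, ∃ s : A, r - φ s ∈ K := by
    intro r
    obtain ⟨y, ⟨s, rfl⟩, hy⟩ := hnear r (Set.range φ) (hd r)
    exact ⟨s, hy⟩
  have h2 : ∀ c ∈ I.map φ, ∃ a ∈ I, c - φ a ∈ K := by
    intro c hc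
    refine Submodule.span_induction (p := fun c _ => ∃ a ∈ I, c - φ a ∈ K) ?_ ?_ ?_ ?_ hc
    · rintro _ ⟨a, ha, rfl⟩
      exact ⟨a, ha, by simp⟩
    · exact ⟨0, I.zero_mem, by simp⟩
    · rintro c₁ c₂ - - ⟨a₁, ha₁, h₁⟩ ⟨a₂, ha₂, h₂⟩
      refine ⟨a₁ + a₂, I.add_mem ha₁ ha₂, ?_⟩
      have : c₁ + c₂ - φ (a₁ + a₂) = (c₁ - φ a₁) + (c₂ - φ a₂) := by rw [map_add]; ring
      rw [this]
      exact K.add_mem h₁ h₂
    · rintro r c - ⟨a, ha, h⟩
      obtain ⟨s, hs⟩ := h1 r
      refine ⟨s * a, I.mul_mem_left s ha, ?_⟩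
      have : r • c - φ (s * a) = r * (c - φ a) + (r - φ s) * φ a := by
        rw [map_mul, smul_eq_mul]; ring
      rw [this]
      exact K.add_mem (K.mul_mem_left _ h) (K.mul_mem_right _ hs)
  obtain ⟨c, hc, hbc⟩ := hnear b _ hb
  obtain ⟨a, ha, hca⟩ := h2 c hc
  refine ⟨a, ha, ?_⟩
  have : b - φ a = (b - c) + (c - φ a) := by ring
  rw [this]
  exact K.add_mem hbc hca

theorem taut_dense_main [T2Space A] [CompleteSpace A] (hA : (nhds (0 : A)).IsCountablyGenerated)
    [T2Space B] (φ : A →+* B) (hφ : LinTop.IsTaut φ) (hd : DenseRange φ) :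
    Function.Surjective φ ∧ IsOpenQuotientMap φ ∧ CompleteSpace B := by
  obtain ⟨x, hx, hbasis⟩ :=
    (IsLinearTopology.hasBasis_open_ideal (R := A)).exists_antitone_subbasis (h := hA)
  let I : ℕ → Ideal A := fun n => Nat.casesOn n ⊤ x
  let J : ℕ → Ideal B := fun n => ((I n).map φ).closure
  have hI0 : I 0 = ⊤ := rfl
  have hIs : ∀ n, I (n + 1) = x n := fun n => rfl
  have hIo : ∀ n, IsOpen (SetLike.coe (I n) : Set A) := by
    intro n
    cases n with
    | zero => rw [hI0]; exact isOpen_univ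
    | succ n => rw [hIs]; exact hx n
  have hIanti : Antitone I := by
    apply antitone_nat_of_succ_le
    intro n
    cases n with
    | zero => rw [hI0]; exact le_top
    | succ n =>
      rw [hIs, hIs]
      exact hbasis.antitone (Nat.le_succ n)
  have hIbasis : ∀ U ∈ 𝓝 (0 : A), ∃ n, (SetLike.coe (I n) : Set A) ⊆ U := by
    intro U hU
    obtain ⟨n, -, hn⟩ := hbasis.toHasBasis.mem_iff.1 hU
    exact ⟨n + 1, hn⟩
  have hJanti : Antitone J := fun m n hmn => closure_mono_ideal (Ideal.map_mono (hIanti hmn))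
  have hJo : ∀ n, IsOpen (SetLike.coe (J n) : Set B) := by
    intro n
    rw [Ideal.coe_closure]
    exact hφ.2.1 _ (hIo n)
  have hJbasis : ∀ U ∈ 𝓝 (0 : B), ∃ n, (SetLike.coe (J n) : Set B) ⊆ U := by
    intro U hU
    obtain ⟨I', hI'o, hI'U⟩ := hφ.2.2 U hU
    obtain ⟨n, hn⟩ := hIbasis _ (mem_nhds_zero_of_isOpen_ideal I' hI'o)
    refine ⟨n, subset_trans ?_ hI'U⟩
    rw [Ideal.coe_closure]
    exact closure_mono (Ideal.map_mono (show I n ≤ I' from hn))
  have hD : ∀ n, ∀ b ∈ J n, ∃ a ∈ I n, b - φ a ∈ J (n + 1) := by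
    intro n b hb
    refine exists_approx φ hd (I n) (J (n + 1)) (hJo (n + 1)) b ?_
    rw [← Ideal.coe_closure]
    exact hb
  have hM := exists_preimage_of_approx φ hφ.1 I J hIo hIanti hIbasis hJanti hJbasis hD
  have hJ0 : J 0 = ⊤ := by
    change ((I 0).map φ).closure = ⊤
    rw [hI0, Ideal.map_top]
    exact top_unique (le_closure_ideal ⊤)
  have hsurj : Function.Surjective φ := by
    intro b
    obtain ⟨a, -, ha⟩ := hM 0 b (by rw [hJ0]; trivial)
    exact ⟨a, ha⟩
  have hopen : IsOpenMap φ := by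
    rw [isOpenMap_iff_nhds_le]
    intro a T hT
    have hT' : φ ⁻¹' T ∈ 𝓝 a := hT
    have h0 : (fun y => a + y) ⁻¹' (φ ⁻¹' T) ∈ 𝓝 (0 : A) := by
      have hc : Continuous (fun y : A => a + y) := continuous_const.add continuous_id
      refine hc.continuousAt.preimage_mem_nhds ?_
      simpa using hT'
    obtain ⟨n, hn⟩ := hIbasis _ h0
    have hsub : (fun z => z - φ a) ⁻¹' (SetLike.coe (J n) : Set B) ⊆ T := by
      intro z hz
      obtain ⟨y, hy, hyz⟩ := hM n (z - φ a) hz
      have : φ (a + y) ∈ T := hn hy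
      rw [map_add, hyz] at this
      simpa using this
    refine Filter.mem_of_superset ?_ hsub
    have hc : Continuous (fun z : B => z - φ a) := continuous_id.sub continuous_const
    refine hc.continuousAt.preimage_mem_nhds ?_
    simp only [sub_self]
    exact mem_nhds_zero_of_isOpen_ideal (J n) (hJo n)
  refine ⟨hsurj, ⟨hsurj, hφ.1, hopen⟩, ?_⟩
  have hB : (𝓝 (0 : B)).HasBasis (fun _ : ℕ => True) (fun n => (SetLike.coe (J n) : Set B)) := by
    constructor
    intro U
    constructor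
    · intro hU
      obtain ⟨n, hn⟩ := hJbasis U hU
      exact ⟨n, trivial, hn⟩
    · rintro ⟨n, -, hn⟩
      exact Filter.mem_of_superset (mem_nhds_zero_of_isOpen_ideal (J n) (hJo n)) hn
  have hcg0 : (𝓝 (0 : B)).IsCountablyGenerated := hB.isCountablyGenerated
  have hcg : (uniformity B).IsCountablyGenerated :=
    IsUniformAddGroup.uniformity_countably_generated
  refine UniformSpace.complete_of_convergent_controlled_sequences
    (fun N => {p : B × B | p.2 - p.1 ∈ J N}) ?_ ?_
  · intro N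
    rw [uniformity_eq_comap_nhds_zero B]
    exact Filter.preimage_mem_comap (mem_nhds_zero_of_isOpen_ideal (J N) (hJo N))
  · intro w hw
    have he : ∀ k, w (k + 1) - w k ∈ J k := fun k => hw k k (k + 1) le_rfl (Nat.le_succ k)
    have hlift : ∀ k, ∃ c ∈ I k, φ c = w (k + 1) - w k := fun k => hM k _ (he k)
    choose c hcmem hc using hlift
    obtain ⟨a₀, ha₀⟩ := hsurj (w 0)
    let S : ℕ → A := fun k => a₀ + ∑ j ∈ Finset.range k, c j
    have hSsucc : ∀ k, S (k + 1) - S k = c k := by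
      intro k
      simp only [S, Finset.sum_range_succ]
      ring
    have hS : ∀ k, φ (S k) = w k := by
      intro k
      induction k with
      | zero => simp [S, ha₀]
      | succ k ih =>
        have : S (k + 1) = S k + c k := by rw [← hSsucc k]; ring
        rw [this, map_add, ih, hc]
        ring
    have hct : Tendsto c atTop (𝓝 0) :=
      tendsto_zero_of_mem hIanti hIbasis c 0 (fun k => by simpa using hcmem k)
    obtain ⟨a, ha⟩ := exists_tendsto_of_sub_tendsto_zero S (by simpa only [hSsucc] using hct)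
    refine ⟨φ a, ?_⟩
    have := (hφ.1.tendsto a).comp ha
    simpa only [Function.comp_def, hS] using this

end Approx

end Groth.Agent.Lib.Helper70.LinTopLib
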