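import Mathlib
import Groth.Agent.Lib.Helper73.DimFT.Catenary
set_option autoImplicit false
set_option linter.style.haveILetI false
set_option linter.deprecated false
universe u
open TensorProduct

namespace Groth.Agent.Lib.Helper70.MovDK

theorem exists_ne_zero_mem_ker {k : Type u} [Field k] {r : ℕ} (R : Type u) [CommRing R] [Algebra k R] [Algebra.FiniteType k R] (hdim : ringKrullDim R < (r : WithBot ℕ∞)) (φ : MvPolynomial (Fin r) k →ₐ[k] R) : ∃ h : MvPolynomial (Fin r) k, h ≠ 0 ∧ φ h = 0 := by
  classical
  by_contra hcon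
  push_neg at hcon
  have hinj : Function.Injective φ := by
    rw [injective_iff_map_eq_zero]
    intro a ha
    by_contra hne
    exact hcon a hne ha
  haveI : IsNoetherianRing R := Algebra.FiniteType.isNoetherianRing k R
  have hfin : (minimalPrimes R).Finite := minimalPrimes.finite_of_isNoetherianRing R
  have hex : ∃ q ∈ minimalPrimes R, ∀ a : MvPolynomial (Fin r) k, φ a ∈ q → a = 0 := by
    by_contra hno
    push_neg at hno
    choose! a haq ha0 using hno
    let P : MvPolynomial (Fin r) k := ∏ q ∈ hfin.toFinset, a q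
    have hP0 : P ≠ 0 := Finset.prod_ne_zero_iff.2 (fun q hq => ha0 q (hfin.mem_toFinset.1 hq))
    have hPnil : φ P ∈ nilradical R := by
      have h1 : sInf (minimalPrimes R) = nilradical R := by
        have := Ideal.sInf_minimalPrimes (I := (⊥ : Ideal R))
        simpa [minimalPrimes, nilradical] using this
      rw [← h1, Ideal.mem_sInf]
      intro q hq
      have hq' : q ∈ hfin.toFinset := hfin.mem_toFinset.2 hq
      rw [map_prod]
      exact Ideal.prod_mem q hq' (haq q hq)
    obtain ⟨n, hn⟩ := mem_nilradical.1 hPnil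
    rw [← map_pow] at hn
    have : P ^ n = 0 := hinj (by rw [hn, map_zero])
    exact hP0 (IsNilpotent.eq_zero ⟨n, this⟩)
  obtain ⟨q, hq, hq0⟩ := hex
  haveI : q.IsPrime := hq.1.1
  let A := R ⧸ q
  let K := FractionRing A
  let ψ : MvPolynomial (Fin r) k →ₐ[k] K :=
    ((IsScalarTower.toAlgHom k A K).comp (Ideal.Quotient.mkₐ k q)).comp φ
  have hψ : Function.Injective ψ := by
    rw [injective_iff_map_eq_zero]
    intro a ha
    apply hq0
    have h1 : algebraMap A K (Ideal.Quotient.mk q (φ a)) = 0 := ha
    have h2 : Ideal.Quotient.mk q (φ a) = 0 :=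
      (IsFractionRing.injective A K) (by rw [h1, map_zero])
    exact Ideal.Quotient.eq_zero_iff_mem.1 h2
  have hai : AlgebraicIndependent k (fun i : Fin r => ψ (MvPolynomial.X i)) := by
    rw [algebraicIndependent_iff_injective_aeval]
    have : MvPolynomial.aeval (fun i : Fin r => ψ (MvPolynomial.X i)) = ψ := by
      apply MvPolynomial.algHom_ext
      intro i
      simp
    rw [this]
    exact hψ
  obtain ⟨d, hd⟩ := Groth.Agent.Lib.Helper73.exists_nat_ringKrullDim_eq k A
  have htr : Algebra.trdeg k K = d := Groth.Agent.Lib.Helper73.trdeg_eq_of_ringKrullDim_eq k K d hd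
  have hle := hai.lift_cardinalMk_le_trdeg
  rw [htr] at hle
  have hrd : r ≤ d := by
    simpa using hle
  have h3 : ringKrullDim A ≤ ringKrullDim R := ringKrullDim_quotient_le q
  rw [hd] at h3
  have h4 : ((d : ℕ) : WithBot ℕ∞) < (r : WithBot ℕ∞) := lt_of_le_of_lt h3 hdim
  have h5 : d < r := by exact_mod_cast h4
  omega

end Groth.Agent.Lib.Helper70.MovDK
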