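import Groth.Agent.Lib.Helper48.Conormal14

/-!
# Injectivity of `f^* Ω_{Y/S} → Ω_{X/S}` on affine sections from injectivity of the ring-level map

Generalisation of `Groth.Agent.Lib.Helper48.Conormal.c_app_injective_of_formallySmooth`
(same proof, the formal smoothness being replaced by injectivity of `mapBaseChange`).
-/

set_option autoImplicit false
set_option linter.style.haveILetI false
universe u

open AlgebraicGeometry CategoryTheory Opposite TopologicalSpace CategoryTheory.Limits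

namespace Groth.Agent.Lib.Helper70.OmegaMono

open Groth.Agent.Lib.Helper48.OmegaAff Groth.Agent.Lib.Helper48.Conormal Scheme.Modules

section Diff

open TensorProduct KaehlerDifferential

variable {X Y S : Scheme.{u}} (g : Y ⟶ S) (f : X ⟶ Y)
  {ΩY : Y.Modules} (dY : OmegaSh.Der g ΩY) (hY : OmegaSh.IsUniversal dY)
  {ΩX : X.Modules} (dX : OmegaSh.Der (f ≫ g) ΩX) (hX : OmegaSh.IsUniversal dX)
  (c : (Scheme.Modules.pullback f).obj ΩY ⟶ ΩX) (hc : OmegaSh.IsDiffCompat f dY dX c)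
  {U : X.Opens} (hU : IsAffineOpen U) {V : Y.Opens} (hV : IsAffineOpen V)
  {T : S.Opens} (hT : IsAffineOpen T) (e : U ≤ f ⁻¹ᵁ V) (eVT : V ≤ g ⁻¹ᵁ T)

theorem isScalarTower_appLE :
    letI : Algebra Γ(Y, V) Γ(X, U) := (f.appLE V U e).hom.toAlgebra
    letI : Algebra Γ(S, T) Γ(Y, V) := (g.appLE T V eVT).hom.toAlgebra
    letI : Algebra Γ(S, T) Γ(X, U) :=
      ((f ≫ g).appLE T U (fun _ hx => eVT (e hx))).hom.toAlgebra
    IsScalarTower Γ(S, T) Γ(Y, V) Γ(X, U) := by
  letI : Algebra Γ(Y, V) Γ(X, U) := (f.appLE V U e).hom.toAlgebra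
  letI : Algebra Γ(S, T) Γ(Y, V) := (g.appLE T V eVT).hom.toAlgebra
  letI : Algebra Γ(S, T) Γ(X, U) :=
    ((f ≫ g).appLE T U (fun _ hx => eVT (e hx))).hom.toAlgebra
  exact IsScalarTower.of_algebraMap_eq' (by
    change ((f ≫ g).appLE T U _).hom = (f.appLE V U e).hom.comp (g.appLE T V eVT).hom
    rw [← Scheme.Hom.appLE_comp_appLE f g T V U eVT e]
    rfl)

include hY hX hc hU hV hT in
/-- If the ring-level map `B ⊗_A Ω_{A/R} → Ω_{B/R}` is injective, `f^* Ω_{Y/S} → Ω_{X/S}` is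
injective on sections over affine opens `U ≤ f⁻¹V`, `V ≤ g⁻¹T`. -/
theorem c_app_injective_of_mapBaseChange_injective
    (hinj : letI : Algebra Γ(Y, V) Γ(X, U) := (f.appLE V U e).hom.toAlgebra
      letI : Algebra Γ(S, T) Γ(Y, V) := (g.appLE T V eVT).hom.toAlgebra
      letI : Algebra Γ(S, T) Γ(X, U) :=
        ((f ≫ g).appLE T U (fun _ hx => eVT (e hx))).hom.toAlgebra
      letI : IsScalarTower Γ(S, T) Γ(Y, V) Γ(X, U) := isScalarTower_appLE g f e eVT
      Function.Injective (KaehlerDifferential.mapBaseChange Γ(S, T) Γ(Y, V) Γ(X, U))) :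
    Function.Injective (c.app U) := by
  haveI := isQuasicoherent_of_universal g dY hY
  have eUT : U ≤ (f ≫ g) ⁻¹ᵁ T := fun _ hx => eVT (e hx)
  letI aAB : Algebra Γ(Y, V) Γ(X, U) := (f.appLE V U e).hom.toAlgebra
  letI aRA : Algebra Γ(S, T) Γ(Y, V) := (g.appLE T V eVT).hom.toAlgebra
  letI aRB : Algebra Γ(S, T) Γ(X, U) := ((f ≫ g).appLE T U eUT).hom.toAlgebra
  haveI : IsScalarTower Γ(S, T) Γ(Y, V) Γ(X, U) := isScalarTower_appLE g f e eVT
  -- θ : Γ(ΩY, V) → B ⊗ Ω_{A/R}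
  let D : Γ(Y, V) →+ Γ(X, U) ⊗[Γ(Y, V)] Ω[Γ(Y, V)⁄Γ(S, T)] :=
    { toFun := fun b => (1 : Γ(X, U)) ⊗ₜ[Γ(Y, V)] KaehlerDifferential.D Γ(S, T) Γ(Y, V) b
      map_zero' := by rw [map_zero, tmul_zero]
      map_add' := fun a b => by rw [map_add, tmul_add] }
  have hD : ∀ b, D b = (1 : Γ(X, U)) ⊗ₜ[Γ(Y, V)] KaehlerDifferential.D Γ(S, T) Γ(Y, V) b :=
    fun _ => rfl
  obtain ⟨θ, hθ, -⟩ := existsUnique_of_derivation_universal g dY hY hV hT eVT
    (Γ(X, U) ⊗[Γ(Y, V)] Ω[Γ(Y, V)⁄Γ(S, T)]) D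
    (fun x y => by
      rw [hD, hD, hD, Derivation.leibniz, tmul_add, tmul_smul, tmul_smul])
    (fun a => by
      rw [hD]
      have : g.appLE T V eVT a = algebraMap Γ(S, T) Γ(Y, V) a := rfl
      rw [this, Derivation.map_algebraMap, tmul_zero])
  obtain ⟨κ, hκ, -⟩ := existsUnique_of_semilinear f ΩY hU hV e
    (Γ(X, U) ⊗[Γ(Y, V)] Ω[Γ(Y, V)⁄Γ(S, T)]) θ.toAddMonoidHom
    (fun a m => by
      change θ (a • m) = f.appLE V U e a • θ m
      rw [θ.map_smul]
      exact (algebraMap_smul Γ(X, U) a (θ m)).symm)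
  -- ν : Γ(ΩX, U) → Ω_{B/R}
  let D₂ : Γ(X, U) →+ Ω[Γ(X, U)⁄Γ(S, T)] :=
    (KaehlerDifferential.D Γ(S, T) Γ(X, U)).toLinearMap.toAddMonoidHom
  have hD₂ : ∀ b, D₂ b = KaehlerDifferential.D Γ(S, T) Γ(X, U) b := fun _ => rfl
  obtain ⟨ν, hν, -⟩ := existsUnique_of_derivation_universal (f ≫ g) dX hX hU hT eUT
    (Ω[Γ(X, U)⁄Γ(S, T)]) D₂
    (fun x y => by rw [hD₂, hD₂, hD₂, Derivation.leibniz])
    (fun a => by
      rw [hD₂]
      have : (f ≫ g).appLE T U eUT a = algebraMap Γ(S, T) Γ(X, U) a := rfl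
      rw [this, Derivation.map_algebraMap])
  -- the module `M = Γ(f^*ΩY, U)` as an `A`-module and an `R`-module
  letI mA : Module Γ(Y, V) Γ((Scheme.Modules.pullback f).obj ΩY, U) :=
    Module.compHom _ (f.appLE V U e).hom
  letI mR : Module Γ(S, T) Γ((Scheme.Modules.pullback f).obj ΩY, U) :=
    Module.compHom _ ((f ≫ g).appLE T U eUT).hom
  haveI tAB : IsScalarTower Γ(Y, V) Γ(X, U) Γ((Scheme.Modules.pullback f).obj ΩY, U) :=
    ⟨fun a b m => by
      change (a • b) • m = (f.appLE V U e a) • (b • m)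
      rw [Algebra.smul_def, mul_smul]
      rfl⟩
  haveI tRA : IsScalarTower Γ(S, T) Γ(Y, V) Γ((Scheme.Modules.pullback f).obj ΩY, U) :=
    ⟨fun r a m => by
      change (f.appLE V U e (r • a)) • m = ((f ≫ g).appLE T U eUT r) • ((f.appLE V U e a) • m)
      rw [Algebra.smul_def, map_mul, mul_smul]
      congr 1
      have h1 : (f.appLE V U e) (algebraMap Γ(S, T) Γ(Y, V) r) =
          algebraMap Γ(Y, V) Γ(X, U) (algebraMap Γ(S, T) Γ(Y, V) r) := rfl
      rw [h1, ← IsScalarTower.algebraMap_apply]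
      rfl⟩
  let D' : Derivation Γ(S, T) Γ(Y, V) Γ((Scheme.Modules.pullback f).obj ΩY, U) :=
    { toFun := fun a => pullRes f ΩY e (dY.app V a)
      map_add' := fun a b => by rw [map_add, map_add]
      map_smul' := fun r a => by
        rw [Algebra.smul_def, der_app_mul]
        have h1 : dY.app V (algebraMap Γ(S, T) Γ(Y, V) r) = 0 :=
          der_app_appLE g dY T V eVT r
        rw [h1, smul_zero, add_zero, pullRes_smul]
        change _ = ((f ≫ g).appLE T U eUT r) • pullRes f ΩY e (dY.app V a)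
        congr 1
        have h2 : (f.appLE V U e) (algebraMap Γ(S, T) Γ(Y, V) r) =
            algebraMap Γ(Y, V) Γ(X, U) (algebraMap Γ(S, T) Γ(Y, V) r) := rfl
        rw [h2, ← IsScalarTower.algebraMap_apply]
        rfl
      map_one_eq_zero' := by
        change pullRes f ΩY e (dY.app V 1) = 0
        have h1 : dY.app V (1 : Γ(Y, V)) = 0 := by
          have := der_app_appLE g dY T V eVT 1
          rwa [map_one] at this
        rw [h1, map_zero]
      leibniz' := fun a b => by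
        change pullRes f ΩY e (dY.app V (a * b)) =
          (f.appLE V U e a) • pullRes f ΩY e (dY.app V b) +
          (f.appLE V U e b) • pullRes f ΩY e (dY.app V a)
        rw [der_app_mul, map_add, pullRes_smul, pullRes_smul] }
  have hD' : ∀ a, D' a = pullRes f ΩY e (dY.app V a) := fun _ => rfl
  let ι₂ : Γ(X, U) ⊗[Γ(Y, V)] Ω[Γ(Y, V)⁄Γ(S, T)] →ₗ[Γ(X, U)]
      Γ((Scheme.Modules.pullback f).obj ΩY, U) :=
    LinearMap.liftBaseChange Γ(X, U) D'.liftKaehlerDifferential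
  have hι₂ : ∀ a, ι₂ ((1 : Γ(X, U)) ⊗ₜ[Γ(Y, V)] KaehlerDifferential.D Γ(S, T) Γ(Y, V) a) =
      pullRes f ΩY e (dY.app V a) := by
    intro a
    change LinearMap.liftBaseChange Γ(X, U) D'.liftKaehlerDifferential _ = _
    rw [LinearMap.liftBaseChange_tmul, one_smul, Derivation.liftKaehlerDifferential_comp_D, hD']
  -- ι₂ ∘ κ = id
  have hspan : Submodule.span Γ(X, U) ((pullRes f ΩY e) '' (Set.range (dY.app V))) = ⊤ :=
    span_pullRes_of_span f ΩY hU hV e _ (span_range_d_universal g dY hY hV hT eVT)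
  have hικ : ∀ y, ι₂ (κ y) = y := by
    intro y
    have hy : y ∈ Submodule.span Γ(X, U) ((pullRes f ΩY e) '' (Set.range (dY.app V))) := by
      rw [hspan]; trivial
    induction hy using Submodule.span_induction with
    | mem y hy =>
      obtain ⟨_, ⟨a, rfl⟩, rfl⟩ := hy
      rw [hκ]
      change ι₂ (θ (dY.app V a)) = _
      rw [hθ, hD, hι₂]
    | zero => rw [map_zero, map_zero]
    | add y z _ _ hy hz => rw [map_add, map_add, hy, hz]
    | smul r y _ hy => rw [κ.map_smul, ι₂.map_smul, hy]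
  -- ν ∘ c = mapBaseChange ∘ κ
  have hνc : ∀ y, ν (c.app U y) = mapBaseChange Γ(S, T) Γ(Y, V) Γ(X, U) (κ y) := by
    intro y
    have hy : y ∈ Submodule.span Γ(X, U) ((pullRes f ΩY e) '' (Set.range (dY.app V))) := by
      rw [hspan]; trivial
    induction hy using Submodule.span_induction with
    | mem y hy =>
      obtain ⟨_, ⟨a, rfl⟩, rfl⟩ := hy
      rw [c_app_pullRes_d g f dY dX c hc e a, hν, hD₂, hκ]
      change _ = mapBaseChange Γ(S, T) Γ(Y, V) Γ(X, U) (θ (dY.app V a))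
      rw [hθ, hD, mapBaseChange_tmul, one_smul, KaehlerDifferential.map_D]
      rfl
    | zero => rw [map_zero, map_zero, map_zero, map_zero]
    | add y z _ _ hy hz => rw [map_add, map_add, map_add, map_add, hy, hz]
    | smul r y _ hy =>
      have h1 : c.app U (r • y) = r • c.app U y := (appL c U).map_smul r y
      rw [h1, ν.map_smul, κ.map_smul, LinearMap.map_smul, hy]
  rw [injective_iff_map_eq_zero]
  intro y hy
  have h1 := hνc y
  rw [hy, map_zero] at h1
  have h2 : κ y = 0 :=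
    hinj (by rw [← h1, map_zero])
  rw [← hικ y, h2, map_zero]

end Diff

end Groth.Agent.Lib.Helper70.OmegaMono
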