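import Groth.Prelude.Def_PP16
import Mathlib.LinearAlgebra.TensorProduct.RightExactness
import Mathlib.LinearAlgebra.TensorProduct.Quotient

set_option autoImplicit false
universe u

namespace Groth.Agent.Lib.Helper70.PP16Lib

open scoped TensorProduct
open PP16

section general

variable {R R' : Type*} [CommRing R] [CommRing R']

theorem ker_quotientMap_of_surjective (π : R →+* R') (hπ : Function.Surjective π)
    (J : Ideal R) (J' : Ideal R') (hJ : J.map π = J') (hle : J ≤ J'.comap π) :
    Function.Surjective (Ideal.quotientMap J' π hle) ∧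
      RingHom.ker (Ideal.quotientMap J' π hle) = (RingHom.ker π).map (Ideal.Quotient.mk J) := by
  refine ⟨Ideal.quotientMap_surjective hπ, ?_⟩
  ext x
  obtain ⟨x, rfl⟩ := Ideal.Quotient.mk_surjective x
  rw [RingHom.mem_ker, Ideal.quotientMap_mk, Ideal.Quotient.eq_zero_iff_mem, ← hJ,
    ← Ideal.mem_comap, Ideal.comap_map_of_surjective π hπ,
    Ideal.mem_map_iff_of_surjective _ Ideal.Quotient.mk_surjective]
  constructor
  · intro hx
    obtain ⟨j, hj, k, hk, rfl⟩ := Submodule.mem_sup.1 hx
    refine ⟨k, ?_, ?_⟩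
    · exact Ideal.mem_comap.1 hk
    · rw [map_add, Ideal.Quotient.eq_zero_iff_mem.2 hj, zero_add]
  · rintro ⟨k, hk, hkx⟩
    have : x - k ∈ J := by
      rw [← Ideal.Quotient.eq_zero_iff_mem, map_sub, hkx, sub_self]
    have hx : x = (x - k) + k := by ring
    rw [hx]
    exact Submodule.add_mem_sup this (Ideal.mem_comap.2 (by simpa using hk))

theorem map_map_of_eq {R₁ R₂ R₃ : Type*} [CommRing R₁] [CommRing R₂] [CommRing R₃]
    {F G H : Type*} [FunLike F R₁ R₂] [RingHomClass F R₁ R₂] [FunLike G R₂ R₃]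
    [RingHomClass G R₂ R₃] [FunLike H R₁ R₃] [RingHomClass H R₁ R₃]
    (f : F) (g : G) (h : H) (K : Ideal R₁) (hfg : ∀ x, g (f x) = h x) :
    (K.map f).map g = K.map h := by
  apply le_antisymm
  · rw [Ideal.map_le_iff_le_comap, Ideal.map_le_iff_le_comap]
    intro x hx
    rw [Ideal.mem_comap, Ideal.mem_comap, hfg]
    exact Ideal.mem_map_of_mem _ hx
  · rw [Ideal.map_le_iff_le_comap]
    intro x hx
    rw [Ideal.mem_comap, ← hfg]
    exact Ideal.mem_map_of_mem _ (Ideal.mem_map_of_mem _ hx)

end general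

section functoriality

variable (n : ℕ) (A B A' B' : Type u) [CommRing A] [CommRing B] [Algebra A B]
  [CommRing A'] [CommRing B'] [Algebra A' B'] [Algebra A A'] [Algebra B B'] [Algebra A B']
  [IsScalarTower A A' B'] [IsScalarTower A B B']

theorem tensorMap_surjective (hB : Function.Surjective (algebraMap B B')) :
    Function.Surjective (tensorMap A B A' B') := by
  intro y
  induction y using TensorProduct.induction_on with
  | zero => exact ⟨0, map_zero _⟩
  | tmul b' c' =>
    obtain ⟨b, rfl⟩ := hB b'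
    obtain ⟨c, rfl⟩ := hB c'
    exact ⟨b ⊗ₜ c, tensorMap_tmul A B A' B' b c⟩
  | add y z hy hz =>
    obtain ⟨y', rfl⟩ := hy
    obtain ⟨z', rfl⟩ := hz
    exact ⟨y' + z', map_add _ _ _⟩

theorem ideal_map_tensorMap_eq (hB : Function.Surjective (algebraMap B B')) :
    (KaehlerDifferential.ideal A B).map (tensorMap A B A' B') = KaehlerDifferential.ideal A' B' := by
  refine le_antisymm (ideal_map_tensorMap_le A B A' B') ?_
  rw [← KaehlerDifferential.span_range_eq_ideal A' B', Ideal.span_le]
  rintro _ ⟨b', rfl⟩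
  obtain ⟨b, rfl⟩ := hB b'
  have : (1 : B') ⊗ₜ[A'] algebraMap B B' b - algebraMap B B' b ⊗ₜ[A'] (1 : B') =
      tensorMap A B A' B' ((1 : B) ⊗ₜ[A] b - b ⊗ₜ[A] (1 : B)) := by
    rw [map_sub, tensorMap_tmul, tensorMap_tmul, map_one]
  change (1 : B') ⊗ₜ[A'] algebraMap B B' b - algebraMap B B' b ⊗ₜ[A'] (1 : B') ∈ _
  rw [this]
  exact Ideal.mem_map_of_mem _ (KaehlerDifferential.one_smul_sub_smul_one_mem_ideal A b)

theorem map_surjective_and_ker (hB : Function.Surjective (algebraMap B B')) :
    Function.Surjective (PP16.map n A B A' B') ∧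
      RingHom.ker (PP16.map n A B A' B') =
        (RingHom.ker (tensorMap A B A' B')).map
          (Ideal.Quotient.mk (KaehlerDifferential.ideal A B ^ (n + 1))) := by
  have hJ : (KaehlerDifferential.ideal A B ^ (n + 1)).map (tensorMap A B A' B').toRingHom =
      KaehlerDifferential.ideal A' B' ^ (n + 1) := by
    rw [Ideal.map_pow]
    congr 1
    exact ideal_map_tensorMap_eq A B A' B' hB
  have hle : KaehlerDifferential.ideal A B ^ (n + 1) ≤
      (KaehlerDifferential.ideal A' B' ^ (n + 1)).comap (tensorMap A B A' B').toRingHom := by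
    rw [← Ideal.map_le_iff_le_comap, hJ]
  obtain ⟨h1, h2⟩ := ker_quotientMap_of_surjective (tensorMap A B A' B').toRingHom
    (tensorMap_surjective A B A' B' hB) _ _ hJ hle
  have heq : ∀ x, PP16.map n A B A' B' x =
      Ideal.quotientMap _ (tensorMap A B A' B').toRingHom hle x := by
    intro x
    obtain ⟨x, rfl⟩ := Ideal.Quotient.mk_surjective x
    rfl
  refine ⟨fun y => ?_, ?_⟩
  · obtain ⟨x, hx⟩ := h1 y
    exact ⟨x, (heq x).trans hx⟩
  · ext x
    rw [RingHom.mem_ker, heq, ← RingHom.mem_ker, h2]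
    rfl

end functoriality

section tower

variable (A B C : Type u) [CommRing A] [CommRing B] [CommRing C]
  [Algebra A B] [Algebra B C] [Algebra A C] [IsScalarTower A B C]

theorem tensorMap_tower_eq (x : C ⊗[A] C) :
    tensorMap A C B C x = TensorProduct.mapOfCompatibleSMul B A B C C x := by
  induction x using TensorProduct.induction_on with
  | zero => simp
  | tmul c c' =>
    rw [tensorMap_tmul, TensorProduct.mapOfCompatibleSMul_tmul]
    rfl
  | add x y hx hy => rw [map_add, map_add, hx, hy]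

theorem ker_tensorMap_tower :
    RingHom.ker (tensorMap A C B C) =
      Ideal.span (Set.range fun b : B =>
        (algebraMap B C b) ⊗ₜ[A] (1 : C) - (1 : C) ⊗ₜ[A] (algebraMap B C b)) := by
  apply le_antisymm
  · intro x hx
    have hx' : x ∈ LinearMap.ker (TensorProduct.mapOfCompatibleSMul B A B C C) := by
      rw [LinearMap.mem_ker, ← tensorMap_tower_eq]
      exact hx
    rw [TensorProduct.AlgebraTensorModule.ker_mapOfCompatibleSMul] at hx'
    refine Submodule.span_induction (p := fun x _ => x ∈ Ideal.span (Set.range fun b : B =>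
        (algebraMap B C b) ⊗ₜ[A] (1 : C) - (1 : C) ⊗ₜ[A] (algebraMap B C b))) ?_ ?_ ?_ ?_ hx'
    · rintro _ ⟨b, m, n, rfl⟩
      have : (b • m) ⊗ₜ[A] n - m ⊗ₜ[A] (b • n) =
          (m ⊗ₜ[A] n) * ((algebraMap B C b) ⊗ₜ[A] (1 : C) - (1 : C) ⊗ₜ[A] (algebraMap B C b)) := by
        rw [mul_sub, Algebra.TensorProduct.tmul_mul_tmul, Algebra.TensorProduct.tmul_mul_tmul,
          mul_one, mul_one, Algebra.smul_def, Algebra.smul_def, mul_comm m, mul_comm n]
      rw [this]
      exact Ideal.mul_mem_left _ _ (Ideal.subset_span ⟨b, rfl⟩)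
    · exact Ideal.zero_mem _
    · intro x y _ _ hx hy
      exact Ideal.add_mem _ hx hy
    · intro b x _ hx
      rw [Algebra.smul_def]
      exact Ideal.mul_mem_left _ _ hx
  · rw [Ideal.span_le]
    rintro _ ⟨b, rfl⟩
    change tensorMap A C B C _ = 0
    rw [map_sub, tensorMap_tmul, tensorMap_tmul, map_one]
    have h1 : algebraMap C C (algebraMap B C b) = b • (1 : C) := by
      rw [Algebra.smul_def, mul_one]; rfl
    rw [h1, TensorProduct.smul_tmul, sub_self]

end tower

end Groth.Agent.Lib.Helper70.PP16Lib
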