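import Mathlib
set_option autoImplicit false
set_option linter.style.haveILetI false
universe u
open TensorProduct IsLocalRing CategoryTheory AlgebraicGeometry
open scoped Pointwise

/-! helper70: `primary_bridge` (BR of helper55's open call msg 4539, for S4899):
geometric "k(x) primary over k(f x)" gives the ring-level hypothesis on the residue field
of the prime of an affine chart. -/

namespace Groth.Agent.Lib.Helper70.PrimBR

/-- abstract field-theoretic core -/
theorem core {A κ k L : Type*} [CommRing A] [Field κ] [Field k] [Field L]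
    (g : A →+* κ) (h : A →+* L) (φ : κ →+* k) (ψ : L →+* k)
    (hcomm : ∀ b, φ (g b) = ψ (h b))
    (hfrac : ∀ l : L, ∃ a s : A, h s ≠ 0 ∧ l * h s = h a)
    (hprim : letI := ψ.toAlgebra; ∀ a : k, IsSeparable L a → a ∈ ψ.range) :
    ∀ a : κ, IsSeparable ↥(Subfield.closure (Set.range g)) a →
      a ∈ Subfield.closure (Set.range g) := by
  intro a ha
  set K := Subfield.closure (Set.range g) with hK
  -- φ maps K into ψ.range
  have hKle : K ≤ (ψ.fieldRange).comap φ := by
    rw [hK, Subfield.closure_le]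
    rintro _ ⟨b, rfl⟩
    exact ⟨h b, (hcomm b).symm⟩
  have hmem : ∀ c : K, φ (c : κ) ∈ ψ.range := by
    intro c
    obtain ⟨l, hl⟩ := hKle c.2
    exact ⟨l, hl⟩
  have hinj : Function.Injective ψ.rangeRestrict := ψ.rangeRestrict.injective
  let e : L ≃+* ψ.range := RingEquiv.ofBijective ψ.rangeRestrict ⟨hinj, ψ.rangeRestrict_surjective⟩
  let χ0 : K →+* ψ.range := (φ.comp K.subtype).codRestrict ψ.range hmem
  let χ : K →+* L := (e.symm : ψ.range →+* L).comp χ0
  have hχ : ∀ c : K, ψ (χ c) = φ (c : κ) := by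
    intro c
    have h1 : e (χ c) = χ0 c := by simp [χ]
    have h2 := congrArg (Subtype.val) h1
    simpa [e, χ0] using h2
  letI := ψ.toAlgebra
  have hsep : IsSeparable L (φ a) := by
    have hp : (minpoly K a).Separable := ha
    have hq : ((minpoly K a).map χ).Separable := hp.map
    have hroot : Polynomial.aeval (φ a) ((minpoly K a).map χ) = 0 := by
      rw [Polynomial.aeval_def, Polynomial.eval₂_map]
      have hcomp : (algebraMap L k).comp χ = φ.comp K.subtype := by
        ext c
        exact hχ c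
      rw [hcomp, ← Polynomial.hom_eval₂]
      have : Polynomial.eval₂ K.subtype a (minpoly K a) = 0 := by
        have := minpoly.aeval K a
        rwa [Polynomial.aeval_def] at this
      rw [this, map_zero]
    exact hq.of_dvd (minpoly.dvd L (φ a) hroot)
  obtain ⟨l, hl⟩ := hprim (φ a) hsep
  obtain ⟨a', s, hs, hls⟩ := hfrac l
  have hgs : g s ≠ 0 := by
    intro h0
    apply hs
    have := hcomm s
    rw [h0, map_zero] at this
    exact (map_eq_zero ψ).1 this.symm
  have : a = g a' / g s := by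
    apply φ.injective
    rw [map_div₀, hcomm, hcomm, ← hl, ← hls, map_mul]
    field_simp [(map_ne_zero ψ).2 hs]
  rw [this]
  exact div_mem (Subfield.subset_closure ⟨a', rfl⟩) (Subfield.subset_closure ⟨s, rfl⟩)

theorem primary_bridge {X Y : Scheme.{u}} (f : X ⟶ Y) (x : X) (hprim : letI := (f.residueFieldMap x).hom.toAlgebra; ∀ a : ↑(X.residueField x), IsSeparable ↑(Y.residueField (f x)) a → a ∈ (f.residueFieldMap x).hom.range) {U : X.Opens} (hU : IsAffineOpen U) (hxU : x ∈ U) {V : Y.Opens} (hV : IsAffineOpen V) (hUV : U ≤ f ⁻¹ᵁ V) : letI : Algebra Γ(Y, V) Γ(X, U) := (f.appLE V U hUV).hom.toAlgebra; ∀ a : (hU.primeIdealOf ⟨x, hxU⟩).asIdeal.ResidueField, IsSeparable ↥(Subfield.closure (Set.range (algebraMap Γ(Y, V) (hU.primeIdealOf ⟨x, hxU⟩).asIdeal.ResidueField))) a → a ∈ Subfield.closure (Set.range (algebraMap Γ(Y, V) (hU.primeIdealOf ⟨x, hxU⟩).asIdeal.ResidueField)) := by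
  letI : Algebra Γ(Y, V) Γ(X, U) := (f.appLE V U hUV).hom.toAlgebra
  set 𝔭 := (hU.primeIdealOf ⟨x, hxU⟩).asIdeal with h𝔭
  have hfxV : f x ∈ V := hUV hxU
  letI algX : Algebra Γ(X, U) (X.presheaf.stalk x) := X.presheaf.algebra_section_stalk ⟨x, hxU⟩
  letI algY : Algebra Γ(Y, V) (Y.presheaf.stalk (f x)) := Y.presheaf.algebra_section_stalk ⟨f x, hfxV⟩
  haveI locX : IsLocalization.AtPrime (X.presheaf.stalk x) 𝔭 := hU.isLocalization_stalk ⟨x, hxU⟩
  haveI locY : IsLocalization.AtPrime (Y.presheaf.stalk (f x)) (hV.primeIdealOf ⟨f x, hfxV⟩).asIdeal := hV.isLocalization_stalk ⟨f x, hfxV⟩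
  -- φ
  let eX : Localization.AtPrime 𝔭 ≃ₐ[Γ(X, U)] X.presheaf.stalk x :=
    IsLocalization.algEquiv 𝔭.primeCompl (Localization.AtPrime 𝔭) (X.presheaf.stalk x)
  let φ : 𝔭.ResidueField →+* X.residueField x :=
    IsLocalRing.ResidueField.map (eX : Localization.AtPrime 𝔭 →+* X.presheaf.stalk x)
  have hφ : ∀ r : Γ(X, U), φ (algebraMap Γ(X, U) 𝔭.ResidueField r) = X.evaluation U x hxU r := by
    intro r
    have h1 : algebraMap Γ(X, U) 𝔭.ResidueField r
        = IsLocalRing.residue _ (algebraMap Γ(X, U) (Localization.AtPrime 𝔭) r) := rfl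
    rw [h1]
    change IsLocalRing.residue _ (eX (algebraMap Γ(X, U) (Localization.AtPrime 𝔭) r)) = _
    rw [AlgEquiv.commutes]
    rfl
  refine core (algebraMap Γ(Y, V) 𝔭.ResidueField) (Y.evaluation V (f x) hfxV).hom φ
    (f.residueFieldMap x).hom ?_ ?_ hprim
  · intro b
    rw [IsScalarTower.algebraMap_apply Γ(Y, V) Γ(X, U) 𝔭.ResidueField, hφ]
    change X.evaluation U x hxU (f.appLE V U hUV b) = f.residueFieldMap x (Y.evaluation V (f x) hfxV b)
    rw [Scheme.evaluation_naturality_apply]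
    simp only [Scheme.Hom.appLE, CommRingCat.comp_apply]
    simp only [← Scheme.germ_residue, CommRingCat.comp_apply, TopCat.Presheaf.germ_res_apply]
  · intro l
    obtain ⟨t, rfl⟩ := Y.residue_surjective (f x) l
    obtain ⟨⟨a, s⟩, hs⟩ := IsLocalization.surj (hV.primeIdealOf ⟨f x, hfxV⟩).asIdeal.primeCompl t
    refine ⟨a, s, ?_, ?_⟩
    · have hu : IsUnit (algebraMap Γ(Y, V) (Y.presheaf.stalk (f x)) s) :=
        IsLocalization.map_units _ s
      have hu2 : IsUnit ((Y.residue (f x)).hom (algebraMap Γ(Y, V) (Y.presheaf.stalk (f x)) s)) :=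
        hu.map _
      exact hu2.ne_zero
    · have := congrArg (Y.residue (f x)).hom hs
      rw [map_mul] at this
      exact this

end Groth.Agent.Lib.Helper70.PrimBR
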