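import Groth.Agent.Lib.Helper70.DiffSmoothFF

/-!
# The canonical map `Sym^n(J/J²) → J^n/J^(n+1)` for a general ideal (helper70)

* `quotLift π hπ ν h`: descend a multilinear map along a surjection `π` in each variable
  (`quotLift_apply`).
* `nu`, `mu`, `psi R J ι : Sym[R] ι J.Cotangent →ₗ[R] grJ R J (card ι)` with `psi_tprod`
  (value `zetaJ R J x` on `⨂ₛ toCotangent (x i)`), `psi_surjective`.
* `smul_sym_eq_zero`: `J` kills `Sym^n_R(J/J²)` for `n ≥ 1`.
-/

set_option autoImplicit false
set_option linter.unusedSectionVars false
universe u v w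
open scoped TensorProduct Pointwise

namespace Groth.Agent.Lib.Helper70.QReg1

open Groth.Agent.Lib.Helper70 Groth.Agent.Lib.Helper70.CanonSym
open Groth.Agent.Lib.Helper70.DiffSmoothOfOps (prod_sub_prod_mem)
open PP16

section quotLift

variable {R : Type u} [CommRing R] {ι : Type u} [Fintype ι] {N : Type v} [AddCommGroup N] [Module R N]
  {Nb : Type w} [AddCommGroup Nb] [Module R Nb] {Y : Type*} [AddCommGroup Y] [Module R Y]
  (π : N →ₗ[R] Nb) (hπ : Function.Surjective π) (ν : MultilinearMap R (fun _ : ι => N) Y)
  (h : ∀ (m : ι → N) (i : ι) (k : N) [DecidableEq ι], π k = 0 → ν (Function.update m i k) = 0)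

include h in
theorem nu_eq_of_pi_eq (m m' : ι → N) (hm : ∀ i, π (m i) = π (m' i)) : ν m = ν m' := by
  classical
  have key : ∀ t : Finset ι, ν (fun i => if i ∈ t then m' i else m i) = ν m := by
    intro t
    induction t using Finset.induction_on with
    | empty => simp
    | insert a t ha ih =>
      have e1 : (fun i => if i ∈ insert a t then m' i else m i) =
          Function.update (fun i => if i ∈ t then m' i else m i) a (m a + (m' a - m a)) := by
        funext i
        by_cases hia : i = a
        · subst hia
          simp
        · rw [Function.update_of_ne hia]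
          simp [hia]
      have e2 : Function.update (fun i => if i ∈ t then m' i else m i) a (m a) =
          (fun i => if i ∈ t then m' i else m i) := by
        funext i
        by_cases hia : i = a
        · subst hia
          simp [ha]
        · rw [Function.update_of_ne hia]
      rw [e1, MultilinearMap.map_update_add, e2, ih,
        h _ a (m' a - m a) (by rw [map_sub, hm a, sub_self]), add_zero]
  have := key Finset.univ
  simpa using this.symm

/-- descend a multilinear map along a surjection in each variable. -/
noncomputable def quotLift : MultilinearMap R (fun _ : ι => Nb) Y where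
  toFun mb := ν (fun i => Function.surjInv hπ (mb i))
  map_update_add' := by
    intro _ mb i a b
    have e : ∀ c : Nb, ∀ rc : N, π rc = c →
        ν (fun j => Function.surjInv hπ (Function.update mb i c j)) =
          ν (Function.update (fun j => Function.surjInv hπ (mb j)) i rc) := by
      intro c rc hrc
      apply nu_eq_of_pi_eq π ν h
      intro j
      by_cases hji : j = i
      · subst hji
        simp [Function.surjInv_eq hπ, hrc]
      · simp [Function.update_of_ne hji, Function.surjInv_eq hπ]
    rw [e (a + b) (Function.surjInv hπ a + Function.surjInv hπ b)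
        (by rw [map_add, Function.surjInv_eq hπ, Function.surjInv_eq hπ]),
      e a (Function.surjInv hπ a) (Function.surjInv_eq hπ a),
      e b (Function.surjInv hπ b) (Function.surjInv_eq hπ b), MultilinearMap.map_update_add]
  map_update_smul' := by
    intro _ mb i r a
    have e : ∀ c : Nb, ∀ rc : N, π rc = c →
        ν (fun j => Function.surjInv hπ (Function.update mb i c j)) =
          ν (Function.update (fun j => Function.surjInv hπ (mb j)) i rc) := by
      intro c rc hrc
      apply nu_eq_of_pi_eq π ν h
      intro j
      by_cases hji : j = i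
      · subst hji
        simp [Function.surjInv_eq hπ, hrc]
      · simp [Function.update_of_ne hji, Function.surjInv_eq hπ]
    rw [e (r • a) (r • Function.surjInv hπ a) (by rw [map_smul, Function.surjInv_eq hπ]),
      e a (Function.surjInv hπ a) (Function.surjInv_eq hπ a), MultilinearMap.map_update_smul]

theorem quotLift_apply (m : ι → N) : quotLift π hπ ν h (fun i => π (m i)) = ν m := by
  change ν (fun i => Function.surjInv hπ (π (m i))) = ν m
  apply nu_eq_of_pi_eq π ν h
  intro i
  exact Function.surjInv_eq hπ _

end quotLift


section psi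

variable (R : Type u) [CommRing R] (J : Ideal R) (ι : Type u) [Fintype ι]

/-- the product map `J^ι → J^n/J^(n+1)`. -/
noncomputable def nu : MultilinearMap R (fun _ : ι => ↥J) (grJ R J (Fintype.card ι)) :=
  (Submodule.mkQ _).compMultilinearMap
    (((MultilinearMap.mkPiAlgebra R ι R).compLinearMap (fun _ => J.subtype)).codRestrict
      (J ^ Fintype.card ι) (fun x => by
        simp only [MultilinearMap.compLinearMap_apply, MultilinearMap.mkPiAlgebra_apply,
          Submodule.subtype_apply]
        simpa using prod_mem_pow J Finset.univ (fun i => (x i : R)) (fun i _ => (x i).2)))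

theorem nu_apply (x : ι → ↥J) : nu R J ι x = zetaJ R J x := rfl

theorem nu_eq_zero_iff (x : ι → ↥J) :
    nu R J ι x = 0 ↔ ∏ i, (x i : R) ∈ J ^ (Fintype.card ι + 1) := by
  rw [nu_apply, zetaJ, Submodule.Quotient.mk_eq_zero, Submodule.mem_comap]
  rfl

theorem nu_vanish (m : ι → ↥J) (i : ι) (k : ↥J) [DecidableEq ι] (hk : J.toCotangent k = 0) :
    nu R J ι (Function.update m i k) = 0 := by
  rw [Ideal.toCotangent_eq_zero] at hk
  rw [nu_eq_zero_iff]
  have h := prod_sub_prod_mem J Finset.univ (fun l => ((Function.update m i k l : ↥J) : R))
    (fun l => ((Function.update m i (0 : ↥J) l : ↥J) : R)) (fun l _ => (Function.update m i 0 l).2)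
    (fun l _ => (Function.update m i k l).2) (by
      intro l _
      by_cases hl : l = i
      · subst hl
        simpa using hk
      · simp [Function.update_of_ne hl])
  have h0 : ∏ l, ((Function.update m i (0 : ↥J) l : ↥J) : R) = 0 :=
    Finset.prod_eq_zero (Finset.mem_univ i) (by simp)
  rw [h0, sub_zero, Finset.card_univ] at h
  exact h

/-- the descended multilinear map on the cotangent space. -/
noncomputable def mu : MultilinearMap R (fun _ : ι => J.Cotangent) (grJ R J (Fintype.card ι)) :=
  quotLift J.toCotangent J.toCotangent_surjective (nu R J ι)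
    (fun m i k _ hk => nu_vanish R J ι m i k hk)

theorem mu_apply (x : ι → ↥J) :
    mu R J ι (fun i => J.toCotangent (x i)) = zetaJ R J x :=
  quotLift_apply _ _ _ _ x

theorem mu_symm (e : Equiv.Perm ι) (m : ι → J.Cotangent) :
    mu R J ι (fun i => m (e i)) = mu R J ι m := by
  choose x hx using fun i => J.toCotangent_surjective (m i)
  obtain rfl : m = fun i => J.toCotangent (x i) := funext fun i => (hx i).symm
  rw [mu_apply R J ι (fun i => x (e i)), mu_apply R J ι x, zetaJ, zetaJ]
  congr 1
  apply Subtype.ext
  exact Equiv.prod_comp e (fun i => (x i : R))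

/-- the canonical map `Sym^n(J/J²) → J^n/J^(n+1)`. -/
noncomputable def psi : SymmetricPower R ι J.Cotangent →ₗ[R] grJ R J (Fintype.card ι) :=
  SymPow.lift (mu R J ι) (mu_symm R J ι)

theorem psi_tprod (x : ι → ↥J) :
    psi R J ι (SymmetricPower.tprod R (fun i => J.toCotangent (x i))) = zetaJ R J x := by
  rw [psi, SymPow.lift_tprod, mu_apply]

theorem psi_surjective : Function.Surjective (psi R J ι) := by
  intro y
  obtain ⟨⟨t, ht⟩, rfl⟩ := Submodule.Quotient.mk_surjective _ y
  have hspan : ∀ t : R, ∀ ht : t ∈ J ^ Fintype.card ι,
      (Submodule.Quotient.mk ⟨t, ht⟩ : grJ R J (Fintype.card ι)) ∈ LinearMap.range (psi R J ι) := by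
    intro t ht
    have ht' := ht
    rw [show (J ^ Fintype.card ι : Ideal R) = Submodule.span R ((J : Set R) ^ Fintype.card ι) from
      Submodule.pow_eq_span_pow_set J _] at ht'
    induction ht' using Submodule.span_induction with
    | mem t ht0 =>
      rw [Set.mem_pow] at ht0
      obtain ⟨f, rfl⟩ := ht0
      refine ⟨SymmetricPower.tprod R
        (fun i => J.toCotangent (f (Fintype.equivFin ι i))), ?_⟩
      rw [psi_tprod, zetaJ]
      congr 1
      apply Subtype.ext
      change ∏ i, ((f (Fintype.equivFin ι i) : ↥J) : R) = (List.ofFn fun i => ((f i : (J : Set R)) : R)).prod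
      rw [List.prod_ofFn]
      exact Equiv.prod_comp (Fintype.equivFin ι) (fun i => ((f i : (J : Set R)) : R))
    | zero =>
      have : (Submodule.Quotient.mk ⟨0, ht⟩ : grJ R J (Fintype.card ι)) = 0 := by
        rw [Submodule.Quotient.mk_eq_zero]
        exact Submodule.zero_mem _
      rw [this]
      exact Submodule.zero_mem _
    | add a b ha hb iha ihb =>
      have ha' : a ∈ J ^ Fintype.card ι := by
        rw [show (J ^ Fintype.card ι : Ideal R) = Submodule.span R ((J : Set R) ^ Fintype.card ι) from
          Submodule.pow_eq_span_pow_set J _]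
        exact ha
      have hb' : b ∈ J ^ Fintype.card ι := by
        rw [show (J ^ Fintype.card ι : Ideal R) = Submodule.span R ((J : Set R) ^ Fintype.card ι) from
          Submodule.pow_eq_span_pow_set J _]
        exact hb
      have : (Submodule.Quotient.mk ⟨a + b, ht⟩ : grJ R J (Fintype.card ι)) =
          Submodule.Quotient.mk ⟨a, ha'⟩ + Submodule.Quotient.mk ⟨b, hb'⟩ := rfl
      rw [this]
      exact Submodule.add_mem _ (iha ha') (ihb hb')
    | smul r a ha iha =>
      have ha' : a ∈ J ^ Fintype.card ι := by
        rw [show (J ^ Fintype.card ι : Ideal R) = Submodule.span R ((J : Set R) ^ Fintype.card ι) from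
          Submodule.pow_eq_span_pow_set J _]
        exact ha
      have : (Submodule.Quotient.mk ⟨r • a, ht⟩ : grJ R J (Fintype.card ι)) =
          r • Submodule.Quotient.mk ⟨a, ha'⟩ := rfl
      rw [this]
      exact Submodule.smul_mem _ _ (iha ha')
  exact hspan t ht

theorem smul_sym_eq_zero [Nonempty ι] (a : R) (ha : a ∈ J) (y : SymmetricPower R ι J.Cotangent) :
    a • y = 0 := by
  classical
  have hy : y ∈ Submodule.span R (Set.range (SymmetricPower.tprod R (ι := ι) (M := J.Cotangent))) := by
    rw [SymmetricPower.span_tprod_eq_top]
    exact Submodule.mem_top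
  induction hy using Submodule.span_induction with
  | mem y hy =>
    obtain ⟨m, rfl⟩ := hy
    obtain ⟨i₀⟩ := ‹Nonempty ι›
    have h1 : a • SymmetricPower.tprod R m =
        SymmetricPower.tprod R (Function.update m i₀ (a • m i₀)) := by
      rw [MultilinearMap.map_update_smul, Function.update_eq_self]
    rw [h1, Ideal.Cotangent.smul_eq_zero_of_mem ha]
    exact MultilinearMap.map_update_zero _ _ _
  | zero => rw [smul_zero]
  | add x y _ _ hx hy => rw [smul_add, hx, hy, add_zero]
  | smul r x _ hx => rw [smul_comm, hx, smul_zero]

end psi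

end Groth.Agent.Lib.Helper70.QReg1
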