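import Groth.Agent.Lib.Helper70.QReg1
import Groth.Agent.S3824
import Mathlib.RingTheory.Localization.Ideal
import Mathlib.RingTheory.Localization.Away.Basic

/-!
# Local data for quasi-regular ideals (helper70)

`LocData J g x` (`x_j ∈ J`, images quasi-regular in `R_g` and generating `J R_g`) is equivalent to the
pure `R`-statements `GenAt J g x` and `QRAt J g x` (`genAt_of_locData`, `qrAt_of_locData`, `locData_of`);
`exists_locData` normalizes the data of `IsLocallyQuasiRegular`; `fg_of_isLocallyQuasiRegular`.
-/

set_option autoImplicit false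
set_option linter.unusedSectionVars false
universe u v w
open scoped TensorProduct Pointwise

namespace Groth.Agent.Lib.Helper70.QReg2

open Groth.Agent.Lib.Helper70 Groth.Agent.Lib.Helper70.QReg1
open PP16 MvPolynomial

variable {R : Type u} [CommRing R] (J : Ideal R) (g : R) {r : ℕ} (x : Fin r → R)

/-- local data: `x_j ∈ J` quasi-regular generators of `J` on `D(g)`. -/
def LocData : Prop :=
  (∀ j, x j ∈ J) ∧ CAlgX.IsQuasiRegular (fun j => algebraMap R (Localization.Away g) (x j)) ∧
    Ideal.span (Set.range fun j => algebraMap R (Localization.Away g) (x j)) =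
      J.map (algebraMap R (Localization.Away g))

/-- `x` generates `J` up to powers of `g`. -/
def GenAt : Prop := ∀ y ∈ J, ∃ N : ℕ, g ^ N * y ∈ Ideal.span (Set.range x)

/-- `x` is quasi-regular up to powers of `g`. -/
def QRAt : Prop :=
  ∀ (n : ℕ) (P : MvPolynomial (Fin r) R), P.IsHomogeneous n → MvPolynomial.eval x P ∈ J ^ (n + 1) →
    ∀ d, ∃ N : ℕ, g ^ N * P.coeff d ∈ J

theorem span_map :
    Ideal.span (Set.range fun j => algebraMap R (Localization.Away g) (x j)) =
      (Ideal.span (Set.range x)).map (algebraMap R (Localization.Away g)) := by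
  rw [Ideal.map_span, ← Set.range_comp]
  rfl

theorem mem_map_iff (I : Ideal R) (a : R) :
    algebraMap R (Localization.Away g) a ∈ I.map (algebraMap R (Localization.Away g)) ↔
      ∃ N : ℕ, g ^ N * a ∈ I := by
  rw [IsLocalization.algebraMap_mem_map_algebraMap_iff (Submonoid.powers g)]
  constructor
  · rintro ⟨m, ⟨N, rfl⟩, h⟩
    exact ⟨N, h⟩
  · rintro ⟨N, h⟩
    exact ⟨g ^ N, ⟨N, rfl⟩, h⟩

theorem eval_map_alg (P : MvPolynomial (Fin r) R) :
    MvPolynomial.eval (fun j => algebraMap R (Localization.Away g) (x j))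
      (MvPolynomial.map (algebraMap R (Localization.Away g)) P) =
      algebraMap R (Localization.Away g) (MvPolynomial.eval x P) := by
  rw [MvPolynomial.eval_map, ← MvPolynomial.eval₂_id, MvPolynomial.eval₂_comp_left]
  rfl

variable {J g x}

theorem genAt_of_locData (h : LocData J g x) : GenAt J g x := by
  intro y hy
  have h1 : algebraMap R (Localization.Away g) y ∈
      (Ideal.span (Set.range x)).map (algebraMap R (Localization.Away g)) := by
    rw [← span_map, h.2.2]
    exact Ideal.mem_map_of_mem _ hy
  exact (mem_map_iff g _ y).mp h1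

theorem qrAt_of_locData (h : LocData J g x) : QRAt J g x := by
  intro n P hP hev d
  have h1 := h.2.1 n (MvPolynomial.map (algebraMap R (Localization.Away g)) P) (hP.map _) (by
    rw [eval_map_alg, h.2.2, ← Ideal.map_pow]
    exact Ideal.mem_map_of_mem _ hev) d
  rw [MvPolynomial.coeff_map, h.2.2] at h1
  exact (mem_map_iff g _ _).mp h1


theorem isUnit_alg_pow (N : ℕ) : IsUnit (algebraMap R (Localization.Away g) (g ^ N)) :=
  IsLocalization.map_units (Localization.Away g) (⟨g ^ N, ⟨N, rfl⟩⟩ : Submonoid.powers g)

theorem span_eq_of_genAt (hx : ∀ j, x j ∈ J) (hG : GenAt J g x) :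
    Ideal.span (Set.range fun j => algebraMap R (Localization.Away g) (x j)) =
      J.map (algebraMap R (Localization.Away g)) := by
  apply le_antisymm
  · rw [Ideal.span_le]
    rintro _ ⟨j, rfl⟩
    exact Ideal.mem_map_of_mem _ (hx j)
  · rw [Ideal.map, Ideal.span_le]
    rintro _ ⟨y, hy, rfl⟩
    obtain ⟨N, hN⟩ := hG y hy
    have h1 : algebraMap R (Localization.Away g) (g ^ N * y) ∈
        Ideal.span (Set.range fun j => algebraMap R (Localization.Away g) (x j)) := by
      rw [span_map]
      exact Ideal.mem_map_of_mem _ hN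
    rw [map_mul] at h1
    exact (Ideal.unit_mul_mem_iff_mem _ (isUnit_alg_pow (g := g) N)).mp h1


theorem isQuasiRegular_of_qrAt (hx : ∀ j, x j ∈ J) (hG : GenAt J g x) (hQ : QRAt J g x) :
    CAlgX.IsQuasiRegular (fun j => algebraMap R (Localization.Away g) (x j)) := by
  classical
  intro n P' hP' hev d
  rw [span_eq_of_genAt hx hG] at hev ⊢
  -- clear denominators
  obtain ⟨b, hb⟩ := IsLocalization.exist_integer_multiples (Submonoid.powers g) P'.support
    (fun d => P'.coeff d)
  choose! c hc using hb
  obtain ⟨N₀, hN₀⟩ := b.2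
  set P₀ : MvPolynomial (Fin r) R := ∑ d ∈ P'.support, MvPolynomial.monomial d (c d) with hP₀
  have hmap : MvPolynomial.map (algebraMap R (Localization.Away g)) P₀ =
      MvPolynomial.C (algebraMap R (Localization.Away g) (b : R)) * P' := by
    rw [hP₀, map_sum]
    conv_rhs => rw [← MvPolynomial.support_sum_monomial_coeff P', Finset.mul_sum]
    refine Finset.sum_congr rfl fun d hd => ?_
    rw [MvPolynomial.map_monomial, MvPolynomial.C_mul_monomial, hc d hd, Algebra.smul_def]
  have hhom : P₀.IsHomogeneous n := by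
    rw [hP₀]
    apply MvPolynomial.IsHomogeneous.sum
    intro d hd
    apply MvPolynomial.isHomogeneous_monomial
    by_contra hne
    exact (MvPolynomial.mem_support_iff.mp hd) (hP'.coeff_eq_zero hne)
  have hev0 : algebraMap R (Localization.Away g) (MvPolynomial.eval x P₀) ∈
      (J ^ (n + 1)).map (algebraMap R (Localization.Away g)) := by
    rw [← eval_map_alg, hmap, map_mul, MvPolynomial.eval_C, Ideal.map_pow]
    exact Ideal.mul_mem_left _ _ hev
  obtain ⟨N₁, hN₁⟩ := (mem_map_iff g _ _).mp hev0
  have hhom1 : (MvPolynomial.C (g ^ N₁) * P₀).IsHomogeneous n := hhom.C_mul _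
  have hev1 : MvPolynomial.eval x (MvPolynomial.C (g ^ N₁) * P₀) ∈ J ^ (n + 1) := by
    rw [map_mul, MvPolynomial.eval_C]
    exact hN₁
  obtain ⟨N₂, hN₂⟩ := hQ n _ hhom1 hev1 d
  rw [MvPolynomial.coeff_C_mul] at hN₂
  by_cases hd : d ∈ P'.support
  · have h1 : algebraMap R (Localization.Away g) (P₀.coeff d) ∈
        J.map (algebraMap R (Localization.Away g)) := by
      rw [mem_map_iff]
      exact ⟨N₂ + N₁, by rw [pow_add, mul_assoc]; exact hN₂⟩
    have h2 : algebraMap R (Localization.Away g) (P₀.coeff d) =
        algebraMap R (Localization.Away g) (b : R) * P'.coeff d := by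
      rw [← MvPolynomial.coeff_map, hmap, MvPolynomial.coeff_C_mul]
    rw [h2] at h1
    have hu : IsUnit (algebraMap R (Localization.Away g) (b : R)) :=
      IsLocalization.map_units (Localization.Away g) b
    exact (Ideal.unit_mul_mem_iff_mem _ hu).mp h1
  · rw [MvPolynomial.notMem_support_iff.mp hd]
    exact Ideal.zero_mem _

theorem locData_of (hx : ∀ j, x j ∈ J) (hG : GenAt J g x) (hQ : QRAt J g x) : LocData J g x :=
  ⟨hx, isQuasiRegular_of_qrAt hx hG hQ, span_eq_of_genAt hx hG⟩


theorem exists_locData (f : Fin r → Localization.Away g) (hf : CAlgX.IsQuasiRegular f)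
    (hspan : Ideal.span (Set.range f) = J.map (algebraMap R (Localization.Away g))) :
    ∃ x : Fin r → R, LocData J g x := by
  have hmem : ∀ j, f j ∈ J.map (algebraMap R (Localization.Away g)) := by
    intro j
    rw [← hspan]
    exact Ideal.subset_span ⟨j, rfl⟩
  choose y hy using fun j =>
    (IsLocalization.mem_map_algebraMap_iff (Submonoid.powers g) (Localization.Away g)).mp (hmem j)
  have hu : ∀ j, IsUnit (algebraMap R (Localization.Away g) ((y j).2 : R)) := fun j =>
    IsLocalization.map_units (Localization.Away g) (y j).2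
  have hsp : Ideal.span (Set.range fun j => algebraMap R (Localization.Away g) ((y j).1 : R)) =
      Ideal.span (Set.range f) := by
    apply le_antisymm
    · rw [Ideal.span_le]
      rintro _ ⟨j, rfl⟩
      change algebraMap R (Localization.Away g) ((y j).1 : R) ∈ Ideal.span (Set.range f)
      rw [← hy j]
      exact Ideal.mul_mem_right _ _ (Ideal.subset_span ⟨j, rfl⟩)
    · rw [Ideal.span_le]
      rintro _ ⟨j, rfl⟩
      have h1 : f j * algebraMap R (Localization.Away g) ((y j).2 : R) ∈
          Ideal.span (Set.range fun j => algebraMap R (Localization.Away g) ((y j).1 : R)) := by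
        rw [hy j]
        exact Ideal.subset_span ⟨j, rfl⟩
      exact (Ideal.mul_unit_mem_iff_mem _ (hu j)).mp h1
  refine ⟨fun j => ((y j).1 : R), fun j => (y j).1.2, ?_, ?_⟩
  · exact Groth.Agent.S3824.result f _ hf hsp
  · rw [hsp, hspan]

theorem fg_of_isLocallyQuasiRegular (h : IsLocallyQuasiRegular R J) : J.FG := by
  apply Ideal.fg_of_localizationSpan
    {g : R | (J.map (algebraMap R (Localization.Away g))).FG}
  · by_contra hne
    obtain ⟨𝔪, h𝔪, hle⟩ := Ideal.exists_le_maximal _ hne
    have hsub : {g : R | (J.map (algebraMap R (Localization.Away g))).FG} ⊆ 𝔪 :=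
      fun g hg => hle (Ideal.subset_span hg)
    by_cases hJ : J ≤ 𝔪
    · obtain ⟨g, hg, r, f, -, hspan⟩ := h 𝔪 hJ
      apply hg
      apply hsub
      change (J.map (algebraMap R (Localization.Away g))).FG
      rw [← hspan]
      exact Submodule.fg_span (Set.finite_range f)
    · obtain ⟨a, haJ, ha𝔪⟩ := Set.not_subset.mp hJ
      apply ha𝔪
      apply hsub
      change (J.map (algebraMap R (Localization.Away a))).FG
      have : J.map (algebraMap R (Localization.Away a)) = ⊤ := by
        apply Ideal.eq_top_of_isUnit_mem _ (Ideal.mem_map_of_mem _ haJ)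
        exact IsLocalization.map_units (Localization.Away a)
          (⟨a, Submonoid.mem_powers a⟩ : Submonoid.powers a)
      rw [this]
      exact ⟨{1}, by simp⟩
  · intro g
    exact g.2

end Groth.Agent.Lib.Helper70.QReg2
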