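import Groth.Agent.Lib.Helper70.QReg2

/-!
# Injectivity of `Sym^n(J/J²) → J^n/J^(n+1)` for locally quasi-regular ideals (helper70)

* `jJ : J^n/J^(n+1) → R/J^(n+1)`; `T d` symmetric monomials in the classes `xb j` of local generators;
  `tprod_mem_span`; `exists_pow_smul_mem_W` (every element of `Sym` is, up to a power of `g`, a combination
  of the `T d`), `exists_pow_smul_eq_zero` (kernel of `psi` is `g`-power torsion),
  `psi_injective_of_isLocallyQuasiRegular`.
-/

set_option autoImplicit false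
set_option linter.unusedSectionVars false
universe u v w
open scoped TensorProduct Pointwise

namespace Groth.Agent.Lib.Helper70.QReg3

open Groth.Agent.Lib.Helper70 Groth.Agent.Lib.Helper70.QReg1 Groth.Agent.Lib.Helper70.QReg2
open Groth.Agent.Lib.Helper70.DiffSmoothOfOps (cnt prod_comp_cnt sum_cnt exists_cnt_eq tprod_eq_of_cnt_eq)
open Groth.Agent.Lib.Helper70.DiffSmoothBC (multilinear_eq_of_span)
open PP16 MvPolynomial

section jJ

variable (R : Type u) [CommRing R] (J : Ideal R)

/-- `J^n/J^(n+1) → R/J^(n+1)`. -/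
noncomputable def jJ (n : ℕ) : grJ R J n →ₗ[R] R ⧸ J ^ (n + 1) :=
  Submodule.liftQ _ ((J ^ (n + 1)).mkQ ∘ₗ (J ^ n).subtype) (by
    intro y hy
    rw [Submodule.mem_comap] at hy
    rw [LinearMap.mem_ker, LinearMap.comp_apply, Submodule.mkQ_apply, Submodule.Quotient.mk_eq_zero]
    exact hy)

theorem jJ_mk (n : ℕ) (y : ↥(J ^ n)) :
    jJ R J n (Submodule.Quotient.mk y) = Submodule.Quotient.mk (y : R) := rfl

theorem jJ_injective (n : ℕ) : Function.Injective (jJ R J n) := by
  rw [← LinearMap.ker_eq_bot, LinearMap.ker_eq_bot']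
  intro y hy
  obtain ⟨z, rfl⟩ := Submodule.Quotient.mk_surjective _ y
  rw [jJ_mk, Submodule.Quotient.mk_eq_zero] at hy
  rw [Submodule.Quotient.mk_eq_zero]
  exact hy

theorem jJ_zetaJ {ι : Type u} [Fintype ι] (x : ι → ↥J) :
    jJ R J (Fintype.card ι) (zetaJ R J x) = Submodule.Quotient.mk (∏ i, (x i : R)) := rfl

end jJ

section loc

variable {R : Type u} [CommRing R] (J : Ideal R) (g : R) {r : ℕ} (x : Fin r → R)
  (hx : ∀ j, x j ∈ J) (ι : Type u) [Fintype ι]

/-- classes of the `x_j` in `J/J²`. -/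
noncomputable def xb (j : Fin r) : J.Cotangent := J.toCotangent ⟨x j, hx j⟩

/-- multi-indices of degree `card ι`. -/
abbrev D (r : ℕ) (ι : Type u) [Fintype ι] : Type := {q : Fin r → ℕ // ∑ i, q i = Fintype.card ι}

/-- representative index function. -/
noncomputable def rep (d : D r ι) : ι → Fin r := Classical.choose (exists_cnt_eq d.1 d.2)

theorem cnt_rep (d : D r ι) : cnt (rep ι d) = d.1 := Classical.choose_spec (exists_cnt_eq d.1 d.2)

/-- symmetric monomials in the `xb j`. -/
noncomputable def T (d : D r ι) : SymmetricPower R ι J.Cotangent :=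
  SymmetricPower.tprod R (fun i => xb J x hx (rep ι d i))

theorem tprod_xb (j : ι → Fin r) :
    SymmetricPower.tprod R (fun i => xb J x hx (j i)) = T J x hx ι ⟨cnt j, sum_cnt j⟩ := by
  rw [T]
  apply tprod_eq_of_cnt_eq
  rw [cnt_rep]

theorem psi_T (d : D r ι) :
    jJ R J (Fintype.card ι) (psi R J ι (T J x hx ι d)) =
      Submodule.Quotient.mk (∏ c, x c ^ d.1 c) := by
  rw [T]
  have : (fun i => xb J x hx (rep ι d i)) =
      fun i => J.toCotangent ⟨x (rep ι d i), hx (rep ι d i)⟩ := rfl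
  rw [this, psi_tprod, jJ_zetaJ]
  congr 1
  rw [← cnt_rep ι d]
  exact prod_comp_cnt (rep ι d) x


/-- tprods of vectors in a span lie in the span of tprods of spanning vectors. -/
theorem tprod_mem_span {M : Type v} [AddCommGroup M] [Module R M] (S : Set M) (m : ι → M)
    (hm : ∀ i, m i ∈ Submodule.span R S) :
    SymmetricPower.tprod R m ∈ Submodule.span R
      {y | ∃ s : ι → M, (∀ i, s i ∈ S) ∧ SymmetricPower.tprod R s = y} := by
  set W := Submodule.span R {y | ∃ s : ι → M, (∀ i, s i ∈ S) ∧ SymmetricPower.tprod R s = y}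
  set W₁ := Submodule.span R S
  let f : MultilinearMap R (fun _ : ι => ↥W₁) (SymmetricPower R ι M ⧸ W) :=
    (W.mkQ.compMultilinearMap (SymmetricPower.tprod R)).compLinearMap (fun _ => W₁.subtype)
  have hf : ∀ m', f m' = (0 : MultilinearMap R (fun _ : ι => ↥W₁) (SymmetricPower R ι M ⧸ W)) m' := by
    apply multilinear_eq_of_span (Subtype.val ⁻¹' S : Set ↥W₁) (Submodule.span_span_coe_preimage)
    intro m' hm'
    change W.mkQ (SymmetricPower.tprod R (fun i => (m' i : M))) = 0
    rw [Submodule.mkQ_apply, Submodule.Quotient.mk_eq_zero]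
    exact Submodule.subset_span ⟨fun i => (m' i : M), hm', rfl⟩
  have := hf (fun i => ⟨m i, hm i⟩)
  change W.mkQ (SymmetricPower.tprod R m) = 0 at this
  rwa [Submodule.mkQ_apply, Submodule.Quotient.mk_eq_zero] at this

variable (hG : GenAt J g x)

include hG in
theorem exists_pow_smul_mem_span (m : J.Cotangent) :
    ∃ N : ℕ, g ^ N • m ∈ Submodule.span R (Set.range (xb J x hx)) := by
  obtain ⟨y, rfl⟩ := J.toCotangent_surjective m
  obtain ⟨N, hN⟩ := hG y y.2
  refine ⟨N, ?_⟩
  obtain ⟨a, ha⟩ := (Ideal.mem_span_range_iff_exists_fun).mp hN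
  have h1 : g ^ N • y = ∑ j, a j • (⟨x j, hx j⟩ : ↥J) := by
    apply Subtype.ext
    rw [Submodule.coe_smul, Submodule.coe_sum, smul_eq_mul, ← ha]
    rfl
  rw [← map_smul, h1, map_sum]
  apply Submodule.sum_mem
  intro j _
  rw [map_smul]
  exact Submodule.smul_mem _ _ (Submodule.subset_span ⟨j, rfl⟩)

include hG in
theorem exists_pow_smul_mem_W (y : SymmetricPower R ι J.Cotangent) :
    ∃ K : ℕ, g ^ K • y ∈ Submodule.span R (Set.range (T J x hx ι)) := by
  have hy : y ∈ Submodule.span R (Set.range (SymmetricPower.tprod R (ι := ι) (M := J.Cotangent))) := by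
    rw [SymmetricPower.span_tprod_eq_top]
    exact Submodule.mem_top
  induction hy using Submodule.span_induction with
  | mem y hy =>
    obtain ⟨m, rfl⟩ := hy
    choose N hN using fun i => exists_pow_smul_mem_span J g x hx hG (m i)
    refine ⟨∑ i, N i, ?_⟩
    have h1 : g ^ (∑ i, N i) • SymmetricPower.tprod R m =
        SymmetricPower.tprod R (fun i => g ^ N i • m i) := by
      rw [MultilinearMap.map_smul_univ, Finset.prod_pow_eq_pow_sum]
    rw [h1]
    refine Submodule.span_le.mpr ?_ (tprod_mem_span ι (Set.range (xb J x hx)) _ hN)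
    rintro _ ⟨s, hs, rfl⟩
    choose j hj using hs
    obtain rfl : s = fun i => xb J x hx (j i) := funext fun i => (hj i).symm
    rw [tprod_xb]
    exact Submodule.subset_span ⟨_, rfl⟩
  | zero => exact ⟨0, by rw [smul_zero]; exact Submodule.zero_mem _⟩
  | add a b _ _ ha hb =>
    obtain ⟨K₁, h₁⟩ := ha
    obtain ⟨K₂, h₂⟩ := hb
    refine ⟨K₁ + K₂, ?_⟩
    rw [smul_add]
    apply Submodule.add_mem
    · rw [pow_add, mul_comm, mul_smul]
      exact Submodule.smul_mem _ _ h₁
    · rw [pow_add, mul_smul]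
      exact Submodule.smul_mem _ _ h₂
  | smul c a _ ha =>
    obtain ⟨K, hK⟩ := ha
    refine ⟨K, ?_⟩
    rw [smul_comm]
    exact Submodule.smul_mem _ _ hK


/-- multi-index as a finsupp. -/
noncomputable def toF (d : D r ι) : Fin r →₀ ℕ := Finsupp.equivFunOnFinite.symm d.1

theorem toF_apply (d : D r ι) (c : Fin r) : toF ι d c = d.1 c := rfl

theorem toF_injective : Function.Injective (toF ι (r := r)) := by
  intro d d' h
  apply Subtype.ext
  exact Finsupp.equivFunOnFinite.symm.injective h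

theorem toF_degree (d : D r ι) : (toF ι d).degree = Fintype.card ι := by
  rw [Finsupp.degree_eq_sum]
  simp only [toF_apply]
  exact d.2

theorem eval_monomial_toF (d : D r ι) (a : R) :
    MvPolynomial.eval x (MvPolynomial.monomial (toF ι d) a) = a * ∏ c, x c ^ d.1 c := by
  rw [MvPolynomial.eval_monomial, Finsupp.prod_fintype _ _ (fun i => pow_zero _)]
  rfl

variable (hQ : QRAt J g x) [Nonempty ι]

include hQ in
theorem exists_pow_smul_eq_zero_of_mem_W (w : SymmetricPower R ι J.Cotangent)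
    (hw : w ∈ Submodule.span R (Set.range (T J x hx ι))) (hψ : psi R J ι w = 0) :
    ∃ N : ℕ, g ^ N • w = 0 := by
  classical
  obtain ⟨c, rfl⟩ := (Finsupp.mem_span_range_iff_exists_finsupp).mp hw
  set P : MvPolynomial (Fin r) R := ∑ d ∈ c.support, MvPolynomial.monomial (toF ι d) (c d) with hP
  have hhom : P.IsHomogeneous (Fintype.card ι) := by
    rw [hP]
    apply MvPolynomial.IsHomogeneous.sum
    intro d _
    exact MvPolynomial.isHomogeneous_monomial _ (toF_degree ι d)
  have hev : MvPolynomial.eval x P ∈ J ^ (Fintype.card ι + 1) := by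
    have h1 := congrArg (jJ R J (Fintype.card ι)) hψ
    rw [map_zero, Finsupp.sum, map_sum, map_sum] at h1
    simp only [map_smul, psi_T] at h1
    rw [hP, map_sum]
    simp only [eval_monomial_toF]
    rw [← Submodule.Quotient.mk_eq_zero (J ^ (Fintype.card ι + 1)), ← Submodule.mkQ_apply, map_sum]
    rw [← h1]
    refine Finset.sum_congr rfl fun d _ => ?_
    rfl
  have hcoeff : ∀ d₀ : D r ι, P.coeff (toF ι d₀) = c d₀ := by
    intro d₀
    rw [hP, MvPolynomial.coeff_sum]
    simp only [MvPolynomial.coeff_monomial]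
    rw [Finset.sum_eq_single d₀]
    · rw [if_pos rfl]
    · intro d _ hd
      rw [if_neg]
      intro h
      exact hd (toF_injective ι h)
    · intro h
      rw [if_pos rfl]
      exact Finsupp.notMem_support_iff.mp h
  choose N hN using fun d : D r ι => hQ _ P hhom hev (toF ι d)
  refine ⟨∑ d ∈ c.support, N d, ?_⟩
  rw [Finsupp.sum, Finset.smul_sum]
  apply Finset.sum_eq_zero
  intro d hd
  rw [smul_smul]
  apply smul_sym_eq_zero R J ι
  have hle : N d ≤ ∑ d ∈ c.support, N d := Finset.single_le_sum (fun _ _ => Nat.zero_le _) hd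
  have h2 := hN d
  rw [hcoeff] at h2
  have : g ^ (∑ d ∈ c.support, N d) * c d = g ^ (∑ d ∈ c.support, N d - N d) * (g ^ N d * c d) := by
    rw [← mul_assoc, ← pow_add, Nat.sub_add_cancel hle]
  rw [this]
  exact Ideal.mul_mem_left _ _ h2

include hx hG hQ in
theorem exists_pow_smul_eq_zero (y : SymmetricPower R ι J.Cotangent) (hψ : psi R J ι y = 0) :
    ∃ N : ℕ, g ^ N • y = 0 := by
  obtain ⟨K, hK⟩ := exists_pow_smul_mem_W J g x hx ι hG y
  obtain ⟨N, hN⟩ := exists_pow_smul_eq_zero_of_mem_W J g x hx ι hQ _ hK (by rw [map_smul, hψ, smul_zero])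
  exact ⟨N + K, by rw [pow_add, mul_smul]; exact hN⟩

end loc


section global

variable {R : Type u} [CommRing R] (J : Ideal R)

theorem psi_injective_of_isLocallyQuasiRegular (h : IsLocallyQuasiRegular R J)
    (ι : Type u) [Fintype ι] [Nonempty ι] : Function.Injective (psi R J ι) := by
  rw [← LinearMap.ker_eq_bot, LinearMap.ker_eq_bot']
  intro y hy
  set 𝔞 : Ideal R := LinearMap.ker (LinearMap.toSpanSingleton R _ y) with h𝔞
  have hmem : ∀ a : R, a ∈ 𝔞 ↔ a • y = 0 := by
    intro a
    rw [h𝔞, LinearMap.mem_ker, LinearMap.toSpanSingleton_apply]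
  by_cases htop : 𝔞 = ⊤
  · have : (1 : R) ∈ 𝔞 := by rw [htop]; exact Submodule.mem_top
    rw [hmem, one_smul] at this
    exact this
  · exfalso
    obtain ⟨𝔪, h𝔪, hle⟩ := Ideal.exists_le_maximal _ htop
    by_cases hJ : J ≤ 𝔪
    · obtain ⟨g, hg, r, f, hf, hspan⟩ := h 𝔪 hJ
      obtain ⟨x, hL⟩ := exists_locData f hf hspan
      obtain ⟨N, hN⟩ := exists_pow_smul_eq_zero J g x hL.1 ι (genAt_of_locData hL)
        (qrAt_of_locData hL) y hy
      exact hg (h𝔪.isPrime.mem_of_pow_mem N (hle ((hmem _).mpr hN)))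
    · obtain ⟨a, haJ, ha𝔪⟩ := Set.not_subset.mp hJ
      exact ha𝔪 (hle ((hmem a).mpr (smul_sym_eq_zero R J ι a haJ y)))

end global

end Groth.Agent.Lib.Helper70.QReg3
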