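import Groth.Agent.Lib.Helper70.QReg3
import Mathlib.RingTheory.LocalProperties.FinitePresentation
import Mathlib.RingTheory.Flat.Localization
import Mathlib.RingTheory.Flat.EquationalCriterion

/-!
# Projectivity of `J/J²` for locally quasi-regular ideals (helper70)

`fM_mem_span`, `span_fM_xb`, `li_fM_xb`, `locBasis`: on `D(g)` the classes of the local generators form a
basis of the localized cotangent module over `(R/J)_g`; `projective_cotangent_of_isLocallyQuasiRegular`.
-/

set_option autoImplicit false
set_option linter.unusedSectionVars false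
universe u v w
open scoped TensorProduct Pointwise

namespace Groth.Agent.Lib.Helper70.QReg4

open Groth.Agent.Lib.Helper70 Groth.Agent.Lib.Helper70.QReg1 Groth.Agent.Lib.Helper70.QReg2
  Groth.Agent.Lib.Helper70.QReg3
open PP16 MvPolynomial

section loc

variable {R : Type u} [CommRing R] (J : Ideal R) (g : R) {r : ℕ} (x : Fin r → R)
  (hx : ∀ j, x j ∈ J) (hG : GenAt J g x) (hQ : QRAt J g x)

local notation "gb" => (Ideal.Quotient.mk J g)
local notation "Wg" => Submonoid.powers (Ideal.Quotient.mk J g)
local notation "fM" => LocalizedModule.mkLinearMap (Submonoid.powers (Ideal.Quotient.mk J g)) J.Cotangent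

theorem pow_smul_cot (N : ℕ) (m : J.Cotangent) : (gb ^ N : R ⧸ J) • m = g ^ N • m := by
  rw [← map_pow]
  exact (algebraMap_smul (R ⧸ J) (g ^ N) m)

include hG in
theorem fM_mem_span (m : J.Cotangent) :
    fM m ∈ Submodule.span (Localization.Away gb) (Set.range fun j => fM (xb J x hx j)) := by
  obtain ⟨N, hN⟩ := exists_pow_smul_mem_span J g x hx hG m
  obtain ⟨a, ha⟩ := (Submodule.mem_span_range_iff_exists_fun R).mp hN
  have h1 : fM (g ^ N • m) ∈
      Submodule.span (Localization.Away gb) (Set.range fun j => fM (xb J x hx j)) := by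
    rw [← ha, map_sum]
    apply Submodule.sum_mem
    intro j _
    rw [← algebraMap_smul (R ⧸ J) (a j) (xb J x hx j), map_smul,
      ← algebraMap_smul (Localization.Away gb) (algebraMap R (R ⧸ J) (a j))]
    exact Submodule.smul_mem _ _ (Submodule.subset_span ⟨j, rfl⟩)
  rw [← pow_smul_cot, map_smul, ← algebraMap_smul (Localization.Away gb) (gb ^ N : R ⧸ J)] at h1
  have hu : IsUnit (algebraMap (R ⧸ J) (Localization.Away gb) (gb ^ N)) :=
    IsLocalization.map_units (Localization.Away gb) (⟨gb ^ N, ⟨N, rfl⟩⟩ : Wg)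
  obtain ⟨u, hu'⟩ := hu
  rw [← hu'] at h1
  have := Submodule.smul_mem _ (↑u⁻¹ : Localization.Away gb) h1
  rwa [smul_smul, Units.inv_mul, one_smul] at this


include hG in
theorem span_fM_xb :
    Submodule.span (Localization.Away gb) (Set.range fun j => fM (xb J x hx j)) = ⊤ := by
  rw [eq_top_iff]
  intro z _
  obtain ⟨⟨m, s⟩, hz⟩ := IsLocalizedModule.surj Wg fM z
  have h1 := fM_mem_span J g x hx hG m
  rw [← hz] at h1
  have hu : IsUnit (algebraMap (R ⧸ J) (Localization.Away gb) (s : R ⧸ J)) :=
    IsLocalization.map_units (Localization.Away gb) s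
  obtain ⟨u, hu'⟩ := hu
  have h2 : (s : R ⧸ J) • z = (u : Localization.Away gb) • z := by
    rw [hu']
    exact (algebraMap_smul (Localization.Away gb) (s : R ⧸ J) z).symm
  change (s : R ⧸ J) • z ∈ _ at h1
  rw [h2] at h1
  have := Submodule.smul_mem _ (↑u⁻¹ : Localization.Away gb) h1
  rwa [smul_smul, Units.inv_mul, one_smul] at this

include hQ in
theorem li_fM_xb :
    LinearIndependent (Localization.Away gb) (fun j => fM (xb J x hx j)) := by
  classical
  rw [Fintype.linearIndependent_iff]
  intro c hc j₀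
  obtain ⟨b₀, hb₀⟩ := IsLocalization.exist_integer_multiples_of_finite Wg c
  choose sb hsb using hb₀
  choose s hs using fun j => Ideal.Quotient.mk_surjective (sb j)
  have hu : IsUnit (algebraMap (R ⧸ J) (Localization.Away gb) (b₀ : R ⧸ J)) :=
    IsLocalization.map_units (Localization.Away gb) b₀
  -- the relation in M
  have h1 : fM (∑ j, s j • xb J x hx j) = 0 := by
    have h2 : (b₀ : R ⧸ J) • ∑ j, c j • fM (xb J x hx j) = 0 := by rw [hc, smul_zero]
    rw [Finset.smul_sum] at h2
    rw [map_sum, ← h2]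
    refine Finset.sum_congr rfl fun j _ => ?_
    rw [← algebraMap_smul (R ⧸ J) (s j) (xb J x hx j), map_smul,
      ← algebraMap_smul (Localization.Away gb) (algebraMap R (R ⧸ J) (s j)),
      show algebraMap R (R ⧸ J) (s j) = sb j from hs j, hsb j, smul_assoc]
  obtain ⟨⟨_, N, rfl⟩, hN⟩ := (IsLocalizedModule.eq_zero_iff Wg fM).mp h1
  change (gb ^ N : R ⧸ J) • (∑ j, s j • xb J x hx j) = 0 at hN
  rw [pow_smul_cot] at hN
  have h3 : g ^ N • ∑ j, s j • xb J x hx j =
      J.toCotangent (∑ j, (g ^ N * s j) • (⟨x j, hx j⟩ : ↥J)) := by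
    rw [map_sum, Finset.smul_sum]
    refine Finset.sum_congr rfl fun j _ => ?_
    rw [map_smul, mul_smul]
    rfl
  rw [h3, Ideal.toCotangent_eq_zero] at hN
  simp only [Submodule.coe_sum, Submodule.coe_smul, smul_eq_mul] at hN
  -- the linear form
  set P : MvPolynomial (Fin r) R := ∑ j, MvPolynomial.C (g ^ N * s j) * MvPolynomial.X j with hP
  have hhom : P.IsHomogeneous 1 := by
    rw [hP]
    apply MvPolynomial.IsHomogeneous.sum
    intro j _
    exact MvPolynomial.isHomogeneous_C_mul_X _ _
  have hev : MvPolynomial.eval x P ∈ J ^ (1 + 1) := by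
    rw [hP, map_sum]
    simp only [map_mul, MvPolynomial.eval_C, MvPolynomial.eval_X]
    exact hN
  obtain ⟨N', hN'⟩ := hQ 1 P hhom hev (Finsupp.single j₀ 1)
  have hcoeff : P.coeff (Finsupp.single j₀ 1) = g ^ N * s j₀ := by
    rw [hP, MvPolynomial.coeff_sum]
    simp only [MvPolynomial.coeff_C_mul, MvPolynomial.coeff_X']
    rw [Finset.sum_eq_single j₀]
    · rw [if_pos rfl, mul_one]
    · intro j _ hj
      rw [if_neg, mul_zero]
      intro h
      exact hj (Finsupp.single_left_injective one_ne_zero h)
    · intro h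
      exact absurd (Finset.mem_univ j₀) h
  rw [hcoeff, ← mul_assoc, ← pow_add] at hN'
  -- conclude
  have h4 : algebraMap (R ⧸ J) (Localization.Away gb) (sb j₀) = 0 := by
    rw [IsLocalization.map_eq_zero_iff Wg]
    refine ⟨⟨gb ^ (N' + N), ⟨_, rfl⟩⟩, ?_⟩
    change gb ^ (N' + N) * sb j₀ = 0
    rw [← hs j₀, ← map_pow, ← map_mul, Ideal.Quotient.eq_zero_iff_mem]
    exact hN'
  rw [hsb j₀] at h4
  have h5 : (b₀ : R ⧸ J) • c j₀ = algebraMap (R ⧸ J) (Localization.Away gb) (b₀ : R ⧸ J) * c j₀ :=
    Algebra.smul_def _ _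
  rw [h5] at h4
  exact (hu.mul_right_eq_zero).mp h4


/-- the basis of the localized cotangent module. -/
noncomputable def locBasis :
    Module.Basis (Fin r) (Localization.Away gb) (LocalizedModule.Away gb J.Cotangent) :=
  Module.Basis.mk (li_fM_xb J g x hx hQ) (span_fM_xb J g x hx hG).ge

end loc

section global

variable {R : Type u} [CommRing R] (J : Ideal R)

theorem projective_cotangent_of_isLocallyQuasiRegular (h : IsLocallyQuasiRegular R J) :
    Module.Projective (R ⧸ J) J.Cotangent := by
  set s : Set (R ⧸ J) := {gq | ∃ (r : ℕ),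
    Nonempty (Module.Basis (Fin r) (Localization.Away gq) (LocalizedModule.Away gq J.Cotangent))} with hs
  have hspan : Ideal.span s = ⊤ := by
    by_contra hne
    obtain ⟨𝔫, h𝔫, hle⟩ := Ideal.exists_le_maximal _ hne
    have hprime : (𝔫.comap (Ideal.Quotient.mk J)).IsPrime := Ideal.comap_isPrime _ _
    have hJ : J ≤ 𝔫.comap (Ideal.Quotient.mk J) := by
      intro a ha
      rw [Ideal.mem_comap, Ideal.Quotient.eq_zero_iff_mem.mpr ha]
      exact Ideal.zero_mem _
    obtain ⟨g, hg, r, f, hf, hsp⟩ := h _ hJ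
    obtain ⟨x, hL⟩ := exists_locData f hf hsp
    apply hg
    rw [Ideal.mem_comap]
    apply hle
    apply Ideal.subset_span
    exact ⟨r, ⟨locBasis J g x hL.1 (genAt_of_locData hL) (qrAt_of_locData hL)⟩⟩
  have hfp : Module.FinitePresentation (R ⧸ J) J.Cotangent := by
    apply Module.FinitePresentation.of_localizationSpan s hspan
    rintro ⟨gq, r, ⟨b⟩⟩
    have : Module.Free (Localization.Away gq) (LocalizedModule.Away gq J.Cotangent) :=
      Module.Free.of_basis b
    have : Module.Finite (Localization.Away gq) (LocalizedModule.Away gq J.Cotangent) :=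
      Module.Finite.of_basis b
    exact Module.finitePresentation_of_projective _ _
  have hflat : Module.Flat (R ⧸ J) J.Cotangent := by
    refine Module.flat_of_localized_span (R ⧸ J) J.Cotangent s hspan ?_
    rintro ⟨gq, r, ⟨b⟩⟩
    have : Module.Free (Localization.Away gq) (LocalizedModule.Away gq J.Cotangent) :=
      Module.Free.of_basis b
    exact Module.Flat.trans (R ⧸ J) (Localization.Away gq) _
  exact Module.Flat.projective_of_finitePresentation

end global

end Groth.Agent.Lib.Helper70.QReg4
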