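import Groth.Agent.Lib.Helper70.QReg4
import Mathlib.RingTheory.LocalRing.Module
import Mathlib.Algebra.Module.LocalizedModule.IsLocalization

/-!
# Quasi-regular ideals from projectivity of `J/J²` and bijectivity of `Sym → gr` (helper70)

* `exists_dual_family`: for a f.g. projective module and a prime, a local basis chosen among a spanning family
  with global "dual functionals up to a denominator".
* `exists_genAt` (Nakayama on `D(v)`), `ell`, `Lam`, `Lam_T` (coefficient extraction), `qr_of_injective`,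
  `qrAt_of_dual`, `isLocallyQuasiRegular_of`.
-/

set_option autoImplicit false
set_option linter.unusedSectionVars false
universe u v w
open scoped TensorProduct Pointwise

namespace Groth.Agent.Lib.Helper70.QReg5

open Groth.Agent.Lib.Helper70 Groth.Agent.Lib.Helper70.QReg1 Groth.Agent.Lib.Helper70.QReg2
  Groth.Agent.Lib.Helper70.QReg3
open PP16 MvPolynomial

section localBasis

variable {S : Type u} [CommRing S] {M : Type u} [AddCommGroup M] [Module S M]
  [Module.Finite S M] [Module.Projective S M] (𝔭 : Ideal S) [𝔭.IsPrime]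
  {Y : Type u} (y : Y → M) (hy : Submodule.span S (Set.range y) = ⊤)

include hy in
/-- local basis chosen among a spanning family, with dual functionals up to a denominator. -/
theorem exists_dual_family :
    ∃ (r : ℕ) (a : Fin r → Y) (β : Fin r → (M →ₗ[S] S)) (w : S), w ∉ 𝔭 ∧
      (∀ i j, β j (y (a i)) = if i = j then w else 0) ∧
      ∀ m : M, ∃ u : S, u ∉ 𝔭 ∧ u • m ∈ Submodule.span S (Set.range fun i => y (a i)) := by
  classical
  have hfp : Module.FinitePresentation S M := Module.finitePresentation_of_projective S M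
  let Sp := Localization.AtPrime 𝔭
  let Mp := LocalizedModule 𝔭.primeCompl M
  let f : M →ₗ[S] Mp := LocalizedModule.mkLinearMap 𝔭.primeCompl M
  have hv : Submodule.span Sp (Set.range fun t : Y => f (y t)) = ⊤ := by
    have := span_eq_top_of_isLocalizedModule Sp 𝔭.primeCompl f hy
    rwa [← Set.range_comp] at this
  obtain ⟨κ, a₀, b₀, hb₀⟩ := Module.exists_basis_of_span_of_flat (R := Sp) (M := Mp)
    (fun t : Y => f (y t)) hv
  have : Finite κ := Module.Finite.finite_basis b₀
  have : Fintype κ := Fintype.ofFinite κ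
  let e := Fintype.equivFin κ
  let b := b₀.reindex e
  let a : Fin (Fintype.card κ) → Y := fun i => a₀ (e.symm i)
  have hb : ∀ i, b i = f (y (a i)) := by
    intro i
    rw [Module.Basis.reindex_apply, hb₀]
  -- dual functionals
  have hlift : ∀ j, ∃ (h : M →ₗ[S] S) (s : 𝔭.primeCompl),
      (Algebra.linearMap S Sp) ∘ₗ h = s • (((b.coord j).restrictScalars S) ∘ₗ f) := fun j =>
    Module.FinitePresentation.exists_lift_of_isLocalizedModule 𝔭.primeCompl
      (Algebra.linearMap S Sp) _
  choose h s hhs using hlift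
  -- common denominator
  let u : S := ∏ j, (s j : S)
  have hu : u ∉ 𝔭 := by
    intro hmem
    obtain ⟨j, -, hj⟩ := (Ideal.IsPrime.prod_mem_iff).mp hmem
    exact (s j).2 hj
  let β₀ : Fin (Fintype.card κ) → (M →ₗ[S] S) := fun j => (∏ l ∈ Finset.univ.erase j, (s l : S)) • h j
  have hβ₀ : ∀ j m, algebraMap S Sp (β₀ j m) = u • b.coord j (f m) := by
    intro j m
    have h1 := LinearMap.congr_fun (hhs j) m
    simp only [LinearMap.comp_apply, Algebra.linearMap_apply, LinearMap.smul_apply,
      LinearMap.restrictScalars_apply] at h1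
    change algebraMap S Sp ((∏ l ∈ Finset.univ.erase j, (s l : S)) • h j m) = _
    rw [smul_eq_mul, map_mul, h1, Submonoid.smul_def, ← Algebra.smul_def, smul_smul,
      Finset.prod_erase_mul _ _ (Finset.mem_univ j)]
  -- exactness on the chosen vectors
  have hex : ∀ i j, ∃ w : 𝔭.primeCompl, (w : S) * β₀ j (y (a i)) = w * (if i = j then u else 0) := by
    intro i j
    apply (IsLocalization.eq_iff_exists 𝔭.primeCompl Sp).mp
    rw [hβ₀, ← hb i, Module.Basis.coord_apply, Module.Basis.repr_self, Finsupp.single_apply]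
    split_ifs with hij
    · rw [Algebra.smul_def, mul_one]
    · rw [smul_zero, map_zero]
  choose w hw using hex
  let w₀ : S := ∏ i, ∏ j, (w i j : S)
  have hw₀ : w₀ ∉ 𝔭 := by
    intro hmem
    obtain ⟨i, -, hi⟩ := (Ideal.IsPrime.prod_mem_iff).mp hmem
    obtain ⟨j, -, hj⟩ := (Ideal.IsPrime.prod_mem_iff).mp hi
    exact (w i j).2 hj
  have hdiv : ∀ i j, ∃ c : S, w₀ = c * (w i j : S) := by
    intro i j
    refine ⟨(∏ i' ∈ Finset.univ.erase i, ∏ j', (w i' j' : S)) *
      ∏ j' ∈ Finset.univ.erase j, (w i j' : S), ?_⟩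
    rw [mul_assoc, Finset.prod_erase_mul _ _ (Finset.mem_univ j),
      Finset.prod_erase_mul _ (fun i' => ∏ j', (w i' j' : S)) (Finset.mem_univ i)]
  refine ⟨Fintype.card κ, a, fun j => w₀ • β₀ j, w₀ * u, ?_, ?_, ?_⟩
  · exact fun hmem => (Ideal.IsPrime.mem_or_mem ‹_› hmem).elim hw₀ hu
  · intro i j
    obtain ⟨c, hc⟩ := hdiv i j
    rw [LinearMap.smul_apply, smul_eq_mul, hc, mul_assoc, hw i j]
    split_ifs
    · ring
    · ring
  · intro m
    -- f m is a combination of the basis
    obtain ⟨t, ht⟩ := IsLocalization.exist_integer_multiples_of_finite 𝔭.primeCompl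
      (fun i => b.repr (f m) i)
    choose sc hsc using ht
    have h1 : f ((t : S) • m) = f (∑ i, sc i • y (a i)) := by
      rw [map_smul, map_sum]
      conv_lhs => rw [← b.sum_repr (f m), Finset.smul_sum]
      refine Finset.sum_congr rfl fun i _ => ?_
      rw [map_smul, ← hb i, ← algebraMap_smul Sp (sc i) (b i), hsc i, smul_assoc]
    obtain ⟨t', ht'⟩ := IsLocalizedModule.exists_of_eq (S := 𝔭.primeCompl) (f := f) h1
    refine ⟨(t' : S) * (t : S), fun hmem => (Ideal.IsPrime.mem_or_mem ‹_› hmem).elim t'.2 t.2, ?_⟩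
    rw [mul_smul]
    change t' • ((t : S) • m) ∈ _
    rw [ht']
    apply Submodule.smul_mem
    apply Submodule.sum_mem
    intro i _
    exact Submodule.smul_mem _ _ (Submodule.subset_span ⟨i, rfl⟩)

end localBasis


section nakayama

variable {R : Type u} [CommRing R] (J : Ideal R) {r : ℕ} (x : Fin r → R)

theorem genAt_mul_right {g : R} (g' : R) (h : GenAt J g x) : GenAt J (g * g') x := by
  intro y hy
  obtain ⟨N, hN⟩ := h y hy
  refine ⟨N, ?_⟩
  rw [mul_pow, mul_assoc, mul_comm (g' ^ N), ← mul_assoc]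
  exact Ideal.mul_mem_right _ _ hN

theorem genAt_mul_left {g : R} (g' : R) (h : GenAt J g x) : GenAt J (g' * g) x := by
  rw [mul_comm]
  exact genAt_mul_right J x g' h

theorem qrAt_mul_right {g : R} (g' : R) (h : QRAt J g x) : QRAt J (g * g') x := by
  intro n P hP hev d
  obtain ⟨N, hN⟩ := h n P hP hev d
  refine ⟨N, ?_⟩
  rw [mul_pow, mul_assoc, mul_comm (g' ^ N), ← mul_assoc]
  exact Ideal.mul_mem_right _ _ hN

theorem exists_genAt (hJ : J.FG) (P : Ideal R) [P.IsPrime] (hJP : J ≤ P) (v : R) (hvP : v ∉ P)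
    (hv : ∀ y ∈ J, v * y ∈ Ideal.span (Set.range x) ⊔ J * J) :
    ∃ g₂ : R, g₂ ∉ P ∧ GenAt J (v * g₂) x := by
  set R' := Localization.Away v
  set J' := J.map (algebraMap R R') with hJ'
  set X' := (Ideal.span (Set.range x)).map (algebraMap R R') with hX'
  have hunit : IsUnit (algebraMap R R' v) :=
    IsLocalization.map_units R' (⟨v, Submonoid.mem_powers v⟩ : Submonoid.powers v)
  have hle : J' ≤ X' ⊔ J' * J' := by
    rw [hJ', Ideal.map, Ideal.span_le]
    rintro _ ⟨y, hy, rfl⟩
    have h1 : algebraMap R R' (v * y) ∈ X' ⊔ J' * J' := by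
      have := Ideal.mem_map_of_mem (algebraMap R R') (hv y hy)
      rw [Ideal.map_sup, Ideal.map_mul] at this
      exact this
    rw [map_mul] at h1
    exact (Ideal.unit_mul_mem_iff_mem _ hunit).mp h1
  -- Nakayama on the image of J' in R'/X'
  let N : Submodule R' (R' ⧸ X') := Submodule.map X'.mkQ J'
  have hNfg : N.FG := Submodule.FG.map _ (Ideal.FG.map hJ _)
  have hNle : N ≤ J' • N := by
    rintro _ ⟨y', hy', rfl⟩
    obtain ⟨a, ha, t, ht, rfl⟩ := Submodule.mem_sup.mp (hle hy')
    have h0 : X'.mkQ a = 0 := by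
      rw [Submodule.mkQ_apply, Submodule.Quotient.mk_eq_zero]
      exact ha
    rw [map_add, h0, zero_add]
    have : J' • N = Submodule.map X'.mkQ (J' • J') := (Submodule.map_smul'' _ _ _).symm
    rw [this]
    exact Submodule.mem_map_of_mem ht
  obtain ⟨a', ha', hkill⟩ :=
    Submodule.exists_sub_one_mem_and_smul_eq_zero_of_fg_of_le_smul J' N hNfg hNle
  have hmul : ∀ y' ∈ J', a' * y' ∈ X' := by
    intro y' hy'
    have := hkill _ (Submodule.mem_map_of_mem (f := X'.mkQ) hy')
    rw [← map_smul, Submodule.mkQ_apply, Submodule.Quotient.mk_eq_zero, smul_eq_mul] at this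
    exact this
  obtain ⟨⟨j₀, ⟨_, k, rfl⟩⟩, hj₀⟩ :=
    (IsLocalization.mem_map_algebraMap_iff (Submonoid.powers v) R').mp ha'
  simp only at hj₀
  refine ⟨v ^ k + j₀, ?_, ?_⟩
  · intro hmem
    have h1 : v ^ k ∈ P := by
      have := P.sub_mem hmem (hJP j₀.2)
      rwa [add_sub_cancel_right] at this
    exact hvP (Ideal.IsPrime.mem_of_pow_mem ‹_› k h1)
  · intro y hy
    have h1 : algebraMap R R' ((v ^ k + j₀) * y) ∈ X' := by
      have h2 : algebraMap R R' ((v ^ k + (j₀ : R))) = a' * algebraMap R R' (v ^ k) := by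
        rw [map_add, ← hj₀]
        ring
      rw [map_mul, h2, mul_assoc, mul_left_comm]
      exact Ideal.mul_mem_left _ _ (hmul _ (Ideal.mem_map_of_mem _ hy))
    obtain ⟨N₁, hN₁⟩ := (mem_map_iff v _ _).mp h1
    refine ⟨N₁ + 1, ?_⟩
    generalize v ^ k + (j₀ : R) = g₂ at hN₁ ⊢
    have : (v * g₂) ^ (N₁ + 1) * y = (v * g₂ ^ N₁) * (v ^ N₁ * (g₂ * y)) := by ring
    rw [this]
    exact Ideal.mul_mem_left _ _ hN₁

end nakayama


section extract

variable {R : Type u} [CommRing R] (J : Ideal R) {r : ℕ} (x : Fin r → R) (hx : ∀ j, x j ∈ J)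
  (β : Fin r → (J.Cotangent →ₗ[R ⧸ J] (R ⧸ J))) (g₁ : R)
  (hβ : ∀ i j, β j (xb J x hx i) = if i = j then Ideal.Quotient.mk J g₁ else 0)
  (ι : Type u) [Fintype ι]

/-- `m ↦ ∑_j β_j(m) X_j`. -/
noncomputable def ell : J.Cotangent →ₗ[R] MvPolynomial (Fin r) (R ⧸ J) :=
  ∑ j, ((MvPolynomial.monomial (Finsupp.single j 1) :
    (R ⧸ J) →ₗ[R ⧸ J] MvPolynomial (Fin r) (R ⧸ J)).restrictScalars R) ∘ₗ
      ((β j).restrictScalars R)

theorem ell_apply (m : J.Cotangent) :
    ell J β m = ∑ j, MvPolynomial.monomial (Finsupp.single j 1) (β j m) := by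
  simp [ell]

include hβ in
theorem ell_xb (i : Fin r) :
    ell J β (xb J x hx i) = MvPolynomial.C (Ideal.Quotient.mk J g₁) * MvPolynomial.X i := by
  classical
  rw [ell_apply, Finset.sum_eq_single i]
  · rw [hβ, if_pos rfl, MvPolynomial.C_mul_X_eq_monomial]
  · intro j _ hj
    rw [hβ, if_neg (Ne.symm hj), map_zero]
  · intro h
    exact absurd (Finset.mem_univ i) h

/-- coefficient extraction on the symmetric power. -/
noncomputable def Lam : SymmetricPower R ι J.Cotangent →ₗ[R] MvPolynomial (Fin r) (R ⧸ J) :=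
  SymPow.lift ((MultilinearMap.mkPiAlgebra R ι (MvPolynomial (Fin r) (R ⧸ J))).compLinearMap
    (fun _ => ell J β)) (by
      intro e m
      simp only [MultilinearMap.compLinearMap_apply, MultilinearMap.mkPiAlgebra_apply]
      exact Equiv.prod_comp e (fun i => ell J β (m i)))

theorem Lam_tprod (m : ι → J.Cotangent) :
    Lam J β ι (SymmetricPower.tprod R m) = ∏ i, ell J β (m i) := by
  rw [Lam, SymPow.lift_tprod]
  simp only [MultilinearMap.compLinearMap_apply, MultilinearMap.mkPiAlgebra_apply]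

include hβ in
theorem Lam_T (d : D r ι) :
    Lam J β ι (T J x hx ι d) =
      MvPolynomial.monomial (toF ι d) (Ideal.Quotient.mk J g₁ ^ Fintype.card ι) := by
  rw [T, Lam_tprod]
  simp only [ell_xb J x hx β g₁ hβ]
  rw [Finset.prod_mul_distrib, Finset.prod_const, Finset.card_univ,
    DiffSmoothOfOps.prod_comp_cnt (rep ι d) (fun c => (MvPolynomial.X c : MvPolynomial (Fin r) (R ⧸ J))),
    cnt_rep, ← map_pow, MvPolynomial.monomial_eq, Finsupp.prod_fintype _ _ (fun i => pow_zero _)]
  rfl


/-- `T` extended by zero to all exponent vectors. -/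
noncomputable def T' (e : Fin r →₀ ℕ) : SymmetricPower R ι J.Cotangent :=
  if h : ∑ i, e i = Fintype.card ι then T J x hx ι ⟨e, h⟩ else 0

theorem T'_eq (e : Fin r →₀ ℕ) (h : ∑ i, e i = Fintype.card ι) :
    T' J x hx ι e = T J x hx ι ⟨e, h⟩ := by
  rw [T', dif_pos h]

theorem toF_mk (e : Fin r →₀ ℕ) (h : ∑ i, e i = Fintype.card ι) :
    toF ι (⟨e, h⟩ : D r ι) = e := by
  ext c
  rfl

include hβ in
theorem qr_of_injective [Nonempty ι] (hinj : Function.Injective (psi R J ι))
    (P : MvPolynomial (Fin r) R) (hP : P.IsHomogeneous (Fintype.card ι))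
    (hev : MvPolynomial.eval x P ∈ J ^ (Fintype.card ι + 1)) (d : Fin r →₀ ℕ) :
    g₁ ^ Fintype.card ι * P.coeff d ∈ J := by
  classical
  have hdeg : ∀ e ∈ P.support, ∑ i, e i = Fintype.card ι := by
    intro e he
    by_contra hne
    apply MvPolynomial.mem_support_iff.mp he
    apply hP.coeff_eq_zero
    rwa [Finsupp.degree_eq_sum]
  set w : SymmetricPower R ι J.Cotangent := ∑ e ∈ P.support, P.coeff e • T' J x hx ι e with hw
  have hψ : psi R J ι w = 0 := by
    apply jJ_injective R J
    rw [map_zero, hw, map_sum, map_sum]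
    have h1 : ∀ e ∈ P.support, jJ R J (Fintype.card ι) (psi R J ι (P.coeff e • T' J x hx ι e)) =
        (J ^ (Fintype.card ι + 1)).mkQ (P.coeff e * ∏ c, x c ^ e c) := by
      intro e he
      rw [map_smul, map_smul, T'_eq J x hx ι e (hdeg e he), psi_T]
      rfl
    rw [Finset.sum_congr rfl h1, ← map_sum, Submodule.mkQ_apply, Submodule.Quotient.mk_eq_zero,
      ← MvPolynomial.eval_eq']
    exact hev
  have hw0 : w = 0 := hinj (by rw [hψ, map_zero])
  by_cases hd : d ∈ P.support
  · have h2 := congrArg (Lam J β ι) hw0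
    rw [map_zero, hw, map_sum] at h2
    have h3 : ∀ e ∈ P.support, Lam J β ι (P.coeff e • T' J x hx ι e) =
        MvPolynomial.monomial e (Ideal.Quotient.mk J (P.coeff e * g₁ ^ Fintype.card ι)) := by
      intro e he
      rw [map_smul, T'_eq J x hx ι e (hdeg e he), Lam_T J x hx β g₁ hβ, toF_mk,
        MvPolynomial.smul_monomial, map_mul, map_pow]
      rfl
    rw [Finset.sum_congr rfl h3] at h2
    have h4 := congrArg (MvPolynomial.coeff d) h2
    rw [MvPolynomial.coeff_sum, MvPolynomial.coeff_zero] at h4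
    simp only [MvPolynomial.coeff_monomial] at h4
    rw [Finset.sum_eq_single d] at h4
    · rw [if_pos rfl, Ideal.Quotient.eq_zero_iff_mem] at h4
      rw [mul_comm]
      exact h4
    · intro e _ hed
      rw [if_neg hed]
    · intro h
      exact absurd hd h
  · rw [MvPolynomial.notMem_support_iff.mp hd, mul_zero]
    exact Ideal.zero_mem _

end extract


section backward

variable {R : Type u} [CommRing R] (J : Ideal R)

theorem psi_injective_of_symGrBijective (hsym : SymGrBijective R J) (ι : Type u) [Fintype ι]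
    [Nonempty ι] : Function.Injective (psi R J ι) := by
  obtain ⟨φ, hφ, hφb⟩ := hsym ι
  have : φ = psi R J ι := by
    apply DiffSmoothBC.sym_hom_ext_of_span (Set.range J.toCotangent)
    · rw [Function.Surjective.range_eq J.toCotangent_surjective, Submodule.span_univ]
    · intro m hm
      choose y hy using hm
      obtain rfl : m = fun i => J.toCotangent (y i) := funext fun i => (hy i).symm
      rw [hφ, psi_tprod]
  rw [← this]
  exact hφb.1

theorem qrAt_of_dual {r : ℕ} (x : Fin r → R) (hx : ∀ j, x j ∈ J)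
    (β : Fin r → (J.Cotangent →ₗ[R ⧸ J] (R ⧸ J))) (g₁ : R)
    (hβ : ∀ i j, β j (xb J x hx i) = if i = j then Ideal.Quotient.mk J g₁ else 0)
    (hsym : SymGrBijective R J) : QRAt J g₁ x := by
  classical
  intro n P hP hev d
  rcases Nat.eq_zero_or_pos n with rfl | hn
  · refine ⟨0, ?_⟩
    rw [pow_zero, one_mul]
    by_cases hd : d = 0
    · subst hd
      rw [zero_add, pow_one, MvPolynomial.eval_eq'] at hev
      rw [Finset.sum_eq_single (0 : Fin r →₀ ℕ)] at hev
      · simpa using hev
      · intro b _ hb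
        rw [hP.coeff_eq_zero, zero_mul]
        intro h
        exact hb ((Finsupp.degree_eq_zero_iff b).mp h)
      · intro h
        rw [MvPolynomial.notMem_support_iff.mp h, zero_mul]
    · rw [hP.coeff_eq_zero]
      · exact Ideal.zero_mem _
      · intro h
        exact hd ((Finsupp.degree_eq_zero_iff d).mp h)
  · have hne : Nonempty (ULift.{u} (Fin n)) := ⟨⟨⟨0, hn⟩⟩⟩
    have hcard : Fintype.card (ULift.{u} (Fin n)) = n := by simp
    refine ⟨n, ?_⟩
    have := qr_of_injective J x hx β g₁ hβ (ULift.{u} (Fin n))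
      (psi_injective_of_symGrBijective J hsym _) P (by rw [hcard]; exact hP)
      (by rw [hcard]; exact hev) d
    rwa [hcard] at this


theorem isLocallyQuasiRegular_of (hJ : J.FG) (hproj : Module.Projective (R ⧸ J) J.Cotangent)
    (hsym : SymGrBijective R J) : IsLocallyQuasiRegular R J := by
  classical
  intro P hP hJP
  have hfinR : Module.Finite R ↥J := Module.Finite.iff_fg.mpr hJ
  have hfinRM : Module.Finite R J.Cotangent :=
    Module.Finite.of_surjective J.toCotangent J.toCotangent_surjective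
  have hfin : Module.Finite (R ⧸ J) J.Cotangent := Module.Finite.of_restrictScalars_finite R _ _
  set 𝔭 : Ideal (R ⧸ J) := P.map (Ideal.Quotient.mk J) with h𝔭
  have h𝔭prime : 𝔭.IsPrime :=
    Ideal.map_isPrime_of_surjective Ideal.Quotient.mk_surjective (by rwa [Ideal.mk_ker])
  have hmem𝔭 : ∀ v : R, Ideal.Quotient.mk J v ∈ 𝔭 → v ∈ P := by
    intro v hv
    have h1 : v ∈ (P.map (Ideal.Quotient.mk J)).comap (Ideal.Quotient.mk J) := hv
    rw [Ideal.comap_map_of_surjective _ Ideal.Quotient.mk_surjective, ← RingHom.ker_eq_comap_bot,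
      Ideal.mk_ker, sup_eq_left.mpr hJP] at h1
    exact h1
  have hspanY : Submodule.span (R ⧸ J) (Set.range fun y : ↥J => J.toCotangent y) = ⊤ := by
    rw [Function.Surjective.range_eq J.toCotangent_surjective, Submodule.span_univ]
  obtain ⟨r, a, β, w, hw, hβ, hgen⟩ := exists_dual_family 𝔭 (fun y : ↥J => J.toCotangent y) hspanY
  obtain ⟨g₁, rfl⟩ := Ideal.Quotient.mk_surjective w
  have hg₁ : g₁ ∉ P := fun h => hw (Ideal.mem_map_of_mem _ h)
  set x : Fin r → R := fun j => (a j : R) with hxdef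
  have hx : ∀ j, x j ∈ J := fun j => (a j).2
  have hxb : ∀ j, xb J x hx j = J.toCotangent (a j) := fun j => rfl
  have hQ : QRAt J g₁ x := qrAt_of_dual J x hx β g₁ (fun i j => by rw [hxb]; exact hβ i j) hsym
  -- generation modulo J²
  have hz : ∀ z ∈ J, ∃ v : R, v ∉ P ∧ v * z ∈ Ideal.span (Set.range x) ⊔ J * J := by
    intro z hzJ
    obtain ⟨u, hu, hmem⟩ := hgen (J.toCotangent ⟨z, hzJ⟩)
    obtain ⟨v, rfl⟩ := Ideal.Quotient.mk_surjective u
    refine ⟨v, fun h => hu (Ideal.mem_map_of_mem _ h), ?_⟩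
    obtain ⟨c, hc⟩ := (Submodule.mem_span_range_iff_exists_fun _).mp hmem
    choose c' hc' using fun j => Ideal.Quotient.mk_surjective (c j)
    have h1 : J.toCotangent (v • (⟨z, hzJ⟩ : ↥J) - ∑ j, c' j • a j) = 0 := by
      rw [map_sub, map_smul, map_sum, sub_eq_zero]
      have e1 : v • J.toCotangent ⟨z, hzJ⟩ = Ideal.Quotient.mk J v • J.toCotangent ⟨z, hzJ⟩ :=
        (algebraMap_smul (R ⧸ J) v (J.toCotangent ⟨z, hzJ⟩)).symm
      rw [e1, ← hc]
      refine Finset.sum_congr rfl fun j _ => ?_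
      rw [map_smul, ← hc' j]
      exact (algebraMap_smul (R ⧸ J) (c' j) (J.toCotangent (a j)))
    rw [Ideal.toCotangent_eq_zero] at h1
    simp only [Submodule.coe_sub, Submodule.coe_smul, Submodule.coe_sum, smul_eq_mul] at h1
    have h2 : v * z = ∑ j, c' j * x j + (v * z - ∑ j, c' j * (a j : R)) := by
      simp only [hxdef]
      ring
    rw [h2]
    apply Ideal.add_mem
    · apply Ideal.mem_sup_left
      apply Ideal.sum_mem
      intro j _
      exact Ideal.mul_mem_left _ _ (Ideal.subset_span ⟨j, rfl⟩)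
    · apply Ideal.mem_sup_right
      rw [← pow_two]
      exact h1
  obtain ⟨Z, hZ⟩ := hJ
  have hZJ : ∀ z ∈ Z, z ∈ J := fun z hz' => hZ ▸ Ideal.subset_span hz'
  choose! vz hvz using hz
  set v : R := ∏ z ∈ Z, vz z with hv
  have hvP : v ∉ P := by
    intro hmem
    obtain ⟨z, hzZ, hz'⟩ := (Ideal.IsPrime.prod_mem_iff).mp hmem
    exact (hvz z (hZJ z hzZ)).1 hz'
  have hvJ : ∀ y ∈ J, v * y ∈ Ideal.span (Set.range x) ⊔ J * J := by
    intro y hy
    rw [← hZ] at hy
    change y ∈ Submodule.span R (Z : Set R) at hy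
    induction hy using Submodule.span_induction with
    | mem z hzZ =>
      rw [hv, ← Finset.mul_prod_erase Z vz hzZ, mul_right_comm]
      exact Ideal.mul_mem_right _ _ (hvz z (hZJ z hzZ)).2
    | zero => rw [mul_zero]; exact Ideal.zero_mem _
    | add a b _ _ ha hb => rw [mul_add]; exact Ideal.add_mem _ ha hb
    | smul c a _ ha => rw [smul_eq_mul, mul_left_comm]; exact Ideal.mul_mem_left _ _ ha
  obtain ⟨g₂, hg₂, hG⟩ := exists_genAt J x ⟨Z, hZ⟩ P hJP v hvP hvJ
  have hL : LocData J (g₁ * (v * g₂)) x :=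
    locData_of hx (genAt_mul_left J x g₁ hG) (qrAt_mul_right J x (v * g₂) hQ)
  refine ⟨g₁ * (v * g₂), ?_, r, fun j => algebraMap R _ (x j), hL.2.1, hL.2.2⟩
  intro hmem
  rcases Ideal.IsPrime.mem_or_mem hP hmem with h | h
  · exact hg₁ h
  · rcases Ideal.IsPrime.mem_or_mem hP h with h | h
    · exact hvP h
    · exact hg₂ h

end backward

end Groth.Agent.Lib.Helper70.QReg5
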