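import Groth.Agent.Lib.Helper70.QReg5
import Groth.Agent.Lib.Helper70.DiffSmoothFF

set_option autoImplicit false
set_option linter.unusedSectionVars false
universe u v w
open scoped TensorProduct Pointwise

namespace Groth.Agent.Lib.Helper70.QReg6

open Groth.Agent.Lib.Helper70 Groth.Agent.Lib.Helper70.QReg1 Groth.Agent.Lib.Helper70.QReg2
  Groth.Agent.Lib.Helper70.QReg3 Groth.Agent.Lib.Helper70.DiffSmoothBC
open Groth.Agent.Lib.Helper23 (gen gen_mem)
open PP16

section symChange

variable (S R : Type u) [CommRing S] [CommRing R] [Algebra S R] (ι : Type u) [Fintype ι]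
variable {M : Type v} [AddCommGroup M] [Module S M] {M' : Type w} [AddCommGroup M'] [Module R M']
  [Module S M'] [IsScalarTower S R M']

attribute [local instance] DiffSmoothFF.modB DiffSmoothFF.isScalarTower_modB

theorem comp_update' {α : Type*} {β : Type*} {γ : Type*} [DecidableEq α] (f : β → γ) (g : α → β)
    (i : α) (v : β) :
    (fun j => f (Function.update g i v j)) = Function.update (fun k => f (g k)) i (f v) := by
  funext j
  exact Function.apply_update (fun _ => f) g i v j

theorem smul_tprod_eq [Nonempty ι] (hact : ∀ (r : R) (x : M'), ∃ s : S, r • x = s • x) (r : R)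
    (y : ι → M') :
    ∃ s : S, r • SymmetricPower.tprod R y = algebraMap S R s • SymmetricPower.tprod R y := by
  classical
  obtain ⟨i0⟩ := ‹Nonempty ι›
  obtain ⟨s, hs⟩ := hact r (y i0)
  refine ⟨s, ?_⟩
  have h1 := (SymmetricPower.tprod R (ι := ι) (M := M')).map_update_smul y i0 r (y i0)
  have h2 := (SymmetricPower.tprod R (ι := ι) (M := M')).map_update_smul y i0 (algebraMap S R s) (y i0)
  rw [Function.update_eq_self] at h1 h2
  rw [← h1, ← h2, hs, algebraMap_smul]

theorem cG_surjective [Nonempty ι] (m : M →ₗ[S] M') (hm : Function.Surjective m)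
    (hact : ∀ (r : R) (x : M'), ∃ s : S, r • x = s • x) :
    Function.Surjective (DiffSmoothFF.cG S R ι m) := by
  intro z
  have hz : z ∈ Submodule.span R (Set.range (SymmetricPower.tprod R (ι := ι) (M := M'))) := by
    rw [SymmetricPower.span_tprod_eq_top]; exact Submodule.mem_top
  induction hz using Submodule.closure_induction with
  | zero => exact ⟨0, map_zero _⟩
  | add x y _ _ hx hy =>
    obtain ⟨a, rfl⟩ := hx
    obtain ⟨b, rfl⟩ := hy
    exact ⟨a + b, map_add _ _ _⟩
  | smul_mem r x hx =>
    obtain ⟨y, rfl⟩ := hx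
    obtain ⟨s, hs⟩ := smul_tprod_eq S R ι hact r y
    choose x hx using fun i => hm (y i)
    refine ⟨s • SymmetricPower.tprod S x, ?_⟩
    rw [DiffSmoothFF.cG_smul, DiffSmoothFF.cG_tprod, hs]
    congr 2
    exact funext hx

theorem cG_injective (π : R →+* S) (hπ : ∀ s, π (algebraMap S R s) = s) (e : M ≃ₗ[S] M')
    (hact : ∀ (r : R) (x : M'), r • x = π r • x) :
    Function.Injective (DiffSmoothFF.cG S R ι (e : M →ₗ[S] M')) := by
  classical
  let _ : Module R (SymmetricPower S ι M) := Module.compHom _ π
  have hsm : ∀ (r : R) (z : SymmetricPower S ι M), r • z = π r • z := fun _ _ => rfl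
  let g : MultilinearMap R (fun _ : ι => M') (SymmetricPower S ι M) :=
    { toFun := fun y => SymmetricPower.tprod S (fun i => e.symm (y i))
      map_update_add' := by
        intro _ y i a b
        rw [comp_update', comp_update', comp_update', map_add, MultilinearMap.map_update_add]
      map_update_smul' := by
        intro _ y i r a
        rw [comp_update', comp_update', hact, map_smul, MultilinearMap.map_update_smul, hsm] }
  have hg : ∀ (σ : Equiv.Perm ι) (f : ι → M'), g (fun i => f (σ i)) = g f := by
    intro σ f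
    exact SymmetricPower.tprod_equiv σ (fun i => e.symm (f i))
  have hd : ∀ y, SymPow.lift g hg (DiffSmoothFF.cG S R ι (e : M →ₗ[S] M') y) = y := by
    intro y
    have hy : y ∈ Submodule.span S (Set.range (SymmetricPower.tprod S (ι := ι) (M := M))) := by
      rw [SymmetricPower.span_tprod_eq_top]; exact Submodule.mem_top
    induction hy using Submodule.span_induction with
    | mem y hy =>
      obtain ⟨x, rfl⟩ := hy
      rw [DiffSmoothFF.cG_tprod, SymPow.lift_tprod]
      change SymmetricPower.tprod S (fun i => e.symm (e (x i))) = _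
      simp only [LinearEquiv.symm_apply_apply]
    | zero => simp only [map_zero]
    | add a b _ _ ha hb => rw [map_add, map_add, ha, hb]
    | smul s a _ ha => rw [DiffSmoothFF.cG_smul, map_smul, ha, hsm, hπ]
  intro a b hab
  rw [← hd a, ← hd b, hab]

end symChange

variable (A B : Type u) [CommRing A] [CommRing B] [Algebra A B]

local notation "TT" => B ⊗[A] B
local notation "II" => KaehlerDifferential.ideal A B

section ringEquiv

attribute [local instance] RingHomInvPair.of_ringEquiv RingHomInvPair.of_ringEquiv_symm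

theorem sub_lmul_mem (t : TT) : t - (Algebra.TensorProduct.lmul' A t) ⊗ₜ[A] (1 : B) ∈ II := by
  change Algebra.TensorProduct.lmul' A _ = 0
  rw [map_sub, Algebra.TensorProduct.lmul'_apply_tmul, mul_one, sub_self]

/-- `B → (B ⊗ B)/I`. -/
noncomputable def toQuot : B →+* TT ⧸ II :=
  (Ideal.Quotient.mk II).comp (Algebra.TensorProduct.includeLeft : B →ₐ[A] TT).toRingHom

theorem toQuot_apply (b : B) : toQuot A B b = Ideal.Quotient.mk II (b ⊗ₜ[A] (1 : B)) := rfl

theorem toQuot_bijective : Function.Bijective (toQuot A B) := by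
  constructor
  · rw [injective_iff_map_eq_zero]
    intro b hb
    rw [toQuot_apply, Ideal.Quotient.eq_zero_iff_mem] at hb
    have : Algebra.TensorProduct.lmul' A (b ⊗ₜ[A] (1 : B)) = 0 := hb
    rwa [Algebra.TensorProduct.lmul'_apply_tmul, mul_one] at this
  · intro q
    obtain ⟨t, rfl⟩ := Ideal.Quotient.mk_surjective q
    refine ⟨Algebra.TensorProduct.lmul' A t, ?_⟩
    rw [toQuot_apply, eq_comm, Ideal.Quotient.mk_eq_mk_iff_sub_mem]
    exact sub_lmul_mem A B t

/-- the ring isomorphism `B ≃ (B ⊗ B)/I`. -/
noncomputable def quotEquiv : B ≃+* TT ⧸ II := RingEquiv.ofBijective (toQuot A B) (toQuot_bijective A B)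

/-- identity `Ω → I/I²` as a `B`-linear equivalence. -/
noncomputable def idEquiv : KaehlerDifferential A B ≃ₗ[B] (KaehlerDifferential.ideal A B).Cotangent where
  toFun ω := ω
  invFun ω := ω
  map_add' _ _ := rfl
  map_smul' _ _ := rfl
  left_inv _ := rfl
  right_inv _ := rfl

theorem smul_cot (b : B) (ω : (KaehlerDifferential.ideal A B).Cotangent) :
    (quotEquiv A B b) • ω = b • ω := by
  change (Ideal.Quotient.mk II (b ⊗ₜ[A] (1 : B))) • ω = _
  rw [← algebraMap_smul TT b ω]
  exact (algebraMap_smul (TT ⧸ II) (b ⊗ₜ[A] (1 : B) : TT) ω)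

/-- identity `Ω → I/I²`, semilinear over `B ≃ (B ⊗ B)/I`. -/
noncomputable def cotEquiv :
    KaehlerDifferential A B ≃ₛₗ[(quotEquiv A B : B →+* TT ⧸ II)] (KaehlerDifferential.ideal A B).Cotangent where
  toFun ω := idEquiv A B ω
  invFun ω := (idEquiv A B).symm ω
  map_add' _ _ := rfl
  map_smul' b ω := by
    change idEquiv A B (b • ω) = (quotEquiv A B b) • idEquiv A B ω
    rw [smul_cot, map_smul]
  left_inv _ := rfl
  right_inv _ := rfl

theorem projective_iff :
    Module.Projective B (KaehlerDifferential A B) ↔ Module.Projective (TT ⧸ II) (KaehlerDifferential.ideal A B).Cotangent := by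
  constructor
  · intro h
    exact Module.Projective.of_equiv (cotEquiv A B)
  · intro h
    exact Module.Projective.of_equiv (cotEquiv A B).symm

end ringEquiv

section key

attribute [local instance] DiffSmoothFF.modB DiffSmoothFF.isScalarTower_modB

theorem hact (t : TT) (x : (KaehlerDifferential.ideal A B).Cotangent) :
    t • x = (Algebra.TensorProduct.lmul' A t : B) • x := by
  have h := Ideal.Cotangent.smul_eq_zero_of_mem (sub_lmul_mem A B t) x
  rw [sub_smul, sub_eq_zero] at h
  rw [h, ← algebraMap_smul TT (Algebra.TensorProduct.lmul' A t : B) x]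
  rfl

theorem hπ (b : B) : Algebra.TensorProduct.lmul' A (algebraMap B TT b) = b := by
  change Algebra.TensorProduct.lmul' A (b ⊗ₜ[A] (1 : B)) = b
  rw [Algebra.TensorProduct.lmul'_apply_tmul, mul_one]

variable (ι : Type u) [Fintype ι]

/-- the comparison `Sym_B Ω → Sym_{B ⊗ B} (I/I²)`. -/
noncomputable def cc : SymmetricPower B ι (KaehlerDifferential A B) →ₗ[B]
    SymmetricPower TT ι (KaehlerDifferential.ideal A B).Cotangent :=
  DiffSmoothFF.cG B TT ι ((idEquiv A B : KaehlerDifferential A B ≃ₗ[B] (KaehlerDifferential.ideal A B).Cotangent) :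
    KaehlerDifferential A B →ₗ[B] (KaehlerDifferential.ideal A B).Cotangent)

theorem cc_injective : Function.Injective (cc A B ι) :=
  cG_injective B TT ι (Algebra.TensorProduct.lmul' A : TT →ₐ[A] B).toRingHom (hπ A B) (idEquiv A B)
    (hact A B)

theorem cc_surjective [Nonempty ι] : Function.Surjective (cc A B ι) :=
  cG_surjective B TT ι _ (idEquiv A B).surjective (fun t x => ⟨_, hact A B t x⟩)

theorem key (φ : SymmetricPower B ι (KaehlerDifferential A B) →ₗ[B] grI A B (Fintype.card ι))
    (hφ : ∀ b : ι → B, φ (SymmetricPower.tprod B (fun i => KaehlerDifferential.D A B (b i))) =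
      zetaProd A B b) (y : SymmetricPower B ι (KaehlerDifferential A B)) :
    jJ TT II (Fintype.card ι) (psi TT II ι (cc A B ι y)) = jN A B (Fintype.card ι) (φ y) := by
  have hy : y ∈ Submodule.span B {y | ∃ m : ι → KaehlerDifferential A B,
      (∀ i, m i ∈ Set.range (KaehlerDifferential.D A B)) ∧ SymmetricPower.tprod B m = y} := by
    rw [DiffSmoothFF.span_tprod_of_span _ (KaehlerDifferential.span_range_derivation A B)]
    exact Submodule.mem_top
  induction hy using Submodule.span_induction with
  | mem y hy =>
    obtain ⟨m, hm, rfl⟩ := hy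
    choose b hb using hm
    obtain rfl : m = fun i => KaehlerDifferential.D A B (b i) := funext fun i => (hb i).symm
    rw [cc, DiffSmoothFF.cG_tprod, hφ, jN_zetaProd]
    have : (fun i => ((idEquiv A B : KaehlerDifferential A B ≃ₗ[B] (KaehlerDifferential.ideal A B).Cotangent) :
        KaehlerDifferential A B →ₗ[B] (KaehlerDifferential.ideal A B).Cotangent) (KaehlerDifferential.D A B (b i))) =
        fun i => (KaehlerDifferential.ideal A B).toCotangent ⟨gen A (b i), gen_mem (b i)⟩ := rfl
    rw [this, psi_tprod, jJ_zetaJ]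
    rfl
  | zero => simp only [map_zero]
  | add y z _ _ hy hz => simp only [map_add, hy, hz]
  | smul b y _ hy =>
    rw [cc, DiffSmoothFF.cG_smul, map_smul, map_smul, ← cc, hy, map_smul, map_smul, algebraMap_smul]

end key

section main

theorem forward [Algebra.FiniteType A B] (h : IsDiffSmooth A B) :
    IsLocallyQuasiRegular TT II := by
  apply QReg5.isLocallyQuasiRegular_of II (KaehlerDifferential.ideal_fg A B)
    ((projective_iff A B).1 h.1)
  intro ι _ _
  obtain ⟨φ, hφ, hφb⟩ := h.2 ι
  refine ⟨psi TT II ι, psi_tprod TT II ι, ?_, psi_surjective TT II ι⟩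
  rw [injective_iff_map_eq_zero]
  intro z hz
  obtain ⟨y, rfl⟩ := cc_surjective A B ι z
  have hk := key A B ι φ hφ y
  rw [hz, map_zero] at hk
  have h0 : φ y = 0 := jN_injective A B _ (hk.symm.trans (map_zero _).symm)
  rw [hφb.injective (h0.trans (map_zero φ).symm), map_zero]

theorem backward (h : IsLocallyQuasiRegular TT II) : IsDiffSmooth A B := by
  have hproj : Module.Projective B (KaehlerDifferential A B) :=
    (projective_iff A B).2 (QReg4.projective_cotangent_of_isLocallyQuasiRegular II h)
  obtain ⟨L, hL⟩ := CanonSym.exists_section A B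
  refine ⟨hproj, fun ι _ => ⟨CanonSym.phi A B L ι, CanonSym.phi_D A B L hL ι, ?_,
    CanonSym.phi_surjective A B L hL ι⟩⟩
  rw [injective_iff_map_eq_zero]
  intro y hy
  rcases isEmpty_or_nonempty ι with hι | hι
  · have hy' : y ∈ Submodule.span B (Set.range (SymmetricPower.tprod B (ι := ι)
        (M := KaehlerDifferential A B))) := by
      rw [SymmetricPower.span_tprod_eq_top]; exact Submodule.mem_top
    have hsub : Set.range (SymmetricPower.tprod B (ι := ι) (M := KaehlerDifferential A B)) =
        {SymmetricPower.tprod B (fun i => KaehlerDifferential.D A B ((fun _ => 0 : ι → B) i))} := by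
      ext z
      simp only [Set.mem_range, Set.mem_singleton_iff]
      constructor
      · rintro ⟨m, rfl⟩
        congr 1
        exact Subsingleton.elim _ _
      · rintro rfl
        exact ⟨_, rfl⟩
    rw [hsub, Submodule.mem_span_singleton] at hy'
    obtain ⟨b, rfl⟩ := hy'
    rw [map_smul, CanonSym.phi_D A B L hL ι] at hy
    have h1 := congrArg (jN A B (Fintype.card ι)) hy
    rw [map_smul, jN_zetaProd, map_zero, Finset.univ_eq_empty, Finset.prod_empty] at h1
    have h2 : (b ⊗ₜ[A] (1 : B) : TT) ∈ II ^ (Fintype.card ι + 1) := by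
      rw [← Ideal.Quotient.eq_zero_iff_mem]
      rw [← h1, Algebra.smul_def, map_one, mul_one]
      rfl
    rw [Fintype.card_eq_zero, zero_add, pow_one] at h2
    have h3 : Algebra.TensorProduct.lmul' A (b ⊗ₜ[A] (1 : B)) = 0 := h2
    rw [Algebra.TensorProduct.lmul'_apply_tmul, mul_one] at h3
    rw [h3, zero_smul]
  · have hk := key A B ι (CanonSym.phi A B L ι) (CanonSym.phi_D A B L hL ι) y
    rw [hy, map_zero] at hk
    have h0 : psi TT II ι (cc A B ι y) = 0 := jJ_injective TT II _ (hk.trans (map_zero _).symm)
    have h1 : cc A B ι y = 0 :=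
      QReg3.psi_injective_of_isLocallyQuasiRegular II h ι (h0.trans (map_zero _).symm)
    exact cc_injective A B ι (h1.trans (map_zero _).symm)

end main

end Groth.Agent.Lib.Helper70.QReg6
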