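import Groth.Agent.Lib.Helper56.FibreRegular
import Groth.Agent.Lib.Helper77.FlatDepth2
import Groth.Agent.Lib.Helper67.FlatDepth12
import Groth.Agent.Lib.Helper77.MiracleFlat
import Groth.Agent.Lib.Helper77.RegularCM
import Groth.Agent.S0565

set_option autoImplicit false
set_option linter.unusedSectionVars false
set_option linter.style.haveILetI false
universe u

namespace Groth.Agent.Lib.Helper70.RegFlatTFAE

open IsLocalRing

theorem exists_nat_dim (R : Type u) [CommRing R] [IsLocalRing R] [IsNoetherianRing R] :
    ∃ d : ℕ, ringKrullDim R = d := by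
  have hd' : ringKrullDim R ≠ ⊥ := ringKrullDim_ne_bot
  have hd'' : ringKrullDim R ≠ ⊤ := ringKrullDim_ne_top
  cases h : ringKrullDim R with
  | bot => exact absurd h hd'
  | coe a =>
    cases a with
    | top => exact absurd h hd''
    | coe n => exact ⟨n, rfl⟩

section

variable {A B : Type u} [CommRing A] [IsLocalRing A] [IsNoetherianRing A] [CommRing B]
  [IsLocalRing B] [IsNoetherianRing B] [Algebra A B] [IsLocalHom (algebraMap A B)]
  [IsLocalRing (B ⧸ (maximalIdeal A).map (algebraMap A B))]

theorem tfae :
    [IsRegularLocalRing B ∧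
       Module.finrank (ResidueField B) (CotangentSpace B) =
         Module.finrank (ResidueField A) (CotangentSpace A) +
           Module.finrank (ResidueField (B ⧸ (maximalIdeal A).map (algebraMap A B)))
             (CotangentSpace (B ⧸ (maximalIdeal A).map (algebraMap A B))),
     IsRegularLocalRing B ∧ IsRegularLocalRing (B ⧸ (maximalIdeal A).map (algebraMap A B)) ∧
       Module.Flat A B,
     IsRegularLocalRing A ∧ IsRegularLocalRing (B ⧸ (maximalIdeal A).map (algebraMap A B)) ∧
       Module.Flat A B,
     IsRegularLocalRing A ∧ IsRegularLocalRing (B ⧸ (maximalIdeal A).map (algebraMap A B)) ∧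
       ringKrullDim B = ringKrullDim A +
         ringKrullDim (B ⧸ (maximalIdeal A).map (algebraMap A B))].TFAE := by
  set B₀ := B ⧸ (maximalIdeal A).map (algebraMap A B) with hB₀
  obtain ⟨dA, hdA⟩ := exists_nat_dim A
  obtain ⟨dB, hdB⟩ := exists_nat_dim B
  obtain ⟨d0, hd0⟩ := exists_nat_dim B₀
  -- embedding dimensions
  set eA := (maximalIdeal A).spanFinrank with heA
  set eB := (maximalIdeal B).spanFinrank with heB
  set e0 := (maximalIdeal B₀).spanFinrank with he0
  have hcA : Module.finrank (ResidueField A) (CotangentSpace A) = eA :=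
    (spanFinrank_maximalIdeal_eq_finrank_cotangentSpace (R := A)).symm
  have hcB : Module.finrank (ResidueField B) (CotangentSpace B) = eB :=
    (spanFinrank_maximalIdeal_eq_finrank_cotangentSpace (R := B)).symm
  have hc0 : Module.finrank (ResidueField B₀) (CotangentSpace B₀) = e0 :=
    (spanFinrank_maximalIdeal_eq_finrank_cotangentSpace (R := B₀)).symm
  have hleA : dA ≤ eA := by
    have := ringKrullDim_le_spanFinrank_maximalIdeal A
    rw [hdA] at this
    exact_mod_cast this
  have hleB : dB ≤ eB := by
    have := ringKrullDim_le_spanFinrank_maximalIdeal B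
    rw [hdB] at this
    exact_mod_cast this
  have hle0 : d0 ≤ e0 := by
    have := ringKrullDim_le_spanFinrank_maximalIdeal B₀
    rw [hd0] at this
    exact_mod_cast this
  have hregA : IsRegularLocalRing A ↔ eA = dA := by
    rw [isRegularLocalRing_iff, hdA]
    exact_mod_cast Iff.rfl
  have hregB : IsRegularLocalRing B ↔ eB = dB := by
    rw [isRegularLocalRing_iff, hdB]
    exact_mod_cast Iff.rfl
  have hreg0 : IsRegularLocalRing B₀ ↔ e0 = d0 := by
    rw [isRegularLocalRing_iff, hd0]
    exact_mod_cast Iff.rfl
  -- general inequalities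
  have hE : eB ≤ eA + e0 := by
    have hIle : (maximalIdeal A).map (algebraMap A B) ≤ maximalIdeal B :=
      IsLocalRing.map_maximalIdeal_le (algebraMap A B)
    have h1 := Groth.Agent.Lib.Helper56.spanFinrank_le_add_of_le
      ((maximalIdeal A).map (algebraMap A B)) (maximalIdeal B) hIle
      (IsNoetherian.noetherian _) (IsNoetherian.noetherian _)
    rw [Groth.Agent.Lib.Helper56.map_quotientMk_maximalIdeal] at h1
    have h2 : ((maximalIdeal A).map (algebraMap A B)).spanFinrank ≤ eA :=
      Ideal.spanFinrank_map_le_of_fg _ (IsNoetherian.noetherian _)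
    have h1' : eB ≤ ((maximalIdeal A).map (algebraMap A B)).spanFinrank + e0 := h1
    omega
  have hD : dB ≤ dA + d0 := by
    have := Groth.Agent.Lib.Helper77.FlatDepth.dim_le_add (A := A) (B := B)
    rw [hdA, hdB, hd0] at this
    exact_mod_cast this
  have hdimeq : ringKrullDim B = ringKrullDim A + ringKrullDim B₀ ↔ dB = dA + d0 := by
    rw [hdA, hdB, hd0]
    exact_mod_cast Iff.rfl
  tfae_have 1 → 4 := by
    rintro ⟨hB, he⟩
    rw [hcA, hcB, hc0] at he
    have h1 := hregB.mp hB
    refine ⟨hregA.mpr (by omega), hreg0.mpr (by omega), hdimeq.mpr (by omega)⟩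
  tfae_have 4 → 3 := by
    rintro ⟨hA, h0, hdim⟩
    have h1 := hregA.mp hA
    have h2 := hreg0.mp h0
    have h3 := hdimeq.mp hdim
    have hB : IsRegularLocalRing B := hregB.mpr (by omega)
    haveI := hA
    haveI := Groth.Agent.Lib.Helper77.RegularCM.isCohenMacaulayLocalRing B
    exact ⟨hA, h0, Groth.Agent.Lib.Helper77.MiracleFlat.miracle_flatness hdim⟩
  tfae_have 3 → 2 := by
    rintro ⟨hA, h0, hflat⟩
    haveI := hA
    haveI := hflat
    exact ⟨Groth.Agent.Lib.Helper56.regular_of_flat_of_fibre_regular A B h0, h0, hflat⟩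
  tfae_have 2 → 1 := by
    rintro ⟨hB, h0, hflat⟩
    haveI := hB
    haveI := hflat
    have hA : IsRegularLocalRing A := Groth.Agent.S0565.result A B
    have hdim := Groth.Agent.Lib.Helper67.ringKrullDim_eq_add_fibre_of_flat (R := A) (S := B)
    have h1 := hregA.mp hA
    have h2 := hreg0.mp h0
    have h3 := hdimeq.mp hdim
    have h4 := hregB.mp hB
    refine ⟨hB, ?_⟩
    rw [hcA, hcB, hc0]
    omega
  tfae_finish

end

end Groth.Agent.Lib.Helper70.RegFlatTFAE
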