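import Groth.Agent.Lib.Helper94.RegImmLocal
import Groth.Agent.Lib.Helper94.RegSpread
import Groth.Agent.Lib.Helper64.SubschemeStalk
import Groth.Agent.Lib.Helper98.KoszulLES
import Groth.Prelude.Def_LCI2
import Mathlib.RingTheory.RegularLocalRing.Polynomial
import Mathlib.RingTheory.RingHom.Surjective
import Mathlib.AlgebraicGeometry.Noetherian
import Mathlib.AlgebraicGeometry.Morphisms.FiniteType

set_option autoImplicit false
set_option linter.style.haveILetI false
universe u

open RingTheory.Sequence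

namespace Groth.Agent.Lib.Helper70.RegLCI

/-- A surjection of regular rings has Koszul-regular kernel. -/
theorem isKoszulRegularIdeal_ker {P B : Type u} [CommRing P] [CommRing B] [IsRegularRing P]
    [IsRegularRing B] (φ : P →+* B) (hφ : Function.Surjective φ) :
    LCI.IsKoszulRegularIdeal (RingHom.ker φ) := by
  intro 𝔭 hK
  set q : Ideal B := 𝔭.asIdeal.map φ with hq
  haveI hqp : q.IsPrime := Ideal.map_isPrime_of_surjective hφ hK
  have hp : q.comap φ = 𝔭.asIdeal := by
    rw [hq, Ideal.comap_map_of_surjective' φ hφ]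
    exact sup_eq_left.mpr hK
  set p : Ideal P := q.comap φ with hpdef
  let ψ := Localization.localRingHom p q φ rfl
  have hψ : Function.Surjective ψ := RingHom.surjective_localRingHom_of_surjective φ hφ q
  have hker : RingHom.ker ψ = (RingHom.ker φ).map (algebraMap P (Localization.AtPrime p)) :=
    Groth.Agent.Lib.Helper64.SubschemeStalk.ker_eq_map_ker_of_surjective p q φ hφ ψ
      (fun a => Localization.localRingHom_to_map p q φ rfl a)
  obtain ⟨rs, hrs, hrsker⟩ :=
    (Groth.Agent.Lib.Helper94.RegImmLocal.isRegularIdeal_ker_iff_isRegularLocalRing ψ hψ).mpr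
      inferInstance
  obtain ⟨g₀, bs, hg₀, -, hspread⟩ := Groth.Agent.Lib.Helper94.RegSpread.exists_spread p
    (Localization.AtPrime p) (RingHom.ker φ) rs hrs.toIsWeaklyRegular (hker.symm.trans hrsker.symm)
  obtain ⟨hw, hmap⟩ := hspread g₀ dvd_rfl (Localization.Away g₀)
  refine ⟨g₀, by rw [← hp]; exact hg₀, bs.map (algebraMap P (Localization.Away g₀)), ?_, hmap⟩
  exact (_root_.Helper98.KoszulLES.koszul_of_weaklyRegular _ hw).1

open AlgebraicGeometry CategoryTheory in
/-- On a locally Noetherian scheme with regular local rings, affine opens have regular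
coordinate rings. -/
theorem isRegularRing_of_stalks {X : Scheme.{u}} [IsLocallyNoetherian X]
    (hX : ∀ x : X, IsRegularLocalRing ↑(X.presheaf.stalk x)) {U : X.Opens} (hU : IsAffineOpen U) :
    IsRegularRing Γ(X, U) := by
  haveI : IsNoetherianRing Γ(X, U) := IsLocallyNoetherian.component_noetherian ⟨U, hU⟩
  rw [isRegularRing_iff]
  intro p hp
  let y : PrimeSpectrum Γ(X, U) := ⟨p, hp⟩
  have hy : hU.fromSpec y ∈ U := by
    have : hU.fromSpec y ∈ Set.range hU.fromSpec := ⟨y, rfl⟩
    rwa [hU.range_fromSpec] at this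
  letI : Algebra Γ(X, U) (X.presheaf.stalk (hU.fromSpec y)) :=
    TopCat.Presheaf.algebra_section_stalk X.presheaf ⟨hU.fromSpec y, hy⟩
  haveI : IsLocalization.AtPrime (X.presheaf.stalk (hU.fromSpec y)) p :=
    hU.isLocalization_stalk' y hy
  haveI := hX (hU.fromSpec y)
  exact IsRegularLocalRing.of_ringEquiv
    (IsLocalization.algEquiv p.primeCompl (X.presheaf.stalk (hU.fromSpec y))
      (Localization.AtPrime p)).toRingEquiv

open AlgebraicGeometry CategoryTheory in
theorem main {X Y : Scheme.{u}} (f : X ⟶ Y) [LocallyOfFiniteType f] [IsLocallyNoetherian X]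
    [IsLocallyNoetherian Y]
    (hX : ∀ x : X, IsRegularLocalRing ↑(X.presheaf.stalk x))
    (hY : ∀ y : Y, IsRegularLocalRing ↑(Y.presheaf.stalk y))
    (U : X.Opens) (V : Y.Opens) (hU : IsAffineOpen U) (hV : IsAffineOpen V)
    (hUV : U ≤ f ⁻¹ᵁ V) :
    letI := (f.appLE V U hUV).hom.toAlgebra
    LCI.IsLCI Γ(Y, V) Γ(X, U) := by
  letI := (f.appLE V U hUV).hom.toAlgebra
  haveI := isRegularRing_of_stalks hX hU
  haveI := isRegularRing_of_stalks hY hV
  have hft : Algebra.FiniteType Γ(Y, V) Γ(X, U) := f.finiteType_appLE hV hU hUV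
  refine ⟨hft, ?_⟩
  obtain ⟨n, φ, hφ⟩ := Algebra.FiniteType.iff_quotient_mvPolynomial''.mp hft
  exact ⟨n, φ, hφ, isKoszulRegularIdeal_ker φ.toRingHom hφ⟩

end Groth.Agent.Lib.Helper70.RegLCI
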