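import Groth.Agent.Lib.Helper94.RegImmPt
import Groth.Agent.Lib.Helper94.RegImmLocal
import Groth.Prelude.Def_RegImm

set_option autoImplicit false
set_option linter.style.haveILetI false
universe u

open AlgebraicGeometry CategoryTheory Opposite TopologicalSpace RingTheory.Sequence

namespace Groth.Agent.Lib.Helper70.RegSch

theorem isClosedImmersion_restrict_coborder {Z X : Scheme.{u}} (i : Z ⟶ X) [IsImmersion i] :
    IsClosedImmersion (i ∣_ i.coborderRange) := by
  set W := i.coborderRange with hW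
  have e : (i ⁻¹ᵁ W).ι ≫ i.liftCoborder = i ∣_ W := by
    rw [← cancel_mono W.ι, Category.assoc, i.liftCoborder_ι, morphismRestrict_ι]
  have htop : i ⁻¹ᵁ W = ⊤ := by
    ext z
    simp only [Opens.coe_top, Set.mem_univ, iff_true]
    have := i.liftCoborder_ι
    have h2 : i z = W.ι (i.liftCoborder z) := by
      conv_lhs => rw [← this]
      rfl
    change i z ∈ W
    rw [h2]
    exact (i.liftCoborder z).2
  haveI : IsIso (i ⁻¹ᵁ W).ι := by
    apply isIso_of_isOpenImmersion_of_opensRange_eq_top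
    rw [Scheme.Opens.opensRange_ι, htop]
  rw [← e]
  infer_instance

theorem main {Z X : Scheme.{u}} (i : Z ⟶ X) [IsImmersion i]
    [IsLocallyNoetherian X] [IsLocallyNoetherian Z]
    (hX : ∀ x : ↥X, IsRegularLocalRing ↑(X.presheaf.stalk x))
    (hZ : ∀ z : ↥Z, IsRegularLocalRing ↑(Z.presheaf.stalk z)) :
    RegImm.IsRegularImmersion RegImm.Kind.regular i := by
  refine ⟨inferInstance, fun z => ?_⟩
  set W := i.coborderRange with hW
  let j : Z ⟶ W.toScheme := i.liftCoborder
  haveI : IsRegularLocalRing (Z.presheaf.stalk z) := hZ z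
  haveI : IsRegularLocalRing (W.toScheme.presheaf.stalk (j z)) := by
    haveI := hX (W.ι (j z))
    exact IsRegularLocalRing.of_ringEquiv (asIso (W.ι.stalkMap (j z))).commRingCatIsoToRingEquiv
  obtain ⟨rs, hrs, hker⟩ :=
    (Groth.Agent.Lib.Helper94.RegImmLocal.isRegularIdeal_ker_iff_isRegularLocalRing
      (j.stalkMap z).hom (j.stalkMap_surjective z)).mpr inferInstance
  obtain ⟨V, hV, hzV, bs, hbs, hkV, -⟩ :=
    Groth.Agent.Lib.Helper94.RegImmPt.exists_affine_of_stalk j z rs hrs hker.symm
  refine ⟨⟨W.ι ''ᵁ V, hV.image_of_isOpenImmersion W.ι⟩, ?_, ?_, bs, hbs, ?_⟩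
  · refine ⟨j z, hzV, ?_⟩
    have := i.liftCoborder_ι
    conv_rhs => rw [← this]
    rfl
  · haveI := isClosedImmersion_restrict_coborder i
    exact (MorphismProperty.arrow_mk_iso_iff @IsClosedImmersion
      (morphismRestrictRestrict i W V)).mp inferInstance
  · refine Eq.trans ?_ hkV
    change RingHom.ker (i.app (W.ι ''ᵁ V)).hom = RingHom.ker (i.liftCoborder.app V).hom
    rw [AlgebraicGeometry.liftCoborder_app]
    exact (Groth.Agent.Lib.Helper94.RegImmPt.ker_comp_iso _ _).symm

end Groth.Agent.Lib.Helper70.RegSch
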