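import Mathlib.AlgebraicTopology.SimplicialSet.Homotopy
import Mathlib.AlgebraicTopology.SimplicialObject.ChainHomotopy
import Mathlib.AlgebraicTopology.AlternatingFaceMapComplex
import Mathlib.AlgebraicTopology.DoldKan.PInfty
import Mathlib.AlgebraicTopology.DoldKan.HomotopyEquivalence
import Mathlib.Algebra.Homology.QuasiIso
import Mathlib.Algebra.Category.Grp.Abelian
import Mathlib.Algebra.Category.Grp.Adjunctions
import Groth.Agent.Lib.Helper70.AbQis

set_option autoImplicit false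
set_option linter.style.haveILetI false
universe u
open CategoryTheory CategoryTheory.Limits Simplicial Opposite AlgebraicTopology

namespace Groth.Agent.Lib.Helper70.SAbQis

/-- free simplicial abelian group on the underlying simplicial set -/
noncomputable abbrev ZU (A : SimplicialObject AddCommGrpCat.{u}) : SimplicialObject AddCommGrpCat.{u} :=
  ((SimplicialObject.whiskering (Type u) AddCommGrpCat.{u}).obj AddCommGrpCat.free).obj
    (A ⋙ forget AddCommGrpCat.{u})

variable (A : SimplicialObject AddCommGrpCat.{u})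

/-- The counit `ℤ[A] ⟶ A`. -/
noncomputable def eps : ZU A ⟶ A where
  app n := AddCommGrpCat.ofHom (FreeAbelianGroup.lift (fun a : A.obj n => a))
  naturality n m f := by
    apply AddCommGrpCat.hom_ext
    apply FreeAbelianGroup.lift_ext
    intro a
    show FreeAbelianGroup.lift (fun a : A.obj m => a)
        (FreeAbelianGroup.map (⇑(ConcreteCategory.hom (A.map f))) (FreeAbelianGroup.of a)) =
      (A.map f) (FreeAbelianGroup.lift (fun a : A.obj n => a) (FreeAbelianGroup.of a))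
    rw [FreeAbelianGroup.map_of_apply, FreeAbelianGroup.lift_apply_of, FreeAbelianGroup.lift_apply_of]

/-- the generator `[a]` of `ℤ[A]_n`. -/
noncomputable def gen {n : ℕ} (a : A _⦋n⦌) : (ZU A) _⦋n⦌ := FreeAbelianGroup.of a

/-- the reduced generator `[a] - [0]`. -/
noncomputable def rgen {n : ℕ} (a : A _⦋n⦌) : (ZU A) _⦋n⦌ := gen A a - gen A 0

theorem eps_gen {n : ℕ} (a : A _⦋n⦌) : (eps A).app (op ⦋n⦌) (gen A a) = a :=
  FreeAbelianGroup.lift_apply_of _ a

theorem eps_rgen {n : ℕ} (a : A _⦋n⦌) : (eps A).app (op ⦋n⦌) (rgen A a) = a := by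
  unfold rgen
  rw [map_sub, eps_gen, eps_gen, sub_zero]

theorem δ_gen {n : ℕ} (i : Fin (n + 2)) (a : A _⦋n + 1⦌) :
    (ZU A).δ i (gen A a) = gen A (A.δ i a) :=
  FreeAbelianGroup.map_of_apply a

theorem δ_rgen {n : ℕ} (i : Fin (n + 2)) (a : A _⦋n + 1⦌) :
    (ZU A).δ i (rgen A a) = rgen A (A.δ i a) := by
  unfold rgen
  rw [map_sub, δ_gen, δ_gen, map_zero]

variable {A} {B : SimplicialObject AddCommGrpCat.{u}} (f : A ⟶ B)

/-- the map induced on free simplicial abelian groups -/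
noncomputable abbrev phi : ZU A ⟶ ZU B :=
  ((SimplicialObject.whiskering (Type u) AddCommGrpCat.{u}).obj AddCommGrpCat.free).map
    (Functor.whiskerRight f (forget AddCommGrpCat.{u}))

theorem phi_gen {n : ℕ} (a : A _⦋n⦌) : (phi f).app (op ⦋n⦌) (gen A a) = gen B (f.app (op ⦋n⦌) a) :=
  FreeAbelianGroup.map_of_apply a

theorem phi_rgen {n : ℕ} (a : A _⦋n⦌) :
    (phi f).app (op ⦋n⦌) (rgen A a) = rgen B (f.app (op ⦋n⦌) a) := by
  unfold rgen
  rw [map_sub, phi_gen, phi_gen, map_zero]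

theorem phi_eps : phi f ≫ eps B = eps A ≫ f := by
  ext n : 2
  apply FreeAbelianGroup.lift_ext
  intro a
  show FreeAbelianGroup.lift (fun b : B.obj n => b)
        (FreeAbelianGroup.map (⇑(ConcreteCategory.hom (f.app n))) (FreeAbelianGroup.of a)) =
      (f.app n) (FreeAbelianGroup.lift (fun a : A.obj n => a) (FreeAbelianGroup.of a))
  rw [FreeAbelianGroup.map_of_apply, FreeAbelianGroup.lift_apply_of, FreeAbelianGroup.lift_apply_of]

/-- evaluation of morphisms of abelian groups at an element, as an additive map -/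
def evalHom {M N : AddCommGrpCat.{u}} (x : M) : (M ⟶ N) →+ N where
  toFun g := g x
  map_zero' := rfl
  map_add' _ _ := rfl

theorem sum_zsmul_apply {M N : AddCommGrpCat.{u}} {ι : Type*} (s : Finset ι) (c : ι → ℤ)
    (g : ι → (M ⟶ N)) (x : M) :
    (∑ i ∈ s, c i • g i) x = ∑ i ∈ s, c i • (g i x) := by
  have := map_sum (evalHom (N := N) x) (fun i => c i • g i) s
  simp only [map_zsmul] at this
  exact this

variable (A)

theorem d_apply (n : ℕ) (c : A _⦋n + 1⦌) :
    ((alternatingFaceMapComplex AddCommGrpCat.{u}).obj A).d (n + 1) n c =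
      ∑ i : Fin (n + 2), ((-1 : ℤ) ^ (i : ℕ)) • (A.δ i c) := by
  rw [alternatingFaceMapComplex_obj_d]
  unfold AlternatingFaceMapComplex.objD
  exact sum_zsmul_apply _ _ _ c

theorem d_rgen (n : ℕ) (c : A _⦋n + 1⦌) :
    ((alternatingFaceMapComplex AddCommGrpCat.{u}).obj (ZU A)).d (n + 1) n (rgen A c) =
      ∑ i : Fin (n + 2), ((-1 : ℤ) ^ (i : ℕ)) • rgen A (A.δ i c) := by
  rw [d_apply]
  exact Finset.sum_congr rfl fun i _ => by rw [δ_rgen]

theorem rgen_zero {n : ℕ} : rgen A (0 : A _⦋n⦌) = 0 := sub_self _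

/-- if the higher faces of `c` vanish, `d c = δ₀ c`. -/
theorem d_eq_of_higherFaces (n : ℕ) (c : A _⦋n + 1⦌) (hc : ∀ j : Fin (n + 1), A.δ j.succ c = 0) :
    ((alternatingFaceMapComplex AddCommGrpCat.{u}).obj A).d (n + 1) n c = A.δ 0 c := by
  rw [d_apply, Fin.sum_univ_succ]
  simp [hc]

theorem d_rgen_of_higherFaces (n : ℕ) (c : A _⦋n + 1⦌) (hc : ∀ j : Fin (n + 1), A.δ j.succ c = 0) :
    ((alternatingFaceMapComplex AddCommGrpCat.{u}).obj (ZU A)).d (n + 1) n (rgen A c) =
      rgen A (A.δ 0 c) := by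
  rw [d_rgen, Fin.sum_univ_succ]
  simp [hc, rgen_zero]

/-- the Dold-Kan projector in degree `n`. -/
noncomputable abbrev PI (n : ℕ) : A _⦋n⦌ ⟶ A _⦋n⦌ := (DoldKan.PInfty (X := A)).f n

theorem δ_succ_PI (n : ℕ) (j : Fin (n + 1)) (w : A _⦋n + 1⦌) : A.δ j.succ (PI A (n + 1) w) = 0 := by
  have h := DoldKan.HigherFacesVanish.of_P (X := A) (n + 1) n j (by omega)
  have h2 : PI A (n + 1) ≫ A.δ j.succ = 0 := by
    rw [← h]; congr 1
  rw [← ConcreteCategory.comp_apply, h2]; rfl

theorem d_PI (n : ℕ) (w : A _⦋n + 1⦌) :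
    ((alternatingFaceMapComplex AddCommGrpCat.{u}).obj A).d (n + 1) n (PI A (n + 1) w) =
      PI A n (((alternatingFaceMapComplex AddCommGrpCat.{u}).obj A).d (n + 1) n w) := by
  have := (DoldKan.PInfty (X := A)).comm (n + 1) n
  rw [← ConcreteCategory.comp_apply, ← ConcreteCategory.comp_apply]
  exact congrArg (fun g => g w) this

theorem PI_PI (n : ℕ) (x : A _⦋n⦌) : PI A n (PI A n x) = PI A n x := by
  rw [← ConcreteCategory.comp_apply, DoldKan.PInfty_f_idem]

theorem PI_eq_add (n k : ℕ) (x : A _⦋n⦌)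
    (hx : ((alternatingFaceMapComplex AddCommGrpCat.{u}).obj A).d n k x = 0)
    (hk : (ComplexShape.down ℕ).next n = k) :
    ∃ c : A _⦋n + 1⦌, PI A n x - x =
      ((alternatingFaceMapComplex AddCommGrpCat.{u}).obj A).d (n + 1) n c := by
  subst hk
  have h := (DoldKan.homotopyPInftyToId (X := A)).comm n
  rw [Homotopy.prevD_chainComplex] at h
  refine ⟨(DoldKan.homotopyPInftyToId (X := A)).hom n (n + 1) x, ?_⟩
  have h2 := congrArg (fun g => g x) h
  simp only at h2
  rw [AddCommGrpCat.hom_add_apply, AddCommGrpCat.hom_add_apply] at h2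
  have h3 : (dNext n (DoldKan.homotopyPInftyToId (X := A)).hom) x = 0 := by
    show ((DoldKan.homotopyPInftyToId (X := A)).hom ((ComplexShape.down ℕ).next n) n)
      ((AlternatingFaceMapComplex.obj A).d n ((ComplexShape.down ℕ).next n) x) = 0
    erw [hx, map_zero]
  rw [h3, zero_add] at h2
  rw [sub_eq_iff_eq_add]
  exact h2

theorem d_PI_cycle (n k : ℕ) (x : A _⦋n⦌)
    (hx : ((alternatingFaceMapComplex AddCommGrpCat.{u}).obj A).d n k x = 0) :
    ((alternatingFaceMapComplex AddCommGrpCat.{u}).obj A).d n k (PI A n x) = 0 := by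
  have := (DoldKan.PInfty (X := A)).comm n k
  have h2 := congrArg (fun g => g x) this
  simp only [ConcreteCategory.comp_apply] at h2
  refine h2.trans ?_
  erw [hx, map_zero]

theorem d_rgen_PI_cycle (n k : ℕ) (x : A _⦋n⦌)
    (hx : ((alternatingFaceMapComplex AddCommGrpCat.{u}).obj A).d n k x = 0)
    (hk : (ComplexShape.down ℕ).next n = k) :
    ((alternatingFaceMapComplex AddCommGrpCat.{u}).obj (ZU A)).d n k (rgen A (PI A n x)) = 0 := by
  subst hk
  cases n with
  | zero =>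
    rw [HomologicalComplex.shape _ _ _ (by simp)]
    rfl
  | succ m =>
    have hm : (ComplexShape.down ℕ).next (m + 1) = m := ChainComplex.next_nat_succ m
    rw [hm] at hx ⊢
    have h0 : A.δ 0 (PI A (m + 1) x) = 0 := by
      rw [← d_eq_of_higherFaces A m _ (fun j => δ_succ_PI A m j x)]
      exact d_PI_cycle A (m + 1) m x hx
    rw [d_rgen_of_higherFaces A m _ (fun j => δ_succ_PI A m j x), h0, rgen_zero]

variable {A}

theorem eps_d (n k : ℕ) (z : (ZU A) _⦋n⦌) :
    (eps A).app (op ⦋k⦌) (((alternatingFaceMapComplex AddCommGrpCat.{u}).obj (ZU A)).d n k z) =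
      ((alternatingFaceMapComplex AddCommGrpCat.{u}).obj A).d n k ((eps A).app (op ⦋n⦌) z) := by
  have := ((alternatingFaceMapComplex AddCommGrpCat.{u}).map (eps A)).comm n k
  have h2 := congrArg (fun g => g z) this
  simp only [ConcreteCategory.comp_apply] at h2
  exact h2.symm

theorem f_d (n k : ℕ) (z : A _⦋n⦌) :
    f.app (op ⦋k⦌) (((alternatingFaceMapComplex AddCommGrpCat.{u}).obj A).d n k z) =
      ((alternatingFaceMapComplex AddCommGrpCat.{u}).obj B).d n k (f.app (op ⦋n⦌) z) := by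
  have := ((alternatingFaceMapComplex AddCommGrpCat.{u}).map f).comm n k
  have h2 := congrArg (fun g => g z) this
  simp only [ConcreteCategory.comp_apply] at h2
  exact h2.symm

theorem f_PI (n : ℕ) (z : A _⦋n⦌) : f.app (op ⦋n⦌) (PI A n z) = PI B n (f.app (op ⦋n⦌) z) := by
  have := DoldKan.PInfty_f_naturality n f
  have h2 := congrArg (fun g => g z) this
  simp only [ConcreteCategory.comp_apply] at h2
  exact h2.symm

theorem eps_phi {n : ℕ} (z : (ZU A) _⦋n⦌) :
    (eps B).app (op ⦋n⦌) ((phi f).app (op ⦋n⦌) z) = f.app (op ⦋n⦌) ((eps A).app (op ⦋n⦌) z) := by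
  have := congrArg (fun g => g.app (op ⦋n⦌)) (phi_eps f)
  have h2 := congrArg (fun g => g z) this
  simp only [NatTrans.comp_app, ConcreteCategory.comp_apply] at h2
  exact h2

/-- Key step: if `ℤ[f]` is a quasi-isomorphism on alternating face map complexes, so is `f`. -/
theorem quasiIsoAt_of_phi (n : ℕ)
    (hφ : QuasiIsoAt ((alternatingFaceMapComplex AddCommGrpCat.{u}).map (phi f)) n) :
    QuasiIsoAt ((alternatingFaceMapComplex AddCommGrpCat.{u}).map f) n := by
  obtain ⟨k, hk⟩ : ∃ k, (ComplexShape.down ℕ).next n = k := ⟨_, rfl⟩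
  rw [quasiIsoAt_iff' _ (n + 1) n k (by simp) hk] at hφ ⊢
  rw [AbQis.quasiIso_iff] at hφ ⊢
  obtain ⟨hs', hi'⟩ := hφ
  have hs : ∀ y : (ZU B) _⦋n⦌,
      ((alternatingFaceMapComplex AddCommGrpCat.{u}).obj (ZU B)).d n k y = 0 →
      ∃ x : (ZU A) _⦋n⦌, ((alternatingFaceMapComplex AddCommGrpCat.{u}).obj (ZU A)).d n k x = 0 ∧
        ∃ w : (ZU B) _⦋n + 1⦌, (phi f).app (op ⦋n⦌) x - y =
          ((alternatingFaceMapComplex AddCommGrpCat.{u}).obj (ZU B)).d (n + 1) n w := hs'
  have hi : ∀ x : (ZU A) _⦋n⦌,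
      ((alternatingFaceMapComplex AddCommGrpCat.{u}).obj (ZU A)).d n k x = 0 →
      (∃ w : (ZU B) _⦋n + 1⦌, (phi f).app (op ⦋n⦌) x =
          ((alternatingFaceMapComplex AddCommGrpCat.{u}).obj (ZU B)).d (n + 1) n w) →
      ∃ v : (ZU A) _⦋n + 1⦌,
        ((alternatingFaceMapComplex AddCommGrpCat.{u}).obj (ZU A)).d (n + 1) n v = x := hi'
  clear hs' hi'
  constructor
  · intro y hy
    replace hy : ((alternatingFaceMapComplex AddCommGrpCat.{u}).obj B).d n k y = 0 := hy
    change B _⦋n⦌ at y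
    obtain ⟨c₀, hc₀⟩ := PI_eq_add B n k y hy hk
    obtain ⟨xt, hxt, wt, hwt⟩ := hs (rgen B (PI B n y)) (d_rgen_PI_cycle B n k y hy hk)
    refine ⟨(eps A).app (op ⦋n⦌) xt, ?_, c₀ + (eps B).app (op ⦋n + 1⦌) wt, ?_⟩
    · show ((alternatingFaceMapComplex AddCommGrpCat.{u}).obj A).d n k ((eps A).app (op ⦋n⦌) xt) = 0
      rw [← eps_d, hxt, map_zero]
    · show f.app (op ⦋n⦌) ((eps A).app (op ⦋n⦌) xt) - y =
        ((alternatingFaceMapComplex AddCommGrpCat.{u}).obj B).d (n + 1) n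
          (c₀ + (eps B).app (op ⦋n + 1⦌) wt)
      rw [map_add, ← hc₀, ← eps_d, ← hwt, map_sub, eps_phi, eps_rgen]
      abel
  · rintro x hx ⟨w, hw⟩
    replace hx : ((alternatingFaceMapComplex AddCommGrpCat.{u}).obj A).d n k x = 0 := hx
    change A _⦋n⦌ at x
    change B _⦋n + 1⦌ at w
    replace hw : f.app (op ⦋n⦌) x =
      ((alternatingFaceMapComplex AddCommGrpCat.{u}).obj B).d (n + 1) n w := hw
    obtain ⟨c₀, hc₀⟩ := PI_eq_add A n k x hx hk
    -- the normalised cycle and the normalised bounding chain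
    have hb : ((alternatingFaceMapComplex AddCommGrpCat.{u}).obj B).d (n + 1) n (PI B (n + 1) w) =
        f.app (op ⦋n⦌) (PI A n x) := by
      rw [d_PI, ← hw, f_PI]
    have hb0 : B.δ 0 (PI B (n + 1) w) = f.app (op ⦋n⦌) (PI A n x) := by
      rw [← hb, d_eq_of_higherFaces B n _ (fun j => δ_succ_PI B n j w)]
    obtain ⟨vt, hvt⟩ := hi (rgen A (PI A n x)) (d_rgen_PI_cycle A n k x hx hk)
      ⟨rgen B (PI B (n + 1) w), by
        rw [phi_rgen, d_rgen_of_higherFaces B n _ (fun j => δ_succ_PI B n j w), hb0]⟩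
    refine ⟨(eps A).app (op ⦋n + 1⦌) vt - c₀, ?_⟩
    show ((alternatingFaceMapComplex AddCommGrpCat.{u}).obj A).d (n + 1) n
      ((eps A).app (op ⦋n + 1⦌) vt - c₀) = x
    rw [map_sub, ← hc₀, ← eps_d, hvt, eps_rgen]
    abel

/-- degree `n` homology of the free simplicial abelian group, as a functor on simplicial sets -/
noncomputable def Hn (n : ℕ) : SSet.{u} ⥤ AddCommGrpCat.{u} :=
  (SimplicialObject.whiskering (Type u) AddCommGrpCat.{u}).obj AddCommGrpCat.free ⋙
    alternatingFaceMapComplex AddCommGrpCat.{u} ⋙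
      HomologicalComplex.homologyFunctor AddCommGrpCat.{u} _ n

theorem Hn_map_eq {S T : SSet.{u}} {a b : S ⟶ T} (H : SSet.Homotopy a b) (n : ℕ) :
    (Hn n).map a = (Hn n).map b :=
  (H.toSimplicialObjectHomotopy.whiskerRight AddCommGrpCat.free).map_homology_eq n

theorem Hn_map_eq' {S T : SSet.{u}} {a b : S ⟶ T}
    (H : Nonempty (SSet.Homotopy a b) ∨ Nonempty (SSet.Homotopy b a)) (n : ℕ) :
    (Hn n).map a = (Hn n).map b := by
  rcases H with ⟨⟨H⟩⟩ | ⟨⟨H⟩⟩
  · exact Hn_map_eq H n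
  · exact (Hn_map_eq H n).symm

theorem main {X Y : SimplicialObject AddCommGrpCat.{u}} (f : X ⟶ Y)
    (g : (Y ⋙ forget AddCommGrpCat.{u} : SSet.{u}) ⟶ (X ⋙ forget AddCommGrpCat.{u} : SSet.{u}))
    (hX : Nonempty (SSet.Homotopy (Functor.whiskerRight f (forget AddCommGrpCat.{u}) ≫ g) (𝟙 _)) ∨
      Nonempty (SSet.Homotopy (𝟙 _) (Functor.whiskerRight f (forget AddCommGrpCat.{u}) ≫ g)))
    (hY : Nonempty (SSet.Homotopy (g ≫ Functor.whiskerRight f (forget AddCommGrpCat.{u})) (𝟙 _)) ∨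
      Nonempty (SSet.Homotopy (𝟙 _) (g ≫ Functor.whiskerRight f (forget AddCommGrpCat.{u})))) :
    QuasiIso ((AlgebraicTopology.alternatingFaceMapComplex AddCommGrpCat.{u}).map f) := by
  rw [quasiIso_iff]
  intro n
  apply quasiIsoAt_of_phi f n
  rw [quasiIsoAt_iff_isIso_homologyMap]
  have h1 := Hn_map_eq' hX n
  have h2 := Hn_map_eq' hY n
  rw [CategoryTheory.Functor.map_comp, CategoryTheory.Functor.map_id] at h1 h2
  exact ⟨(Hn n).map g, h1, h2⟩

end Groth.Agent.Lib.Helper70.SAbQis
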