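import Mathlib
import Groth.Prelude.Def_ModelsG
import Groth.Agent.Lib.Helper64.StalkSpec
import Groth.Agent.Lib.Helper76.RegularLocal
import Groth.Agent.Lib.Helper70.FinGoingDown

set_option autoImplicit false
set_option linter.style.haveILetI false

universe u
open AlgebraicGeometry CategoryTheory TopologicalSpace IsLocalRing

namespace Groth.Agent.Lib.Helper70.SecPt

variable (R : Type u) [CommRing R] [IsDomain R] [IsDiscreteValuationRing R]
variable (X : Over (Spec (CommRingCat.of R)))

theorem hom_eq_toSpecΓ :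
    X.hom = X.left.toSpecΓ ≫ Spec.map (CommRingCat.ofHom (Coh.toGlobal X.hom)) := by
  have h1 : X.hom ≫ (Spec (CommRingCat.of R)).toSpecΓ = X.left.toSpecΓ ≫ Spec.map X.hom.appTop :=
    Scheme.toSpecΓ_naturality X.hom
  rw [← SpecMap_ΓSpecIso_hom] at h1
  have h2 : X.hom = (X.hom ≫ Spec.map (Scheme.ΓSpecIso (CommRingCat.of R)).hom) ≫
      Spec.map (Scheme.ΓSpecIso (CommRingCat.of R)).inv := by
    rw [Category.assoc, ← Spec.map_comp, Iso.inv_hom_id, Spec.map_id, Category.comp_id]
  have h3 : X.hom = X.left.toSpecΓ ≫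
      Spec.map ((Scheme.ΓSpecIso (CommRingCat.of R)).inv ≫ X.hom.appTop) := by
    conv_lhs => rw [h2, h1, Category.assoc, ← Spec.map_comp]
  exact h3

theorem fromSpecStalk_hom (p : X.left) :
    X.left.fromSpecStalk p ≫ X.hom = Spec.map (CommRingCat.ofHom (Models.stalkHom R X p)) := by
  conv_lhs => rw [hom_eq_toSpecΓ R X]
  rw [← Category.assoc, Scheme.fromSpecStalk_toSpecΓ, ← Spec.map_comp]
  rfl

variable {R X}

/-- membership of a generization of `p` in the closed fibre, in terms of primes of `O_{X,p}`. -/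
theorem fromSpecStalk_mem_specialFibreSet_iff (p : X.left) {π : R}
    (hπ : maximalIdeal R = Ideal.span {π}) (Q : Spec (X.left.presheaf.stalk p)) :
    (X.left.fromSpecStalk p).base Q ∈ Models.specialFibreSet R X ↔
      Models.stalkHom R X p π ∈ Q.asIdeal := by
  have h1 : X.hom.base ((X.left.fromSpecStalk p).base Q) =
      (Spec.map (CommRingCat.ofHom (Models.stalkHom R X p))).base Q := by
    rw [← fromSpecStalk_hom R X p]
    rfl
  change X.hom.base ((X.left.fromSpecStalk p).base Q) = closedPoint R ↔ _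
  rw [h1]
  constructor
  · intro h
    have h2 : π ∈ (closedPoint R).asIdeal := by
      change π ∈ maximalIdeal R
      rw [hπ]
      exact Ideal.mem_span_singleton_self π
    rw [← h] at h2
    exact h2
  · intro h
    apply PrimeSpectrum.ext
    change Ideal.comap (Models.stalkHom R X p) Q.asIdeal = maximalIdeal R
    have hle : maximalIdeal R ≤ Ideal.comap (Models.stalkHom R X p) Q.asIdeal := by
      rw [hπ, Ideal.span_singleton_le_iff_mem]
      exact h
    exact ((maximalIdeal.isMaximal R).eq_of_le (Ideal.comap_ne_top _ Q.isPrime.ne_top) hle).symm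

/-- A section through `p` gives a local retraction `O_{X,p} → R` of `R → O_{X,p}`. -/
theorem exists_retraction (σ : Spec (CommRingCat.of R) ⟶ X.left) (hσ : σ ≫ X.hom = 𝟙 _) :
    ∃ ψ : X.left.presheaf.stalk (σ.base (closedPoint R)) →+* R,
      ψ.comp (Models.stalkHom R X (σ.base (closedPoint R))) = RingHom.id R ∧ IsLocalHom ψ := by
  set s : Spec (CommRingCat.of R) := closedPoint R with hs
  let S := Spec (CommRingCat.of R)
  let θ : R →+* S.presheaf.stalk s :=
    (S.presheaf.germ ⊤ s trivial).hom.comp (Scheme.ΓSpecIso (CommRingCat.of R)).inv.hom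
  have hθ : Function.Bijective θ := by
    have hΓ : Function.Bijective (Scheme.ΓSpecIso (CommRingCat.of R)).inv.hom :=
      ConcreteCategory.bijective_of_isIso (Scheme.ΓSpecIso (CommRingCat.of R)).inv
    have hg : Function.Bijective (S.presheaf.germ ⊤ s trivial).hom := by
      haveI : IsLocalRing Γ(S, ⊤) :=
        (Scheme.ΓSpecIso (CommRingCat.of R)).commRingCatIsoToRingEquiv.symm.isLocalRing
      letI := S.presheaf.algebra_section_stalk (U := ⊤) ⟨s, trivial⟩
      haveI hloc := (isAffineOpen_top S).isLocalization_stalk ⟨s, trivial⟩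
      have hmax : ((isAffineOpen_top S).primeIdealOf ⟨s, trivial⟩).asIdeal = maximalIdeal Γ(S, ⊤) :=
        IsLocalRing.eq_maximalIdeal ((isAffineOpen_top S).primeIdealOf_isMaximal_of_isClosed
          ⟨s, trivial⟩ (isClosed_singleton_closedPoint R))
      have hunits : ((isAffineOpen_top S).primeIdealOf ⟨s, trivial⟩).asIdeal.primeCompl ≤
          IsUnit.submonoid Γ(S, ⊤) := by
        intro x hx
        have hx' : x ∉ maximalIdeal Γ(S, ⊤) := fun h => hx (hmax ▸ h)
        exact IsLocalRing.notMem_maximalIdeal.mp hx'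
      exact (IsLocalization.atUnits Γ(S, ⊤) _ (S := S.presheaf.stalk s) hunits).bijective
    exact hg.comp hΓ
  let e : R ≃+* S.presheaf.stalk s := RingEquiv.ofBijective θ hθ
  let ψ : X.left.presheaf.stalk (σ.base s) →+* S.presheaf.stalk s := (σ.stalkMap s).hom
  have hψφ : ψ.comp (Models.stalkHom R X (σ.base s)) = θ := by
    have h1 := Scheme.Hom.germ_stalkMap σ ⊤ s trivial
    have h2 : X.hom.appTop ≫ σ.appTop = 𝟙 _ := by
      rw [← Scheme.Hom.comp_appTop, hσ]
      rfl
    ext r
    change (σ.stalkMap s).hom ((X.left.presheaf.germ ⊤ (σ.base s) trivial).hom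
      (X.hom.appTop.hom ((Scheme.ΓSpecIso (CommRingCat.of R)).inv.hom r))) = _
    have h3 := congr_arg (fun f => f.hom (X.hom.appTop.hom
      ((Scheme.ΓSpecIso (CommRingCat.of R)).inv.hom r))) h1
    simp only [CommRingCat.hom_comp, RingHom.comp_apply] at h3
    rw [h3]
    have h4 := congr_arg (fun f => f.hom ((Scheme.ΓSpecIso (CommRingCat.of R)).inv.hom r)) h2
    simp only [CommRingCat.hom_comp, RingHom.comp_apply, CommRingCat.hom_id, RingHom.id_apply] at h4
    change (S.presheaf.germ ⊤ s trivial).hom (σ.appTop.hom (X.hom.appTop.hom _)) = _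
    rw [h4]
    rfl
  refine ⟨(e.symm : S.presheaf.stalk s →+* R).comp ψ, ?_, ?_⟩
  · rw [RingHom.comp_assoc, hψφ]
    ext r
    exact e.symm_apply_apply r
  · haveI : IsLocalHom ψ := inferInstance
    haveI : IsLocalHom (e.symm : S.presheaf.stalk s →+* R) := inferInstance
    exact RingHom.isLocalHom_comp _ _

section Alg

theorem surjective_residue_of_retraction {A : Type*} [CommRing A] [IsLocalRing A] (φ : R →+* A)
    (ψ : A →+* R) (hψ : ψ.comp φ = RingHom.id R) :
    Function.Surjective ((IsLocalRing.residue A).comp φ) := by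
  intro a
  obtain ⟨a', rfl⟩ := IsLocalRing.residue_surjective a
  refine ⟨ψ a', ?_⟩
  rw [RingHom.comp_apply, ← sub_eq_zero, ← map_sub, IsLocalRing.residue_eq_zero_iff,
    mem_maximalIdeal, mem_nonunits_iff]
  intro hu
  have h1 := hu.map ψ
  have h0 : ψ (φ (ψ a') - a') = 0 := by
    have : ψ (φ (ψ a')) = ψ a' := by
      rw [← RingHom.comp_apply, hψ, RingHom.id_apply]
    rw [map_sub, this, sub_self]
  rw [h0] at h1
  exact not_isUnit_zero h1

theorem regular_quotient_of_retraction {A : Type u} [CommRing A] [IsRegularLocalRing A]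
    (φ : R →+* A) (ψ : A →+* R) (hψ : ψ.comp φ = RingHom.id R) [IsLocalHom ψ] :
    IsRegularLocalRing (A ⧸ Ideal.map φ (maximalIdeal R)) := by
  obtain ⟨π, hπ⟩ := IsDiscreteValuationRing.exists_irreducible R
  have hm : maximalIdeal R = Ideal.span {π} := hπ.maximalIdeal_eq
  have hmap : Ideal.map φ (maximalIdeal R) = Ideal.span {φ π} := by
    rw [hm, Ideal.map_span, Set.image_singleton]
  rw [hmap]
  have hψφ : ∀ r, ψ (φ r) = r := fun r => by
    rw [← RingHom.comp_apply, hψ, RingHom.id_apply]
  have h1 : φ π ∈ maximalIdeal A := by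
    rw [mem_maximalIdeal, mem_nonunits_iff]
    intro hu
    have := hu.map ψ
    rw [hψφ] at this
    exact hπ.not_isUnit this
  have h2 : φ π ∉ maximalIdeal A ^ 2 := by
    intro h
    have h3 : ψ (φ π) ∈ (maximalIdeal A ^ 2).map ψ := Ideal.mem_map_of_mem ψ h
    rw [Ideal.map_pow, hψφ] at h3
    have h4 : (maximalIdeal A).map ψ ≤ maximalIdeal R :=
      Ideal.map_le_iff_le_comap.mpr fun x hx => map_nonunit ψ x hx
    have h5 : π ∈ maximalIdeal R ^ 2 := Ideal.pow_right_mono h4 2 h3
    rw [hm, Ideal.span_singleton_pow, Ideal.mem_span_singleton] at h5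
    obtain ⟨c, hc⟩ := h5
    have h6 : π * (1 - π * c) = 0 := by
      rw [mul_sub, mul_one, ← mul_assoc, ← pow_two, ← hc, sub_self]
    rcases mul_eq_zero.mp h6 with h | h
    · exact hπ.ne_zero h
    · exact hπ.not_isUnit (IsUnit.of_mul_eq_one c (by linear_combination -h))
  exact (Groth.Agent.Lib.Helper76.isRegularLocalRing_quotient_of_notMem_sq A (φ π) h1 h2).1

end Alg

open Groth.Agent.Lib.Helper70.FinGoingDown in
/-- If `𝔓 = 𝔪_R O_{X,p}` is prime, every component of the closed fibre through `p` is the closure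
of the point `η` of `X` corresponding to `𝔓`. -/
theorem comp_eq_closure (p : X.left) (hprime : (Ideal.map (Models.stalkHom R X p) (maximalIdeal R)).IsPrime)
    (Z : Set X.left) (hZ : Z ∈ Models.fibreComponents R X) (hpZ : p ∈ Z) :
    Z = closure {(X.left.fromSpecStalk p).base ⟨_, hprime⟩} := by
  obtain ⟨π, hπ⟩ := IsDiscreteValuationRing.exists_irreducible R
  have hm : maximalIdeal R = Ideal.span {π} := hπ.maximalIdeal_eq
  have hZc : IsClosed Z := isClosed_of_mem_comps (Models.isClosed_specialFibreSet R X) hZ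
  replace hZ : Maximal (fun S : Set X.left => IsIrreducible S ∧ S ⊆ Models.specialFibreSet R X) Z := hZ
  have hζ := hZ.prop.1.isGenericPoint_genericPoint hZc
  set ζ := hZ.prop.1.genericPoint
  have hζp : ζ ⤳ p := hζ.specializes hpZ
  obtain ⟨Q, hQ⟩ : ζ ∈ Set.range (X.left.fromSpecStalk p).base := by
    rw [Scheme.range_fromSpecStalk]
    exact hζp
  have hπmem : Models.stalkHom R X p π ∈ Ideal.map (Models.stalkHom R X p) (maximalIdeal R) :=
    Ideal.mem_map_of_mem _ (by rw [hm]; exact Ideal.mem_span_singleton_self π)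
  set η := (X.left.fromSpecStalk p).base ⟨_, hprime⟩ with hη
  have hηs : η ∈ Models.specialFibreSet R X :=
    (fromSpecStalk_mem_specialFibreSet_iff p hm _).mpr hπmem
  have hQmem : Models.stalkHom R X p π ∈ Q.asIdeal := by
    rw [← fromSpecStalk_mem_specialFibreSet_iff p hm Q, hQ]
    exact hZ.prop.2 hζ.mem
  have hle : (⟨_, hprime⟩ : PrimeSpectrum (X.left.presheaf.stalk p)) ≤ Q := by
    change Ideal.map (Models.stalkHom R X p) (maximalIdeal R) ≤ Q.asIdeal
    rw [hm, Ideal.map_span, Set.image_singleton, Ideal.span_singleton_le_iff_mem]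
    exact hQmem
  have hηζ : η ⤳ ζ := by
    rw [← hQ]
    exact ((PrimeSpectrum.le_iff_specializes _ _).mp hle).map (X.left.fromSpecStalk p).continuous
  have hsub : Z ⊆ closure {η} := by
    rw [← hζ.def]
    exact closure_minimal (Set.singleton_subset_iff.mpr hηζ.mem_closure) isClosed_closure
  have hle2 : closure {η} ⊆ Models.specialFibreSet R X :=
    (Models.isClosed_specialFibreSet R X).closure_subset_iff.mpr (Set.singleton_subset_iff.mpr hηs)
  exact Set.Subset.antisymm hsub (hZ.le_of_ge ⟨isIrreducible_singleton.closure, hle2⟩ hsub)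

open Groth.Agent.Lib.Helper64.StalkSpec in
/-- If `𝔓 = 𝔪_R O_{X,p}` is prime and `η` is the corresponding point, then `O_{X,η}/𝔪_R O_{X,η}` has
length one. -/
theorem length_eq_one (p : X.left)
    (hprime : (Ideal.map (Models.stalkHom R X p) (maximalIdeal R)).IsPrime) :
    Module.length (X.left.presheaf.stalk ((X.left.fromSpecStalk p).base ⟨_, hprime⟩))
      (X.left.presheaf.stalk ((X.left.fromSpecStalk p).base ⟨_, hprime⟩) ⧸
        Ideal.map (Models.stalkHom R X ((X.left.fromSpecStalk p).base ⟨_, hprime⟩))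
          (maximalIdeal R)) = 1 := by
  set η := (X.left.fromSpecStalk p).base ⟨_, hprime⟩ with hη
  have h' : η ⤳ p := by
    have : η ∈ Set.range (X.left.fromSpecStalk p).base := ⟨_, rfl⟩
    rwa [Scheme.range_fromSpecStalk] at this
  have hF4 : (X.left.fromSpecStalk p).base ⟨primeOf h', inferInstance⟩ = η := by
    have h1 := Scheme.SpecMap_stalkSpecializes_fromSpecStalk h'
    have h2 : (X.left.fromSpecStalk η).base (closedPoint (X.left.presheaf.stalk η)) = η :=
      Scheme.fromSpecStalk_closedPoint
    rw [← h1] at h2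
    exact h2
  have hP : primeOf h' = Ideal.map (Models.stalkHom R X p) (maximalIdeal R) := by
    have := (X.left.fromSpecStalk p).isEmbedding.injective hF4
    exact congr_arg PrimeSpectrum.asIdeal this
  letI : Algebra (X.left.presheaf.stalk p) (X.left.presheaf.stalk η) :=
    (X.left.presheaf.stalkSpecializes h').hom.toAlgebra
  haveI := isLocalization_stalkSpecializes h'
  have hcomp : Models.stalkHom R X η =
      (X.left.presheaf.stalkSpecializes h').hom.comp (Models.stalkHom R X p) := by
    unfold Models.stalkHom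
    rw [← RingHom.comp_assoc]
    congr 1
    rw [← CommRingCat.hom_comp, X.left.presheaf.germ_stalkSpecializes]
  have hmax : Ideal.map (Models.stalkHom R X η) (maximalIdeal R) =
      maximalIdeal (X.left.presheaf.stalk η) := by
    rw [hcomp, ← Ideal.map_map, ← hP]
    exact IsLocalization.AtPrime.map_eq_maximalIdeal (primeOf h') (X.left.presheaf.stalk η)
  rw [hmax]
  haveI : IsSimpleModule (X.left.presheaf.stalk η)
      (X.left.presheaf.stalk η ⧸ maximalIdeal (X.left.presheaf.stalk η)) :=
    isSimpleModule_iff_isCoatom.mpr (Ideal.isMaximal_def.mp inferInstance)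
  exact Module.length_eq_one _ _

end Groth.Agent.Lib.Helper70.SecPt
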