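import Mathlib

set_option autoImplicit false
set_option linter.style.haveILetI false

namespace Groth.Agent.Lib.Helper70.SepGen

open TensorProduct

variable (K L : Type*) [Field K] [Field L] [Algebra K L]

/-- `p`-independence from reducedness of `K' ⊗ L`, `K'` algebraically closed. -/
theorem linearIndepOn_pow_of_isReduced (p : ℕ) (hp : p.Prime) [ExpChar K p]
    (K' : Type*) [Field K'] [Algebra K K'] [IsAlgClosed K']
    [IsReduced (K' ⊗[K] L)] (s : Finset L) (hs : LinearIndepOn K id (s : Set L)) :
    LinearIndepOn K (· ^ p) (s : Set L) := by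
  classical
  rw [linearIndepOn_finset_iff]
  intro g hg
  choose b hb using fun x : L => IsAlgClosed.exists_pow_nat_eq (algebraMap K K' (g x)) hp.pos
  set t : K' ⊗[K] L := ∑ x ∈ s, b x ⊗ₜ[K] x with ht
  haveI : ExpChar K' p := expChar_of_injective_algebraMap (algebraMap K K').injective p
  haveI : ExpChar (K' ⊗[K] L) p :=
    expChar_of_injective_algebraMap (R := K') (A := K' ⊗[K] L)
      (Algebra.TensorProduct.includeLeft_injective (S := K') (algebraMap K L).injective) p
  have htp : t ^ p = 0 := by
    rw [ht, sum_pow_char]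
    have : ∀ x ∈ s, (b x ⊗ₜ[K] x) ^ p = (1 : K') ⊗ₜ[K] (g x • x ^ p) := by
      intro x _
      rw [Algebra.TensorProduct.tmul_pow, hb, TensorProduct.tmul_smul, Algebra.algebraMap_eq_smul_one,
        TensorProduct.smul_tmul']
    rw [Finset.sum_congr rfl this, ← TensorProduct.tmul_sum]
    have h0 : ∑ x ∈ s, g x • x ^ p = 0 := hg
    rw [h0, TensorProduct.tmul_zero]
  have ht0 : t = 0 := IsReduced.eq_zero t ⟨p, htp⟩
  have hli : LinearIndependent K' (fun x : (s : Set L) => (1 : K') ⊗ₜ[K] (x : L)) :=
    Module.Flat.linearIndependent_one_tmul (S := K') hs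
  rw [Fintype.linearIndependent_iff] at hli
  have h1 : ∑ x : (s : Set L), b x • ((1 : K') ⊗ₜ[K] (x : L)) = 0 := by
    have : ∀ x : (s : Set L), b x • ((1 : K') ⊗ₜ[K] (x : L)) = b x ⊗ₜ[K] (x : L) := by
      intro x
      rw [TensorProduct.smul_tmul', smul_eq_mul, mul_one]
    rw [Finset.sum_congr rfl (fun x _ => this x)]
    rw [← ht0, ht]
    exact Finset.sum_coe_sort s (fun x => b x ⊗ₜ[K] x)
  intro x hx
  have h2 := hli (fun x => b x) h1 ⟨x, hx⟩
  have h3 : algebraMap K K' (g x) = 0 := by
    rw [← hb x]
    show b x ^ p = 0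
    rw [show b x = 0 from h2, zero_pow hp.ne_zero]
  exact (map_eq_zero _).1 h3

/-- A finitely generated field extension `L/K` with `K̄ ⊗ L` reduced is formally smooth. -/
theorem formallySmooth_of_isReduced [Algebra.EssFiniteType K L]
    (K' : Type*) [Field K'] [Algebra K K'] [IsAlgClosed K']
    [IsReduced (K' ⊗[K] L)] : Algebra.FormallySmooth K L := by
  obtain _ | ⟨p, hp, hpk⟩ := CharP.exists' K
  · haveI : PerfectField K := PerfectField.ofCharZero
    infer_instance
  haveI : ExpChar K p := .prime hp.out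
  obtain ⟨s, hs, H⟩ := exists_isTranscendenceBasis_and_isSeparable_of_linearIndepOn_pow_of_essFiniteType
    p hp.out (fun s hs => linearIndepOn_pow_of_isReduced K L p hp.out K' s hs)
  have : Algebra.IsSeparable (↥(IntermediateField.adjoin K (Set.range ((↑) : s → L)))) L := by
    convert! H <;> simp
  exact .of_algebraicIndependent_of_isSeparable hs.1

end Groth.Agent.Lib.Helper70.SepGen
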