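import Mathlib
import Groth.Agent.Lib.Helper94.ObsDim
import Groth.Agent.Lib.Helper52.CompDiffNorm
import Groth.Agent.Lib.Helper76.RegularLocal

/-!
# The infinitesimal lifting criterion for complete local `k`-algebras with residue field `k`

* `algHom_ext_X`: two `k`-algebra maps `k[[t]] → R` into a ring with a nilpotent ideal `M` containing the
  images of the variables agree as soon as they agree on the variables.
* `lifting_of_bijective`: `k[[t_1, …, t_d]]` (or any algebra isomorphic to it) lifts local maps to `R/J`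
  along `R → R/J`, `R` Artinian local.
* `ker_eq_bot_of_lifting`: if `A = k[[t]]/I` with `I ≤ n²` has the lifting property for square-zero
  extensions of Artinian local `k`-algebras, then `I = 0`.
* `isRegularLocalRing_iff_lifting`: the equivalence.
-/

set_option autoImplicit false
set_option linter.style.haveILetI false
universe u

namespace Groth.Agent.Lib.Helper70.SqZeroLift

open IsLocalRing MvPowerSeries

section Ext

variable {k : Type u} [Field k] {d : ℕ}

theorem map_mem_of_X_mem {R : Type*} [CommRing R] [Algebra k R] (M : Ideal R)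
    (φ : MvPowerSeries (Fin d) k →ₐ[k] R) (hφ : ∀ i, φ (X i) ∈ M)
    {s : MvPowerSeries (Fin d) k} (hs : s ∈ maximalIdeal (MvPowerSeries (Fin d) k)) : φ s ∈ M := by
  have hle : Ideal.map φ (maximalIdeal (MvPowerSeries (Fin d) k)) ≤ M := by
    rw [Groth.Agent.S11741.maximalIdeal_mvPowerSeries_eq, Ideal.map_span, Ideal.span_le]
    rintro _ ⟨_, ⟨i, rfl⟩, rfl⟩
    exact hφ i
  exact hle (Ideal.mem_map_of_mem _ hs)

/-- Two `k`-algebra maps `k[[t]] → R` which agree on the variables and map them into a nilpotent ideal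
are equal. -/
theorem algHom_ext_X {R : Type*} [CommRing R] [Algebra k R] (M : Ideal R) (N : ℕ) (hM : M ^ N = ⊥)
    (f g : MvPowerSeries (Fin d) k →ₐ[k] R) (hf : ∀ i, f (X i) ∈ M)
    (h : ∀ i, f (X i) = g (X i)) : f = g := by
  have hg : ∀ i, g (X i) ∈ M := fun i => h i ▸ hf i
  have key : ∀ (φ : MvPowerSeries (Fin d) k →ₐ[k] R), (∀ i, φ (X i) ∈ M) →
      ∀ (s : MvPowerSeries (Fin d) k),
      φ s = φ ((truncTotal N s : MvPolynomial (Fin d) k) : MvPowerSeries (Fin d) k) := by
    intro φ hφ s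
    have h1 := Groth.Agent.S9321.sub_truncTotal_mem N s
    have h2 : φ (s - ((truncTotal N s : MvPolynomial (Fin d) k) : MvPowerSeries (Fin d) k)) ∈
        M ^ N := by
      have hle : Ideal.map φ (maximalIdeal (MvPowerSeries (Fin d) k) ^ N) ≤ M ^ N := by
        rw [Ideal.map_pow]
        refine Ideal.pow_right_mono (Ideal.map_le_iff_le_comap.2 fun s hs => ?_) N
        exact Ideal.mem_comap.2 (map_mem_of_X_mem M φ hφ hs)
      exact hle (Ideal.mem_map_of_mem _ h1)
    rw [hM, Ideal.mem_bot, map_sub, sub_eq_zero] at h2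
    exact h2
  have hpoly : (f : MvPowerSeries (Fin d) k →+* R).comp MvPolynomial.coeToMvPowerSeries.ringHom =
      (g : MvPowerSeries (Fin d) k →+* R).comp MvPolynomial.coeToMvPowerSeries.ringHom := by
    apply MvPolynomial.ringHom_ext
    · intro r
      simp only [RingHom.comp_apply, MvPolynomial.coeToMvPowerSeries.ringHom_apply,
        MvPolynomial.coe_C, RingHom.coe_coe]
      have : (C r : MvPowerSeries (Fin d) k) = algebraMap k _ r := rfl
      rw [this, AlgHom.commutes, AlgHom.commutes]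
    · intro i
      simp only [RingHom.comp_apply, MvPolynomial.coeToMvPowerSeries.ringHom_apply,
        MvPolynomial.coe_X, RingHom.coe_coe]
      exact h i
  apply AlgHom.ext
  intro s
  rw [key f hf s, key g hg s]
  exact DFunLike.congr_fun hpoly _

end Ext

section Forward

variable {k : Type u} [Field k] {d : ℕ}

/-- Power series rings lift local homomorphisms along `R → R/J`, `R` Artinian local. -/
theorem lifting_of_bijective {A : Type u} [CommRing A] [Algebra k A]
    (ψ : MvPowerSeries (Fin d) k →ₐ[k] A) (hψ : Function.Bijective ψ)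
    (R : Type u) [CommRing R] [Algebra k R] [IsArtinianRing R] [IsLocalRing R] (J : Ideal R)
    (f : A →ₐ[k] R ⧸ J) (hf : IsLocalHom (f : A →+* R ⧸ J)) :
    ∃ g : A →ₐ[k] R, (Ideal.Quotient.mkₐ k J).comp g = f := by
  classical
  let e : MvPowerSeries (Fin d) k ≃ₐ[k] A := AlgEquiv.ofBijective ψ hψ
  have heψ : ∀ s, e.symm (ψ s) = s := fun s => e.symm_apply_apply s
  have hX : ∀ i, ¬ IsUnit (ψ (X i)) := by
    intro i hu
    have h1 : IsUnit (e.symm (ψ (X i))) := hu.map e.symm
    rw [heψ] at h1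
    exact (IsLocalRing.mem_maximalIdeal _).1
      (Groth.Agent.S9321.span_X_le_maximalIdeal (Ideal.subset_span ⟨i, rfl⟩)) h1
  have hfX : ∀ i, ¬ IsUnit (f (ψ (X i))) := fun i hu =>
    hX i (hf.map_nonunit (ψ (X i)) hu)
  choose r hr using fun i => Ideal.Quotient.mk_surjective (I := J) (f (ψ (X i)))
  have hrm : ∀ i, r i ∈ maximalIdeal R := by
    intro i
    rw [IsLocalRing.mem_maximalIdeal, mem_nonunits_iff]
    intro hu
    apply hfX i
    rw [← hr i]
    exact hu.map (Ideal.Quotient.mk J)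
  obtain ⟨N, hN⟩ : ∃ N : ℕ, maximalIdeal R ^ N = ⊥ := by
    have h := IsArtinianRing.isNilpotent_jacobson_bot (R := R)
    rw [IsLocalRing.jacobson_eq_maximalIdeal ⊥ bot_ne_top] at h
    obtain ⟨N, hN⟩ := h
    exact ⟨N, hN⟩
  have hle : Ideal.span (Set.range r) ≤ maximalIdeal R := by
    rw [Ideal.span_le]
    rintro _ ⟨i, rfl⟩
    exact hrm i
  haveI : IsAdicComplete (Ideal.span (Set.range r)) R :=
    Groth.Agent.Lib.Helper94.ObsPS.isAdicComplete_of_pow_eq_bot _ N
      (le_bot_iff.1 (hN ▸ Ideal.pow_right_mono hle N))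
  obtain ⟨g', hg'⟩ := Groth.Agent.Lib.Helper61.PSEval.exists_eval k R r
  have hcomp : (Ideal.Quotient.mkₐ k J).comp g' = f.comp ψ := by
    refine algHom_ext_X ((maximalIdeal R).map (Ideal.Quotient.mk J)) N ?_ _ _ ?_ ?_
    · rw [← Ideal.map_pow, hN, Ideal.map_bot]
    · intro i
      change Ideal.Quotient.mk J (g' (X i)) ∈ _
      rw [hg']
      exact Ideal.mem_map_of_mem _ (hrm i)
    · intro i
      change Ideal.Quotient.mk J (g' (X i)) = f (ψ (X i))
      rw [hg', hr]
  refine ⟨g'.comp e.symm.toAlgHom, ?_⟩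
  apply AlgHom.ext
  intro a
  obtain ⟨s, rfl⟩ := hψ.2 a
  change Ideal.Quotient.mk J (g' (e.symm (ψ s))) = f (ψ s)
  rw [heψ]
  exact DFunLike.congr_fun hcomp s

end Forward

section Backward

variable {k : Type u} [Field k] {d : ℕ}

/-- If `A = k[[t]]/I`, `I ≤ n²`, has the lifting property for square-zero extensions of Artinian local
`k`-algebras, then `I = 0`. -/
theorem ker_eq_bot_of_lifting {A : Type u} [CommRing A] [Algebra k A] [IsLocalRing A]
    (ψ : MvPowerSeries (Fin d) k →ₐ[k] A) (hψ : Function.Surjective ψ)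
    (hker : RingHom.ker ψ ≤ maximalIdeal (MvPowerSeries (Fin d) k) ^ 2)
    (hlift : ∀ (R : Type u) [CommRing R] [Algebra k R] [IsArtinianRing R] [IsLocalRing R]
        (J : Ideal R), J ^ 2 = ⊥ → ∀ f : A →ₐ[k] R ⧸ J, IsLocalHom (f : A →+* R ⧸ J) →
          ∃ g : A →ₐ[k] R, (Ideal.Quotient.mkₐ k J).comp g = f) :
    RingHom.ker ψ = ⊥ := by
  classical
  haveI : IsNoetherianRing (MvPowerSeries (Fin d) k) := by
    haveI := Groth.Agent.Lib.Helper94.ObsDim.isRegularLocalRing_mvPowerSeries (k := k) d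
    infer_instance
  obtain ⟨N, hN1, hAR⟩ := Groth.Agent.Lib.Helper94.ObsDim.exists_pow_inf_le_mul
    (maximalIdeal (MvPowerSeries (Fin d) k)) (RingHom.ker ψ)
  generalize hI : RingHom.ker ψ = I at hker hAR ⊢
  generalize hn : maximalIdeal (MvPowerSeries (Fin d) k) = n at hker hAR
  have hIn : I ≤ n := hker.trans (Ideal.pow_le_self (by norm_num))
  -- the ideal `𝔟 = nI + n^N`
  let 𝔟 : Ideal (MvPowerSeries (Fin d) k) := n * I ⊔ n ^ N
  have h𝔟n : 𝔟 ≤ maximalIdeal (MvPowerSeries (Fin d) k) := by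
    rw [hn]
    exact sup_le Ideal.mul_le_left (Ideal.pow_le_self (by omega))
  have hN𝔟 : maximalIdeal (MvPowerSeries (Fin d) k) ^ N ≤ 𝔟 := by
    rw [hn]
    exact le_sup_right
  haveI : IsArtinianRing (MvPowerSeries (Fin d) k ⧸ 𝔟) :=
    Groth.Agent.Lib.Helper94.ObsDim.isArtinianRing_quot 𝔟 h𝔟n N hN𝔟
  haveI : Nontrivial (MvPowerSeries (Fin d) k ⧸ 𝔟) := Ideal.Quotient.nontrivial_iff.2
    (fun h => (IsLocalRing.maximalIdeal.isMaximal _).ne_top (top_le_iff.1 (h ▸ h𝔟n)))
  haveI : IsLocalRing (MvPowerSeries (Fin d) k ⧸ 𝔟) :=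
    IsLocalRing.of_surjective' (Ideal.Quotient.mk 𝔟) Ideal.Quotient.mk_surjective
  let q : MvPowerSeries (Fin d) k →ₐ[k] MvPowerSeries (Fin d) k ⧸ 𝔟 := Ideal.Quotient.mkₐ k 𝔟
  let J : Ideal (MvPowerSeries (Fin d) k ⧸ 𝔟) := I.map (Ideal.Quotient.mk 𝔟)
  let M : Ideal (MvPowerSeries (Fin d) k ⧸ 𝔟) := n.map (Ideal.Quotient.mk 𝔟)
  have hMJ : M * J = ⊥ := by
    change Ideal.map _ n * Ideal.map _ I = ⊥
    rw [← Ideal.map_mul]
    exact le_bot_iff.1 ((Ideal.map_mono (le_sup_left : n * I ≤ 𝔟)).trans_eq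
      (Ideal.map_quotient_self 𝔟))
  have hJM : J ≤ M := Ideal.map_mono hIn
  have hJ2 : J ^ 2 = ⊥ := by
    rw [pow_two]
    exact le_bot_iff.1 ((Ideal.mul_mono_left hJM).trans_eq hMJ)
  have hJtop : J ≠ ⊤ := by
    intro h
    rw [h, Ideal.top_pow] at hJ2
    exact top_ne_bot hJ2
  haveI : Nontrivial ((MvPowerSeries (Fin d) k ⧸ 𝔟) ⧸ J) := Ideal.Quotient.nontrivial_iff.2 hJtop
  let φ : MvPowerSeries (Fin d) k →ₐ[k] (MvPowerSeries (Fin d) k ⧸ 𝔟) ⧸ J :=
    (Ideal.Quotient.mkₐ k J).comp q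
  have hφ : ∀ s ∈ RingHom.ker ψ, φ s = 0 := by
    intro s hs
    rw [hI] at hs
    change Ideal.Quotient.mk J (Ideal.Quotient.mk 𝔟 s) = 0
    rw [Ideal.Quotient.eq_zero_iff_mem]
    exact Ideal.mem_map_of_mem _ hs
  let e : (MvPowerSeries (Fin d) k ⧸ RingHom.ker ψ) ≃ₐ[k] A :=
    Ideal.quotientKerAlgEquivOfSurjective hψ
  have heψ : ∀ s, e.symm (ψ s) = Ideal.Quotient.mk _ s := by
    intro s
    rw [AlgEquiv.symm_apply_eq]
    rfl
  let f : A →ₐ[k] (MvPowerSeries (Fin d) k ⧸ 𝔟) ⧸ J :=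
    (Ideal.Quotient.liftₐ (RingHom.ker ψ) φ hφ).comp e.symm.toAlgHom
  have hfψ : ∀ s, f (ψ s) = φ s := by
    intro s
    change Ideal.Quotient.liftₐ (RingHom.ker ψ) φ hφ (e.symm (ψ s)) = φ s
    rw [heψ]
    rfl
  have hmem_n : ∀ s, ¬ IsUnit (ψ s) → s ∈ n := by
    intro s hs
    rw [← hn, IsLocalRing.mem_maximalIdeal, mem_nonunits_iff]
    exact fun hu => hs (hu.map ψ)
  have hfloc : IsLocalHom (f : A →+* (MvPowerSeries (Fin d) k ⧸ 𝔟) ⧸ J) := by
    refine ⟨fun a ha => ?_⟩
    by_contra hna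
    obtain ⟨s, rfl⟩ := hψ a
    have hs : s ∈ n := hmem_n s hna
    have hsN : s ^ N ∈ 𝔟 := (le_sup_right : n ^ N ≤ 𝔟) (Ideal.pow_mem_pow hs N)
    have h0 : φ s ^ N = 0 := by
      rw [← map_pow]
      change Ideal.Quotient.mk J (Ideal.Quotient.mk 𝔟 (s ^ N)) = 0
      rw [Ideal.Quotient.eq_zero_iff_mem.2 hsN, map_zero]
    have hu : IsUnit (φ s) := by
      have := ha
      rw [RingHom.coe_coe, hfψ] at this
      exact this
    have := hu.pow N
    rw [h0] at this
    exact not_isUnit_zero this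
  obtain ⟨g, hg⟩ := hlift (MvPowerSeries (Fin d) k ⧸ 𝔟) J hJ2 f hfloc
  let h : MvPowerSeries (Fin d) k →ₐ[k] MvPowerSeries (Fin d) k ⧸ 𝔟 := g.comp ψ
  have hsub : ∀ s, h s - q s ∈ J := by
    intro s
    rw [← Ideal.Quotient.eq]
    have h1 := DFunLike.congr_fun hg (ψ s)
    rw [hfψ] at h1
    exact h1
  have hq' : ∀ s ∈ n, q s ∈ M := fun s hs => Ideal.mem_map_of_mem _ hs
  have hh' : ∀ s ∈ n, h s ∈ M := by
    intro s hs
    have : h s = (h s - q s) + q s := by ring
    rw [this]
    exact M.add_mem (hJM (hsub s)) (hq' s hs)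
  have heq := Groth.Agent.Lib.Helper94.ObsPS.eq_on_sq n M J hMJ h q hh' hq' hsub
  have hI𝔟 : I ≤ 𝔟 := by
    intro s hs
    have h1 : h s = 0 := by
      change g (ψ s) = 0
      have : ψ s = 0 := by
        rw [← hI] at hs
        exact hs
      rw [this, map_zero]
    have h2 : q s = 0 := by rw [← heq s (hker hs), h1]
    exact Ideal.Quotient.eq_zero_iff_mem.1 h2
  have hInI : I ≤ n * I := by
    intro s hs
    have h1 : s ∈ n * I ⊔ n ^ N := hI𝔟 hs
    rw [Submodule.mem_sup] at h1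
    obtain ⟨a, ha, b, hb, rfl⟩ := h1
    have haI : a ∈ I := Ideal.mul_le_right ha
    have hbI : b ∈ I := by
      have : b = (a + b) - a := by ring
      rw [this]
      exact I.sub_mem hs haI
    exact (n * I).add_mem ha (hAR ⟨hbI, hb⟩)
  refine Submodule.eq_bot_of_le_smul_of_le_jacobson_bot n I (IsNoetherian.noetherian I) ?_ ?_
  · rw [smul_eq_mul]
    exact hInI
  · rw [← hn]
    exact (IsLocalRing.jacobson_eq_maximalIdeal ⊥ bot_ne_top).ge

end Backward

section Main

variable (k A : Type u) [Field k] [CommRing A] [Algebra k A] [IsLocalRing A] [IsNoetherianRing A]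
  [IsAdicComplete (maximalIdeal A) A]

/-- A complete Noetherian local `k`-algebra with residue field `k` is a quotient of the power series ring in
`dim m/m²` variables by an ideal inside the square of the maximal ideal. -/
theorem exists_presentation (π : A →ₐ[k] k) :
    ∃ (ψ : MvPowerSeries (Fin (Module.finrank (ResidueField A) (CotangentSpace A))) k →ₐ[k] A),
      Function.Surjective ψ ∧ RingHom.ker ψ ≤ maximalIdeal (MvPowerSeries
        (Fin (Module.finrank (ResidueField A) (CotangentSpace A))) k) ^ 2 :=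
  Groth.Agent.Lib.Helper94.ObsPS.exists_presentation_finrank
    ({ carrier := A
       res := π
       res_surjective := fun c => ⟨algebraMap k A c, by simp⟩
       isAdicComplete := inferInstance } : ArtFun.CRing k k)

/-- The infinitesimal lifting criterion for regularity of a complete local Noetherian `k`-algebra with
residue field `k`. -/
theorem isRegularLocalRing_iff_lifting (π : A →ₐ[k] k) :
    IsRegularLocalRing A ↔
      ∀ (R : Type u) [CommRing R] [Algebra k R] [IsArtinianRing R] [IsLocalRing R] (J : Ideal R),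
        J ^ 2 = ⊥ → ∀ f : A →ₐ[k] R ⧸ J, IsLocalHom (f : A →+* R ⧸ J) →
          ∃ g : A →ₐ[k] R, (Ideal.Quotient.mkₐ k J).comp g = f := by
  obtain ⟨ψ, hψ, hker⟩ := exists_presentation k A π
  constructor
  · intro hreg R _ _ _ _ J _ f hf
    haveI : IsDomain A := Groth.Agent.Lib.Helper76.isDomain_of_isRegularLocalRing A
    have hdim : ((Module.finrank (ResidueField A) (CotangentSpace A) : ℕ) : WithBot ℕ∞) ≤
        ringKrullDim A := le_of_eq ((IsRegularLocalRing.iff_finrank_cotangentSpace A).1 hreg)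
    have hinj : Function.Injective ψ :=
      Groth.Agent.Lib.Helper52.CompDiffNorm.injective_of_dim k A ψ
        (RingHom.Finite.of_surjective _ hψ) hdim
    exact lifting_of_bijective ψ ⟨hinj, hψ⟩ R J f hf
  · intro hlift
    have hbot := ker_eq_bot_of_lifting ψ hψ hker hlift
    have hinj : Function.Injective ψ := (RingHom.injective_iff_ker_eq_bot _).2 hbot
    haveI := Groth.Agent.Lib.Helper94.ObsDim.isRegularLocalRing_mvPowerSeries (k := k)
      (Module.finrank (ResidueField A) (CotangentSpace A))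
    exact IsRegularLocalRing.of_ringEquiv (AlgEquiv.ofBijective ψ ⟨hinj, hψ⟩).toRingEquiv

end Main

end Groth.Agent.Lib.Helper70.SqZeroLift
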