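import Mathlib
import Groth.Prelude.Def_ModelsG
import Groth.Agent.Lib.Helper76.RegularLocal

set_option autoImplicit false
set_option linter.style.haveILetI false
universe u
open CategoryTheory CategoryTheory.Limits AlgebraicGeometry IsLocalRing

namespace Groth.Agent.Lib.Helper70.UnramPt

/-- Algebraic core: `R → O → S ← V` with `O` regular local, `O → S` local, `S` the localization of the DVR `V` at
its maximal ideal, and a uniformizer of `R` mapping to a uniformizer of `V`: then `O/m_R O` is regular. -/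
theorem core {R O S V : Type u} [CommRing R] [IsDomain R] [IsDiscreteValuationRing R]
    [CommRing O] [IsRegularLocalRing O] [CommRing S] [IsLocalRing S]
    [CommRing V] [IsDomain V] [IsDiscreteValuationRing V] [Algebra R V]
    (hV : Ideal.map (algebraMap R V) (maximalIdeal R) = maximalIdeal V)
    [Algebra V S] [IsLocalization.AtPrime S (maximalIdeal V)]
    (ρ : R →+* O) (φ : O →+* S) [IsLocalHom φ]
    (hcomp : ∀ r, φ (ρ r) = algebraMap V S (algebraMap R V r)) :
    IsRegularLocalRing (O ⧸ Ideal.map ρ (maximalIdeal R)) := by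
  obtain ⟨ϖ, hϖ⟩ := IsDiscreteValuationRing.exists_irreducible R
  have hm : maximalIdeal R = Ideal.span {ϖ} := hϖ.maximalIdeal_eq
  have hmap : Ideal.map ρ (maximalIdeal R) = Ideal.span {ρ ϖ} := by
    rw [hm, Ideal.map_span, Set.image_singleton]
  have hmV : maximalIdeal V = Ideal.span {algebraMap R V ϖ} := by
    rw [← hV, hm, Ideal.map_span, Set.image_singleton]
  have hne : algebraMap R V ϖ ≠ 0 := by
    intro h0
    rw [h0, Ideal.span_singleton_eq_bot.2 rfl] at hmV
    exact IsDiscreteValuationRing.not_a_field V hmV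
  have hinj : Function.Injective (algebraMap V S) :=
    IsLocalization.injective S (M := (maximalIdeal V).primeCompl)
      (Ideal.primeCompl_le_nonZeroDivisors _)
  set t : S := algebraMap V S (algebraMap R V ϖ) with ht
  have htm : t ∈ maximalIdeal S := by
    rw [ht, IsLocalization.AtPrime.to_map_mem_maximal_iff S (maximalIdeal V)]
    rw [hmV]
    exact Ideal.mem_span_singleton_self _
  have htne : t ≠ 0 := fun h0 => hne (hinj (by rw [← ht, h0, map_zero]))
  have hmS : maximalIdeal S = Ideal.span {t} := by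
    rw [← IsLocalization.AtPrime.map_eq_maximalIdeal (maximalIdeal V) S, hmV, Ideal.map_span,
      Set.image_singleton]
  have h1 : ρ ϖ ∈ maximalIdeal O := by
    rw [mem_maximalIdeal, mem_nonunits_iff]
    intro hu
    have : IsUnit t := by
      rw [ht, ← hcomp]
      exact hu.map φ
    exact (mem_maximalIdeal _).1 htm this
  have hφle : Ideal.map φ (maximalIdeal O) ≤ maximalIdeal S :=
    ((IsLocalRing.local_hom_TFAE φ).out 0 2).mp ‹IsLocalHom φ›
  have h2 : ρ ϖ ∉ maximalIdeal O ^ 2 := by
    intro hmem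
    have h3 : t ∈ maximalIdeal S ^ 2 := by
      have : φ (ρ ϖ) ∈ Ideal.map φ (maximalIdeal O ^ 2) := Ideal.mem_map_of_mem _ hmem
      rw [Ideal.map_pow, hcomp] at this
      exact Ideal.pow_right_mono hφle 2 this
    rw [hmS, Ideal.span_singleton_pow, Ideal.mem_span_singleton'] at h3
    obtain ⟨s, hs⟩ := h3
    have hu : IsUnit (1 - s * t) := by
      have : s * t ∈ maximalIdeal S := Ideal.mul_mem_left _ _ htm
      exact IsLocalRing.isUnit_one_sub_self_of_mem_nonunits _ this
    have h0 : t * (1 - s * t) = 0 := by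
      have : t = s * t ^ 2 := hs.symm
      linear_combination this
    exact htne (hu.mul_left_eq_zero.1 h0)
  rw [hmap]
  exact (Groth.Agent.Lib.Helper76.isRegularLocalRing_quotient_of_notMem_sq O (ρ ϖ) h1 h2).1

open AlgebraicGeometry.StructureSheaf in
theorem main (R : Type u) [CommRing R] [IsDomain R] [IsDiscreteValuationRing R]
    (YR : Over (Spec (CommRingCat.of R)))
    (V : Type u) [CommRing V] [IsDomain V] [IsDiscreteValuationRing V] [Algebra R V]
    (hV : Ideal.map (algebraMap R V) (IsLocalRing.maximalIdeal R) = IsLocalRing.maximalIdeal V)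
    (σ : Spec (CommRingCat.of V) ⟶ YR.left)
    (hσ : σ ≫ YR.hom = Spec.map (CommRingCat.ofHom (algebraMap R V)))
    (y : YR.left) (hy : σ.base (IsLocalRing.closedPoint V) = y)
    (hreg : IsRegularLocalRing (YR.left.presheaf.stalk y)) :
    IsRegularLocalRing (YR.left.presheaf.stalk y ⧸
      Ideal.map (Models.stalkHom R YR y) (IsLocalRing.maximalIdeal R)) := by
  subst hy
  haveI := hreg
  let x₀ : PrimeSpectrum V := IsLocalRing.closedPoint V
  letI : Algebra V ((Spec (CommRingCat.of V)).presheaf.stalk x₀) :=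
    StructureSheaf.stalkAlgebra (R := V) x₀
  haveI : IsLocalization.AtPrime ((Spec (CommRingCat.of V)).presheaf.stalk x₀) (maximalIdeal V) :=
    StructureSheaf.IsLocalization.to_stalk (R := V) x₀
  refine core hV (Models.stalkHom R YR (σ.base x₀)) (σ.stalkMap x₀).hom ?_
  intro r
  have h1 : ∀ a : Γ(YR.left, ⊤), (σ.stalkMap x₀).hom ((YR.left.presheaf.germ ⊤ (σ.base x₀) trivial).hom a) =
      ((Spec (CommRingCat.of V)).presheaf.germ (σ ⁻¹ᵁ ⊤) x₀ trivial).hom ((σ.app ⊤).hom a) := by
    intro a
    exact Scheme.Hom.germ_stalkMap_apply σ ⊤ x₀ trivial a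
  have h2 : (Scheme.ΓSpecIso (CommRingCat.of R)).inv ≫ YR.hom.appTop ≫ σ.appTop =
      CommRingCat.ofHom (algebraMap R V) ≫ (Scheme.ΓSpecIso (CommRingCat.of V)).inv := by
    rw [Scheme.ΓSpecIso_inv_naturality, ← Scheme.Hom.comp_appTop, hσ]
  change (σ.stalkMap x₀).hom ((YR.left.presheaf.germ ⊤ (σ.base x₀) trivial).hom
    (YR.hom.appTop.hom ((Scheme.ΓSpecIso (CommRingCat.of R)).inv.hom r))) = _
  rw [h1]
  have h3 := congrArg (fun f => f.hom r) h2
  simp only [CommRingCat.hom_comp, RingHom.comp_apply, CommRingCat.hom_ofHom] at h3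
  change ((Spec (CommRingCat.of V)).presheaf.germ (σ ⁻¹ᵁ ⊤) x₀ trivial).hom
    (σ.appTop.hom (YR.hom.appTop.hom ((Scheme.ΓSpecIso (CommRingCat.of R)).inv.hom r))) = _
  rw [h3]
  exact StructureSheaf.algebraMap_germ_apply (R := V) (σ ⁻¹ᵁ ⊤) x₀ trivial (algebraMap R V r)

end Groth.Agent.Lib.Helper70.UnramPt
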